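import Mathlib

/-!
# Generic Gröbner bases over an arbitrary commutative ring (helper91)

For an ideal `I` of `MvPolynomial σ R` (`σ` finite, `R` any commutative ring) and a monomial order `m`:

* `exists_groebner` : there is a finite set `G ⊆ I \ {0}` such that the degree of every nonzero
  element of `I` is `≥` the degree of some `g ∈ G` (Dickson's lemma).
* `pseudo_div` : if `a` is a multiple of all leading coefficients of `G`, then for every `f` there are
  `N` and `r` with `a ^ N • f - r ∈ span G` and no monomial of `r` divisible by a leading monomial of `G`.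
* `linearIndependent_std` : the standard monomials are linearly independent over `R` modulo `I`.
* `exists_pow_smul_mem_span_std` : after multiplying by a power of `a`, every class is an `R`-combination of
  standard monomials.
* `exists_pow_smul_mem_span` : every element of `I` is in `span G` after multiplying by a power of `a`.
-/

namespace Groth.Agent.Lib.Helper91

open MvPolynomial

open scoped MonomialOrder

variable {σ : Type*} {R : Type*} [CommRing R] (m : MonomialOrder σ)

/-- If `p ≠ 0`, `deg p ≼ δ` and the coefficient of `p` at `δ` vanishes, then `deg p ≺ δ`. -/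
lemma degree_lt_of_coeff_eq_zero {p : MvPolynomial σ R} {δ : σ →₀ ℕ} (hp : p ≠ 0)
    (hle : m.degree p ≼[m] δ) (hc : p.coeff δ = 0) : m.degree p ≺[m] δ := by
  refine lt_of_le_of_ne hle ?_
  intro h
  have h' : m.degree p = δ := m.toSyn.injective h
  rw [← h'] at hc
  exact (m.coeff_degree_ne_zero_iff.mpr hp) hc

/-- The set of standard monomials with respect to a finite set `G` of polynomials: those not divisible by
the leading monomial of any element of `G`. -/
def StdSet (G : Finset (MvPolynomial σ R)) : Set (σ →₀ ℕ) :=
  {c | ∀ g ∈ G, ¬ m.degree g ≤ c}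

/-- Pseudo-division by a finite set of polynomials whose leading coefficients all divide `a`. -/
theorem pseudo_div (G : Finset (MvPolynomial σ R)) (a : R)
    (ha : ∀ g ∈ G, m.leadingCoeff g ∣ a) (f : MvPolynomial σ R) :
    ∃ (N : ℕ) (r : MvPolynomial σ R),
      a ^ N • f - r ∈ Ideal.span (G : Set (MvPolynomial σ R)) ∧
      ∀ c ∈ r.support, c ∈ StdSet m G := by
  classical
  suffices H : ∀ d : m.syn, ∀ f : MvPolynomial σ R, m.toSyn (m.degree f) = d →
      ∃ (N : ℕ) (r : MvPolynomial σ R),
        a ^ N • f - r ∈ Ideal.span (G : Set (MvPolynomial σ R)) ∧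
        ∀ c ∈ r.support, c ∈ StdSet m G from H _ f rfl
  intro d
  induction d using WellFoundedLT.induction with
  | ind d ih =>
    intro f hfd
    by_cases hf0 : f = 0
    · exact ⟨0, 0, by simp [hf0], by simp⟩
    by_cases hdiv : ∃ g ∈ G, m.degree g ≤ m.degree f
    · obtain ⟨g, hgG, hgf⟩ := hdiv
      obtain ⟨a', ha'⟩ := ha g hgG
      have hgmem : ∀ q : MvPolynomial σ R, q * g ∈ Ideal.span (G : Set (MvPolynomial σ R)) :=
        fun q => Ideal.mul_mem_left _ _ (Ideal.subset_span hgG)
      set t : MvPolynomial σ R :=
        monomial (m.degree f - m.degree g) (a' * m.leadingCoeff f) with ht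
      set f₁ : MvPolynomial σ R := a • f - t * g with hf₁
      by_cases h10 : f₁ = 0
      · refine ⟨1, 0, ?_, by simp⟩
        have : a • f = t * g := sub_eq_zero.mp h10
        simp only [pow_one, sub_zero, this]
        exact hgmem _
      · have hlt : m.degree f₁ ≺[m] m.degree f := by
          apply degree_lt_of_coeff_eq_zero m h10
          · refine le_trans m.degree_sub_le ?_
            refine max_le (m.degree_smul_le) ?_
            refine le_trans m.degree_mul_le ?_
            rw [map_add]
            have h1 : m.toSyn (m.degree t) ≤ m.toSyn (m.degree f - m.degree g) :=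
              m.degree_monomial_le _
            calc m.toSyn (m.degree t) + m.toSyn (m.degree g)
                ≤ m.toSyn (m.degree f - m.degree g) + m.toSyn (m.degree g) := by gcongr
              _ = m.toSyn (m.degree f) := by
                  rw [← map_add, tsub_add_cancel_of_le hgf]
          · have hdeg : m.degree f = (m.degree f - m.degree g) + m.degree g :=
              (tsub_add_cancel_of_le hgf).symm
            rw [hf₁, coeff_sub, coeff_smul]
            conv_lhs => rw [hdeg]
            rw [ht, coeff_monomial_mul, ← hdeg]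
            change a * m.leadingCoeff f - a' * m.leadingCoeff f * m.leadingCoeff g = 0
            rw [ha']; ring
        obtain ⟨N, r, hmem, hr⟩ := ih _ (hfd ▸ hlt) f₁ rfl
        refine ⟨N + 1, r, ?_, hr⟩
        have : a ^ (N + 1) • f - r = (a ^ N • f₁ - r) + (a ^ N • t) * g := by
          rw [hf₁, pow_succ, mul_smul, smul_sub, smul_mul_assoc]; ring
        rw [this]
        exact Ideal.add_mem _ hmem (hgmem _)
    · push Not at hdiv
      set f₁ : MvPolynomial σ R := f - monomial (m.degree f) (m.leadingCoeff f) with hf₁
      have hstd : m.degree f ∈ StdSet m G := fun g hg => hdiv g hg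
      by_cases h10 : f₁ = 0
      · refine ⟨0, f, by simp, ?_⟩
        intro c hc
        have hf : f = monomial (m.degree f) (m.leadingCoeff f) := sub_eq_zero.mp h10
        rw [hf] at hc
        have := support_monomial_subset hc
        rw [Finset.mem_singleton] at this
        rw [this]; exact hstd
      · have hlt : m.degree f₁ ≺[m] m.degree f := by
          apply degree_lt_of_coeff_eq_zero m h10
          · refine le_trans m.degree_sub_le ?_
            exact max_le le_rfl (m.degree_monomial_le _)
          · rw [hf₁, coeff_sub, coeff_monomial, if_pos rfl]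
            exact sub_self _
        obtain ⟨N, r, hmem, hr⟩ := ih _ (hfd ▸ hlt) f₁ rfl
        refine ⟨N, r + a ^ N • monomial (m.degree f) (m.leadingCoeff f), ?_, ?_⟩
        · have : a ^ N • f - (r + a ^ N • monomial (m.degree f) (m.leadingCoeff f))
              = a ^ N • f₁ - r := by
            rw [hf₁, smul_sub]; ring
          rw [this]; exact hmem
        · intro c hc
          have := MvPolynomial.support_add hc
          rcases Finset.mem_union.mp this with h | h
          · exact hr c h
          · rw [smul_monomial] at h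
            have := support_monomial_subset h
            rw [Finset.mem_singleton] at this
            rw [this]; exact hstd

/-- Existence of a finite "Gröbner basis" (in the weak sense of leading monomials) of an ideal of a
polynomial ring in finitely many variables over any commutative ring: Dickson's lemma. -/
theorem exists_groebner [Finite σ] (I : Ideal (MvPolynomial σ R)) :
    ∃ G : Finset (MvPolynomial σ R), (∀ g ∈ G, g ∈ I ∧ g ≠ 0) ∧
      ∀ u ∈ I, u ≠ 0 → ∃ g ∈ G, m.degree g ≤ m.degree u := by
  classical
  set L : Set (σ →₀ ℕ) := {d | ∃ u ∈ I, u ≠ 0 ∧ m.degree u = d} with hL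
  have hpwo : L.IsPWO := Set.isPWO_of_wellQuasiOrderedLE L
  set Lmin : Set (σ →₀ ℕ) := {d | Minimal (· ∈ L) d} with hLmin
  have hfin : Lmin.Finite :=
    WellQuasiOrderedLE.finite_of_isAntichain (setOfPred_minimal_antichain _)
  have hchoose : ∀ d ∈ Lmin, ∃ u ∈ I, u ≠ 0 ∧ m.degree u = d := fun d hd => hd.1
  choose! g hg using hchoose
  refine ⟨hfin.toFinset.image g, ?_, ?_⟩
  · intro p hp
    obtain ⟨d, hd, rfl⟩ := Finset.mem_image.mp hp
    have := hg d (hfin.mem_toFinset.mp hd)
    exact ⟨this.1, this.2.1⟩
  · intro u hu hu0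
    have huL : m.degree u ∈ L := ⟨u, hu, hu0, rfl⟩
    obtain ⟨b, hb, hbmin⟩ := hpwo.exists_le_minimal huL
    refine ⟨g b, Finset.mem_image.mpr ⟨b, hfin.mem_toFinset.mpr hbmin, rfl⟩, ?_⟩
    rw [(hg b hbmin).2.2]
    exact hb

section Std

variable {m}
variable {I : Ideal (MvPolynomial σ R)} {G : Finset (MvPolynomial σ R)}

lemma quotient_mk_smul (r : R) (p : MvPolynomial σ R) :
    Ideal.Quotient.mk I (r • p) = r • Ideal.Quotient.mk I p :=
  map_smul (Ideal.Quotient.mkₐ R I) r p

lemma quotient_mk_monomial (c : σ →₀ ℕ) (r : R) :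
    Ideal.Quotient.mk I (monomial c r) = r • Ideal.Quotient.mk I (monomial c (1 : R)) := by
  rw [← quotient_mk_smul, smul_monomial, smul_eq_mul, mul_one]

/-- A polynomial of `I` all of whose monomials are standard is zero. -/
lemma eq_zero_of_mem_of_support_std
    (hG : ∀ u ∈ I, u ≠ 0 → ∃ g ∈ G, m.degree g ≤ m.degree u)
    {u : MvPolynomial σ R} (hu : u ∈ I) (hstd : ∀ c ∈ u.support, c ∈ StdSet m G) : u = 0 := by
  by_contra hu0
  obtain ⟨g, hg, hle⟩ := hG u hu hu0
  exact hstd _ (m.degree_mem_support hu0) g hg hle

/-- The standard monomials are linearly independent modulo `I`. -/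
theorem linearIndependent_std
    (hG : ∀ u ∈ I, u ≠ 0 → ∃ g ∈ G, m.degree g ≤ m.degree u) :
    LinearIndependent R (fun c : StdSet m G => Ideal.Quotient.mk I (monomial c.1 (1 : R))) := by
  classical
  rw [linearIndependent_iff]
  intro l hl
  set u : MvPolynomial σ R := l.sum (fun c r => monomial c.1 r) with hu
  have hcoeff : ∀ c : StdSet m G, u.coeff c.1 = l c := by
    intro c
    rw [hu, Finsupp.sum, coeff_sum]
    rw [Finset.sum_eq_single c]
    · simp
    · intro b _ hbc
      rw [coeff_monomial, if_neg]
      exact fun h => hbc (Subtype.ext h)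
    · intro hc
      rw [Finsupp.notMem_support_iff.mp hc]; simp
  have hsupp : ∀ c ∈ u.support, c ∈ StdSet m G := by
    intro c hc
    rw [hu, Finsupp.sum] at hc
    have := MvPolynomial.support_sum hc
    obtain ⟨b, _, hb⟩ := Finset.mem_biUnion.mp this
    have := support_monomial_subset hb
    rw [Finset.mem_singleton] at this
    rw [this]; exact b.2
  have humem : u ∈ I := by
    rw [← Ideal.Quotient.eq_zero_iff_mem, ← hl, hu, Finsupp.linearCombination_apply,
      Finsupp.sum, Finsupp.sum, map_sum]
    refine Finset.sum_congr rfl fun c _ => ?_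
    exact quotient_mk_monomial _ _
  have hu0 := eq_zero_of_mem_of_support_std hG humem hsupp
  ext c
  rw [← hcoeff c, hu0]; simp

/-- Every class modulo `I` is, after multiplication by a power of `a`, an `R`-linear combination of
standard monomials. -/
theorem exists_pow_smul_mem_span_std (hGI : ∀ g ∈ G, g ∈ I) (a : R)
    (ha : ∀ g ∈ G, m.leadingCoeff g ∣ a) (y : MvPolynomial σ R ⧸ I) :
    ∃ N : ℕ, a ^ N • y ∈ Submodule.span R
      (Set.range (fun c : StdSet m G => Ideal.Quotient.mk I (monomial c.1 (1 : R)))) := by
  classical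
  obtain ⟨f, rfl⟩ := Ideal.Quotient.mk_surjective y
  obtain ⟨N, r, hmem, hr⟩ := pseudo_div m G a ha f
  refine ⟨N, ?_⟩
  have hspan : Ideal.span (G : Set (MvPolynomial σ R)) ≤ I := Ideal.span_le.mpr fun g hg => hGI g hg
  have h1 : a ^ N • Ideal.Quotient.mk I f = Ideal.Quotient.mk I r := by
    rw [← quotient_mk_smul, eq_comm]
    exact Ideal.Quotient.eq.mpr (by
      have := hspan hmem
      have h2 := I.neg_mem this
      rwa [neg_sub] at h2)
  rw [h1, r.as_sum, map_sum]
  refine Submodule.sum_mem _ fun c hc => ?_
  rw [quotient_mk_monomial]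
  exact Submodule.smul_mem _ _ (Submodule.subset_span ⟨⟨c, hr c hc⟩, rfl⟩)

/-- Every element of `I` lies in the span of `G` after multiplication by a power of `a`. -/
theorem exists_pow_smul_mem_span
    (hG : ∀ u ∈ I, u ≠ 0 → ∃ g ∈ G, m.degree g ≤ m.degree u) (hGI : ∀ g ∈ G, g ∈ I) (a : R)
    (ha : ∀ g ∈ G, m.leadingCoeff g ∣ a) {u : MvPolynomial σ R} (hu : u ∈ I) :
    ∃ N : ℕ, a ^ N • u ∈ Ideal.span (G : Set (MvPolynomial σ R)) := by
  obtain ⟨N, r, hmem, hr⟩ := pseudo_div m G a ha u
  refine ⟨N, ?_⟩
  have hspan : Ideal.span (G : Set (MvPolynomial σ R)) ≤ I := Ideal.span_le.mpr fun g hg => hGI g hg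
  have hrI : r ∈ I := by
    have h1 : a ^ N • u ∈ I := Submodule.smul_of_tower_mem I (a ^ N) hu
    have := I.sub_mem h1 (hspan hmem)
    rwa [sub_sub_cancel] at this
  have hr0 := eq_zero_of_mem_of_support_std hG hrI hr
  rwa [hr0, sub_zero] at hmem

end Std

end Groth.Agent.Lib.Helper91
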