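import Mathlib
import Groth.Agent.Lib.Helper91.GroebnerGeneric

/-!
# Generic freeness (helper91)

Generic freeness over a domain `R` for a finite type `R`-algebra `S` and a finite `S`-module `M`, without any
Noetherian hypothesis, via generic Gröbner bases (`GroebnerGeneric.lean`) applied to a presentation of the
trivial square-zero extension `S ⊕ M`.

Main results:
* `free_of_linearIndependent_of_span`, `finitePresentation_tensor_of_ker`,
  `finitePresentation_localizedModule_of_ker`: element-wise criteria for freeness / finite presentation after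
  inverting one element.
* `generic_freeness_data`: the element-wise form of generic freeness.
* `generic_freeness`: there is `f ≠ 0` such that `R_f ⊗ M` and `R_f ⊗ S` are free over `R_f`, `R_f ⊗ S` is a
  finitely presented `R_f`-algebra and `M_f` is a finitely presented `S_f`-module.
-/

namespace Groth.Agent.Lib.Helper91

open TensorProduct

section L1

variable {R : Type*} [CommRing R] (a : R) (Rₐ : Type*) [CommRing Rₐ] [Algebra R Rₐ]
  [IsLocalization.Away a Rₐ]
  {N N' : Type*} [AddCommGroup N] [Module R N] [AddCommGroup N'] [Module R N']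
  [Module Rₐ N'] [IsScalarTower R Rₐ N'] (φ : N →ₗ[R] N') [IsLocalizedModule (Submonoid.powers a) φ]

include a φ in
/-- A linearly independent family which spans up to powers of `a` becomes a basis after
localizing at `a`. -/
theorem free_of_linearIndependent_of_span {ι : Type*} (e : ι → N) (hli : LinearIndependent R e)
    (hsp : ∀ y : N, ∃ n : ℕ, a ^ n • y ∈ Submodule.span R (Set.range e)) :
    Module.Free Rₐ N' := by
  have hli' : LinearIndependent Rₐ (φ ∘ e) :=
    hli.of_isLocalizedModule Rₐ (Submonoid.powers a) φ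
  have hspan : ⊤ ≤ Submodule.span Rₐ (Set.range (φ ∘ e)) := by
    intro x _
    obtain ⟨⟨y, s⟩, h⟩ := IsLocalizedModule.surj (Submonoid.powers a) φ x
    obtain ⟨n, hn⟩ := hsp y
    -- `s • x = φ y`
    have hs : IsUnit (algebraMap R Rₐ (s : R)) := IsLocalization.map_units Rₐ s
    have ha : IsUnit (algebraMap R Rₐ (a ^ n)) :=
      IsLocalization.map_units Rₐ (⟨a ^ n, n, rfl⟩ : Submonoid.powers a)
    have h1 : φ (a ^ n • y) ∈ Submodule.span Rₐ (Set.range (φ ∘ e)) := by
      have : φ (a ^ n • y) ∈ Submodule.map φ (Submodule.span R (Set.range e)) :=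
        Submodule.mem_map_of_mem hn
      rw [Submodule.map_span, ← Set.range_comp] at this
      exact Submodule.span_subset_span R Rₐ _ this
    have h2 : φ (a ^ n • y) = (algebraMap R Rₐ (a ^ n) * algebraMap R Rₐ (s : R)) • x := by
      rw [map_smul, ← h, Submonoid.smul_def, mul_smul, algebraMap_smul, algebraMap_smul]
    rw [h2] at h1
    have hu : IsUnit (algebraMap R Rₐ (a ^ n) * algebraMap R Rₐ (s : R)) := ha.mul hs
    have := Submodule.smul_mem _ (hu.unit⁻¹ : Rₐˣ).val h1
    rwa [← mul_smul, IsUnit.val_inv_mul, one_smul] at this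
  exact Module.Free.of_basis (Module.Basis.mk hli' hspan)

end L1

section L4

variable {R : Type*} [CommRing R] (a : R) (Rₐ : Type*) [CommRing Rₐ] [Algebra R Rₐ]
  [IsLocalization.Away a Rₐ]
  {S : Type*} [CommRing S] [Algebra R S] {σ : Type*} [Finite σ]

include a in
/-- If the kernel of a presentation `π : R[x] → S` is generated by a finite set `G₀` up to powers of `a`,
then `Rₐ ⊗ S` is a finitely presented `Rₐ`-algebra. -/
theorem finitePresentation_tensor_of_ker (π : MvPolynomial σ R →ₐ[R] S)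
    (hπ : Function.Surjective π) (G₀ : Finset (MvPolynomial σ R)) (hG₀ : ∀ g ∈ G₀, π g = 0)
    (h : ∀ u, π u = 0 → ∃ n : ℕ, a ^ n • u ∈ Ideal.span (G₀ : Set (MvPolynomial σ R))) :
    Algebra.FinitePresentation Rₐ (Rₐ ⊗[R] S) := by
  let g : Rₐ ⊗[R] MvPolynomial σ R →ₐ[Rₐ] Rₐ ⊗[R] S :=
    Algebra.TensorProduct.map (AlgHom.id Rₐ Rₐ) π
  have hgsurj : Function.Surjective g := Algebra.FiniteType.baseChangeAux_surj Rₐ hπ
  have hker_eq : RingHom.ker g = Ideal.map Algebra.TensorProduct.includeRight (RingHom.ker π) :=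
    Algebra.TensorProduct.lTensor_ker π hπ
  have hle : Ideal.span (G₀ : Set (MvPolynomial σ R)) ≤ RingHom.ker π :=
    Ideal.span_le.mpr fun g hg => (RingHom.mem_ker).mpr (hG₀ g hg)
  have hker2 : Ideal.map (Algebra.TensorProduct.includeRight :
        MvPolynomial σ R →ₐ[R] Rₐ ⊗[R] MvPolynomial σ R) (RingHom.ker π) =
      Ideal.map (Algebra.TensorProduct.includeRight :
        MvPolynomial σ R →ₐ[R] Rₐ ⊗[R] MvPolynomial σ R)
        (Ideal.span (G₀ : Set (MvPolynomial σ R))) := by
    apply le_antisymm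
    · rw [Ideal.map_le_iff_le_comap]
      intro u hu
      rw [Ideal.mem_comap]
      obtain ⟨n, hn⟩ := h u (RingHom.mem_ker.mp hu)
      have h1 := Ideal.mem_map_of_mem (Algebra.TensorProduct.includeRight :
        MvPolynomial σ R →ₐ[R] Rₐ ⊗[R] MvPolynomial σ R) hn
      rw [map_smul] at h1
      have hu' : IsUnit (algebraMap R Rₐ (a ^ n)) :=
        IsLocalization.map_units Rₐ (⟨a ^ n, n, rfl⟩ : Submonoid.powers a)
      rw [← algebraMap_smul Rₐ (a ^ n)] at h1
      have := Submodule.smul_of_tower_mem _ (hu'.unit⁻¹ : Rₐˣ).val h1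
      rwa [← mul_smul, IsUnit.val_inv_mul, one_smul] at this
    · exact Ideal.map_mono hle
  have hfg : (RingHom.ker g.toRingHom).FG := by
    change (RingHom.ker g).FG
    rw [hker_eq, hker2]
    exact Ideal.FG.map ⟨G₀, rfl⟩ _
  exact Algebra.FinitePresentation.of_surjective hgsurj hfg

end L4

section L3

variable {S : Type*} [CommRing S] (b : S) {M : Type*} [AddCommGroup M] [Module S M] {q : ℕ}

/-- If the module of relations among finitely many generators of `M` is generated by a finite set `W` up to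
powers of `b`, then `M_b` is finitely presented over `S_b`. -/
theorem finitePresentation_localizedModule_of_ker
    (mgen : Fin q → M) (hgen : Submodule.span S (Set.range mgen) = ⊤)
    (W : Finset (Fin q → S)) (hW : ∀ w ∈ W, ∑ j, w j • mgen j = 0)
    (h : ∀ u : Fin q → S, ∑ j, u j • mgen j = 0 →
      ∃ n : ℕ, b ^ n • u ∈ Submodule.span S (W : Set (Fin q → S))) :
    Module.FinitePresentation (Localization.Away b) (LocalizedModule (Submonoid.powers b) M) := by
  classical
  set Sb := Localization.Away b with hSb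
  set Mb := LocalizedModule (Submonoid.powers b) M with hMb
  let mk : M →ₗ[S] Mb := LocalizedModule.mkLinearMap (Submonoid.powers b) M
  let ι : S →+* Sb := algebraMap S Sb
  let l : (Fin q → Sb) →ₗ[Sb] Mb := Fintype.linearCombination Sb (fun j => mk (mgen j))
  have hl_apply : ∀ t : Fin q → Sb, l t = ∑ j, t j • mk (mgen j) := fun t =>
    Fintype.linearCombination_apply Sb _ t
  -- the map `u ↦ ι ∘ u`
  let κ : (Fin q → S) →ₗ[S] (Fin q → Sb) := (Algebra.linearMap S Sb).compLeft (Fin q)
  have hκ_apply : ∀ (u : Fin q → S) j, κ u j = ι (u j) := fun u j => rfl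
  have hlκ : ∀ u : Fin q → S, l (κ u) = mk (∑ j, u j • mgen j) := by
    intro u
    rw [hl_apply, map_sum]
    refine Finset.sum_congr rfl fun j _ => ?_
    rw [hκ_apply, map_smul, algebraMap_smul]
  have hunit : ∀ c : Submonoid.powers b, IsUnit (ι (c : S)) := fun c =>
    IsLocalization.map_units Sb c
  have hsurj : Function.Surjective l := by
    intro x
    obtain ⟨⟨y, s⟩, hs⟩ := IsLocalizedModule.surj (Submonoid.powers b) mk x
    have hy : y ∈ Submodule.span S (Set.range mgen) := by rw [hgen]; trivial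
    obtain ⟨u, hu⟩ := (Submodule.mem_span_range_iff_exists_fun S).mp hy
    refine ⟨((hunit s).unit⁻¹ : Sbˣ).val • κ u, ?_⟩
    rw [map_smul, hlκ, hu]
    change _ • mk y = x
    rw [← hs, Submonoid.smul_def, ← algebraMap_smul Sb (s : S) x, ← mul_smul]
    change (((hunit s).unit⁻¹ : Sbˣ).val * ι (s : S)) • x = x
    rw [IsUnit.val_inv_mul, one_smul]
  have hker : (LinearMap.ker l).FG := by
    refine ⟨W.image κ, ?_⟩
    apply le_antisymm
    · rw [Submodule.span_le]
      intro t ht
      rw [Finset.coe_image] at ht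
      obtain ⟨w, hw, rfl⟩ := ht
      change l (κ w) = 0
      rw [hlκ, hW w hw, map_zero]
    · intro t ht
      obtain ⟨c, hc⟩ := IsLocalization.exist_integer_multiples (Submonoid.powers b)
        (Finset.univ : Finset (Fin q)) t
      choose u hu using fun j => hc j (Finset.mem_univ j)
      have hκu : κ u = ι (c : S) • t := by
        ext j
        rw [hκ_apply, Pi.smul_apply, smul_eq_mul]
        change algebraMap S Sb (u j) = _
        rw [hu j, Algebra.smul_def]
      have h0 : mk (∑ j, u j • mgen j) = 0 := by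
        rw [← hlκ, hκu, map_smul, LinearMap.mem_ker.mp ht, smul_zero]
      obtain ⟨c', hc'⟩ := (IsLocalizedModule.eq_zero_iff (Submonoid.powers b) mk).mp h0
      have h1 : ∑ j, ((c' : S) • u) j • mgen j = 0 := by
        rw [Submonoid.smul_def, Finset.smul_sum] at hc'
        rw [← hc']
        refine Finset.sum_congr rfl fun j _ => ?_
        rw [Pi.smul_apply, smul_eq_mul, mul_smul]
      obtain ⟨n, hn⟩ := h _ h1
      have h2 : κ (b ^ n • ((c' : S) • u)) ∈ Submodule.span Sb ((W.image κ : Finset _) : Set (Fin q → Sb)) := by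
        have : κ (b ^ n • ((c' : S) • u)) ∈ Submodule.map κ (Submodule.span S (W : Set (Fin q → S))) :=
          Submodule.mem_map_of_mem hn
        rw [Submodule.map_span] at this
        rw [Finset.coe_image]
        exact Submodule.span_subset_span S Sb _ this
      have h3 : κ (b ^ n • ((c' : S) • u)) = (ι (b ^ n) * ι (c' : S) * ι (c : S)) • t := by
        rw [map_smul, map_smul, hκu, ← algebraMap_smul Sb (b ^ n), ← algebraMap_smul Sb (c' : S),
          ← mul_smul, ← mul_smul]
      rw [h3] at h2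
      have hu3 : IsUnit (ι (b ^ n) * ι (c' : S) * ι (c : S)) :=
        ((hunit ⟨b ^ n, n, rfl⟩).mul (hunit c')).mul (hunit c)
      have := Submodule.smul_mem _ (hu3.unit⁻¹ : Sbˣ).val h2
      rwa [← mul_smul, IsUnit.val_inv_mul, one_smul] at this
  exact Module.finitePresentation_of_surjective l hsurj hker

end L3

section Split

variable {R : Type*} [CommRing R] {T S M : Type*} [AddCommGroup T] [Module R T]
  [AddCommGroup S] [Module R S] [AddCommGroup M] [Module R M]

/-- Splitting a "homogeneous" linearly independent, spanning-up-to-powers family of `T ≅ S × M` into families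
of `S` and of `M`. -/
theorem split_family (p₁ : T →ₗ[R] S) (p₂ : T →ₗ[R] M)
    (hinj : ∀ t, p₁ t = 0 → p₂ t = 0 → t = 0)
    (hp₁ : Function.Surjective p₁) (hp₂ : Function.Surjective p₂)
    (a : R) {ι : Type*} (E : ι → T) (hE : LinearIndependent R E)
    (hsp : ∀ t, ∃ k : ℕ, a ^ k • t ∈ Submodule.span R (Set.range E))
    (hhom : ∀ i, p₂ (E i) = 0 ∨ p₁ (E i) = 0) :
    (LinearIndependent R (fun i : {i // p₂ (E i) = 0} => p₁ (E i)) ∧
      ∀ s, ∃ k : ℕ, a ^ k • s ∈
        Submodule.span R (Set.range (fun i : {i // p₂ (E i) = 0} => p₁ (E i)))) ∧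
    (LinearIndependent R (fun i : {i // p₂ (E i) ≠ 0} => p₂ (E i)) ∧
      ∀ m, ∃ k : ℕ, a ^ k • m ∈
        Submodule.span R (Set.range (fun i : {i // p₂ (E i) ≠ 0} => p₂ (E i)))) := by
  refine ⟨⟨?_, ?_⟩, ⟨?_, ?_⟩⟩
  · have h0 : LinearIndependent R (fun i : {i // p₂ (E i) = 0} => E i) :=
      hE.comp _ Subtype.val_injective
    refine h0.map (f := p₁) ?_
    rw [Submodule.disjoint_def]
    intro x hx hx1
    refine hinj x (LinearMap.mem_ker.mp hx1) ?_
    have : Submodule.span R (Set.range (fun i : {i // p₂ (E i) = 0} => E i)) ≤ LinearMap.ker p₂ := by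
      rw [Submodule.span_le]
      rintro _ ⟨i, rfl⟩
      exact i.2
    exact this hx
  · intro s
    obtain ⟨t, rfl⟩ := hp₁ s
    obtain ⟨k, hk⟩ := hsp t
    refine ⟨k, ?_⟩
    have h1 : p₁ (a ^ k • t) ∈ Submodule.map p₁ (Submodule.span R (Set.range E)) :=
      Submodule.mem_map_of_mem hk
    rw [map_smul, Submodule.map_span] at h1
    refine (Submodule.span_le.mpr ?_) h1
    rintro _ ⟨_, ⟨i, rfl⟩, rfl⟩
    by_cases hi : p₂ (E i) = 0
    · exact Submodule.subset_span ⟨⟨i, hi⟩, rfl⟩
    · have := (hhom i).resolve_left hi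
      rw [this]; exact Submodule.zero_mem _
  · have h0 : LinearIndependent R (fun i : {i // p₂ (E i) ≠ 0} => E i) :=
      hE.comp _ Subtype.val_injective
    refine h0.map (f := p₂) ?_
    rw [Submodule.disjoint_def]
    intro x hx hx2
    refine hinj x ?_ (LinearMap.mem_ker.mp hx2)
    have : Submodule.span R (Set.range (fun i : {i // p₂ (E i) ≠ 0} => E i)) ≤ LinearMap.ker p₁ := by
      rw [Submodule.span_le]
      rintro _ ⟨i, rfl⟩
      exact (hhom i.1).resolve_left i.2
    exact this hx
  · intro s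
    obtain ⟨t, rfl⟩ := hp₂ s
    obtain ⟨k, hk⟩ := hsp t
    refine ⟨k, ?_⟩
    have h1 : p₂ (a ^ k • t) ∈ Submodule.map p₂ (Submodule.span R (Set.range E)) :=
      Submodule.mem_map_of_mem hk
    rw [map_smul, Submodule.map_span] at h1
    refine (Submodule.span_le.mpr ?_) h1
    rintro _ ⟨_, ⟨i, rfl⟩, rfl⟩
    by_cases hi : p₂ (E i) = 0
    · rw [hi]; exact Submodule.zero_mem _
    · exact Submodule.subset_span ⟨⟨i, hi⟩, rfl⟩

end Split

section Tsze

variable {S : Type*} [CommRing S] {N : Type*} [AddCommGroup N] [Module S N] [Module Sᵐᵒᵖ N]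
  [IsCentralScalar S N]

/-- The homogeneous elements of a trivial square-zero extension form a submonoid. -/
def homogSubmonoid (S N : Type*) [CommRing S] [AddCommGroup N] [Module S N] [Module Sᵐᵒᵖ N]
    [IsCentralScalar S N] : Submonoid (TrivSqZeroExt S N) where
  carrier := {t | t.snd = 0 ∨ t.fst = 0}
  one_mem' := Or.inl (TrivSqZeroExt.snd_one)
  mul_mem' := by
    rintro x y (hx | hx) (hy | hy)
    · left
      rw [TrivSqZeroExt.snd_mul, hx, hy]; simp
    · right
      rw [TrivSqZeroExt.fst_mul, hy, mul_zero]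
    · right
      rw [TrivSqZeroExt.fst_mul, hx, zero_mul]
    · right
      rw [TrivSqZeroExt.fst_mul, hx, zero_mul]

lemma mem_homogSubmonoid {t : TrivSqZeroExt S N} :
    t ∈ homogSubmonoid S N ↔ t.snd = 0 ∨ t.fst = 0 := Iff.rfl

/-- In an ideal generated by elements with vanishing first component, the second components lie in the
span of the second components of the generators. -/
lemma snd_mem_span_of_mem_ideal_span (Z : Set (TrivSqZeroExt S N)) (hZ : ∀ z ∈ Z, z.fst = 0)
    {t : TrivSqZeroExt S N} (ht : t ∈ Ideal.span Z) :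
    t.fst = 0 ∧ t.snd ∈ Submodule.span S (TrivSqZeroExt.snd '' Z) := by
  induction ht using Submodule.span_induction with
  | mem z hz => exact ⟨hZ z hz, Submodule.subset_span ⟨z, hz, rfl⟩⟩
  | zero => exact ⟨rfl, by simp⟩
  | add x y _ _ hx hy =>
    exact ⟨by rw [TrivSqZeroExt.fst_add, hx.1, hy.1, add_zero],
      by rw [TrivSqZeroExt.snd_add]; exact Submodule.add_mem _ hx.2 hy.2⟩
  | smul c x _ hx =>
    refine ⟨by rw [smul_eq_mul, TrivSqZeroExt.fst_mul, hx.1, mul_zero], ?_⟩
    rw [smul_eq_mul, TrivSqZeroExt.snd_mul, hx.1]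
    simp only [MulOpposite.op_zero, zero_smul, add_zero]
    exact Submodule.smul_mem _ _ hx.2

end Tsze

section Main

open MvPolynomial

universe u₁ u₂ u₃

variable {R : Type u₁} {S : Type u₂} {M : Type u₃} [CommRing R] [IsDomain R] [CommRing S] [Algebra R S]
  [Algebra.FiniteType R S] [AddCommGroup M] [Module S M] [Module R M] [IsScalarTower R S M]
  [Module.Finite S M]

/-- Element-wise form of generic freeness over a domain (no Noetherian hypothesis). -/
theorem generic_freeness_data :
    ∃ a : R, a ≠ 0 ∧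
      (∃ (ι : Type) (e : ι → S), LinearIndependent R e ∧
        ∀ y, ∃ k : ℕ, a ^ k • y ∈ Submodule.span R (Set.range e)) ∧
      (∃ (ι : Type) (e : ι → M), LinearIndependent R e ∧
        ∀ y, ∃ k : ℕ, a ^ k • y ∈ Submodule.span R (Set.range e)) ∧
      (∃ (n : ℕ) (π : MvPolynomial (Fin n) R →ₐ[R] S) (G₀ : Finset (MvPolynomial (Fin n) R)),
        Function.Surjective π ∧ (∀ g ∈ G₀, π g = 0) ∧
        ∀ u, π u = 0 → ∃ k : ℕ, a ^ k • u ∈ Ideal.span (G₀ : Set (MvPolynomial (Fin n) R))) ∧
      (∃ (q : ℕ) (mgen : Fin q → M) (W : Finset (Fin q → S)),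
        Submodule.span S (Set.range mgen) = ⊤ ∧ (∀ w ∈ W, ∑ j, w j • mgen j = 0) ∧
        ∀ u : Fin q → S, ∑ j, u j • mgen j = 0 →
          ∃ k : ℕ, (algebraMap R S a) ^ k • u ∈ Submodule.span S (W : Set (Fin q → S))) := by
  classical
  obtain ⟨n, π, hπ⟩ := Algebra.FiniteType.iff_quotient_mvPolynomial''.mp
    (inferInstance : Algebra.FiniteType R S)
  obtain ⟨q, mgen, hgen⟩ := Module.Finite.exists_fin (R := S) (M := M)
  letI : Module Sᵐᵒᵖ M := Module.compHom M ((RingHom.id S).fromOpposite fun _ _ => mul_comm _ _)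
  haveI : IsCentralScalar S M := ⟨fun r m => rfl⟩
  let ψ : (Fin q → S) →ₗ[S] M := Fintype.linearCombination S mgen
  have hψ : ∀ u : Fin q → S, ψ u = ∑ j, u j • mgen j := fun u =>
    Fintype.linearCombination_apply S mgen u
  let Ψ : TrivSqZeroExt S (Fin q → S) →ₐ[S] TrivSqZeroExt S M := TrivSqZeroExt.map ψ
  let Λ : MvPolynomial (Fin n ⊕ Fin q) R →ₐ[R] TrivSqZeroExt S (Fin q → S) :=
    MvPolynomial.aeval (Sum.elim (fun i => TrivSqZeroExt.inl (π (X i)))
      (fun j => TrivSqZeroExt.inr (Pi.single j (1 : S))))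
  let Φ : MvPolynomial (Fin n ⊕ Fin q) R →ₐ[R] TrivSqZeroExt S M := (Ψ.restrictScalars R).comp Λ
  have hΦ_apply : ∀ b, Φ b = Ψ (Λ b) := fun b => rfl
  have hΛ_inl : ∀ i : Fin n, Λ (X (Sum.inl i)) = TrivSqZeroExt.inl (π (X i)) := fun i => by
    simp [Λ]
  have hΛ_inr : ∀ j : Fin q, Λ (X (Sum.inr j)) = TrivSqZeroExt.inr (Pi.single j (1 : S)) :=
    fun j => by simp [Λ]
  -- `Λ` on polynomials in the `x`-variables
  have hΛ_rename : ∀ p : MvPolynomial (Fin n) R,
      Λ (rename Sum.inl p) = TrivSqZeroExt.inl (π p) := by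
    intro p
    have : (Λ.comp (rename Sum.inl)) = (TrivSqZeroExt.inlAlgHom R S (Fin q → S)).comp π := by
      apply MvPolynomial.algHom_ext
      intro i
      simp [hΛ_inl]
    exact DFunLike.congr_fun this p
  -- the polynomial `∑ p_j y_j`
  have hΛ_lin : ∀ p : Fin q → MvPolynomial (Fin n) R,
      Λ (∑ j, rename Sum.inl (p j) * X (Sum.inr j)) = TrivSqZeroExt.inr (fun j => π (p j)) := by
    intro p
    rw [map_sum]
    have : ∀ j, Λ (rename Sum.inl (p j) * X (Sum.inr j)) =
        TrivSqZeroExt.inr (Pi.single j (π (p j))) := by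
      intro j
      rw [map_mul, hΛ_rename, hΛ_inr, TrivSqZeroExt.inl_mul_inr]
      congr 1
      ext j'
      simp [Pi.single_apply]
    simp_rw [this]
    rw [← TrivSqZeroExt.inr_sum]
    congr 1
    ext j'
    simp [Finset.sum_apply, Pi.single_apply]
  let I : Ideal (MvPolynomial (Fin n ⊕ Fin q) R) := RingHom.ker Φ
  have hI : ∀ b, b ∈ I ↔ Φ b = 0 := fun b => RingHom.mem_ker
  -- surjectivity of `Φ`
  have hΦsurj : Function.Surjective Φ := by
    intro t
    obtain ⟨p, hp⟩ := hπ t.fst
    have hsnd : t.snd ∈ Submodule.span S (Set.range mgen) := by rw [hgen]; trivial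
    obtain ⟨u, hu⟩ := (Submodule.mem_span_range_iff_exists_fun S).mp hsnd
    choose pj hpj using fun j => hπ (u j)
    refine ⟨rename Sum.inl p + ∑ j, rename Sum.inl (pj j) * X (Sum.inr j), ?_⟩
    rw [map_add, hΦ_apply, hΦ_apply, hΛ_rename, hΛ_lin]
    simp only [Ψ, TrivSqZeroExt.map_inl, TrivSqZeroExt.map_inr, hp, hψ, hpj, hu]
    exact TrivSqZeroExt.inl_fst_add_inr_snd_eq t
  -- monomial order and Gröbner basis
  let lo : LinearOrder (Fin n ⊕ Fin q) := LinearOrder.lift' finSumFinEquiv finSumFinEquiv.injective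
  let mo : MonomialOrder (Fin n ⊕ Fin q) :=
    @MonomialOrder.lex _ lo (@Finite.to_wellFoundedGT _ _ lo.toPartialOrder.toPreorder)
  obtain ⟨G, hGI, hG⟩ := exists_groebner mo I
  have hGI' : ∀ g ∈ G, g ∈ I := fun g hg => (hGI g hg).1
  let a : R := ∏ g ∈ G, mo.leadingCoeff g
  have ha0 : a ≠ 0 := Finset.prod_ne_zero_iff.mpr fun g hg =>
    mo.leadingCoeff_ne_zero_iff.mpr (hGI g hg).2
  have hadvd : ∀ g ∈ G, mo.leadingCoeff g ∣ a := fun g hg => Finset.dvd_prod_of_mem _ hg
  have hLI := linearIndependent_std (m := mo) hG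
  have hSP := exists_pow_smul_mem_span_std (m := mo) hGI' a hadvd
  have hKER := fun u hu => exists_pow_smul_mem_span (m := mo) hG hGI' a hadvd (u := u) hu
  refine ⟨a, ha0, ?_⟩
  -- the family `E` in `T`
  let κ : (MvPolynomial (Fin n ⊕ Fin q) R ⧸ I) →ₗ[R] TrivSqZeroExt S M :=
    (Ideal.kerLiftAlg Φ).toLinearMap
  have hκinj : LinearMap.ker κ = ⊥ :=
    LinearMap.ker_eq_bot.mpr (Ideal.kerLiftAlg_injective Φ)
  have hκmk : ∀ b, κ (Ideal.Quotient.mk I b) = Φ b := fun b => Ideal.kerLiftAlg_mk Φ b
  let E : StdSet mo G → TrivSqZeroExt S M := fun c => Φ (monomial c.1 (1 : R))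
  have hEeq : E = κ ∘ fun c : StdSet mo G => Ideal.Quotient.mk I (monomial c.1 (1 : R)) := by
    funext c
    simp only [E, Function.comp_apply, hκmk]
  have hE : LinearIndependent R E := by
    rw [hEeq]
    exact hLI.map' κ hκinj
  have hEsp : ∀ t, ∃ k : ℕ, a ^ k • t ∈ Submodule.span R (Set.range E) := by
    intro t
    obtain ⟨b, rfl⟩ := hΦsurj t
    obtain ⟨k, hk⟩ := hSP (Ideal.Quotient.mk I b)
    refine ⟨k, ?_⟩
    have h1 := Submodule.mem_map_of_mem (f := κ) hk
    rw [map_smul, hκmk, Submodule.map_span, ← Set.range_comp] at h1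
    rw [hEeq]
    exact h1
  -- homogeneity of `E`
  have hXhom : ∀ i, Φ (X i) ∈ homogSubmonoid S M := by
    intro i
    rcases i with i | j
    · left
      rw [hΦ_apply, hΛ_inl]; simp [Ψ]
    · right
      rw [hΦ_apply, hΛ_inr]; simp [Ψ]
  have hEhom : ∀ c : StdSet mo G, (E c).snd = 0 ∨ (E c).fst = 0 := by
    intro c
    have h1 : monomial c.1 (1 : R) = c.1.prod fun i k => (X i : MvPolynomial (Fin n ⊕ Fin q) R) ^ k := by
      rw [monomial_eq]; simp
    change Φ (monomial c.1 (1 : R)) ∈ homogSubmonoid S M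
    rw [h1, map_finsuppProd]
    refine Submonoid.prod_mem _ fun i _ => ?_
    change Φ (X i ^ (c.1 i)) ∈ homogSubmonoid S M
    rw [map_pow]
    exact Submonoid.pow_mem _ (hXhom i) _
  -- the projections
  let p₁ : TrivSqZeroExt S M →ₗ[R] S :=
    { toFun := TrivSqZeroExt.fst
      map_add' := fun x y => TrivSqZeroExt.fst_add x y
      map_smul' := fun r x => TrivSqZeroExt.fst_smul r x }
  let p₂ : TrivSqZeroExt S M →ₗ[R] M :=
    { toFun := TrivSqZeroExt.snd
      map_add' := fun x y => TrivSqZeroExt.snd_add x y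
      map_smul' := fun r x => TrivSqZeroExt.snd_smul r x }
  have hsplit := split_family p₁ p₂
    (fun t h1 h2 => TrivSqZeroExt.ext h1 h2)
    (fun s => ⟨TrivSqZeroExt.inl s, TrivSqZeroExt.fst_inl M s⟩)
    (fun m => ⟨TrivSqZeroExt.inr m, TrivSqZeroExt.snd_inr S m⟩)
    a E hE hEsp hEhom
  refine ⟨⟨_, _, hsplit.1.1, hsplit.1.2⟩, ⟨_, _, hsplit.2.1, hsplit.2.2⟩, ?_, ?_⟩
  · -- presentation of `S`
    let ρ : MvPolynomial (Fin n ⊕ Fin q) R →ₐ[R] MvPolynomial (Fin n) R :=
      MvPolynomial.aeval (Sum.elim X (fun _ => 0))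
    have hρ_rename : ∀ u, ρ (rename Sum.inl u) = u := by
      intro u
      have : ρ.comp (rename Sum.inl) = AlgHom.id R _ := by
        apply MvPolynomial.algHom_ext
        intro i
        simp [ρ]
      exact DFunLike.congr_fun this u
    have hπρ : ∀ b, π (ρ b) = (Φ b).fst := by
      intro b
      have : π.comp ρ = (TrivSqZeroExt.fstHom R S M).comp Φ := by
        apply MvPolynomial.algHom_ext
        intro i
        rcases i with i | j
        · simp [ρ, hΦ_apply, hΛ_inl, Ψ]
        · simp [ρ, hΦ_apply, hΛ_inr, Ψ]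
      exact DFunLike.congr_fun this b
    refine ⟨n, π, G.image ρ, hπ, ?_, ?_⟩
    · intro g hg
      obtain ⟨g', hg', rfl⟩ := Finset.mem_image.mp hg
      rw [hπρ, (hI g').mp (hGI' g' hg')]; rfl
    · intro u hu
      have hmem : rename Sum.inl u ∈ I := by
        rw [hI, hΦ_apply, hΛ_rename, hu]; simp [Ψ]
      obtain ⟨k, hk⟩ := hKER _ hmem
      refine ⟨k, ?_⟩
      have h1 := Ideal.mem_map_of_mem ρ hk
      rw [map_smul, hρ_rename, Ideal.map_span] at h1
      rwa [Finset.coe_image]
  · -- presentation of `M`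
    refine ⟨q, mgen, G.image (fun g => (Λ g).snd), hgen, ?_, ?_⟩
    · intro w hw
      obtain ⟨g, hg, rfl⟩ := Finset.mem_image.mp hw
      rw [← hψ, ← TrivSqZeroExt.snd_map ψ (Λ g)]
      change (Φ g).snd = 0
      rw [(hI g).mp (hGI' g hg)]; rfl
    · intro u hu
      choose pj hpj using fun j => hπ (u j)
      set P : MvPolynomial (Fin n ⊕ Fin q) R := ∑ j, rename Sum.inl (pj j) * X (Sum.inr j) with hP
      have hΛP : Λ P = TrivSqZeroExt.inr u := by
        rw [hP, hΛ_lin]; congr 1; ext j; exact hpj j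
      have hPI : P ∈ I := by
        rw [hI, hΦ_apply, hΛP]
        simp only [Ψ, TrivSqZeroExt.map_inr, hψ, hu, TrivSqZeroExt.inr_zero]
      obtain ⟨k, hk⟩ := hKER _ hPI
      refine ⟨k, ?_⟩
      have h1 := Ideal.mem_map_of_mem Λ hk
      rw [Ideal.map_span] at h1
      have hZ : ∀ z ∈ (Λ '' (G : Set (MvPolynomial (Fin n ⊕ Fin q) R))), z.fst = 0 := by
        rintro _ ⟨g, hg, rfl⟩
        rw [← TrivSqZeroExt.fst_map ψ (Λ g)]
        change (Φ g).fst = 0
        rw [(hI g).mp (hGI' g hg)]; rfl
      have h2 := (snd_mem_span_of_mem_ideal_span _ hZ h1).2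
      rw [map_smul, hΛP] at h2
      have e1 : (a ^ k • (TrivSqZeroExt.inr u : TrivSqZeroExt S (Fin q → S))).snd =
          (algebraMap R S a) ^ k • u := by
        rw [TrivSqZeroExt.snd_smul, TrivSqZeroExt.snd_inr, ← map_pow, algebraMap_smul]
      have e2 : TrivSqZeroExt.snd '' (Λ '' (G : Set (MvPolynomial (Fin n ⊕ Fin q) R))) =
          (fun g => (Λ g).snd) '' (G : Set (MvPolynomial (Fin n ⊕ Fin q) R)) := by
        rw [← Set.image_comp]; rfl
      rw [e1, e2] at h2
      rw [Finset.coe_image]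
      exact h2

/-- **Generic freeness** over a domain, without Noetherian hypotheses. -/
theorem generic_freeness :
    ∃ f : R, f ≠ 0 ∧ Module.Free (Localization.Away f) (Localization.Away f ⊗[R] M) ∧
      Module.Free (Localization.Away f) (Localization.Away f ⊗[R] S) ∧
      Algebra.FinitePresentation (Localization.Away f) (Localization.Away f ⊗[R] S) ∧
      Module.FinitePresentation (Localization.Away (algebraMap R S f))
        (LocalizedModule (Submonoid.powers (algebraMap R S f)) M) := by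
  obtain ⟨a, ha0, ⟨ιS, eS, hliS, hspS⟩, ⟨ιM, eM, hliM, hspM⟩, ⟨n, π, G₀, hπ, hG₀, hker⟩,
    ⟨q, mgen, W, hgen, hW, hrel⟩⟩ := generic_freeness_data (R := R) (S := S) (M := M)
  refine ⟨a, ha0, ?_, ?_, ?_, ?_⟩
  · haveI : IsLocalizedModule (Submonoid.powers a)
        (TensorProduct.mk R (Localization.Away a) M 1) :=
      (isLocalizedModule_iff_isBaseChange (Submonoid.powers a) (Localization.Away a) _).mpr
        (TensorProduct.isBaseChange R M (Localization.Away a))
    exact free_of_linearIndependent_of_span a (Localization.Away a)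
      (TensorProduct.mk R (Localization.Away a) M 1) eM hliM hspM
  · haveI : IsLocalizedModule (Submonoid.powers a)
        (TensorProduct.mk R (Localization.Away a) S 1) :=
      (isLocalizedModule_iff_isBaseChange (Submonoid.powers a) (Localization.Away a) _).mpr
        (TensorProduct.isBaseChange R S (Localization.Away a))
    exact free_of_linearIndependent_of_span a (Localization.Away a)
      (TensorProduct.mk R (Localization.Away a) S 1) eS hliS hspS
  · exact finitePresentation_tensor_of_ker a (Localization.Away a) π hπ G₀ hG₀ hker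
  · exact finitePresentation_localizedModule_of_ker (algebraMap R S a) mgen hgen W hW hrel

end Main

end Groth.Agent.Lib.Helper91
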