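import Mathlib
import Groth.Agent.Lib.Helper91.GenericFreeness

/-!
# Generic freeness over a reduced ring (helper91)

Over a reduced ring `R`, for every `h ≠ 0` there is a nonzero multiple `f` of `h` such that, after inverting `f`,
a finite type algebra `S` and a finite `S`-module `M` become free over `R_f`, `S_f` is finitely presented over
`R_f` and `M_f` over `S_f`.  The proof runs the generic Gröbner basis argument of `GroebnerGeneric.lean`
with a maximality argument (Dickson's lemma) replacing the domain hypothesis.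
-/

namespace Groth.Agent.Lib.Helper91

open MvPolynomial

open scoped MonomialOrder

section MaxUpper

variable {α : Type*} [Preorder α] [WellQuasiOrderedLE α]

/-- A nonempty family of upper sets of a well-quasi-ordered type has a maximal element. -/
theorem exists_maximal_upperSet (𝒰 : Set (Set α)) (h𝒰 : ∀ U ∈ 𝒰, IsUpperSet U)
    (hne : 𝒰.Nonempty) : ∃ U ∈ 𝒰, ∀ V ∈ 𝒰, U ⊆ V → V ⊆ U := by
  classical
  by_contra hcon
  push Not at hcon
  -- every member has a strictly bigger member
  have hnext : ∀ U : 𝒰, ∃ V : 𝒰, (U : Set α) ⊆ V ∧ ¬ (V : Set α) ⊆ U := by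
    rintro ⟨U, hU⟩
    obtain ⟨V, hV, hUV, hVU⟩ := hcon U hU
    exact ⟨⟨V, hV⟩, hUV, hVU⟩
  choose next hnext1 hnext2 using hnext
  obtain ⟨U₀, hU₀⟩ := hne
  let seq : ℕ → 𝒰 := fun j => Nat.rec ⟨U₀, hU₀⟩ (fun _ U => next U) j
  have hseq_succ : ∀ j, seq (j + 1) = next (seq j) := fun j => rfl
  let seqS : ℕ → Set α := fun j => (seq j).1
  have hmono : Monotone seqS :=
    monotone_nat_of_le_succ fun j => by
      change (seq j).1 ⊆ (seq (j + 1)).1
      rw [hseq_succ]; exact hnext1 _
  have hex : ∀ j, ∃ δ, δ ∈ seqS (j + 1) ∧ δ ∉ seqS j := by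
    intro j
    have := hnext2 (seq j)
    rw [Set.not_subset] at this
    change ∃ δ, δ ∈ (seq (j + 1)).1 ∧ δ ∉ (seq j).1
    rw [hseq_succ]; exact this
  choose δ hδ1 hδ2 using hex
  obtain ⟨i, j, hij, hle⟩ := (wellQuasiOrdered_le (α := α)) δ
  have h1 : δ i ∈ seqS j := hmono (Nat.succ_le_of_lt hij) (hδ1 i)
  exact hδ2 j (h𝒰 _ (seq j).2 hle h1)

end MaxUpper

section Terminal

variable {σ : Type*} [Finite σ] {R : Type*} [CommRing R] [IsReduced R] (m : MonomialOrder σ)

/-- Over a reduced ring, generic Gröbner bases exist after inverting a suitable nonzero multiple of any given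
nonzero element. -/
theorem exists_terminal (I : Ideal (MvPolynomial σ R)) (h : R) (hh : h ≠ 0) :
    ∃ (f : R) (G : Finset (MvPolynomial σ R)), h ∣ f ∧ f ≠ 0 ∧ (∀ g ∈ G, g ∈ I) ∧
      (∀ g ∈ G, m.leadingCoeff g ∣ f) ∧
      ∀ u ∈ I, f • u ≠ 0 → ∃ g ∈ G, m.degree g ≤ m.degree (f • u) := by
  classical
  -- admissible pairs
  let Adm : R × Finset (MvPolynomial σ R) → Prop := fun p =>
    h ∣ p.1 ∧ p.1 ≠ 0 ∧ (∀ g ∈ p.2, g ∈ I) ∧ (∀ g ∈ p.2, m.leadingCoeff g ∣ p.1)
  let Up : Finset (MvPolynomial σ R) → Set (σ →₀ ℕ) := fun G => {c | ∃ g ∈ G, m.degree g ≤ c}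
  let 𝒰 : Set (Set (σ →₀ ℕ)) := {U | ∃ p, Adm p ∧ Up p.2 = U}
  have h𝒰 : ∀ U ∈ 𝒰, IsUpperSet U := by
    rintro _ ⟨p, _, rfl⟩ c d hcd ⟨g, hg, hgc⟩
    exact ⟨g, hg, hgc.trans hcd⟩
  have hne : 𝒰.Nonempty := ⟨Up ∅, (h, ∅), ⟨dvd_rfl, hh, by simp, by simp⟩, rfl⟩
  obtain ⟨_, ⟨⟨f, G⟩, ⟨hhf, hf0, hGI, hGf⟩, rfl⟩, hmax⟩ := exists_maximal_upperSet 𝒰 h𝒰 hne
  refine ⟨f, G, hhf, hf0, hGI, hGf, ?_⟩
  intro u hu hfu
  by_contra hcon
  push Not at hcon
  set u' : MvPolynomial σ R := f • u with hu'
  set δ := m.degree u' with hδ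
  set c := m.leadingCoeff u' with hc
  have hc0 : c ≠ 0 := m.leadingCoeff_ne_zero_iff.mpr hfu
  -- `c = f * c₀`
  have hcf : f ∣ c := by
    refine ⟨u.coeff δ, ?_⟩
    rw [hc, MonomialOrder.leadingCoeff, hu', coeff_smul, smul_eq_mul]
  have hfc0 : f * c ≠ 0 := by
    intro h0
    obtain ⟨c₀, hc₀⟩ := hcf
    apply hc0
    have : (f * c₀) ^ 2 = 0 := by
      have : (f * c₀) ^ 2 = (f * c) * c₀ := by rw [hc₀]; ring
      rw [this, h0, zero_mul]
    rw [hc₀]
    exact IsReduced.eq_zero _ ⟨2, this⟩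
  have hadm : Adm (f * c, insert u' G) := by
    refine ⟨hhf.mul_right c, hfc0, ?_, ?_⟩
    · intro g hg
      rcases Finset.mem_insert.mp hg with rfl | hg
      · exact Submodule.smul_of_tower_mem I f hu
      · exact hGI g hg
    · intro g hg
      rcases Finset.mem_insert.mp hg with rfl | hg
      · exact Dvd.intro_left f rfl
      · exact (hGf g hg).mul_right c
  have hsub : Up G ⊆ Up (insert u' G) := by
    rintro d ⟨g, hg, hgd⟩
    exact ⟨g, Finset.mem_insert_of_mem hg, hgd⟩
  have hmem : δ ∈ Up (insert u' G) := ⟨u', Finset.mem_insert_self _ _, le_rfl⟩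
  have := hmax _ ⟨(f * c, insert u' G), hadm, rfl⟩ hsub hmem
  obtain ⟨g, hg, hgδ⟩ := this
  exact hcon g hg hgδ

variable {m}
variable {I : Ideal (MvPolynomial σ R)} {G : Finset (MvPolynomial σ R)} {f : R}

omit [Finite σ] [IsReduced R] in
/-- A polynomial of `I` all of whose monomials are standard is killed by `f`. -/
lemma smul_eq_zero_of_mem_of_support_std
    (hG : ∀ u ∈ I, f • u ≠ 0 → ∃ g ∈ G, m.degree g ≤ m.degree (f • u))
    {u : MvPolynomial σ R} (hu : u ∈ I) (hstd : ∀ c ∈ u.support, c ∈ StdSet m G) : f • u = 0 := by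
  by_contra hu0
  obtain ⟨g, hg, hle⟩ := hG u hu hu0
  have h1 : m.degree (f • u) ∈ (f • u).support := m.degree_mem_support hu0
  have h2 : (f • u).support ⊆ u.support := MvPolynomial.support_smul
  exact hstd _ (h2 h1) g hg hle

omit [Finite σ] [IsReduced R] in
/-- The standard monomials are linearly independent modulo `I`, up to `f`-torsion. -/
theorem liUpTo_std
    (hG : ∀ u ∈ I, f • u ≠ 0 → ∃ g ∈ G, m.degree g ≤ m.degree (f • u))
    (l : StdSet m G →₀ R)
    (hl : Finsupp.linearCombination R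
      (fun c : StdSet m G => Ideal.Quotient.mk I (monomial c.1 (1 : R))) l = 0) :
    ∀ c, f * l c = 0 := by
  classical
  set u : MvPolynomial σ R := l.sum (fun c r => monomial c.1 r) with hu
  have hcoeff : ∀ c : StdSet m G, u.coeff c.1 = l c := by
    intro c
    rw [hu, Finsupp.sum, coeff_sum]
    rw [Finset.sum_eq_single c]
    · simp
    · intro b _ hbc
      rw [coeff_monomial, if_neg]
      exact fun h => hbc (Subtype.ext h)
    · intro hc
      rw [Finsupp.notMem_support_iff.mp hc]; simp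
  have hsupp : ∀ c ∈ u.support, c ∈ StdSet m G := by
    intro c hc
    rw [hu, Finsupp.sum] at hc
    have := MvPolynomial.support_sum hc
    obtain ⟨b, _, hb⟩ := Finset.mem_biUnion.mp this
    have := support_monomial_subset hb
    rw [Finset.mem_singleton] at this
    rw [this]; exact b.2
  have humem : u ∈ I := by
    rw [← Ideal.Quotient.eq_zero_iff_mem, ← hl, hu, Finsupp.linearCombination_apply,
      Finsupp.sum, Finsupp.sum, map_sum]
    refine Finset.sum_congr rfl fun c _ => ?_
    exact quotient_mk_monomial _ _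
  have hu0 := smul_eq_zero_of_mem_of_support_std hG humem hsupp
  intro c
  rw [← hcoeff c, ← smul_eq_mul, ← coeff_smul, hu0, coeff_zero]

omit [Finite σ] [IsReduced R] in
/-- Every element of `I` lies in the span of `G` after multiplication by a power of `f`. -/
theorem exists_pow_smul_mem_span'
    (hG : ∀ u ∈ I, f • u ≠ 0 → ∃ g ∈ G, m.degree g ≤ m.degree (f • u)) (hGI : ∀ g ∈ G, g ∈ I)
    (ha : ∀ g ∈ G, m.leadingCoeff g ∣ f) {u : MvPolynomial σ R} (hu : u ∈ I) :
    ∃ N : ℕ, f ^ N • u ∈ Ideal.span (G : Set (MvPolynomial σ R)) := by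
  obtain ⟨N, r, hmem, hr⟩ := pseudo_div m G f ha u
  refine ⟨N + 1, ?_⟩
  have hspan : Ideal.span (G : Set (MvPolynomial σ R)) ≤ I := Ideal.span_le.mpr fun g hg => hGI g hg
  have hrI : r ∈ I := by
    have h1 : f ^ N • u ∈ I := Submodule.smul_of_tower_mem I (f ^ N) hu
    have := I.sub_mem h1 (hspan hmem)
    rwa [sub_sub_cancel] at this
  have hr0 := smul_eq_zero_of_mem_of_support_std hG hrI hr
  have h2 : f • (f ^ N • u - r) ∈ Ideal.span (G : Set (MvPolynomial σ R)) :=
    Submodule.smul_of_tower_mem _ f hmem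
  rwa [smul_sub, hr0, sub_zero, ← mul_smul, ← pow_succ'] at h2

end Terminal

section L1'

variable {R : Type*} [CommRing R] (a : R) (Rₐ : Type*) [CommRing Rₐ] [Algebra R Rₐ]
  [IsLocalization.Away a Rₐ]
  {N N' : Type*} [AddCommGroup N] [Module R N] [AddCommGroup N'] [Module R N']
  [Module Rₐ N'] [IsScalarTower R Rₐ N'] (φ : N →ₗ[R] N') [IsLocalizedModule (Submonoid.powers a) φ]

include a φ in
/-- A family which is linearly independent up to `a`-torsion and spans up to powers of `a` becomes a basis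
after localizing at `a`. -/
theorem free_of_liUpTo_of_span {ι : Type*} (e : ι → N)
    (hli : ∀ l : ι →₀ R, Finsupp.linearCombination R e l = 0 → ∀ i, a * l i = 0)
    (hsp : ∀ y : N, ∃ n : ℕ, a ^ n • y ∈ Submodule.span R (Set.range e)) :
    Module.Free Rₐ N' := by
  classical
  have hunit : ∀ c : Submonoid.powers a, IsUnit (algebraMap R Rₐ (c : R)) := fun c =>
    IsLocalization.map_units Rₐ c
  have hli' : LinearIndependent Rₐ (φ ∘ e) := by
    rw [linearIndependent_iff']
    intro s g hg i hi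
    obtain ⟨b, hb⟩ := IsLocalization.exist_integer_multiples (Submonoid.powers a) s g
    choose! r hr using hb
    -- `algebraMap (r i) = b • g i` for `i ∈ s`
    have h1 : φ (∑ i ∈ s, r i • e i) = 0 := by
      rw [map_sum]
      have : ∀ i ∈ s, φ (r i • e i) = (b : R) • (g i • (φ ∘ e) i) := by
        intro i hi
        rw [map_smul, ← algebraMap_smul Rₐ (r i), hr i hi, Function.comp_apply, smul_assoc]
      rw [Finset.sum_congr rfl this, ← Finset.smul_sum, hg, smul_zero]
    obtain ⟨c, hc⟩ := (IsLocalizedModule.eq_zero_iff (Submonoid.powers a) φ).mp h1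
    let l : ι →₀ R := Finsupp.onFinset s (fun i => if i ∈ s then (c : R) * r i else 0)
      (fun i hi => by by_contra h; simp [h] at hi)
    have hl : Finsupp.linearCombination R e l = 0 := by
      rw [Finsupp.linearCombination_onFinset]
      rw [Submonoid.smul_def, Finset.smul_sum] at hc
      rw [← hc]
      refine Finset.sum_congr rfl fun i hi => ?_
      rw [if_pos hi, mul_smul]
    have h2 := hli l hl i
    have h3 : l i = (c : R) * r i := by
      simp only [l, Finsupp.onFinset_apply, if_pos hi]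
    rw [h3] at h2
    have h4 : algebraMap R Rₐ a * (algebraMap R Rₐ (c : R) * algebraMap R Rₐ (r i)) = 0 := by
      rw [← map_mul, ← map_mul, h2, map_zero]
    have ha : IsUnit (algebraMap R Rₐ a) := hunit ⟨a, 1, pow_one a⟩
    have h5 : algebraMap R Rₐ (r i) = 0 := by
      have := (ha.mul_right_eq_zero).mp h4
      exact ((hunit c).mul_right_eq_zero).mp this
    rw [hr i hi, Algebra.smul_def] at h5
    exact ((hunit b).mul_right_eq_zero).mp h5
  have hspan : ⊤ ≤ Submodule.span Rₐ (Set.range (φ ∘ e)) := by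
    intro x _
    obtain ⟨⟨y, s⟩, h⟩ := IsLocalizedModule.surj (Submonoid.powers a) φ x
    obtain ⟨n, hn⟩ := hsp y
    have hs : IsUnit (algebraMap R Rₐ (s : R)) := hunit s
    have ha : IsUnit (algebraMap R Rₐ (a ^ n)) := hunit ⟨a ^ n, n, rfl⟩
    have h1 : φ (a ^ n • y) ∈ Submodule.span Rₐ (Set.range (φ ∘ e)) := by
      have : φ (a ^ n • y) ∈ Submodule.map φ (Submodule.span R (Set.range e)) :=
        Submodule.mem_map_of_mem hn
      rw [Submodule.map_span, ← Set.range_comp] at this
      exact Submodule.span_subset_span R Rₐ _ this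
    have h2 : φ (a ^ n • y) = (algebraMap R Rₐ (a ^ n) * algebraMap R Rₐ (s : R)) • x := by
      rw [map_smul, ← h, Submonoid.smul_def, mul_smul, algebraMap_smul, algebraMap_smul]
    rw [h2] at h1
    have hu : IsUnit (algebraMap R Rₐ (a ^ n) * algebraMap R Rₐ (s : R)) := ha.mul hs
    have := Submodule.smul_mem _ (hu.unit⁻¹ : Rₐˣ).val h1
    rwa [← mul_smul, IsUnit.val_inv_mul, one_smul] at this
  exact Module.Free.of_basis (Module.Basis.mk hli' hspan)

end L1'

section Split'

variable {R : Type*} [CommRing R] {T S M : Type*} [AddCommGroup T] [Module R T]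
  [AddCommGroup S] [Module R S] [AddCommGroup M] [Module R M]

/-- Version of `split_family` for families linearly independent up to `a`-torsion. -/
theorem split_family' (p₁ : T →ₗ[R] S) (p₂ : T →ₗ[R] M)
    (hinj : ∀ t, p₁ t = 0 → p₂ t = 0 → t = 0)
    (hp₁ : Function.Surjective p₁) (hp₂ : Function.Surjective p₂)
    (a : R) {ι : Type*} (E : ι → T)
    (hE : ∀ l : ι →₀ R, Finsupp.linearCombination R E l = 0 → ∀ i, a * l i = 0)
    (hsp : ∀ t, ∃ k : ℕ, a ^ k • t ∈ Submodule.span R (Set.range E))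
    (hhom : ∀ i, p₂ (E i) = 0 ∨ p₁ (E i) = 0) :
    ((∀ l : {i // p₂ (E i) = 0} →₀ R,
        Finsupp.linearCombination R (fun i : {i // p₂ (E i) = 0} => p₁ (E i)) l = 0 →
          ∀ i, a * l i = 0) ∧
      ∀ s, ∃ k : ℕ, a ^ k • s ∈
        Submodule.span R (Set.range (fun i : {i // p₂ (E i) = 0} => p₁ (E i)))) ∧
    ((∀ l : {i // p₂ (E i) ≠ 0} →₀ R,
        Finsupp.linearCombination R (fun i : {i // p₂ (E i) ≠ 0} => p₂ (E i)) l = 0 →
          ∀ i, a * l i = 0) ∧
      ∀ m, ∃ k : ℕ, a ^ k • m ∈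
        Submodule.span R (Set.range (fun i : {i // p₂ (E i) ≠ 0} => p₂ (E i)))) := by
  classical
  refine ⟨⟨?_, ?_⟩, ⟨?_, ?_⟩⟩
  · intro l hl i
    set t : T := Finsupp.linearCombination R (fun i : {i // p₂ (E i) = 0} => E i) l with ht
    have h1 : p₁ t = 0 := by
      rw [ht, Finsupp.apply_linearCombination]; exact hl
    have h2 : p₂ t = 0 := by
      rw [ht, Finsupp.apply_linearCombination, Finsupp.linearCombination_apply]
      refine Finset.sum_eq_zero fun j _ => ?_
      simp only [Function.comp_apply, j.2, smul_zero]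
    have h3 : Finsupp.linearCombination R E (l.mapDomain Subtype.val) = 0 := by
      rw [Finsupp.linearCombination_mapDomain]
      exact hinj t h1 h2
    have := hE _ h3 i.1
    rwa [Finsupp.mapDomain_apply Subtype.val_injective] at this
  · intro s
    obtain ⟨t, rfl⟩ := hp₁ s
    obtain ⟨k, hk⟩ := hsp t
    refine ⟨k, ?_⟩
    have h1 : p₁ (a ^ k • t) ∈ Submodule.map p₁ (Submodule.span R (Set.range E)) :=
      Submodule.mem_map_of_mem hk
    rw [map_smul, Submodule.map_span] at h1
    refine (Submodule.span_le.mpr ?_) h1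
    rintro _ ⟨_, ⟨i, rfl⟩, rfl⟩
    by_cases hi : p₂ (E i) = 0
    · exact Submodule.subset_span ⟨⟨i, hi⟩, rfl⟩
    · have := (hhom i).resolve_left hi
      rw [this]; exact Submodule.zero_mem _
  · intro l hl i
    set t : T := Finsupp.linearCombination R (fun i : {i // p₂ (E i) ≠ 0} => E i) l with ht
    have h2 : p₂ t = 0 := by
      rw [ht, Finsupp.apply_linearCombination]; exact hl
    have h1 : p₁ t = 0 := by
      rw [ht, Finsupp.apply_linearCombination, Finsupp.linearCombination_apply]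
      refine Finset.sum_eq_zero fun j _ => ?_
      simp only [Function.comp_apply, (hhom j.1).resolve_left j.2, smul_zero]
    have h3 : Finsupp.linearCombination R E (l.mapDomain Subtype.val) = 0 := by
      rw [Finsupp.linearCombination_mapDomain]
      exact hinj t h1 h2
    have := hE _ h3 i.1
    rwa [Finsupp.mapDomain_apply Subtype.val_injective] at this
  · intro s
    obtain ⟨t, rfl⟩ := hp₂ s
    obtain ⟨k, hk⟩ := hsp t
    refine ⟨k, ?_⟩
    have h1 : p₂ (a ^ k • t) ∈ Submodule.map p₂ (Submodule.span R (Set.range E)) :=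
      Submodule.mem_map_of_mem hk
    rw [map_smul, Submodule.map_span] at h1
    refine (Submodule.span_le.mpr ?_) h1
    rintro _ ⟨_, ⟨i, rfl⟩, rfl⟩
    by_cases hi : p₂ (E i) = 0
    · rw [hi]; exact Submodule.zero_mem _
    · exact Submodule.subset_span ⟨⟨i, hi⟩, rfl⟩

end Split'

section MainReduced

open MvPolynomial TensorProduct

universe u₁ u₂ u₃

variable {R : Type u₁} {S : Type u₂} {M : Type u₃} [CommRing R] [IsReduced R] [CommRing S] [Algebra R S]
  [Algebra.FiniteType R S] [AddCommGroup M] [Module S M] [Module R M] [IsScalarTower R S M]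
  [Module.Finite S M]

/-- Element-wise form of generic freeness over a reduced ring, inside a given nonempty basic open `D(h)`. -/
theorem generic_freeness_data_reduced (h : R) (hh : h ≠ 0) :
    ∃ a : R, h ∣ a ∧ a ≠ 0 ∧
      (∃ (ι : Type) (e : ι → S),
        (∀ l : ι →₀ R, Finsupp.linearCombination R e l = 0 → ∀ i, a * l i = 0) ∧
        ∀ y, ∃ k : ℕ, a ^ k • y ∈ Submodule.span R (Set.range e)) ∧
      (∃ (ι : Type) (e : ι → M),
        (∀ l : ι →₀ R, Finsupp.linearCombination R e l = 0 → ∀ i, a * l i = 0) ∧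
        ∀ y, ∃ k : ℕ, a ^ k • y ∈ Submodule.span R (Set.range e)) ∧
      (∃ (n : ℕ) (π : MvPolynomial (Fin n) R →ₐ[R] S) (G₀ : Finset (MvPolynomial (Fin n) R)),
        Function.Surjective π ∧ (∀ g ∈ G₀, π g = 0) ∧
        ∀ u, π u = 0 → ∃ k : ℕ, a ^ k • u ∈ Ideal.span (G₀ : Set (MvPolynomial (Fin n) R))) ∧
      (∃ (q : ℕ) (mgen : Fin q → M) (W : Finset (Fin q → S)),
        Submodule.span S (Set.range mgen) = ⊤ ∧ (∀ w ∈ W, ∑ j, w j • mgen j = 0) ∧
        ∀ u : Fin q → S, ∑ j, u j • mgen j = 0 →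
          ∃ k : ℕ, (algebraMap R S a) ^ k • u ∈ Submodule.span S (W : Set (Fin q → S))) := by
  classical
  obtain ⟨n, π, hπ⟩ := Algebra.FiniteType.iff_quotient_mvPolynomial''.mp
    (inferInstance : Algebra.FiniteType R S)
  obtain ⟨q, mgen, hgen⟩ := Module.Finite.exists_fin (R := S) (M := M)
  letI : Module Sᵐᵒᵖ M := Module.compHom M ((RingHom.id S).fromOpposite fun _ _ => mul_comm _ _)
  haveI : IsCentralScalar S M := ⟨fun r m => rfl⟩
  let ψ : (Fin q → S) →ₗ[S] M := Fintype.linearCombination S mgen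
  have hψ : ∀ u : Fin q → S, ψ u = ∑ j, u j • mgen j := fun u =>
    Fintype.linearCombination_apply S mgen u
  let Ψ : TrivSqZeroExt S (Fin q → S) →ₐ[S] TrivSqZeroExt S M := TrivSqZeroExt.map ψ
  let Λ : MvPolynomial (Fin n ⊕ Fin q) R →ₐ[R] TrivSqZeroExt S (Fin q → S) :=
    MvPolynomial.aeval (Sum.elim (fun i => TrivSqZeroExt.inl (π (X i)))
      (fun j => TrivSqZeroExt.inr (Pi.single j (1 : S))))
  let Φ : MvPolynomial (Fin n ⊕ Fin q) R →ₐ[R] TrivSqZeroExt S M := (Ψ.restrictScalars R).comp Λ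
  have hΦ_apply : ∀ b, Φ b = Ψ (Λ b) := fun b => rfl
  have hΛ_inl : ∀ i : Fin n, Λ (X (Sum.inl i)) = TrivSqZeroExt.inl (π (X i)) := fun i => by
    simp [Λ]
  have hΛ_inr : ∀ j : Fin q, Λ (X (Sum.inr j)) = TrivSqZeroExt.inr (Pi.single j (1 : S)) :=
    fun j => by simp [Λ]
  -- `Λ` on polynomials in the `x`-variables
  have hΛ_rename : ∀ p : MvPolynomial (Fin n) R,
      Λ (rename Sum.inl p) = TrivSqZeroExt.inl (π p) := by
    intro p
    have : (Λ.comp (rename Sum.inl)) = (TrivSqZeroExt.inlAlgHom R S (Fin q → S)).comp π := by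
      apply MvPolynomial.algHom_ext
      intro i
      simp [hΛ_inl]
    exact DFunLike.congr_fun this p
  -- the polynomial `∑ p_j y_j`
  have hΛ_lin : ∀ p : Fin q → MvPolynomial (Fin n) R,
      Λ (∑ j, rename Sum.inl (p j) * X (Sum.inr j)) = TrivSqZeroExt.inr (fun j => π (p j)) := by
    intro p
    rw [map_sum]
    have : ∀ j, Λ (rename Sum.inl (p j) * X (Sum.inr j)) =
        TrivSqZeroExt.inr (Pi.single j (π (p j))) := by
      intro j
      rw [map_mul, hΛ_rename, hΛ_inr, TrivSqZeroExt.inl_mul_inr]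
      congr 1
      ext j'
      simp [Pi.single_apply]
    simp_rw [this]
    rw [← TrivSqZeroExt.inr_sum]
    congr 1
    ext j'
    simp [Finset.sum_apply, Pi.single_apply]
  let I : Ideal (MvPolynomial (Fin n ⊕ Fin q) R) := RingHom.ker Φ
  have hI : ∀ b, b ∈ I ↔ Φ b = 0 := fun b => RingHom.mem_ker
  -- surjectivity of `Φ`
  have hΦsurj : Function.Surjective Φ := by
    intro t
    obtain ⟨p, hp⟩ := hπ t.fst
    have hsnd : t.snd ∈ Submodule.span S (Set.range mgen) := by rw [hgen]; trivial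
    obtain ⟨u, hu⟩ := (Submodule.mem_span_range_iff_exists_fun S).mp hsnd
    choose pj hpj using fun j => hπ (u j)
    refine ⟨rename Sum.inl p + ∑ j, rename Sum.inl (pj j) * X (Sum.inr j), ?_⟩
    rw [map_add, hΦ_apply, hΦ_apply, hΛ_rename, hΛ_lin]
    simp only [Ψ, TrivSqZeroExt.map_inl, TrivSqZeroExt.map_inr, hp, hψ, hpj, hu]
    exact TrivSqZeroExt.inl_fst_add_inr_snd_eq t
  -- monomial order and Gröbner basis
  let lo : LinearOrder (Fin n ⊕ Fin q) := LinearOrder.lift' finSumFinEquiv finSumFinEquiv.injective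
  let mo : MonomialOrder (Fin n ⊕ Fin q) :=
    @MonomialOrder.lex _ lo (@Finite.to_wellFoundedGT _ _ lo.toPartialOrder.toPreorder)
  obtain ⟨a, G, hha, ha0, hGI', hadvd, hG⟩ := exists_terminal mo I h hh
  have hLI := liUpTo_std (m := mo) hG
  have hSP := exists_pow_smul_mem_span_std (m := mo) hGI' a hadvd
  have hKER := fun u hu => exists_pow_smul_mem_span' (m := mo) hG hGI' hadvd (u := u) hu
  refine ⟨a, hha, ha0, ?_⟩
  -- the family `E` in `T`
  let κ : (MvPolynomial (Fin n ⊕ Fin q) R ⧸ I) →ₗ[R] TrivSqZeroExt S M :=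
    (Ideal.kerLiftAlg Φ).toLinearMap
  have hκinj : LinearMap.ker κ = ⊥ :=
    LinearMap.ker_eq_bot.mpr (Ideal.kerLiftAlg_injective Φ)
  have hκmk : ∀ b, κ (Ideal.Quotient.mk I b) = Φ b := fun b => Ideal.kerLiftAlg_mk Φ b
  let E : StdSet mo G → TrivSqZeroExt S M := fun c => Φ (monomial c.1 (1 : R))
  have hEeq : E = κ ∘ fun c : StdSet mo G => Ideal.Quotient.mk I (monomial c.1 (1 : R)) := by
    funext c
    simp only [E, Function.comp_apply, hκmk]
  have hE : ∀ l : StdSet mo G →₀ R, Finsupp.linearCombination R E l = 0 → ∀ i, a * l i = 0 := by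
    intro l hl
    rw [hEeq, ← Finsupp.apply_linearCombination] at hl
    exact hLI l (LinearMap.ker_eq_bot.mp hκinj (hl.trans (map_zero κ).symm))
  have hEsp : ∀ t, ∃ k : ℕ, a ^ k • t ∈ Submodule.span R (Set.range E) := by
    intro t
    obtain ⟨b, rfl⟩ := hΦsurj t
    obtain ⟨k, hk⟩ := hSP (Ideal.Quotient.mk I b)
    refine ⟨k, ?_⟩
    have h1 := Submodule.mem_map_of_mem (f := κ) hk
    rw [map_smul, hκmk, Submodule.map_span, ← Set.range_comp] at h1
    rw [hEeq]
    exact h1
  -- homogeneity of `E`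
  have hXhom : ∀ i, Φ (X i) ∈ homogSubmonoid S M := by
    intro i
    rcases i with i | j
    · left
      rw [hΦ_apply, hΛ_inl]; simp [Ψ]
    · right
      rw [hΦ_apply, hΛ_inr]; simp [Ψ]
  have hEhom : ∀ c : StdSet mo G, (E c).snd = 0 ∨ (E c).fst = 0 := by
    intro c
    have h1 : monomial c.1 (1 : R) = c.1.prod fun i k => (X i : MvPolynomial (Fin n ⊕ Fin q) R) ^ k := by
      rw [monomial_eq]; simp
    change Φ (monomial c.1 (1 : R)) ∈ homogSubmonoid S M
    rw [h1, map_finsuppProd]
    refine Submonoid.prod_mem _ fun i _ => ?_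
    change Φ (X i ^ (c.1 i)) ∈ homogSubmonoid S M
    rw [map_pow]
    exact Submonoid.pow_mem _ (hXhom i) _
  -- the projections
  let p₁ : TrivSqZeroExt S M →ₗ[R] S :=
    { toFun := TrivSqZeroExt.fst
      map_add' := fun x y => TrivSqZeroExt.fst_add x y
      map_smul' := fun r x => TrivSqZeroExt.fst_smul r x }
  let p₂ : TrivSqZeroExt S M →ₗ[R] M :=
    { toFun := TrivSqZeroExt.snd
      map_add' := fun x y => TrivSqZeroExt.snd_add x y
      map_smul' := fun r x => TrivSqZeroExt.snd_smul r x }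
  have hsplit := split_family' p₁ p₂
    (fun t h1 h2 => TrivSqZeroExt.ext h1 h2)
    (fun s => ⟨TrivSqZeroExt.inl s, TrivSqZeroExt.fst_inl M s⟩)
    (fun m => ⟨TrivSqZeroExt.inr m, TrivSqZeroExt.snd_inr S m⟩)
    a E hE hEsp hEhom
  refine ⟨⟨_, _, hsplit.1.1, hsplit.1.2⟩, ⟨_, _, hsplit.2.1, hsplit.2.2⟩, ?_, ?_⟩
  · -- presentation of `S`
    let ρ : MvPolynomial (Fin n ⊕ Fin q) R →ₐ[R] MvPolynomial (Fin n) R :=
      MvPolynomial.aeval (Sum.elim X (fun _ => 0))
    have hρ_rename : ∀ u, ρ (rename Sum.inl u) = u := by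
      intro u
      have : ρ.comp (rename Sum.inl) = AlgHom.id R _ := by
        apply MvPolynomial.algHom_ext
        intro i
        simp [ρ]
      exact DFunLike.congr_fun this u
    have hπρ : ∀ b, π (ρ b) = (Φ b).fst := by
      intro b
      have : π.comp ρ = (TrivSqZeroExt.fstHom R S M).comp Φ := by
        apply MvPolynomial.algHom_ext
        intro i
        rcases i with i | j
        · simp [ρ, hΦ_apply, hΛ_inl, Ψ]
        · simp [ρ, hΦ_apply, hΛ_inr, Ψ]
      exact DFunLike.congr_fun this b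
    refine ⟨n, π, G.image ρ, hπ, ?_, ?_⟩
    · intro g hg
      obtain ⟨g', hg', rfl⟩ := Finset.mem_image.mp hg
      rw [hπρ, (hI g').mp (hGI' g' hg')]; rfl
    · intro u hu
      have hmem : rename Sum.inl u ∈ I := by
        rw [hI, hΦ_apply, hΛ_rename, hu]; simp [Ψ]
      obtain ⟨k, hk⟩ := hKER _ hmem
      refine ⟨k, ?_⟩
      have h1 := Ideal.mem_map_of_mem ρ hk
      rw [map_smul, hρ_rename, Ideal.map_span] at h1
      rwa [Finset.coe_image]
  · -- presentation of `M`
    refine ⟨q, mgen, G.image (fun g => (Λ g).snd), hgen, ?_, ?_⟩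
    · intro w hw
      obtain ⟨g, hg, rfl⟩ := Finset.mem_image.mp hw
      rw [← hψ, ← TrivSqZeroExt.snd_map ψ (Λ g)]
      change (Φ g).snd = 0
      rw [(hI g).mp (hGI' g hg)]; rfl
    · intro u hu
      choose pj hpj using fun j => hπ (u j)
      set P : MvPolynomial (Fin n ⊕ Fin q) R := ∑ j, rename Sum.inl (pj j) * X (Sum.inr j) with hP
      have hΛP : Λ P = TrivSqZeroExt.inr u := by
        rw [hP, hΛ_lin]; congr 1; ext j; exact hpj j
      have hPI : P ∈ I := by
        rw [hI, hΦ_apply, hΛP]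
        simp only [Ψ, TrivSqZeroExt.map_inr, hψ, hu, TrivSqZeroExt.inr_zero]
      obtain ⟨k, hk⟩ := hKER _ hPI
      refine ⟨k, ?_⟩
      have h1 := Ideal.mem_map_of_mem Λ hk
      rw [Ideal.map_span] at h1
      have hZ : ∀ z ∈ (Λ '' (G : Set (MvPolynomial (Fin n ⊕ Fin q) R))), z.fst = 0 := by
        rintro _ ⟨g, hg, rfl⟩
        rw [← TrivSqZeroExt.fst_map ψ (Λ g)]
        change (Φ g).fst = 0
        rw [(hI g).mp (hGI' g hg)]; rfl
      have h2 := (snd_mem_span_of_mem_ideal_span _ hZ h1).2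
      rw [map_smul, hΛP] at h2
      have e1 : (a ^ k • (TrivSqZeroExt.inr u : TrivSqZeroExt S (Fin q → S))).snd =
          (algebraMap R S a) ^ k • u := by
        rw [TrivSqZeroExt.snd_smul, TrivSqZeroExt.snd_inr, ← map_pow, algebraMap_smul]
      have e2 : TrivSqZeroExt.snd '' (Λ '' (G : Set (MvPolynomial (Fin n ⊕ Fin q) R))) =
          (fun g => (Λ g).snd) '' (G : Set (MvPolynomial (Fin n ⊕ Fin q) R)) := by
        rw [← Set.image_comp]; rfl
      rw [e1, e2] at h2
      rw [Finset.coe_image]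
      exact h2


omit [IsReduced R] [Algebra.FiniteType R S] in
/-- Finite presentation of `R_f ⊗ S` over `R_f` gives finite presentation of `Localization.awayMap`. -/
theorem awayMap_finitePresentation_of_tensor (f : R)
    (h : Algebra.FinitePresentation (Localization.Away f) (Localization.Away f ⊗[R] S)) :
    (Localization.awayMap (algebraMap R S) f).FinitePresentation := by
  letI alg : Algebra (Localization.Away f) (Localization.Away (algebraMap R S f)) :=
    (Localization.awayMap (algebraMap R S) f).toAlgebra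
  haveI : IsScalarTower R (Localization.Away f) (Localization.Away (algebraMap R S f)) :=
    IsScalarTower.of_algebraMap_eq (fun r => by
      rw [RingHom.algebraMap_toAlgebra, IsScalarTower.algebraMap_apply R S (Localization.Away _)]
      exact (IsLocalization.map_eq _ r).symm)
  haveI : IsLocalization (Algebra.algebraMapSubmonoid S (Submonoid.powers f))
      (Localization.Away (algebraMap R S f)) := by
    rw [Algebra.algebraMapSubmonoid, Submonoid.map_powers]; infer_instance
  have hpo : Algebra.IsPushout R S (Localization.Away f) (Localization.Away (algebraMap R S f)) :=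
    Algebra.isPushout_of_isLocalization (Submonoid.powers f) _ _ _
  haveI hpo' := hpo.symm
  exact Algebra.FinitePresentation.equiv
    (Algebra.IsPushout.equiv R (Localization.Away f) S (Localization.Away (algebraMap R S f)))


/-- **Generic freeness over a reduced ring**, in the neighbourhood of a given nonempty basic open. -/
theorem generic_freeness_reduced_aux (h : R) (hh : h ≠ 0) :
    ∃ f : R, h ∣ f ∧ f ≠ 0 ∧
      Module.Free (Localization.Away f) (LocalizedModule (Submonoid.powers f) M) ∧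
      Module.Free (Localization.Away f) (LocalizedModule (Submonoid.powers f) S) ∧
      (Localization.awayMap (algebraMap R S) f).FinitePresentation ∧
      Module.FinitePresentation (Localization.Away (algebraMap R S f))
        (LocalizedModule (Submonoid.powers (algebraMap R S f)) M) := by
  obtain ⟨a, hha, ha0, ⟨ιS, eS, hliS, hspS⟩, ⟨ιM, eM, hliM, hspM⟩, ⟨n, π, G₀, hπ, hG₀, hker⟩,
    ⟨q, mgen, W, hgen, hW, hrel⟩⟩ := generic_freeness_data_reduced (R := R) (S := S) (M := M) h hh
  refine ⟨a, hha, ha0, ?_, ?_, ?_, ?_⟩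
  · exact free_of_liUpTo_of_span a (Localization.Away a)
      (LocalizedModule.mkLinearMap (Submonoid.powers a) M) eM hliM hspM
  · exact free_of_liUpTo_of_span a (Localization.Away a)
      (LocalizedModule.mkLinearMap (Submonoid.powers a) S) eS hliS hspS
  · exact awayMap_finitePresentation_of_tensor a
      (finitePresentation_tensor_of_ker a (Localization.Away a) π hπ G₀ hG₀ hker)
  · exact finitePresentation_localizedModule_of_ker (algebraMap R S a) mgen hgen W hW hrel

/-- **Generic freeness over a reduced ring**: the dense open form. -/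
theorem generic_freeness_reduced :
    ∃ U : Set (PrimeSpectrum R), IsOpen U ∧ Dense U ∧ ∀ u ∈ U, ∃ f : R, f ∉ u.asIdeal ∧
      (PrimeSpectrum.basicOpen f : Set (PrimeSpectrum R)) ⊆ U ∧
      Module.Free (Localization.Away f) (LocalizedModule (Submonoid.powers f) M) ∧
      Module.Free (Localization.Away f) (LocalizedModule (Submonoid.powers f) S) ∧
      (Localization.awayMap (algebraMap R S) f).FinitePresentation ∧
      Module.FinitePresentation (Localization.Away (algebraMap R S f))
        (LocalizedModule (Submonoid.powers (algebraMap R S f)) M) := by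
  classical
  let Good : R → Prop := fun f =>
    Module.Free (Localization.Away f) (LocalizedModule (Submonoid.powers f) M) ∧
      Module.Free (Localization.Away f) (LocalizedModule (Submonoid.powers f) S) ∧
      (Localization.awayMap (algebraMap R S) f).FinitePresentation ∧
      Module.FinitePresentation (Localization.Away (algebraMap R S f))
        (LocalizedModule (Submonoid.powers (algebraMap R S f)) M)
  refine ⟨⋃ (f : R) (_ : Good f), (PrimeSpectrum.basicOpen f : Set (PrimeSpectrum R)), ?_, ?_, ?_⟩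
  · exact isOpen_iUnion fun f => isOpen_iUnion fun _ => (PrimeSpectrum.basicOpen f).isOpen
  · rw [dense_iff_inter_open]
    rintro V hV ⟨x, hx⟩
    obtain ⟨_, ⟨h, rfl⟩, hxh, hhV⟩ :=
      PrimeSpectrum.isTopologicalBasis_basic_opens.exists_subset_of_mem_open hx hV
    have hh : h ≠ 0 := by
      rintro rfl
      exact (PrimeSpectrum.mem_basicOpen _ _).mp hxh (Ideal.zero_mem _)
    obtain ⟨f, hhf, hf0, hgood⟩ := generic_freeness_reduced_aux (R := R) (S := S) (M := M) h hh
    have hne : (PrimeSpectrum.basicOpen f : Set (PrimeSpectrum R)).Nonempty := by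
      rw [Set.nonempty_iff_ne_empty]
      intro hempty
      have : PrimeSpectrum.basicOpen f = ⊥ := TopologicalSpace.Opens.ext hempty
      rw [PrimeSpectrum.basicOpen_eq_bot_iff] at this
      exact hf0 (IsReduced.eq_zero _ this)
    obtain ⟨y, hy⟩ := hne
    refine ⟨y, hhV ?_, Set.mem_iUnion₂.mpr ⟨f, hgood, hy⟩⟩
    change y ∈ PrimeSpectrum.basicOpen h
    have hy' : f ∉ y.asIdeal := (PrimeSpectrum.mem_basicOpen _ _).mp hy
    rw [PrimeSpectrum.mem_basicOpen]
    intro hmem
    obtain ⟨t, rfl⟩ := hhf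
    exact hy' (Ideal.mul_mem_right _ _ hmem)
  · intro u hu
    obtain ⟨f, hgood, huf⟩ := Set.mem_iUnion₂.mp hu
    exact ⟨f, (PrimeSpectrum.mem_basicOpen _ _).mp huf,
      Set.subset_iUnion₂ (s := fun f (_ : Good f) =>
        (PrimeSpectrum.basicOpen f : Set (PrimeSpectrum R))) f hgood, hgood⟩

end MainReduced

end Groth.Agent.Lib.Helper91
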