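import Mathlib
import Groth.Agent.S0611
import Groth.Agent.Lib.Helper10.RegSeqTorDim
import Groth.Agent.Lib.Helper59.H1RegOfRegular
import Groth.Agent.Lib.Helper73.ProjCM2

/-!
# Descent of "generated by a regular sequence" along a flat local homomorphism
-/

universe u

open IsLocalRing RingTheory.Sequence TensorProduct

namespace Groth.Agent.Lib.Helper91.AvramovDescent

section Irred

variable {A : Type u} [CommRing A] [IsLocalRing A]

/-- a generating family none of whose members is in the span of the others has at most as many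
members as any other generating family -/
theorem card_le_of_irredundant {r n : ℕ} (f : Fin r → A) (g : Fin n → A)
    (hfg : Ideal.span (Set.range f) = Ideal.span (Set.range g))
    (hirr : ∀ k, f k ∉ Ideal.span (f '' {j | j ≠ k})) : r ≤ n := by
  classical
  have hm : ∀ i, ∃ m : Fin n → A, ∑ j, m j * g j = f i := fun i =>
    Ideal.mem_span_range_iff_exists_fun.mp (by rw [← hfg]; exact Ideal.subset_span ⟨i, rfl⟩)
  have hn : ∀ j, ∃ m : Fin r → A, ∑ k, m k * f k = g j := fun j =>
    Ideal.mem_span_range_iff_exists_fun.mp (by rw [hfg]; exact Ideal.subset_span ⟨j, rfl⟩)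
  choose M hM using hm
  choose N hN using hn
  -- the relation
  have hrel : ∀ i, ∑ k, (∑ j, M i j * N j k - if i = k then 1 else 0) * f k = 0 := by
    intro i
    simp only [sub_mul, Finset.sum_sub_distrib, Finset.sum_mul]
    rw [Finset.sum_comm]
    have h1 : ∑ y, ∑ x, M i y * N y x * f x = ∑ y, M i y * g y := by
      refine Finset.sum_congr rfl fun y _ => ?_
      rw [← hN y, Finset.mul_sum]
      refine Finset.sum_congr rfl fun x _ => ?_
      ring
    rw [h1, hM i]
    simp
  have hmem : ∀ i k, (∑ j, M i j * N j k - if i = k then 1 else 0) ∈ maximalIdeal A := by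
    intro i k
    by_contra hc
    rw [IsLocalRing.notMem_maximalIdeal] at hc
    obtain ⟨u, hu⟩ := hc
    apply hirr k
    have h2 := hrel i
    rw [← Finset.add_sum_erase _ _ (Finset.mem_univ k), ← hu] at h2
    have h3 : f k = -(↑u⁻¹ * ∑ x ∈ Finset.univ.erase k,
        (∑ j, M i j * N j x - if i = x then 1 else 0) * f x) := by
      have : ↑u⁻¹ * ((u : A) * f k + ∑ x ∈ Finset.univ.erase k,
          (∑ j, M i j * N j x - if i = x then 1 else 0) * f x) = 0 := by rw [h2, mul_zero]
      rw [mul_add, ← mul_assoc, Units.inv_mul, one_mul] at this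
      exact eq_neg_of_add_eq_zero_left this
    rw [h3]
    refine neg_mem (Ideal.mul_mem_left _ _ (Ideal.sum_mem _ fun x hx => ?_))
    refine Ideal.mul_mem_left _ _ (Ideal.subset_span ⟨x, ?_, rfl⟩)
    exact Finset.ne_of_mem_erase hx
  -- pass to the residue field
  let Mk : Matrix (Fin r) (Fin n) (ResidueField A) := fun i j => residue A (M i j)
  let Nk : Matrix (Fin n) (Fin r) (ResidueField A) := fun j k => residue A (N j k)
  have hMN : Mk * Nk = 1 := by
    ext i k
    rw [Matrix.mul_apply, Matrix.one_apply]
    have h2 := (residue_eq_zero_iff _).2 (hmem i k)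
    rw [map_sub, map_sum, sub_eq_zero] at h2
    simp only [map_mul] at h2
    simp only [Mk, Nk]
    rw [h2]
    split_ifs <;> simp
  have hinj : Function.Injective (Matrix.mulVecLin Nk) := by
    intro x y hxy
    have := congrArg (Matrix.mulVecLin Mk) hxy
    simpa [Matrix.mulVec_mulVec, hMN] using this
  exact le_of_fin_injective (ResidueField A) (Matrix.mulVecLin Nk) hinj

end Irred

section Descent

variable {R S : Type u} [CommRing R] [CommRing S] [Algebra R S]
  [IsNoetherianRing R] [IsNoetherianRing S] [IsLocalRing R] [IsLocalRing S]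
  [IsLocalHom (algebraMap R S)] [Module.Flat R S]

theorem regular_descent (I : Ideal R) (hI : I ≠ ⊤)
    (h : ∃ rs : List S, Ideal.ofList rs = I.map (algebraMap R S) ∧ IsRegular S rs) :
    ∃ rs : List R, Ideal.ofList rs = I ∧ IsRegular R rs := by
  classical
  haveI : Module.FaithfullyFlat R S := Module.FaithfullyFlat.of_flat_of_isLocalHom
  have hpure : ∀ K : Ideal R, (K.map (algebraMap R S)).comap (algebraMap R S) = K :=
    fun K => Ideal.comap_map_eq_self_of_faithfullyFlat K
  obtain ⟨rs, hrs, hreg⟩ := h
  -- minimal generators of `I`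
  haveI : Module.Finite R I := Module.Finite.iff_fg.mpr (IsNoetherian.noetherian I)
  let b := Module.finBasis (ResidueField R) (ResidueField R ⊗[R] I)
  have hsurj : Function.Surjective (TensorProduct.mk R (ResidueField R) I 1) :=
    TensorProduct.mk_surjective R I (ResidueField R) Ideal.Quotient.mk_surjective
  choose fI hfI using fun i => hsurj (b i)
  have hspanI : Submodule.span R (Set.range fI) = ⊤ := span_eq_top_of_tmul_eq_basis fI b hfI
  let f : Fin (Module.finrank (ResidueField R) (ResidueField R ⊗[R] I)) → R := fun i => (fI i : R)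
  have hf : Ideal.span (Set.range f) = I := by
    have h1 : Submodule.map I.subtype (Submodule.span R (Set.range fI)) = I := by
      rw [hspanI, Submodule.map_top, Submodule.range_subtype]
    rw [Submodule.map_span, ← Set.range_comp] at h1
    exact h1
  -- irredundancy in `R`
  have hirrR : ∀ k, f k ∉ Ideal.span (f '' {j | j ≠ k}) := by
    intro k hk
    let l : List R := (Finset.univ.erase k).toList.map f
    have hl : Ideal.ofList l = I := by
      apply le_antisymm
      · rw [← hf]
        refine Ideal.span_mono ?_
        rintro x hx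
        obtain ⟨j, -, rfl⟩ := List.mem_map.1 hx
        exact ⟨j, rfl⟩
      · rw [← hf, Ideal.span_le]
        rintro _ ⟨j, rfl⟩
        by_cases hjk : j = k
        · rw [hjk]
          refine (Ideal.span_mono ?_) hk
          rintro _ ⟨j', hj', rfl⟩
          exact List.mem_map.2 ⟨j', by simpa using hj', rfl⟩
        · exact Ideal.subset_span (List.mem_map.2 ⟨j, by simpa using hjk, rfl⟩)
    have h1 := Groth.Agent.Lib.Helper10.RegSeqTorDim.finrank_le_length I l hl
    have h2 : l.length = Module.finrank (ResidueField R) (ResidueField R ⊗[R] I) - 1 := by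
      simp only [l, List.length_map, Finset.length_toList, Finset.card_erase_of_mem
        (Finset.mem_univ k), Finset.card_univ, Fintype.card_fin]
    have h3 : 0 < Module.finrank (ResidueField R) (ResidueField R ⊗[R] I) := Fin.pos k
    omega
  -- irredundancy in `S`
  let fS : Fin (Module.finrank (ResidueField R) (ResidueField R ⊗[R] I)) → S :=
    fun i => algebraMap R S (f i)
  have hfS : Ideal.span (Set.range fS) = I.map (algebraMap R S) := by
    have h1 := congrArg (Ideal.map (algebraMap R S)) hf
    rw [Ideal.map_span, ← Set.range_comp] at h1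
    exact h1
  have hirrS : ∀ k, fS k ∉ Ideal.span (fS '' {j | j ≠ k}) := by
    intro k hk
    apply hirrR k
    rw [← hpure (Ideal.span (f '' {j | j ≠ k})), Ideal.mem_comap, Ideal.map_span, ← Set.image_comp]
    exact hk
  -- the count
  have hn1 : Module.finrank (ResidueField R) (ResidueField R ⊗[R] I) ≤ rs.length := by
    refine card_le_of_irredundant fS rs.get ?_ hirrS
    rw [hfS, ← hrs, Set.range_list_get]
  have hne : Ideal.ofList rs ≠ ⊤ := by
    rw [hrs]
    intro htop
    apply hI
    rw [← hpure I, htop, Ideal.comap_top]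
  have hn2 : rs.length ≤ Module.finrank (ResidueField R) (ResidueField R ⊗[R] I) := by
    have h1 := Groth.Agent.Lib.Helper10.KoszulMinGen.length_le_of_isH1Regular rs (List.ofFn fS)
      (Groth.Agent.Lib.Helper59.H1RegOfRegular.isH1Regular_of_isWeaklyRegular rs
        hreg.toIsWeaklyRegular) hne (by
        rw [hrs, ← hfS]
        unfold Ideal.ofList
        congr 1
        ext y
        simp [List.mem_ofFn])
    rwa [List.length_ofFn] at h1
  have hn : rs.length = Module.finrank (ResidueField R) (ResidueField R ⊗[R] I) :=
    le_antisymm hn2 hn1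
  -- S0611
  have hregS : IsRegular S (List.ofFn (fun i : Fin rs.length => fS (Fin.cast hn i))) := by
    refine Groth.Agent.S0611.Aux.main rs.get _ (by rw [List.ofFn_get]; exact hreg) ?_
    rw [Set.range_list_get]
    show Ideal.ofList rs = _
    rw [hrs, ← hfS]
    congr 1
    ext y
    constructor
    · rintro ⟨i, rfl⟩
      exact ⟨Fin.cast hn.symm i, by simp⟩
    · rintro ⟨i, rfl⟩
      exact ⟨_, rfl⟩
  let fs : List R := List.ofFn (fun i : Fin rs.length => f (Fin.cast hn i))
  have hfs : fs.map (algebraMap R S) = List.ofFn (fun i : Fin rs.length => fS (Fin.cast hn i)) := by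
    simp only [fs, List.map_ofFn]
    rfl
  have hwR : IsWeaklyRegular R fs :=
    Groth.Agent.Lib.Helper73.ProjCM.isWeaklyRegular_of_map (algebraMap R S) hpure fs
      (by rw [hfs]; exact hregS.toIsWeaklyRegular)
  have hfsI : Ideal.ofList fs = I := by
    rw [← hf]
    unfold Ideal.ofList
    congr 1
    ext y
    simp only [fs, List.mem_ofFn, Set.mem_setOf_eq, Set.mem_range]
    constructor
    · rintro ⟨i, rfl⟩
      exact ⟨_, rfl⟩
    · rintro ⟨i, rfl⟩
      exact ⟨Fin.cast hn.symm i, by simp⟩
  refine ⟨fs, hfsI, ⟨hwR, ?_⟩⟩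
  rw [hfsI, smul_eq_mul, Ideal.mul_top]
  exact fun h => hI h.symm

end Descent

end Groth.Agent.Lib.Helper91.AvramovDescent
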