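import Mathlib

/-!
# The abstract core step of the Avramov-type argument (Stacks 09PY)

`σ : A' → A` surjective with kernel `(c)`, `c² = 0`.  A complex `F` over `A` with a termwise lift
`G` over `A'`, and approximate chain maps `φ : X → G` from an "almost complex" `(X, D)`.
-/

namespace Groth.Agent.Lib.Helper91.AvramovCore

variable {A' A : Type*} [CommRing A'] [CommRing A] (σ : A' →+* A) (c : A')

/-- the annihilator of `c` -/
def annI : Ideal A' := (Ideal.span {c}).annihilator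

lemma mem_annI {a : A'} : a ∈ annI c ↔ a * c = 0 := by
  rw [annI, Submodule.mem_annihilator_span_singleton]
  rfl

/-- the image of `Ann c` in `A` -/
def annJ : Ideal A := (annI c).map σ

section lift

variable {σ c}
variable {F : Type*} [AddCommGroup F] [Module A F] {G : Type*} [AddCommGroup G] [Module A' G]

/-- the image of `Ann(c) G` under a semilinear map lies in `annJ F` -/
lemma map_mem_annJ_smul (ρ : G →ₛₗ[σ] F) {v : G} (hv : v ∈ annI c • (⊤ : Submodule A' G)) :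
    ρ v ∈ annJ σ c • (⊤ : Submodule A F) := by
  refine Submodule.smul_induction_on hv ?_ ?_
  · intro a ha w _
    rw [ρ.map_smulₛₗ]
    exact Submodule.smul_mem_smul (Ideal.mem_map_of_mem σ ha) Submodule.mem_top
  · intro x y hx hy
    rw [map_add]
    exact Submodule.add_mem _ hx hy

/-- lifting elements of `annJ F` to `Ann(c) G` -/
lemma exists_lift_annJ_smul (hσ : Function.Surjective σ) (ρ : G →ₛₗ[σ] F)
    (hρ : Function.Surjective ρ) {a : F} (ha : a ∈ annJ σ c • (⊤ : Submodule A F)) :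
    ∃ a' ∈ annI c • (⊤ : Submodule A' G), ρ a' = a := by
  refine Submodule.smul_induction_on ha ?_ ?_
  · intro p hp v _
    obtain ⟨p', hp', rfl⟩ := (Ideal.mem_map_iff_of_surjective σ hσ).1 hp
    obtain ⟨v', rfl⟩ := hρ v
    exact ⟨p' • v', Submodule.smul_mem_smul hp' Submodule.mem_top, ρ.map_smulₛₗ p' v'⟩
  · rintro x y ⟨x', hx', rfl⟩ ⟨y', hy', rfl⟩
    exact ⟨x' + y', Submodule.add_mem _ hx' hy', map_add ρ x' y'⟩

/-- an `A'`-linear map with values in `c G` kills `Ann(c)`-multiples -/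
lemma eq_zero_of_mem_annI_smul {X : Type*} [AddCommGroup X] [Module A' X] (N : Submodule A' X)
    (θ : X →ₗ[A'] G) (hθ : ∀ x ∈ N, ∃ w, θ x = c • w) {x : X} (hx : x ∈ annI c • N) :
    θ x = 0 := by
  refine Submodule.smul_induction_on hx ?_ ?_
  · intro a ha n hn
    obtain ⟨w, hw⟩ := hθ n hn
    rw [map_smul, hw, smul_smul, (mem_annI c).1 ha, zero_smul]
  · intro x y hx hy
    rw [map_add, hx, hy, add_zero]

end lift

section core

variable {σ c}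
variable {F3 F2 F1 F0 : Type*} [AddCommGroup F3] [Module A F3] [AddCommGroup F2] [Module A F2]
  [AddCommGroup F1] [Module A F1] [AddCommGroup F0] [Module A F0]
  {G3 G2 G1 G0 : Type*} [AddCommGroup G3] [Module A' G3] [AddCommGroup G2] [Module A' G2]
  [AddCommGroup G1] [Module A' G1] [AddCommGroup G0] [Module A' G0]
  {X : Type*} [AddCommGroup X] [Module A' X]

/-- **Core step.** -/
theorem core_step (hσ : Function.Surjective σ) (hcc : c * c = 0)
    (d2 : F3 →ₗ[A] F2) (d1 : F2 →ₗ[A] F1) (d0 : F1 →ₗ[A] F0)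
    (e2 : G3 →ₗ[A'] G2) (e1 : G2 →ₗ[A'] G1) (e0 : G1 →ₗ[A'] G0)
    (ρ3 : G3 →ₛₗ[σ] F3) (ρ2 : G2 →ₛₗ[σ] F2) (ρ1 : G1 →ₛₗ[σ] F1) (ρ0 : G0 →ₛₗ[σ] F0)
    (h12 : ∀ v, d1 (d2 v) = 0) (h01 : ∀ v, d0 (d1 v) = 0)
    (hρ2 : ∀ v, ρ2 (e2 v) = d2 (ρ3 v)) (hρ1 : ∀ v, ρ1 (e1 v) = d1 (ρ2 v))
    (hρ0 : ∀ v, ρ0 (e0 v) = d0 (ρ1 v))
    (hs3 : Function.Surjective ρ3) (hs2 : Function.Surjective ρ2)
    (hk2 : ∀ v, ρ2 v = 0 → ∃ w, v = c • w) (hk1 : ∀ v, ρ1 v = 0 → ∃ w, v = c • w)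
    (hk0 : ∀ v, ρ0 v = 0 → ∃ w, v = c • w)
    (hann : ∀ v : G0, c • v = 0 → ρ0 v ∈ annJ σ c • (⊤ : Submodule A F0))
    (D : X →ₗ[A'] X) (N2 N1 : Submodule A' X)
    (φ2 : X →ₗ[A'] G2) (φ1 : X →ₗ[A'] G1) (φ0 : X →ₗ[A'] G0)
    (hc1 : ∀ x ∈ N2, ρ1 (e1 (φ2 x)) = ρ1 (φ1 (D x)))
    (hc0 : ∀ x ∈ N1, ρ0 (e0 (φ1 x)) = ρ0 (φ0 (D x)))
    (x y : X) (hx : x ∈ N2) (hDx : D x ∈ annI c • N1) (hDD : D (D x) = c • y)
    (hstart : ∃ u a, a ∈ annJ σ c • (⊤ : Submodule A F2) ∧ ρ2 (φ2 x) = d2 u + a) :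
    ∃ u a, a ∈ annJ σ c • (⊤ : Submodule A F0) ∧ ρ0 (φ0 y) = d0 u + a := by
  obtain ⟨u, a, ha, hxa⟩ := hstart
  obtain ⟨u', rfl⟩ := hs3 u
  obtain ⟨a', ha', rfl⟩ := exists_lift_annJ_smul hσ ρ2 hs2 ha
  -- step 1
  obtain ⟨w', hw'⟩ : ∃ w', φ2 x - e2 u' - a' = c • w' := by
    apply hk2
    rw [map_sub, map_sub, hxa, hρ2]
    abel
  have hφ2 : φ2 x = e2 u' + a' + c • w' := by
    rw [← hw']; abel
  -- step 2
  obtain ⟨z', hz'⟩ : ∃ z', e1 (φ2 x) - φ1 (D x) = c • z' := by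
    apply hk1
    rw [map_sub, hc1 x hx, sub_self]
  -- step 3
  have h3 : (e0 ∘ₗ φ1 - φ0 ∘ₗ D) (D x) = 0 := by
    apply eq_zero_of_mem_annI_smul N1 _ _ hDx
    intro n hn
    apply hk0
    simp only [LinearMap.sub_apply, LinearMap.comp_apply, map_sub]
    rw [hc0 n hn, sub_self]
  simp only [LinearMap.sub_apply, LinearMap.comp_apply] at h3
  -- e0 e1 has values in c G0
  have hee : ∀ v, ∃ w, e0 (e1 v) = c • w := by
    intro v
    apply hk0
    rw [hρ0, hρ1, h01]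
  -- e1 e2 has values in c G1
  obtain ⟨t', ht'⟩ : ∃ t', e1 (e2 u') = c • t' := by
    apply hk1
    rw [hρ1, hρ2, h12]
  have h4 : (e0 ∘ₗ e1) a' = 0 := by
    apply eq_zero_of_mem_annI_smul ⊤ _ _ ha'
    intro n _
    exact hee n
  simp only [LinearMap.comp_apply] at h4
  obtain ⟨s', hs'⟩ := hee w'
  have h5 : c • φ0 y = c • e0 (t' - z') := by
    calc c • φ0 y = φ0 (D (D x)) := by rw [hDD, map_smul]
      _ = e0 (φ1 (D x)) := (sub_eq_zero.1 h3).symm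
      _ = e0 (e1 (φ2 x) - c • z') := by rw [← hz']; congr 1; abel
      _ = e0 (e1 (e2 u' + a' + c • w')) - c • e0 z' := by rw [map_sub, map_smul, hφ2]
      _ = c • e0 t' - c • e0 z' := by
        rw [map_add, map_add, map_add, map_add, ht', h4, map_smul, map_smul, map_smul, hs',
          smul_smul, hcc, zero_smul, add_zero, add_zero]
      _ = c • e0 (t' - z') := by rw [map_sub, smul_sub]
  have h6 : c • (φ0 y - e0 (t' - z')) = 0 := by
    rw [smul_sub, h5, sub_self]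
  refine ⟨ρ1 (t' - z'), ρ0 (φ0 y - e0 (t' - z')), hann _ h6, ?_⟩
  rw [map_sub ρ0, hρ0]
  abel

end core

end Groth.Agent.Lib.Helper91.AvramovCore
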