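import Mathlib
import Groth.Agent.Lib.Helper91.AvramovCore

/-!
# The canonical free resolution of a module, with termwise lifts along a surjection `σ : P' → P`
-/

universe u

namespace Groth.Agent.Lib.Helper91.AvramovRes

open Groth.Agent.Lib.Helper91.AvramovCore

variable {P : Type u} [CommRing P]

/-- the canonical surjection from the free module on the elements of `X` -/
noncomputable abbrev fpiOf (X : ModuleCat.{u} P) : (X →₀ P) →ₗ[P] X :=
  Finsupp.linearCombination P (id : X → X)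

/-- the first syzygy of the canonical free cover -/
noncomputable def syz (X : ModuleCat.{u} P) : ModuleCat.{u} P :=
  ModuleCat.of P (LinearMap.ker (fpiOf X))

/-- iterated syzygies -/
noncomputable def Zc (S₀ : ModuleCat.{u} P) : ℕ → ModuleCat.{u} P
  | 0 => S₀
  | (n + 1) => syz (Zc S₀ n)

variable (S₀ : ModuleCat.{u} P)

/-- the free modules of the resolution -/
abbrev Fr (n : ℕ) : Type u := (Zc S₀ n →₀ P)

/-- `F_n → Z_n` -/
noncomputable def fpi (n : ℕ) : Fr S₀ n →ₗ[P] Zc S₀ n := fpiOf (Zc S₀ n)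

/-- `Z_{n+1} → F_n` -/
noncomputable def incl (n : ℕ) : Zc S₀ (n + 1) →ₗ[P] Fr S₀ n :=
  show ↥(LinearMap.ker (fpiOf (Zc S₀ n))) →ₗ[P] _ from Submodule.subtype _

lemma fpi_surjective (n : ℕ) : Function.Surjective (fpi S₀ n) :=
  Finsupp.linearCombination_id_surjective P _

lemma fpi_incl (n : ℕ) (z : Zc S₀ (n + 1)) : fpi S₀ n (incl S₀ n z) = 0 := by
  obtain ⟨z, hz⟩ := (show ↥(LinearMap.ker (fpiOf (Zc S₀ n))) from z)
  exact hz

lemma incl_injective (n : ℕ) : Function.Injective (incl S₀ n) :=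
  Subtype.val_injective

lemma exists_incl_eq (n : ℕ) (v : Fr S₀ n) (hv : fpi S₀ n v = 0) :
    ∃ z : Zc S₀ (n + 1), incl S₀ n z = v :=
  ⟨(show ↥(LinearMap.ker (fpiOf (Zc S₀ n))) from ⟨v, hv⟩), rfl⟩

/-- the differential -/
noncomputable def dF (n : ℕ) : Fr S₀ (n + 1) →ₗ[P] Fr S₀ n := incl S₀ n ∘ₗ fpi S₀ (n + 1)

lemma dF_apply (n : ℕ) (v : Fr S₀ (n + 1)) : dF S₀ n v = incl S₀ n (fpi S₀ (n + 1) v) := rfl

lemma fpi_dF (n : ℕ) (v : Fr S₀ (n + 1)) : fpi S₀ n (dF S₀ n v) = 0 := fpi_incl S₀ n _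

lemma dF_dF (n : ℕ) (v : Fr S₀ (n + 2)) : dF S₀ n (dF S₀ (n + 1) v) = 0 := by
  rw [dF_apply, fpi_dF, map_zero]

lemma exists_dF_eq_of_fpi (n : ℕ) (v : Fr S₀ n) (hv : fpi S₀ n v = 0) :
    ∃ u, dF S₀ n u = v := by
  obtain ⟨z, rfl⟩ := exists_incl_eq S₀ n v hv
  obtain ⟨u, rfl⟩ := fpi_surjective S₀ (n + 1) z
  exact ⟨u, rfl⟩

lemma exists_dF_eq (n : ℕ) (v : Fr S₀ (n + 1)) (hv : dF S₀ n v = 0) :
    ∃ u, dF S₀ (n + 1) u = v := by
  apply exists_dF_eq_of_fpi
  apply incl_injective S₀ n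
  rw [map_zero]
  exact hv

/-! ### Lifts along `σ : P' → P` -/

variable {P' : Type u} [CommRing P'] (σ : P' →+* P)

/-- the lifted free modules -/
abbrev Gr (P' : Type u) [CommRing P'] (n : ℕ) : Type u := (Zc S₀ n →₀ P')

/-- reduction -/
noncomputable def red (n : ℕ) : Gr S₀ P' n →ₛₗ[σ] Fr S₀ n where
  toFun v := Finsupp.mapRange σ (map_zero σ) v
  map_add' v w := Finsupp.mapRange_add (map_add σ) v w
  map_smul' a v := by
    ext z
    simp

lemma red_apply (n : ℕ) (v : Gr S₀ P' n) (z : Zc S₀ n) : red S₀ σ n v z = σ (v z) := rfl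

lemma red_single (n : ℕ) (z : Zc S₀ n) (a : P') :
    red S₀ σ n (Finsupp.single z a) = Finsupp.single z (σ a) :=
  Finsupp.mapRange_single (hf := map_zero σ)

variable {σ}

lemma red_surjective (hσ : Function.Surjective σ) (n : ℕ) : Function.Surjective (red S₀ σ n) :=
  Finsupp.mapRange_surjective σ (map_zero σ) hσ

lemma exists_eq_smul_of_red {c : P'} (hker : RingHom.ker σ = Ideal.span {c}) (n : ℕ)
    (v : Gr S₀ P' n) (hv : red S₀ σ n v = 0) : ∃ w : Gr S₀ P' n, v = c • w := by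
  have h1 : ∀ z, ∃ w, v z = c * w := by
    intro z
    have : v z ∈ RingHom.ker σ := by
      rw [RingHom.mem_ker, ← red_apply, hv, Finsupp.zero_apply]
    rw [hker, Ideal.mem_span_singleton'] at this
    obtain ⟨w, hw⟩ := this
    exact ⟨w, by rw [← hw, mul_comm]⟩
  choose w hw using h1
  refine ⟨∑ z ∈ v.support, Finsupp.single z (w z), ?_⟩
  rw [Finset.smul_sum]
  conv_lhs => rw [← Finsupp.sum_single v]
  rw [Finsupp.sum]
  refine Finset.sum_congr rfl fun z _ => ?_
  rw [Finsupp.smul_single, smul_eq_mul, hw]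

lemma mem_smul_top_of_coeff {A : Type*} [CommRing A] {ι : Type*} (𝔞 : Ideal A) (v : ι →₀ A)
    (hv : ∀ z, v z ∈ 𝔞) : v ∈ 𝔞 • (⊤ : Submodule A (ι →₀ A)) := by
  rw [← Finsupp.sum_single v, Finsupp.sum]
  refine Submodule.sum_mem _ fun z _ => ?_
  have : Finsupp.single z (v z) = v z • Finsupp.single z (1 : A) := by
    rw [Finsupp.smul_single, smul_eq_mul, mul_one]
  rw [this]
  exact Submodule.smul_mem_smul (hv z) Submodule.mem_top

lemma red_mem_of_smul_eq_zero {c : P'} (n : ℕ) (v : Gr S₀ P' n) (hv : c • v = 0) :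
    red S₀ σ n v ∈ annJ σ c • (⊤ : Submodule P (Fr S₀ n)) := by
  apply mem_smul_top_of_coeff
  intro z
  rw [red_apply]
  apply Ideal.mem_map_of_mem
  rw [mem_annI, mul_comm]
  have := DFunLike.congr_fun hv z
  simpa using this

variable (σ)

/-- the lifted differential -/
noncomputable def dG (hσ : Function.Surjective σ) (n : ℕ) : Gr S₀ P' (n + 1) →ₗ[P'] Gr S₀ P' n :=
  Finsupp.linearCombination P' fun z =>
    (red_surjective S₀ hσ n (dF S₀ n (Finsupp.single z 1))).choose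

lemma red_dG (hσ : Function.Surjective σ) (n : ℕ) (v : Gr S₀ P' (n + 1)) :
    red S₀ σ n (dG S₀ σ hσ n v) = dF S₀ n (red S₀ σ (n + 1) v) := by
  induction v using Finsupp.induction_linear with
  | zero => simp
  | add v w hv hw => rw [map_add, map_add, map_add, map_add, hv, hw]
  | single z a =>
    rw [dG, Finsupp.linearCombination_single, LinearMap.map_smulₛₗ,
      (red_surjective S₀ hσ n (dF S₀ n (Finsupp.single z 1))).choose_spec, red_single,
      ← map_smul, Finsupp.smul_single, smul_eq_mul, mul_one]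

end Groth.Agent.Lib.Helper91.AvramovRes
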