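import Mathlib
import Groth.Agent.Lib.Helper91.AvramovRes
import Groth.Agent.Lib.Helper35.TorDim

/-!
# Finite tor dimension makes the high syzygies flat; cycles mod `I` are boundaries mod `I`
-/

universe u

open CategoryTheory

namespace Groth.Agent.Lib.Helper91.AvramovFlat

open Groth.Agent.Lib.Helper91.AvramovRes Groth.Agent.Lib.Helper35.TA

/-- elements of `I • ⊤` are finite combinations -/
lemma exists_rep_of_mem_smul_top {R : Type*} [CommRing R] (I : Ideal R) {F : Type*}
    [AddCommGroup F] [Module R F] {x : F} (hx : x ∈ I • (⊤ : Submodule R F)) :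
    ∃ (ι : Type) (_ : Fintype ι) (f : ι → R) (v : ι → F),
      (∀ i, f i ∈ I) ∧ x = ∑ i, f i • v i := by
  refine Submodule.smul_induction_on hx ?_ ?_
  · intro a ha n _
    exact ⟨Unit, inferInstance, fun _ => a, fun _ => n, fun _ => ha, by simp⟩
  · rintro x y ⟨ι₁, _, f₁, v₁, h₁, rfl⟩ ⟨ι₂, _, f₂, v₂, h₂, rfl⟩
    refine ⟨ι₁ ⊕ ι₂, inferInstance, Sum.elim f₁ f₂, Sum.elim v₁ v₂, ?_, ?_⟩
    · rintro (i | i)
      · exact h₁ i
      · exact h₂ i
    · rw [Fintype.sum_sum_type]
      simp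

/-- if `F/K` is flat then `K ∩ IF = IK` -/
theorem mem_smul_ker_of_flat {R : Type*} [CommRing R] (I : Ideal R) {F Q : Type*}
    [AddCommGroup F] [Module R F] [AddCommGroup Q] [Module R Q] [Module.Flat R Q]
    (g : F →ₗ[R] Q) (hg : Function.Surjective g) {x : F}
    (hx : x ∈ I • (⊤ : Submodule R F)) (hgx : g x = 0) : x ∈ I • LinearMap.ker g := by
  obtain ⟨ι, _, f, v, hf, rfl⟩ := exists_rep_of_mem_smul_top I hx
  have hrel : ∑ i, f i • g (v i) = 0 := by
    rw [← hgx, map_sum]
    exact Finset.sum_congr rfl fun i _ => (map_smul g _ _).symm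
  obtain ⟨k, a, y, hy, ha⟩ := Module.Flat.isTrivialRelation_of_sum_smul_eq_zero hrel
  choose w hw using fun j => hg (y j)
  have hn : ∀ i, v i - ∑ j, a i j • w j ∈ LinearMap.ker g := by
    intro i
    rw [LinearMap.mem_ker, map_sub, map_sum, sub_eq_zero]
    exact (hy i).trans (Finset.sum_congr rfl fun j _ => by rw [map_smul, hw])
  have h2 : ∑ i, f i • ∑ j, a i j • w j = 0 := by
    simp_rw [Finset.smul_sum, smul_smul]
    rw [Finset.sum_comm]
    refine Finset.sum_eq_zero fun j _ => ?_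
    rw [← Finset.sum_smul, ha j, zero_smul]
  have h3 : ∑ i, f i • v i = ∑ i, f i • (v i - ∑ j, a i j • w j) := by
    simp_rw [smul_sub]
    rw [Finset.sum_sub_distrib, h2, sub_zero]
  rw [h3]
  exact Submodule.sum_mem _ fun i _ => Submodule.smul_mem_smul (hf i) (hn i)

variable (R : Type u) [CommRing R] {P : Type u} [CommRing P] [Algebra R P]

/-- the `R`-module structure on a `P`-module object -/
@[reducible] noncomputable def modR (X : ModuleCat.{u} P) : Module R X :=
  Module.compHom X (algebraMap R P)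

attribute [local instance] modR

lemma smul_def' (X : ModuleCat.{u} P) (r : R) (x : X) : r • x = algebraMap R P r • x := rfl

instance (X : ModuleCat.{u} P) : IsScalarTower R P X :=
  ⟨fun r p x => by
    show (r • p) • x = algebraMap R P r • p • x
    rw [Algebra.smul_def, mul_smul]⟩

/-- the underlying `R`-module object -/
noncomputable def toR (X : ModuleCat.{u} P) : ModuleCat.{u} R := ModuleCat.of R X

variable (S₀ : ModuleCat.{u} P)

/-- the short exact sequences `0 → Z_{n+1} → F_n → Z_n → 0` over `R` -/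
noncomputable def sc (n : ℕ) : ShortComplex (ModuleCat.{u} R) :=
  ShortComplex.mk (X₁ := toR R (Zc S₀ (n + 1))) (X₂ := ModuleCat.of R (Fr S₀ n))
    (X₃ := toR R (Zc S₀ n))
    (ModuleCat.ofHom ((incl S₀ n).restrictScalars R))
    (ModuleCat.ofHom ((fpi S₀ n).restrictScalars R))
    (by ext x; exact fpi_incl S₀ n x)

lemma sc_shortExact (n : ℕ) : (sc R S₀ n).ShortExact := by
  refine ModuleCat.shortComplex_shortExact _ ?_ (incl_injective S₀ n) (fpi_surjective S₀ n)
  intro v
  constructor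
  · intro hv
    obtain ⟨z, hz⟩ := exists_incl_eq S₀ n v hv
    exact ⟨z, hz⟩
  · rintro ⟨z, rfl⟩
    exact fpi_incl S₀ n z

lemma flat_finsupp {R : Type*} [CommRing R] (ι M : Type*) [AddCommGroup M] [Module R M]
    [Module.Flat R M] : Module.Flat R (ι →₀ M) := by
  classical
  exact Module.Flat.of_linearEquiv (finsuppLequivDFinsupp R)

instance [Module.Flat R P] (n : ℕ) : Module.Flat R (sc R S₀ n).X₂ :=
  (flat_finsupp _ _ : Module.Flat R (Zc S₀ n →₀ P))

lemma TD_mono {M : ModuleCat.{u} R} {n n' : ℕ} (h : TD n M) (hn : n ≤ n') : TD n' M :=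
  fun N p hp => h N p (lt_of_le_of_lt hn hp)

lemma TD_of_iso {M M' : ModuleCat.{u} R} (e : M ≅ M') {n : ℕ} (h : TD n M) : TD n M' :=
  fun N p hp => (h N p hp).of_iso ((((Tor (ModuleCat.{u} R) p).mapIso e).app N).symm)

lemma TD_Zc [Module.Flat R P] : ∀ (j d : ℕ), TD (d + j) (toR R (Zc S₀ 0)) → TD d (toR R (Zc S₀ j))
  | 0, d, h => h
  | (j + 1), d, h => by
    have h1 : TD (d + 1) (toR R (Zc S₀ j)) := TD_Zc j (d + 1) (by
      have : d + 1 + j = d + (j + 1) := by ring
      rw [this]; exact h)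
    exact (TD_succ_iff (sc R S₀ j) (sc_shortExact R S₀ j) d).1 h1

lemma flat_Zc [Module.Flat R P] {n₀ : ℕ} (h : TD n₀ (toR R (Zc S₀ 0))) (j : ℕ) (hj : n₀ ≤ j) :
    Module.Flat R (Zc S₀ j) := by
  have h1 : TD (0 + j) (toR R (Zc S₀ 0)) := TD_mono R h (by omega)
  exact flat_of_TD_zero _ (TD_Zc R S₀ j 0 h1)

/-- `(I P) F ⊆ I F` -/
lemma mem_smul_top_of_mem_map_smul_top (I : Ideal R) {F : Type*} [AddCommGroup F] [Module R F]
    [Module P F] [IsScalarTower R P F] {x : F}
    (hx : x ∈ I.map (algebraMap R P) • (⊤ : Submodule P F)) :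
    x ∈ I • (⊤ : Submodule R F) := by
  refine Submodule.smul_induction_on hx ?_ ?_
  · intro a ha m _
    have : ∀ m : F, a • m ∈ I • (⊤ : Submodule R F) := by
      refine Submodule.span_induction ?_ ?_ ?_ ?_ ha
      · rintro _ ⟨i, hi, rfl⟩ m
        rw [algebraMap_smul]
        exact Submodule.smul_mem_smul hi Submodule.mem_top
      · intro m
        rw [zero_smul]
        exact Submodule.zero_mem _
      · intro a b _ _ ha hb m
        rw [add_smul]
        exact Submodule.add_mem _ (ha m) (hb m)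
      · intro p a _ ha m
        rw [smul_eq_mul, mul_comm, mul_smul]
        exact ha _
    exact this m
  · intro x y hx hy
    exact Submodule.add_mem _ hx hy

/-- **The flat step**: if `Z_j` is `R`-flat, cycles mod `I` of degree `j+1` are boundaries mod `I`. -/
theorem flat_step (I : Ideal R) (j : ℕ) [Module.Flat R (Zc S₀ j)] (v : Fr S₀ (j + 1))
    (hv : dF S₀ j v ∈ I.map (algebraMap R P) • (⊤ : Submodule P (Fr S₀ j))) :
    ∃ u a, a ∈ I.map (algebraMap R P) • (⊤ : Submodule P (Fr S₀ (j + 1))) ∧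
      v = dF S₀ (j + 1) u + a := by
  have h1 : dF S₀ j v ∈ I • LinearMap.ker ((fpi S₀ j).restrictScalars R) :=
    mem_smul_ker_of_flat I ((fpi S₀ j).restrictScalars R) (fpi_surjective S₀ j)
      (mem_smul_top_of_mem_map_smul_top R I hv) (fpi_dF S₀ j v)
  have h2 : ∃ w ∈ I.map (algebraMap R P) • (⊤ : Submodule P (Fr S₀ (j + 1))),
      dF S₀ j v = dF S₀ j w := by
    refine Submodule.smul_induction_on h1 ?_ ?_
    · intro r hr n hn
      obtain ⟨u, rfl⟩ := exists_dF_eq_of_fpi S₀ j n hn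
      refine ⟨algebraMap R P r • u, Submodule.smul_mem_smul (Ideal.mem_map_of_mem _ hr)
        Submodule.mem_top, ?_⟩
      rw [map_smul, algebraMap_smul]
    · rintro x y ⟨w₁, hw₁, h₁⟩ ⟨w₂, hw₂, h₂⟩
      exact ⟨w₁ + w₂, Submodule.add_mem _ hw₁ hw₂, by rw [map_add, h₁, h₂]⟩
  obtain ⟨w, hw, hvw⟩ := h2
  obtain ⟨u, hu⟩ := exists_dF_eq S₀ j (v - w) (by rw [map_sub, hvw, sub_self])
  exact ⟨u, w, hw, by rw [hu]; abel⟩

end Groth.Agent.Lib.Helper91.AvramovFlat
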