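import Mathlib
import Groth.Agent.Lib.Helper91.AvramovFlat

/-!
# Quotients by regular sequences raise the tor dimension by at most the length
-/

universe u

open CategoryTheory CategoryTheory.Limits RingTheory.Sequence
open scoped Pointwise

namespace Groth.Agent.Lib.Helper91.AvramovKoszulTD

open Groth.Agent.Lib.Helper35.TA Groth.Agent.Lib.Helper91.AvramovFlat

variable {R : Type u} [CommRing R]

/-- two out of three for tor dimension -/
theorem TD_succ_of_shortExact (T : ShortComplex (ModuleCat.{u} R)) (hT : T.ShortExact) (d : ℕ)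
    (h1 : TD d T.X₁) (h2 : TD d T.X₂) : TD (d + 1) T.X₃ := by
  intro N p hp
  obtain ⟨n, rfl⟩ : ∃ n, p = n + 1 := ⟨p - 1, by omega⟩
  obtain ⟨-, δ, w₁, w₂, hex, -⟩ := Groth.Agent.Lib.Helper73.tor_les_first hT N n
  exact hex.isZero_of_both_zeros ((h2 N (n + 1) (by omega)).eq_of_src _ _)
    ((h1 N n (by omega)).eq_of_tgt _ _)

variable {B : Type u} [CommRing B] [Algebra R B]

variable (R)

/-- the short exact sequence `0 → M → M → M/xM → 0` over `R` -/
noncomputable def smulSC (M : Type u) [AddCommGroup M] [Module R M] [Module B M]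
    [IsScalarTower R B M] (x : B) : ShortComplex (ModuleCat.{u} R) :=
  ShortComplex.mk (X₁ := ModuleCat.of R M) (X₂ := ModuleCat.of R M)
    (X₃ := ModuleCat.of R (QuotSMulTop x M))
    (ModuleCat.ofHom ((LinearMap.lsmul B M x).restrictScalars R))
    (ModuleCat.ofHom ((Submodule.mkQ (x • (⊤ : Submodule B M))).restrictScalars R))
    (by
      ext m
      show Submodule.mkQ (x • (⊤ : Submodule B M)) (x • m) = 0
      rw [Submodule.mkQ_apply, Submodule.Quotient.mk_eq_zero]
      exact Submodule.smul_mem_pointwise_smul m x ⊤ Submodule.mem_top)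

lemma smulSC_shortExact (M : Type u) [AddCommGroup M] [Module R M] [Module B M]
    [IsScalarTower R B M] (x : B) (hx : IsSMulRegular M x) : (smulSC R M x).ShortExact := by
  have hinj : Function.Injective (smulSC R M x).f := by
    intro a b hab
    exact hx hab
  have hsurj : Function.Surjective (smulSC R M x).g := by
    intro q
    obtain ⟨m, rfl⟩ := Submodule.mkQ_surjective (x • (⊤ : Submodule B M)) q
    exact ⟨m, rfl⟩
  have hker : ∀ m : (smulSC R M x).X₂, (smulSC R M x).g m = 0 ↔
      ∃ m' : (smulSC R M x).X₁, (smulSC R M x).f m' = m := by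
    intro m
    constructor
    · intro hm
      have hm' : Submodule.mkQ (x • (⊤ : Submodule B M)) (show M from m) = 0 := hm
      rw [Submodule.mkQ_apply, Submodule.Quotient.mk_eq_zero,
        Submodule.mem_smul_pointwise_iff_exists] at hm'
      obtain ⟨m', -, hm'⟩ := hm'
      exact ⟨m', hm'⟩
    · rintro ⟨m', rfl⟩
      show Submodule.mkQ (x • (⊤ : Submodule B M)) (x • (show M from m')) = 0
      rw [Submodule.mkQ_apply, Submodule.Quotient.mk_eq_zero]
      exact Submodule.smul_mem_pointwise_smul _ x ⊤ Submodule.mem_top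
  exact ModuleCat.shortComplex_shortExact _ hker hinj hsurj

/-- **Koszul-type bound**: quotienting by a weakly regular sequence of length `n` raises the tor
dimension over `R` by at most `n`. -/
theorem TD_quot_of_isWeaklyRegular : ∀ (xs : List B) (M : Type u) [AddCommGroup M] [Module R M]
    [Module B M] [IsScalarTower R B M] (d : ℕ), IsWeaklyRegular M xs → TD d (ModuleCat.of R M) →
    TD (d + xs.length) (ModuleCat.of R (M ⧸ (Ideal.ofList xs • ⊤ : Submodule B M)))
  | [], M, _, _, _, _, d, _, h => by
    have hbot : (Ideal.ofList ([] : List B) • ⊤ : Submodule B M) = ⊥ := by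
      rw [Ideal.ofList_nil, Submodule.bot_smul]
    let e : M ≃ₗ[R] (M ⧸ (Ideal.ofList ([] : List B) • ⊤ : Submodule B M)) :=
      ((Submodule.quotEquivOfEqBot _ hbot).restrictScalars R).symm
    exact TD_of_iso R e.toModuleIso h
  | (x :: xs), M, _, _, _, _, d, hreg, h => by
    rw [isWeaklyRegular_cons_iff] at hreg
    have h1 : TD (d + 1) (ModuleCat.of R (QuotSMulTop x M)) :=
      TD_succ_of_shortExact (smulSC R M x) (smulSC_shortExact R M x hreg.1) d h h
    have h2 := TD_quot_of_isWeaklyRegular xs (QuotSMulTop x M) (d + 1) hreg.2 h1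
    let e : (QuotSMulTop x M ⧸ (Ideal.ofList xs • ⊤ : Submodule B (QuotSMulTop x M))) ≃ₗ[R]
        (M ⧸ (Ideal.ofList (x :: xs) • ⊤ : Submodule B M)) :=
      ((Submodule.quotOfListConsSMulTopEquivQuotSMulTopInner M x xs).restrictScalars R).symm
    have h3 := TD_of_iso R e.toModuleIso h2
    have : d + (x :: xs).length = d + 1 + xs.length := by
      rw [List.length_cons]; ring
    rw [this]
    exact h3

end Groth.Agent.Lib.Helper91.AvramovKoszulTD
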