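import Mathlib

/-!
# Exterior algebra: `ℤ`-indexed degrees, contraction and multiplication by a vector
-/

open ExteriorAlgebra CliffordAlgebra

namespace Groth.Agent.Lib.Helper91.TateLam

variable {A : Type*} [CommRing A] {M : Type*} [AddCommGroup M] [Module A M]

/-- `ℤ`-indexed exterior powers (zero in negative degrees) -/
noncomputable def LamZ (A : Type*) [CommRing A] (M : Type*) [AddCommGroup M] [Module A M] (p : ℤ) :
    Submodule A (ExteriorAlgebra A M) :=
  if 0 ≤ p then ⋀[A]^p.toNat M else ⊥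

lemma LamZ_of_nonneg {p : ℤ} (hp : 0 ≤ p) : LamZ A M p = ⋀[A]^p.toNat M := if_pos hp

lemma LamZ_of_neg {p : ℤ} (hp : p < 0) : LamZ A M p = ⊥ := if_neg (not_le.mpr hp)

lemma LamZ_natCast (n : ℕ) : LamZ A M (n : ℤ) = ⋀[A]^n M := by
  rw [LamZ_of_nonneg (Int.natCast_nonneg n), Int.toNat_natCast]

lemma one_mem_LamZ_zero : (1 : ExteriorAlgebra A M) ∈ LamZ A M 0 := by
  have : LamZ A M 0 = ⋀[A]^0 M := LamZ_natCast 0
  rw [this, exteriorPower, pow_zero]
  exact Submodule.one_le.mp le_rfl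

lemma ι_mul_mem (v : M) {p : ℤ} {x : ExteriorAlgebra A M} (hx : x ∈ LamZ A M p) :
    ι A v * x ∈ LamZ A M (p + 1) := by
  by_cases hp : 0 ≤ p
  · obtain ⟨n, rfl⟩ := Int.eq_ofNat_of_zero_le hp
    rw [LamZ_natCast] at hx
    have : ((n : ℤ) + 1) = ((n + 1 : ℕ) : ℤ) := by push_cast; rfl
    rw [this, LamZ_natCast, exteriorPower, pow_succ']
    exact Submodule.mul_mem_mul ⟨v, rfl⟩ hx
  · rw [LamZ_of_neg (not_le.mp hp), Submodule.mem_bot] at hx
    rw [hx, mul_zero]
    exact Submodule.zero_mem _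

lemma contract_mem_nat (d : Module.Dual A M) : ∀ (n : ℕ) (x : ExteriorAlgebra A M),
    x ∈ ⋀[A]^n M → contractLeft d x ∈ LamZ A M ((n : ℤ) - 1) := by
  intro n
  induction n with
  | zero =>
    intro x hx
    rw [exteriorPower, pow_zero, Submodule.mem_one] at hx
    obtain ⟨a, rfl⟩ := hx
    rw [contractLeft_algebraMap]
    exact Submodule.zero_mem _
  | succ n ih =>
    intro x hx
    rw [exteriorPower, pow_succ'] at hx
    refine Submodule.mul_induction_on hx ?_ ?_
    · rintro _ ⟨v, rfl⟩ y hy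
      rw [contractLeft_ι_mul]
      have h1 : ((n + 1 : ℕ) : ℤ) - 1 = (n : ℤ) := by push_cast; ring
      rw [h1]
      refine Submodule.sub_mem _ ?_ ?_
      · rw [LamZ_natCast]
        exact Submodule.smul_mem _ _ hy
      · have := ι_mul_mem v (ih y hy)
        rwa [sub_add_cancel] at this
    · intro y z hy hz
      rw [map_add]
      exact Submodule.add_mem _ hy hz

lemma contract_mem (d : Module.Dual A M) {p : ℤ} {x : ExteriorAlgebra A M}
    (hx : x ∈ LamZ A M p) : contractLeft d x ∈ LamZ A M (p - 1) := by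
  by_cases hp : 0 ≤ p
  · obtain ⟨n, rfl⟩ := Int.eq_ofNat_of_zero_le hp
    rw [LamZ_natCast] at hx
    exact contract_mem_nat d n x hx
  · rw [LamZ_of_neg (not_le.mp hp), Submodule.mem_bot] at hx
    rw [hx, map_zero]
    exact Submodule.zero_mem _

/-- the projection onto `LamZ p` -/
noncomputable def projZ (A : Type*) [CommRing A] (M : Type*) [AddCommGroup M] [Module A M]
    (p : ℤ) : ExteriorAlgebra A M →ₗ[A] ExteriorAlgebra A M :=
  if 0 ≤ p then GradedAlgebra.proj (fun i : ℕ ↦ ⋀[A]^i M) p.toNat else 0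

lemma projZ_mem (p : ℤ) (x : ExteriorAlgebra A M) : projZ A M p x ∈ LamZ A M p := by
  by_cases hp : 0 ≤ p
  · rw [projZ, if_pos hp, LamZ_of_nonneg hp, GradedAlgebra.proj_apply]
    exact SetLike.coe_mem _
  · rw [projZ, if_neg hp, LinearMap.zero_apply]
    exact Submodule.zero_mem _

lemma projZ_of_mem {p : ℤ} {x : ExteriorAlgebra A M} (hx : x ∈ LamZ A M p) :
    projZ A M p x = x := by
  by_cases hp : 0 ≤ p
  · rw [LamZ_of_nonneg hp] at hx
    rw [projZ, if_pos hp, GradedAlgebra.proj_apply]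
    exact DirectSum.decompose_of_mem_same _ hx
  · rw [LamZ_of_neg (not_le.mp hp), Submodule.mem_bot] at hx
    rw [hx, map_zero]

end Groth.Agent.Lib.Helper91.TateLam
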