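import Mathlib
import Groth.Agent.Lib.Helper91.TateLam

/-!
# The complex `Koszul⟨T⟩`: exterior algebra with a divided power variable of degree 2

`Etot = ⊕_l Λ · T^[l]`, `D (ω T^[l]) = (d⌋ω) T^[l] + (ι r * ω) T^[l-1]`; `D² = d(r) • shift`.
-/

open ExteriorAlgebra CliffordAlgebra

namespace Groth.Agent.Lib.Helper91.TateE

open Groth.Agent.Lib.Helper91.TateLam

variable {A : Type*} [CommRing A] {M : Type*} [AddCommGroup M] [Module A M]
  (d : Module.Dual A M) (r : M)

/-- the total module -/
abbrev Etot (A : Type*) [CommRing A] (M : Type*) [AddCommGroup M] [Module A M] : Type _ :=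
  ℕ →₀ ExteriorAlgebra A M

/-- lowering the divided power -/
noncomputable def shift : Etot A M →ₗ[A] Etot A M :=
  Finsupp.lsum A (fun l : ℕ => if l = 0 then 0 else Finsupp.lsingle (l - 1))

lemma shift_single_zero (ω : ExteriorAlgebra A M) : shift (Finsupp.single 0 ω) = 0 := by
  simp [shift]

lemma shift_single_succ (l : ℕ) (ω : ExteriorAlgebra A M) :
    shift (Finsupp.single (l + 1) ω) = Finsupp.single l ω := by
  simp [shift]

lemma shift_apply (x : Etot A M) (l : ℕ) : shift x l = x (l + 1) := by
  induction x using Finsupp.induction_linear with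
  | zero => simp
  | add x y hx hy => rw [map_add, Finsupp.add_apply, Finsupp.add_apply, hx, hy]
  | single l' ω =>
    cases l' with
    | zero => rw [shift_single_zero]; simp
    | succ l' =>
      rw [shift_single_succ]
      by_cases h : l' = l
      · subst h; simp
      · rw [Finsupp.single_eq_of_ne (Ne.symm h), Finsupp.single_eq_of_ne]
        omega

/-- the differential -/
noncomputable def D : Etot A M →ₗ[A] Etot A M :=
  Finsupp.mapRange.linearMap (contractLeft d) +
    shift ∘ₗ Finsupp.mapRange.linearMap (LinearMap.mulLeft A (ι A r))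

lemma D_apply (x : Etot A M) (l : ℕ) :
    D d r x l = contractLeft d (x l) + ι A r * x (l + 1) := by
  simp [D, shift_apply]

lemma D_single_zero (ω : ExteriorAlgebra A M) :
    D d r (Finsupp.single 0 ω) = Finsupp.single 0 (contractLeft d ω) := by
  simp only [D, LinearMap.add_apply, LinearMap.comp_apply, Finsupp.mapRange.linearMap_apply,
    Finsupp.mapRange_single, shift_single_zero, add_zero]

lemma D_single_succ (l : ℕ) (ω : ExteriorAlgebra A M) :
    D d r (Finsupp.single (l + 1) ω) =
      Finsupp.single (l + 1) (contractLeft d ω) + Finsupp.single l (ι A r * ω) := by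
  simp only [D, LinearMap.add_apply, LinearMap.comp_apply, Finsupp.mapRange.linearMap_apply,
    Finsupp.mapRange_single, shift_single_succ, LinearMap.mulLeft_apply]

theorem D_D (x : Etot A M) : D d r (D d r x) = d r • shift x := by
  ext l
  rw [D_apply, D_apply, D_apply, Finsupp.smul_apply, shift_apply, map_add, contractLeft_contractLeft,
    zero_add, contractLeft_ι_mul, mul_add, ← mul_assoc (ι A r) (ι A r), ι_sq_zero, zero_mul,
    add_zero]
  abel

/-- the degree `n` part -/
noncomputable def Edeg (A : Type*) [CommRing A] (M : Type*) [AddCommGroup M] [Module A M]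
    (n : ℕ) : Submodule A (Etot A M) where
  carrier := {x | ∀ l : ℕ, x l ∈ LamZ A M ((n : ℤ) - 2 * l)}
  add_mem' hx hy l := Submodule.add_mem _ (hx l) (hy l)
  zero_mem' l := Submodule.zero_mem _
  smul_mem' a x hx l := Submodule.smul_mem _ a (hx l)

lemma mem_Edeg {n : ℕ} {x : Etot A M} :
    x ∈ Edeg A M n ↔ ∀ l : ℕ, x l ∈ LamZ A M ((n : ℤ) - 2 * l) := Iff.rfl

lemma D_mem {n : ℕ} {x : Etot A M} (hx : x ∈ Edeg A M (n + 1)) : D d r x ∈ Edeg A M n := by
  intro l
  rw [D_apply]
  refine Submodule.add_mem _ ?_ ?_
  · have := contract_mem d (hx l)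
    convert this using 2
    push_cast
    ring
  · have := ι_mul_mem r (hx (l + 1))
    convert this using 2
    push_cast
    ring

lemma shift_mem {n : ℕ} {x : Etot A M} (hx : x ∈ Edeg A M (n + 2)) : shift x ∈ Edeg A M n := by
  intro l
  rw [shift_apply]
  have := hx (l + 1)
  convert this using 2
  push_cast
  ring

lemma single_mem {n l : ℕ} {ω : ExteriorAlgebra A M} (hω : ω ∈ LamZ A M ((n : ℤ) - 2 * l)) :
    Finsupp.single l ω ∈ Edeg A M n := by
  intro l'
  by_cases h : l = l'
  · subst h
    rwa [Finsupp.single_eq_same]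
  · rw [Finsupp.single_eq_of_ne (Ne.symm h)]
    exact Submodule.zero_mem _

/-- `T^[k]` -/
noncomputable def Tpow (A : Type*) [CommRing A] (M : Type*) [AddCommGroup M] [Module A M]
    (k : ℕ) : Etot A M := Finsupp.single k 1

lemma Tpow_mem (k : ℕ) : Tpow A M k ∈ Edeg A M (2 * k) := by
  apply single_mem
  have : ((2 * k : ℕ) : ℤ) - 2 * k = 0 := by push_cast; ring
  rw [this]
  exact one_mem_LamZ_zero

lemma D_Tpow_succ (k : ℕ) :
    D d r (Tpow A M (k + 1)) = Finsupp.single k (ι A r) := by
  rw [Tpow, D_single_succ, contractLeft_one, Finsupp.single_zero, zero_add, mul_one]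

lemma D_Tpow_zero : D d r (Tpow A M 0) = 0 := by
  rw [Tpow, D_single_zero, contractLeft_one, Finsupp.single_zero]

lemma shift_Tpow_succ (k : ℕ) : shift (Tpow A M (k + 1)) = Tpow A M k :=
  shift_single_succ k 1

/-- the projection onto the degree `n` part -/
noncomputable def projE (A : Type*) [CommRing A] (M : Type*) [AddCommGroup M] [Module A M]
    (n : ℕ) : Etot A M →ₗ[A] Etot A M :=
  Finsupp.lsum A (fun l : ℕ => Finsupp.lsingle l ∘ₗ projZ A M ((n : ℤ) - 2 * l))

lemma projE_apply (n : ℕ) (x : Etot A M) (l : ℕ) :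
    projE A M n x l = projZ A M ((n : ℤ) - 2 * l) (x l) := by
  induction x using Finsupp.induction_linear with
  | zero => simp
  | add x y hx hy => rw [map_add, Finsupp.add_apply, Finsupp.add_apply, hx, hy, map_add]
  | single l' ω =>
    rw [projE, Finsupp.lsum_single, LinearMap.comp_apply, Finsupp.lsingle_apply]
    by_cases h : l' = l
    · subst h
      rw [Finsupp.single_eq_same, Finsupp.single_eq_same]
    · rw [Finsupp.single_eq_of_ne (Ne.symm h), Finsupp.single_eq_of_ne (Ne.symm h), map_zero]

lemma projE_mem (n : ℕ) (x : Etot A M) : projE A M n x ∈ Edeg A M n := by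
  intro l
  rw [projE_apply]
  exact projZ_mem _ _

lemma projE_of_mem {n : ℕ} {x : Etot A M} (hx : x ∈ Edeg A M n) : projE A M n x = x := by
  ext l
  rw [projE_apply, projZ_of_mem (hx l)]

instance projective_Edeg [Module.Free A (ExteriorAlgebra A M)] (n : ℕ) :
    Module.Projective A (Edeg A M n) :=
  Module.Projective.of_split (Edeg A M n).subtype
    ((projE A M n).codRestrict (Edeg A M n) (projE_mem n)) (by
      ext x : 1
      apply Subtype.ext
      simp only [LinearMap.comp_apply, Submodule.subtype_apply, LinearMap.codRestrict_apply,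
        LinearMap.id_apply]
      exact projE_of_mem x.2)

end Groth.Agent.Lib.Helper91.TateE
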