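import Mathlib
import Groth.Agent.Lib.Helper91.AvramovRes
import Groth.Agent.Lib.Helper91.TateE

/-!
# Approximate comparison maps `Koszul⟨T⟩ → G` into the lifted canonical resolution
-/

universe u v

namespace Groth.Agent.Lib.Helper91.AvramovComp

open Groth.Agent.Lib.Helper91.AvramovCore Groth.Agent.Lib.Helper91.AvramovRes
  Groth.Agent.Lib.Helper91.TateE

/-- lifting property of projective modules against semilinear surjections -/
lemma exists_semilinear_lift {A' A : Type*} [CommRing A'] [CommRing A] (σ : A' →+* A)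
    {E G Z : Type*} [AddCommGroup E] [Module A' E] [Module.Projective A' E]
    [AddCommGroup G] [Module A' G] [AddCommGroup Z] [Module A Z]
    (ρ : G →ₛₗ[σ] Z) (hρ : Function.Surjective ρ) (ψ : E →ₛₗ[σ] Z) :
    ∃ h : E →ₗ[A'] G, ∀ x, ρ (h x) = ψ x := by
  let _ : Module A' Z := Module.compHom Z σ
  let ρ' : G →ₗ[A'] Z :=
    { toFun := ρ
      map_add' := map_add ρ
      map_smul' := fun a x => by rw [ρ.map_smulₛₗ]; rfl }
  let ψ' : E →ₗ[A'] Z :=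
    { toFun := ψ
      map_add' := map_add ψ
      map_smul' := fun a x => by rw [ψ.map_smulₛₗ]; rfl }
  obtain ⟨h, hh⟩ := Module.projective_lifting_property ρ' ψ' hρ
  exact ⟨h, fun x => LinearMap.congr_fun hh x⟩

variable {P' P : Type u} [CommRing P'] [CommRing P] (σ : P' →+* P)
  (hσ : Function.Surjective σ)
  {M' : Type v} [AddCommGroup M'] [Module P' M'] [Module.Free P' (ExteriorAlgebra P' M')]
  (d' : Module.Dual P' M') (r' : M') (S₀ : ModuleCat.{u} P)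

/-- the surjection `G_n → Z_n` -/
noncomputable def piG (n : ℕ) : Gr S₀ P' n →ₛₗ[σ] Zc S₀ n :=
  (fpi S₀ n).comp (red S₀ σ n)

lemma piG_apply (n : ℕ) (v : Gr S₀ P' n) : piG σ S₀ n v = fpi S₀ n (red S₀ σ n v) := rfl

include hσ in
lemma piG_surjective (n : ℕ) : Function.Surjective (piG σ S₀ n) :=
  (fpi_surjective S₀ n).comp (red_surjective S₀ hσ n)

/-- a chosen lift of a semilinear map to `Z_n` -/
noncomputable def liftG (n : ℕ) (ψ : Etot P' M' →ₛₗ[σ] Zc S₀ n) : Etot P' M' →ₗ[P'] Gr S₀ P' n :=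
  (exists_semilinear_lift σ (piG σ S₀ n) (piG_surjective σ hσ S₀ n) ψ).choose

lemma liftG_spec (n : ℕ) (ψ : Etot P' M' →ₛₗ[σ] Zc S₀ n) (x : Etot P' M') :
    fpi S₀ n (red S₀ σ n (liftG σ hσ S₀ n ψ x)) = ψ x :=
  (exists_semilinear_lift σ (piG σ S₀ n) (piG_surjective σ hσ S₀ n) ψ).choose_spec x

/-- the stages of the recursion -/
def Stage (n : ℕ) : Type _ :=
  {ψ : Etot P' M' →ₛₗ[σ] Zc S₀ n // ∀ x ∈ Edeg P' M' (n + 1), ψ (D d' r' x) = 0}

variable (hDD : σ (d' r') = 0)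

/-- the auxiliary map `x ↦ red (lift ψ (D (proj x)))` -/
noncomputable def stepAux (n : ℕ) (ψ : Etot P' M' →ₛₗ[σ] Zc S₀ n) :
    Etot P' M' →ₛₗ[σ] Fr S₀ n :=
  (red S₀ σ n).comp (liftG σ hσ S₀ n ψ ∘ₗ D d' r' ∘ₗ projE P' M' (n + 1))

lemma stepAux_apply (n : ℕ) (ψ : Etot P' M' →ₛₗ[σ] Zc S₀ n) (x : Etot P' M') :
    stepAux σ hσ d' r' S₀ n ψ x =
      red S₀ σ n (liftG σ hσ S₀ n ψ (D d' r' (projE P' M' (n + 1) x))) := rfl

/-- the step of the recursion -/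
noncomputable def step (n : ℕ) (ψ : Stage σ d' r' S₀ n) : Stage σ d' r' S₀ (n + 1) :=
  ⟨show Etot P' M' →ₛₗ[σ] ↥(LinearMap.ker (fpiOf (Zc S₀ n))) from
    LinearMap.codRestrict _ (stepAux σ hσ d' r' S₀ n ψ.1) (fun x => by
      rw [LinearMap.mem_ker, stepAux_apply]
      exact (liftG_spec σ hσ S₀ n ψ.1 _).trans (ψ.2 _ (projE_mem _ _))), by
    intro x hx
    apply incl_injective S₀ n
    rw [map_zero]
    show stepAux σ hσ d' r' S₀ n ψ.1 (D d' r' x) = 0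
    rw [stepAux_apply, projE_of_mem (D_mem d' r' hx), D_D, map_smul, LinearMap.map_smulₛₗ, hDD,
      zero_smul]⟩

lemma incl_step (n : ℕ) (ψ : Stage σ d' r' S₀ n) (x : Etot P' M') :
    incl S₀ n ((step σ hσ d' r' S₀ hDD n ψ).1 x) = stepAux σ hσ d' r' S₀ n ψ.1 x := rfl

/-- the recursion -/
noncomputable def stage (ψ0 : Stage σ d' r' S₀ 0) : (n : ℕ) → Stage σ d' r' S₀ n
  | 0 => ψ0
  | (n + 1) => step σ hσ d' r' S₀ hDD n (stage ψ0 n)

/-- the approximate comparison maps -/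
noncomputable def phi (ψ0 : Stage σ d' r' S₀ 0) (n : ℕ) : Etot P' M' →ₗ[P'] Gr S₀ P' n :=
  liftG σ hσ S₀ n (stage σ hσ d' r' S₀ hDD ψ0 n).1

lemma fpi_red_phi_zero (ψ0 : Stage σ d' r' S₀ 0) (x : Etot P' M') :
    fpi S₀ 0 (red S₀ σ 0 (phi σ hσ d' r' S₀ hDD ψ0 0 x)) = ψ0.1 x :=
  liftG_spec σ hσ S₀ 0 _ x

lemma red_dG_phi (ψ0 : Stage σ d' r' S₀ 0) (n : ℕ) (x : Etot P' M')
    (hx : x ∈ Edeg P' M' (n + 1)) :
    red S₀ σ n (dG S₀ σ hσ n (phi σ hσ d' r' S₀ hDD ψ0 (n + 1) x)) =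
      red S₀ σ n (phi σ hσ d' r' S₀ hDD ψ0 n (D d' r' x)) := by
  rw [red_dG, dF_apply, phi, liftG_spec]
  show incl S₀ n ((step σ hσ d' r' S₀ hDD n (stage σ hσ d' r' S₀ hDD ψ0 n)).1 x) = _
  rw [incl_step, stepAux_apply, projE_of_mem hx]
  rfl

end Groth.Agent.Lib.Helper91.AvramovComp
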