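import Mathlib
import Groth.Agent.Lib.Helper91.AvramovComp
import Groth.Agent.Lib.Helper91.AvramovFlat

/-!
# The abstract main theorem of the Avramov-type argument (Stacks 09PY)
-/

universe u v

open ExteriorAlgebra

namespace Groth.Agent.Lib.Helper91.AvramovMain

open Groth.Agent.Lib.Helper91.AvramovCore Groth.Agent.Lib.Helper91.AvramovRes
  Groth.Agent.Lib.Helper91.TateE Groth.Agent.Lib.Helper91.TateLam
  Groth.Agent.Lib.Helper91.AvramovComp Groth.Agent.Lib.Helper91.AvramovFlat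
  Groth.Agent.Lib.Helper35.TA

section aux

variable {A : Type*} [CommRing A] {M : Type*} [AddCommGroup M] [Module A M]

lemma ι_mem_LamZ_one (m : M) : ι A m ∈ LamZ A M 1 := by
  have := ι_mul_mem m (one_mem_LamZ_zero (A := A) (M := M))
  rwa [mul_one, zero_add] at this

lemma single_ι_mem (j : ℕ) (m : M) : Finsupp.single j (ι A m) ∈ Edeg A M (2 * j + 1) := by
  apply single_mem
  have : ((2 * j + 1 : ℕ) : ℤ) - 2 * (j : ℤ) = 1 := by push_cast; ring
  rw [this]
  exact ι_mem_LamZ_one m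

lemma single_ι_mem_smul (𝔞 : Ideal A) (j : ℕ) {r : M} (hr : r ∈ 𝔞 • (⊤ : Submodule A M)) :
    Finsupp.single j (ι A r) ∈ 𝔞 • Edeg A M (2 * j + 1) := by
  refine Submodule.smul_induction_on hr ?_ ?_
  · intro a ha m _
    rw [map_smul, ← Finsupp.smul_single]
    exact Submodule.smul_mem_smul ha (single_ι_mem j m)
  · intro x y hx hy
    rw [map_add, Finsupp.single_add]
    exact Submodule.add_mem _ hx hy

end aux

variable (R : Type u) [CommRing R] {P' P : Type u} [CommRing P'] [CommRing P] [Algebra R P]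
  [Module.Flat R P] (σ : P' →+* P) (hσ : Function.Surjective σ)
  (c : P') (hker : RingHom.ker σ = Ideal.span {c}) (hcc : c * c = 0)
  (I : Ideal R) (hI : annJ σ c = I.map (algebraMap R P))
  {M' : Type v} [AddCommGroup M'] [Module P' M'] [Module.Free P' (ExteriorAlgebra P' M')]
  (d' : Module.Dual P' M') (r' : M') (g : P') (hdr : d' r' = c * g)
  (hr' : r' ∈ annI c • (⊤ : Submodule P' M'))
  (S₀ : ModuleCat.{u} P) (ψ0 : Stage σ d' r' S₀ 0)

include hker in
lemma sigma_c : σ c = 0 := by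
  have : c ∈ RingHom.ker σ := by rw [hker]; exact Ideal.mem_span_singleton_self c
  exact this

include hker hdr in
lemma hDD : σ (d' r') = 0 := by
  rw [hdr, map_mul, sigma_c σ c hker, zero_mul]

attribute [local instance] modR

include hI hker hcc hdr hr' in
theorem iter (k n₀ : ℕ) (hk : k = n₀ + 1) (hTD : TD n₀ (toR R (Zc S₀ 0))) :
    ∀ (a j n : ℕ), j + a = k → n = 2 * j →
      ∃ u a', a' ∈ annJ σ c • (⊤ : Submodule P (Fr S₀ n)) ∧
        red S₀ σ n (phi σ hσ d' r' S₀ (hDD σ c hker d' r' g hdr) ψ0 n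
          (g ^ a • Tpow P' M' j)) = dF S₀ n u + a' := by
  intro a
  induction a with
  | zero =>
    intro j n hj hn
    obtain rfl : j = k := by omega
    obtain rfl : n = (2 * n₀ + 1) + 1 := by omega
    have hflat : Module.Flat R (Zc S₀ (2 * n₀ + 1)) := flat_Zc R S₀ hTD _ (by omega)
    rw [pow_zero, one_smul]
    have hmem : Tpow P' M' j ∈ Edeg P' M' (2 * n₀ + 1 + 1) := by
      have := Tpow_mem (A := P') (M := M') j
      have h2 : 2 * j = 2 * n₀ + 1 + 1 := by omega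
      rwa [h2] at this
    have h1 := red_dG_phi σ hσ d' r' S₀ (hDD σ c hker d' r' g hdr) ψ0 (2 * n₀ + 1) _ hmem
    rw [red_dG] at h1
    obtain ⟨u, a', ha', h⟩ := flat_step R S₀ I (2 * n₀ + 1) _ (by
      rw [h1, ← hI]
      obtain ⟨j', rfl⟩ : ∃ j', j = j' + 1 := ⟨n₀, by omega⟩
      rw [D_Tpow_succ]
      have h3 := single_ι_mem_smul (annI c) j' hr'
      have h4 : Finsupp.single j' (ι P' r') ∈ annI c • (⊤ : Submodule P' (Etot P' M')) :=
        Submodule.smul_mono le_rfl le_top h3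
      exact map_mem_annJ_smul
        ((red S₀ σ (2 * n₀ + 1)).comp (phi σ hσ d' r' S₀ (hDD σ c hker d' r' g hdr) ψ0
          (2 * n₀ + 1))) h4)
    exact ⟨u, a', hI ▸ ha', h⟩
  | succ a ih =>
    intro j n hj hn
    have hstart := ih (j + 1) (n + 1 + 1) (by omega) (by omega)
    have hx : g ^ a • Tpow P' M' (j + 1) ∈ Edeg P' M' (n + 1 + 1) := by
      have := Tpow_mem (A := P') (M := M') (j + 1)
      have h2 : 2 * (j + 1) = n + 1 + 1 := by omega
      rw [h2] at this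
      exact Submodule.smul_mem _ _ this
    have hDx : D d' r' (g ^ a • Tpow P' M' (j + 1)) ∈ annI c • Edeg P' M' (n + 1) := by
      rw [map_smul, D_Tpow_succ]
      refine Submodule.smul_mem _ _ ?_
      have h3 := single_ι_mem_smul (annI c) j hr'
      rwa [← hn] at h3
    have hDDx : D d' r' (D d' r' (g ^ a • Tpow P' M' (j + 1))) = c • (g ^ (a + 1) • Tpow P' M' j) := by
      rw [D_D, map_smul, shift_Tpow_succ, hdr, smul_smul, smul_smul]
      congr 1
      ring
    exact core_step (σ := σ) (c := c) hσ hcc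
      (dF S₀ (n + 1 + 1)) (dF S₀ (n + 1)) (dF S₀ n)
      (dG S₀ σ hσ (n + 1 + 1)) (dG S₀ σ hσ (n + 1)) (dG S₀ σ hσ n)
      (red S₀ σ (n + 1 + 1 + 1)) (red S₀ σ (n + 1 + 1)) (red S₀ σ (n + 1)) (red S₀ σ n)
      (dF_dF S₀ (n + 1)) (dF_dF S₀ n)
      (red_dG S₀ σ hσ (n + 1 + 1)) (red_dG S₀ σ hσ (n + 1)) (red_dG S₀ σ hσ n)
      (red_surjective S₀ hσ _) (red_surjective S₀ hσ _)
      (exists_eq_smul_of_red S₀ hker _) (exists_eq_smul_of_red S₀ hker _)
      (exists_eq_smul_of_red S₀ hker _)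
      (red_mem_of_smul_eq_zero S₀ n)
      (D d' r') (Edeg P' M' (n + 1 + 1)) (Edeg P' M' (n + 1))
      (phi σ hσ d' r' S₀ (hDD σ c hker d' r' g hdr) ψ0 (n + 1 + 1))
      (phi σ hσ d' r' S₀ (hDD σ c hker d' r' g hdr) ψ0 (n + 1))
      (phi σ hσ d' r' S₀ (hDD σ c hker d' r' g hdr) ψ0 n)
      (fun x hx => red_dG_phi σ hσ d' r' S₀ _ ψ0 (n + 1) x hx)
      (fun x hx => red_dG_phi σ hσ d' r' S₀ _ ψ0 n x hx)
      _ _ hx hDx hDDx hstart

include hI hker hcc hdr hr' hσ in
/-- **Main theorem**: finite tor dimension forces a power of `g` into `Ann(c) S₀` after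
augmentation. -/
theorem main (n₀ : ℕ) (hTD : TD n₀ (toR R (Zc S₀ 0))) :
    ∃ k : ℕ, ψ0.1 (g ^ k • Tpow P' M' 0) ∈ annJ σ c • (⊤ : Submodule P (Zc S₀ 0)) := by
  refine ⟨n₀ + 1, ?_⟩
  obtain ⟨u, a', ha', h⟩ := iter R σ hσ c hker hcc I hI d' r' g hdr hr' S₀ ψ0 (n₀ + 1) n₀ rfl hTD
    (n₀ + 1) 0 0 (by omega) (by omega)
  have h2 := congrArg (fpi S₀ 0) h
  rw [fpi_red_phi_zero, map_add, fpi_dF] at h2
  rw [h2, zero_add]
  refine Submodule.smul_induction_on ha' ?_ ?_
  · intro p hp v _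
    rw [map_smul]
    exact Submodule.smul_mem_smul hp Submodule.mem_top
  · intro x y hx hy
    rw [map_add]
    exact Submodule.add_mem _ hx hy

end Groth.Agent.Lib.Helper91.AvramovMain
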