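import Mathlib
import Groth.Agent.Lib.Helper91.AvramovMain

/-!
# The main theorem with an augmentation `q : P → S₀`
-/

universe u v

open ExteriorAlgebra CliffordAlgebra

namespace Groth.Agent.Lib.Helper91.AvramovAug

open Groth.Agent.Lib.Helper91.AvramovCore Groth.Agent.Lib.Helper91.AvramovRes
  Groth.Agent.Lib.Helper91.TateE Groth.Agent.Lib.Helper91.TateLam
  Groth.Agent.Lib.Helper91.AvramovComp Groth.Agent.Lib.Helper91.AvramovFlat
  Groth.Agent.Lib.Helper91.AvramovMain Groth.Agent.Lib.Helper35.TA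

section general

variable {A : Type*} [CommRing A] {M : Type*} [AddCommGroup M] [Module A M]
  (d : Module.Dual A M) (r : M)

/-- the degree zero component of `D x` for `x` of degree one -/
lemma algebraMapInv_D_zero {x : Etot A M} (hx : x ∈ Edeg A M 1) :
    ∃ m : M, algebraMapInv (D d r x 0) = d m := by
  have h0 : x 0 ∈ LamZ A M 1 := by
    have := hx 0
    simpa using this
  have h1 : x 1 = 0 := by
    have := hx 1
    rw [LamZ_of_neg (by norm_num)] at this
    simpa using this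
  have h2 : LamZ A M 1 = LinearMap.range (ι A : M →ₗ[A] ExteriorAlgebra A M) := by
    have := LamZ_natCast (A := A) (M := M) 1
    rw [Nat.cast_one] at this
    rw [this, exteriorPower, pow_one]
  rw [h2] at h0
  obtain ⟨m, hm⟩ := h0
  refine ⟨m, ?_⟩
  rw [D_apply, h1, mul_zero, add_zero, ← hm, contractLeft_ι]
  exact algebraMap_leftInverse M (d m)

end general

variable (R : Type u) [CommRing R] {P' P : Type u} [CommRing P'] [CommRing P] [Algebra R P]
  [Module.Flat R P] (σ : P' →+* P) (hσ : Function.Surjective σ)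
  (c : P') (hker : RingHom.ker σ = Ideal.span {c}) (hcc : c * c = 0)
  (I : Ideal R) (hI : annJ σ c = I.map (algebraMap R P))
  {M' : Type v} [AddCommGroup M'] [Module P' M'] [Module.Free P' (ExteriorAlgebra P' M')]
  (d' : Module.Dual P' M') (r' : M') (g : P') (hdr : d' r' = c * g)
  (hr' : r' ∈ annI c • (⊤ : Submodule P' M'))
  (S₀ : ModuleCat.{u} P) (q : P →ₗ[P] S₀) (hq : ∀ m, q (σ (d' m)) = 0)

/-- the augmentation -/
noncomputable def psiAug : Etot P' M' →ₛₗ[σ] S₀ :=
  (q.comp σ.toSemilinearMap).comp ((algebraMapInv.toLinearMap).comp (Finsupp.lapply 0))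

lemma psiAug_apply (x : Etot P' M') : psiAug σ S₀ q x = q (σ (algebraMapInv (x 0))) := rfl

include hq in
lemma psiAug_D (x : Etot P' M') (hx : x ∈ Edeg P' M' 1) : psiAug σ S₀ q (D d' r' x) = 0 := by
  obtain ⟨v, hv⟩ := algebraMapInv_D_zero d' r' hx
  rw [psiAug_apply, hv, hq]

/-- the zeroth stage -/
noncomputable def stage0 : Stage σ d' r' S₀ 0 :=
  ⟨show Etot P' M' →ₛₗ[σ] S₀ from psiAug σ S₀ q, psiAug_D σ d' r' S₀ q hq⟩

attribute [local instance] modR

include hI hker hcc hdr hr' hσ hq in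
theorem main_aug (n₀ : ℕ) (hTD : TD n₀ (toR R S₀)) :
    ∃ k : ℕ, q (σ g ^ k) ∈ annJ σ c • (⊤ : Submodule P S₀) := by
  obtain ⟨k, hk⟩ := main R σ hσ c hker hcc I hI d' r' g hdr hr' S₀
    (stage0 σ d' r' S₀ q hq) n₀ hTD
  refine ⟨k, ?_⟩
  have hval : (stage0 σ d' r' S₀ q hq).1 (g ^ k • Tpow P' M' 0) = q (σ g ^ k) := by
    show psiAug σ S₀ q (g ^ k • Tpow P' M' 0) = _
    rw [psiAug_apply, Tpow, Finsupp.smul_apply, Finsupp.single_eq_same, map_smul, map_one,
      smul_eq_mul, mul_one, map_pow]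
  rw [hval] at hk
  exact hk

end Groth.Agent.Lib.Helper91.AvramovAug
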