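import Mathlib
import Groth.Agent.Lib.Helper91.AvramovAug
import Groth.Prelude.Def_DRing2

/-!
# Stacks 09PZ: finite tor dimension of `A/J` over `A/I` forces `I/𝔪I → J/𝔪J` injective
-/

universe u

open IsLocalRing

namespace Groth.Agent.Lib.Helper91.Avramov09PZ

open Groth.Agent.Lib.Helper91.AvramovCore Groth.Agent.Lib.Helper91.AvramovRes
  Groth.Agent.Lib.Helper91.AvramovFlat Groth.Agent.Lib.Helper91.AvramovAug
  Groth.Agent.Lib.Helper35.TA

variable {A : Type u} [CommRing A] [IsNoetherianRing A] [IsLocalRing A]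

/-- a "hyperplane" `I'` in `I` avoiding `x` -/
lemma exists_hyperplane (I : Ideal A) (x : A) (hx : x ∈ I) (hxI : x ∉ maximalIdeal A * I) :
    ∃ I' : Ideal A, maximalIdeal A * I ≤ I' ∧ I' ≤ I ∧ x ∉ I' ∧ I ≤ I' ⊔ Ideal.span {x} := by
  let 𝒮 : Set (Ideal A) := {K | maximalIdeal A * I ≤ K ∧ K ≤ I ∧ x ∉ K}
  have hne : 𝒮.Nonempty := ⟨maximalIdeal A * I, le_rfl, Ideal.mul_le_right, hxI⟩
  obtain ⟨I', ⟨h1, h2, h3⟩, hmax⟩ :=
    (set_has_maximal_iff_noetherian (R := A) (M := A)).2 inferInstance 𝒮 hne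
  refine ⟨I', h1, h2, h3, ?_⟩
  intro y hy
  by_cases hyI' : y ∈ I'
  · exact Ideal.mem_sup_left hyI'
  · have hlt : I' < I' ⊔ Ideal.span {y} := by
      refine lt_of_le_of_ne le_sup_left ?_
      intro h
      apply hyI'
      rw [h]
      exact Ideal.mem_sup_right (Ideal.mem_span_singleton_self y)
    have hK : x ∈ I' ⊔ Ideal.span {y} := by
      by_contra hK
      exact hmax (I' ⊔ Ideal.span {y})
        ⟨h1.trans le_sup_left, sup_le h2 ((Ideal.span_singleton_le_iff_mem I).2 hy), hK⟩ hlt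
    obtain ⟨i', hi', z, hz, hxz⟩ := Submodule.mem_sup.1 hK
    obtain ⟨a, rfl⟩ := Ideal.mem_span_singleton'.1 hz
    have ha : IsUnit a := by
      rw [← IsLocalRing.notMem_maximalIdeal]
      intro ha
      apply h3
      rw [← hxz]
      exact Ideal.add_mem _ hi' (h1 (Ideal.mul_mem_mul ha hy))
    obtain ⟨u, rfl⟩ := ha
    have : y = ↑u⁻¹ * x - ↑u⁻¹ * i' := by
      rw [← hxz, mul_add, add_sub_cancel_left, ← mul_assoc, Units.inv_mul, one_mul]
    rw [this]
    exact Ideal.sub_mem _ (Ideal.mem_sup_right (Ideal.mul_mem_left _ _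
      (Ideal.mem_span_singleton_self x))) (Ideal.mem_sup_left (Ideal.mul_mem_left _ _ hi'))

attribute [local instance] modR

noncomputable instance (B : Type u) [CommRing B] (m : ℕ) :
    Module.Free B (ExteriorAlgebra B (Fin m → B)) :=
  Module.Free.of_basis ((Pi.basisFun B (Fin m)).ExteriorAlgebra)

theorem stacks_09PZ (I J : Ideal A) (hIJ : I ≤ J) (hJ : J ≠ ⊤) [Algebra (A ⧸ I) (A ⧸ J)]
    [IsScalarTower A (A ⧸ I) (A ⧸ J)] (hfd : DRing.HasFiniteTorDim (A ⧸ I) (A ⧸ J))
    (x : A) (hx : x ∈ I) (hxm : x ∈ maximalIdeal A * J) :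
    x ∈ maximalIdeal A * I := by
  classical
  by_contra hxI
  obtain ⟨n₀, hn₀⟩ := hfd
  have hJm : J ≤ maximalIdeal A := IsLocalRing.le_maximalIdeal hJ
  obtain ⟨I', h1, h2, h3, h4⟩ := exists_hyperplane I x hx hxI
  let π : A ⧸ I' →+* A ⧸ I := Ideal.Quotient.factor h2
  have hπ : Function.Surjective π := Ideal.Quotient.factor_surjective h2
  let f : A ⧸ I' := Ideal.Quotient.mk I' x
  have hmI' : ∀ a ∈ maximalIdeal A, ∀ y ∈ I, Ideal.Quotient.mk I' (a * y) = 0 := by
    intro a ha y hy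
    rw [Ideal.Quotient.eq_zero_iff_mem]
    exact h1 (Ideal.mul_mem_mul ha hy)
  have hker : RingHom.ker π = Ideal.span {f} := by
    apply le_antisymm
    · intro z' hz'
      obtain ⟨z, rfl⟩ := Ideal.Quotient.mk_surjective z'
      rw [RingHom.mem_ker, Ideal.Quotient.factor_mk, Ideal.Quotient.eq_zero_iff_mem] at hz'
      obtain ⟨i', hi', w, hw, rfl⟩ := Submodule.mem_sup.1 (h4 hz')
      obtain ⟨a, rfl⟩ := Ideal.mem_span_singleton'.1 hw
      rw [map_add, Ideal.Quotient.eq_zero_iff_mem.2 hi', zero_add, map_mul]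
      exact Ideal.mul_mem_left _ _ (Ideal.mem_span_singleton_self f)
    · rw [Ideal.span_singleton_le_iff_mem, RingHom.mem_ker]
      show π (Ideal.Quotient.mk I' x) = 0
      rw [Ideal.Quotient.factor_mk, Ideal.Quotient.eq_zero_iff_mem]
      exact hx
  have hff : f * f = 0 := by
    show Ideal.Quotient.mk I' x * Ideal.Quotient.mk I' x = 0
    rw [← map_mul]
    exact hmI' x (hJm (hIJ hx)) x hx
  -- generators of `J`
  obtain ⟨m, a, ha⟩ := (Submodule.fg_iff_exists_fin_generating_family).1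
    (IsNoetherian.noetherian J)
  have hxm' : x ∈ maximalIdeal A • Submodule.span A (Set.range a) := by
    rw [ha]
    exact hxm
  obtain ⟨b, hb, hbx⟩ := (Submodule.mem_ideal_smul_span_iff_exists_sum _ _ _).1 hxm'
  rw [Finsupp.sum_fintype b (fun i c => c • a i) (fun i => zero_smul _ _)] at hbx
  -- the data
  let d' : Module.Dual (A ⧸ I') (Fin m → A ⧸ I') :=
    Fintype.linearCombination (A ⧸ I') (fun j => Ideal.Quotient.mk I' (a j))
  let r' : Fin m → A ⧸ I' := fun j => Ideal.Quotient.mk I' (b j)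
  have hdr : d' r' = f * 1 := by
    rw [mul_one]
    show Fintype.linearCombination (A ⧸ I') (fun j => Ideal.Quotient.mk I' (a j)) r' = f
    rw [Fintype.linearCombination_apply]
    show ∑ j, Ideal.Quotient.mk I' (b j) • Ideal.Quotient.mk I' (a j) = Ideal.Quotient.mk I' x
    rw [← hbx, map_sum]
    exact Finset.sum_congr rfl fun j _ => by rw [smul_eq_mul, smul_eq_mul, map_mul]
  have hr'mem : r' ∈ annI f • (⊤ : Submodule (A ⧸ I') (Fin m → A ⧸ I')) := by
    rw [pi_eq_sum_univ r']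
    refine Submodule.sum_mem _ fun j _ => ?_
    refine Submodule.smul_mem_smul ?_ Submodule.mem_top
    rw [mem_annI]
    show Ideal.Quotient.mk I' (b j) * Ideal.Quotient.mk I' x = 0
    rw [← map_mul]
    exact hmI' _ (hb j) x hx
  let S₀ : ModuleCat.{u} (A ⧸ I) := ModuleCat.of (A ⧸ I) (A ⧸ J)
  let q : (A ⧸ I) →ₗ[A ⧸ I] S₀ := Algebra.linearMap (A ⧸ I) (A ⧸ J)
  have halg : ∀ t : A, algebraMap (A ⧸ I) (A ⧸ J) (Ideal.Quotient.mk I t) =
      Ideal.Quotient.mk J t := by
    intro t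
    exact (IsScalarTower.algebraMap_apply A (A ⧸ I) (A ⧸ J) t).symm
  have hq : ∀ v, q (π (d' v)) = 0 := by
    intro v
    show algebraMap (A ⧸ I) (A ⧸ J) (π (Fintype.linearCombination (A ⧸ I')
      (fun j => Ideal.Quotient.mk I' (a j)) v)) = 0
    rw [Fintype.linearCombination_apply, map_sum, map_sum]
    refine Finset.sum_eq_zero fun j _ => ?_
    rw [smul_eq_mul, map_mul, map_mul, Ideal.Quotient.factor_mk, halg,
      Ideal.Quotient.eq_zero_iff_mem.2 (ha ▸ Submodule.subset_span ⟨j, rfl⟩), mul_zero]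
  have hI : annJ π f = (annJ π f).map (algebraMap (A ⧸ I) (A ⧸ I)) := by
    rw [Algebra.algebraMap_self, Ideal.map_id]
  have hTD0 : TD n₀ (ModuleCat.of (A ⧸ I) (A ⧸ J)) := (hasTorDimLE_iff_TD n₀ (A ⧸ J)).1 hn₀
  let e0 : (A ⧸ J) ≃ₗ[A ⧸ I] S₀ :=
    { toFun := fun x => x
      invFun := fun x => x
      map_add' := fun _ _ => rfl
      map_smul' := fun _ _ => rfl
      left_inv := fun _ => rfl
      right_inv := fun _ => rfl }
  have hTD : TD n₀ (toR (A ⧸ I) S₀) := TD_of_iso _ e0.toModuleIso hTD0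
  obtain ⟨k, hk⟩ := main_aug (A ⧸ I) π hπ f hker hff (annJ π f) hI d' r' 1 hdr hr'mem S₀ q hq
    n₀ hTD
  rw [map_one, one_pow] at hk
  -- contradiction in the residue field
  let ρ : A ⧸ J →+* A ⧸ maximalIdeal A := Ideal.Quotient.factor hJm
  have hann : ∀ r ∈ annJ π f, ρ (algebraMap (A ⧸ I) (A ⧸ J) r) = 0 := by
    have : annJ π f ≤ RingHom.ker (ρ.comp (algebraMap (A ⧸ I) (A ⧸ J))) := by
      rw [annJ, Ideal.map_le_iff_le_comap]
      intro a' ha'
      obtain ⟨t, rfl⟩ := Ideal.Quotient.mk_surjective a'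
      rw [mem_annI] at ha'
      have ht : t ∈ maximalIdeal A := by
        by_contra ht
        rw [IsLocalRing.notMem_maximalIdeal] at ht
        obtain ⟨u, rfl⟩ := ht
        apply h3
        have h5 : (u : A) * x ∈ I' := by
          rw [← Ideal.Quotient.eq_zero_iff_mem, map_mul]
          exact ha'
        have h6 : x = ↑u⁻¹ * (↑u * x) := by
          rw [← mul_assoc, Units.inv_mul, one_mul]
        rw [h6]
        exact Ideal.mul_mem_left _ _ h5
      rw [Ideal.mem_comap, RingHom.mem_ker, RingHom.comp_apply]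
      show ρ (algebraMap (A ⧸ I) (A ⧸ J) (π (Ideal.Quotient.mk I' t))) = 0
      rw [Ideal.Quotient.factor_mk, halg, Ideal.Quotient.factor_mk,
        Ideal.Quotient.eq_zero_iff_mem]
      exact ht
    intro r hr
    exact this hr
  have hzero : ∀ y : A ⧸ J, y ∈ annJ π f • (⊤ : Submodule (A ⧸ I) (A ⧸ J)) → ρ y = 0 := by
    intro y hy
    refine Submodule.smul_induction_on hy ?_ ?_
    · intro r hr v _
      rw [Algebra.smul_def, map_mul, hann r hr, zero_mul]
    · intro y z hy hz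
      rw [map_add, hy, hz, add_zero]
  have h7 := hzero _ hk
  have h8 : q 1 = (1 : A ⧸ J) := map_one (algebraMap (A ⧸ I) (A ⧸ J))
  rw [h8, map_one] at h7
  exact one_ne_zero h7

end Groth.Agent.Lib.Helper91.Avramov09PZ
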