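import Mathlib
import Groth.Agent.Lib.Helper91.AvramovAug

/-!
# The abstract main theorem with an abstract "cycles mod `𝔞` are boundaries mod `𝔞`" hypothesis
in a single even degree
-/

universe u v

open ExteriorAlgebra

namespace Groth.Agent.Lib.Helper91.AvramovMainK

open Groth.Agent.Lib.Helper91.AvramovCore Groth.Agent.Lib.Helper91.AvramovRes
  Groth.Agent.Lib.Helper91.TateE Groth.Agent.Lib.Helper91.TateLam
  Groth.Agent.Lib.Helper91.AvramovComp Groth.Agent.Lib.Helper91.AvramovFlat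
  Groth.Agent.Lib.Helper91.AvramovMain Groth.Agent.Lib.Helper91.AvramovAug

variable {P' P : Type u} [CommRing P'] [CommRing P]
  (σ : P' →+* P) (hσ : Function.Surjective σ)
  (c : P') (hker : RingHom.ker σ = Ideal.span {c}) (hcc : c * c = 0)
  {M' : Type v} [AddCommGroup M'] [Module P' M'] [Module.Free P' (ExteriorAlgebra P' M')]
  (d' : Module.Dual P' M') (r' : M') (g : P') (hdr : d' r' = c * g)
  (hr' : r' ∈ annI c • (⊤ : Submodule P' M'))
  (S₀ : ModuleCat.{u} P) (ψ0 : Stage σ d' r' S₀ 0)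

include hker hcc hdr hr' in
theorem iterK (k j₀ : ℕ) (hj : j₀ + 1 = 2 * k)
    (hstep : ∀ v : Fr S₀ (j₀ + 1), dF S₀ j₀ v ∈ annJ σ c • (⊤ : Submodule P (Fr S₀ j₀)) →
      ∃ u a, a ∈ annJ σ c • (⊤ : Submodule P (Fr S₀ (j₀ + 1))) ∧ v = dF S₀ (j₀ + 1) u + a) :
    ∀ (a j n : ℕ), j + a = k → n = 2 * j →
      ∃ u a', a' ∈ annJ σ c • (⊤ : Submodule P (Fr S₀ n)) ∧
        red S₀ σ n (phi σ hσ d' r' S₀ (hDD σ c hker d' r' g hdr) ψ0 n
          (g ^ a • Tpow P' M' j)) = dF S₀ n u + a' := by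
  intro a
  induction a with
  | zero =>
    intro j n hj' hn
    obtain rfl : j = k := by omega
    obtain rfl : n = j₀ + 1 := by omega
    rw [pow_zero, one_smul]
    have hmem : Tpow P' M' j ∈ Edeg P' M' (j₀ + 1) := by
      have := Tpow_mem (A := P') (M := M') j
      rwa [← hj] at this
    have h1 := red_dG_phi σ hσ d' r' S₀ (hDD σ c hker d' r' g hdr) ψ0 j₀ _ hmem
    rw [red_dG] at h1
    exact hstep _ (by
      rw [h1]
      obtain ⟨j', rfl⟩ : ∃ j', j = j' + 1 := ⟨j - 1, by omega⟩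
      rw [D_Tpow_succ]
      have h3 := single_ι_mem_smul (annI c) j' hr'
      have h4 : Finsupp.single j' (ι P' r') ∈ annI c • (⊤ : Submodule P' (Etot P' M')) :=
        Submodule.smul_mono le_rfl le_top h3
      exact map_mem_annJ_smul
        ((red S₀ σ j₀).comp (phi σ hσ d' r' S₀ (hDD σ c hker d' r' g hdr) ψ0 j₀)) h4)
  | succ a ih =>
    intro j n hj' hn
    have hstart := ih (j + 1) (n + 1 + 1) (by omega) (by omega)
    have hx : g ^ a • Tpow P' M' (j + 1) ∈ Edeg P' M' (n + 1 + 1) := by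
      have := Tpow_mem (A := P') (M := M') (j + 1)
      have h2 : 2 * (j + 1) = n + 1 + 1 := by omega
      rw [h2] at this
      exact Submodule.smul_mem _ _ this
    have hDx : D d' r' (g ^ a • Tpow P' M' (j + 1)) ∈ annI c • Edeg P' M' (n + 1) := by
      rw [map_smul, D_Tpow_succ]
      refine Submodule.smul_mem _ _ ?_
      have h3 := single_ι_mem_smul (annI c) j hr'
      rwa [← hn] at h3
    have hDDx : D d' r' (D d' r' (g ^ a • Tpow P' M' (j + 1))) =
        c • (g ^ (a + 1) • Tpow P' M' j) := by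
      rw [D_D, map_smul, shift_Tpow_succ, hdr, smul_smul, smul_smul]
      congr 1
      ring
    exact core_step (σ := σ) (c := c) hσ hcc
      (dF S₀ (n + 1 + 1)) (dF S₀ (n + 1)) (dF S₀ n)
      (dG S₀ σ hσ (n + 1 + 1)) (dG S₀ σ hσ (n + 1)) (dG S₀ σ hσ n)
      (red S₀ σ (n + 1 + 1 + 1)) (red S₀ σ (n + 1 + 1)) (red S₀ σ (n + 1)) (red S₀ σ n)
      (dF_dF S₀ (n + 1)) (dF_dF S₀ n)
      (red_dG S₀ σ hσ (n + 1 + 1)) (red_dG S₀ σ hσ (n + 1)) (red_dG S₀ σ hσ n)
      (red_surjective S₀ hσ _) (red_surjective S₀ hσ _)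
      (exists_eq_smul_of_red S₀ hker _) (exists_eq_smul_of_red S₀ hker _)
      (exists_eq_smul_of_red S₀ hker _)
      (red_mem_of_smul_eq_zero S₀ n)
      (D d' r') (Edeg P' M' (n + 1 + 1)) (Edeg P' M' (n + 1))
      (phi σ hσ d' r' S₀ (hDD σ c hker d' r' g hdr) ψ0 (n + 1 + 1))
      (phi σ hσ d' r' S₀ (hDD σ c hker d' r' g hdr) ψ0 (n + 1))
      (phi σ hσ d' r' S₀ (hDD σ c hker d' r' g hdr) ψ0 n)
      (fun x hx => red_dG_phi σ hσ d' r' S₀ _ ψ0 (n + 1) x hx)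
      (fun x hx => red_dG_phi σ hσ d' r' S₀ _ ψ0 n x hx)
      _ _ hx hDx hDDx hstart

variable (q : P →ₗ[P] S₀) (hq : ∀ m, q (σ (d' m)) = 0)

include hker hcc hdr hr' hσ hq in
/-- **Main theorem, single-degree version.** -/
theorem mainK (k j₀ : ℕ) (hj : j₀ + 1 = 2 * k)
    (hstep : ∀ v : Fr S₀ (j₀ + 1), dF S₀ j₀ v ∈ annJ σ c • (⊤ : Submodule P (Fr S₀ j₀)) →
      ∃ u a, a ∈ annJ σ c • (⊤ : Submodule P (Fr S₀ (j₀ + 1))) ∧ v = dF S₀ (j₀ + 1) u + a) :
    q (σ g ^ k) ∈ annJ σ c • (⊤ : Submodule P S₀) := by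
  obtain ⟨u, a', ha', h⟩ := iterK σ hσ c hker hcc d' r' g hdr hr' S₀
    (stage0 σ d' r' S₀ q hq) k j₀ hj hstep k 0 0 (by omega) (by omega)
  have h2 := congrArg (fpi S₀ 0) h
  rw [fpi_red_phi_zero, map_add, fpi_dF] at h2
  have hval : (stage0 σ d' r' S₀ q hq).1 (g ^ k • Tpow P' M' 0) = q (σ g ^ k) := by
    show psiAug σ S₀ q (g ^ k • Tpow P' M' 0) = _
    rw [psiAug_apply, Tpow, Finsupp.smul_apply, Finsupp.single_eq_same, map_smul, map_one,
      smul_eq_mul, mul_one, map_pow]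
  rw [hval, zero_add] at h2
  rw [h2]
  refine Submodule.smul_induction_on ha' ?_ ?_
  · intro p hp v _
    rw [map_smul]
    exact Submodule.smul_mem_smul hp Submodule.mem_top
  · intro x y hx hy
    rw [map_add]
    exact Submodule.add_mem _ hx hy

end Groth.Agent.Lib.Helper91.AvramovMainK
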