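import Mathlib
import Groth.Agent.Lib.Helper91.AvramovRes

/-!
# "Cycles mod `𝔞` are boundaries mod `𝔞`" on the canonical resolution, and regular elements
-/

universe u

namespace Groth.Agent.Lib.Helper91.AvramovRegStep

open Groth.Agent.Lib.Helper91.AvramovRes

variable {P : Type u} [CommRing P] (S₀ : ModuleCat.{u} P)

/-- `H_{j+1}(F/𝔞F) = 0`, elementwise. -/
def StepAt (𝔞 : Ideal P) (j : ℕ) : Prop :=
  ∀ v : Fr S₀ (j + 1), dF S₀ j v ∈ 𝔞 • (⊤ : Submodule P (Fr S₀ j)) →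
    ∃ u a, a ∈ 𝔞 • (⊤ : Submodule P (Fr S₀ (j + 1))) ∧ v = dF S₀ (j + 1) u + a

section coeff

variable {ι : Type*} (𝔞 : Ideal P)

lemma coeff_mem_of_mem_smul_top {v : ι →₀ P} (hv : v ∈ 𝔞 • (⊤ : Submodule P (ι →₀ P))) (z : ι) :
    v z ∈ 𝔞 := by
  refine Submodule.smul_induction_on hv ?_ ?_
  · intro a ha n _
    rw [Finsupp.smul_apply, smul_eq_mul]
    exact Ideal.mul_mem_right _ _ ha
  · intro x y hx hy
    rw [Finsupp.add_apply]
    exact Ideal.add_mem _ hx hy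

lemma mem_smul_top_iff_coeff {v : ι →₀ P} :
    v ∈ 𝔞 • (⊤ : Submodule P (ι →₀ P)) ↔ ∀ z, v z ∈ 𝔞 :=
  ⟨fun h z => coeff_mem_of_mem_smul_top 𝔞 h z, mem_smul_top_of_coeff 𝔞 v⟩

lemma mem_of_smul_mem {x : P} (hx : ∀ s, x * s ∈ 𝔞 → s ∈ 𝔞) {v : ι →₀ P}
    (hv : x • v ∈ 𝔞 • (⊤ : Submodule P (ι →₀ P))) : v ∈ 𝔞 • (⊤ : Submodule P (ι →₀ P)) := by
  rw [mem_smul_top_iff_coeff] at hv ⊢
  intro z
  apply hx
  have := hv z
  rwa [Finsupp.smul_apply, smul_eq_mul] at this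

end coeff

lemma map_mem_smul_top {M N : Type*} [AddCommGroup M] [Module P M] [AddCommGroup N] [Module P N]
    (𝔞 : Ideal P) (f : M →ₗ[P] N) {v : M} (hv : v ∈ 𝔞 • (⊤ : Submodule P M)) :
    f v ∈ 𝔞 • (⊤ : Submodule P N) := by
  refine Submodule.smul_induction_on hv ?_ ?_
  · intro a ha n _
    rw [map_smul]
    exact Submodule.smul_mem_smul ha Submodule.mem_top
  · intro x y hx hy
    rw [map_add]
    exact Submodule.add_mem _ hx hy

lemma exists_of_mem_sup_span_smul_top {M : Type*} [AddCommGroup M] [Module P M] (𝔞 : Ideal P)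
    (x : P) {y : M} (hy : y ∈ (𝔞 ⊔ Ideal.span {x}) • (⊤ : Submodule P M)) :
    ∃ a ∈ 𝔞 • (⊤ : Submodule P M), ∃ w : M, y = a + x • w := by
  refine Submodule.smul_induction_on hy ?_ ?_
  · intro r hr n _
    obtain ⟨a, ha, b, hb, rfl⟩ := Submodule.mem_sup.1 hr
    obtain ⟨c, rfl⟩ := Ideal.mem_span_singleton'.1 hb
    exact ⟨a • n, Submodule.smul_mem_smul ha Submodule.mem_top, c • n, by
      rw [add_smul, mul_comm, mul_smul]⟩
  · rintro y z ⟨a, ha, w, rfl⟩ ⟨a', ha', w', rfl⟩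
    exact ⟨a + a', Submodule.add_mem _ ha ha', w + w', by rw [smul_add]; abel⟩

lemma smul_top_le_sup (𝔞 : Ideal P) (x : P) {M : Type*} [AddCommGroup M] [Module P M] :
    𝔞 • (⊤ : Submodule P M) ≤ (𝔞 ⊔ Ideal.span {x}) • (⊤ : Submodule P M) :=
  Submodule.smul_mono le_sup_left le_rfl

lemma smul_mem_sup (𝔞 : Ideal P) (x : P) {M : Type*} [AddCommGroup M] [Module P M] (w : M) :
    x • w ∈ (𝔞 ⊔ Ideal.span {x}) • (⊤ : Submodule P M) :=
  Submodule.smul_mem_smul (Ideal.mem_sup_right (Ideal.mem_span_singleton_self x)) Submodule.mem_top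

/-- the induction step along an element regular modulo `𝔞` -/
theorem stepAt_sup (𝔞 : Ideal P) (x : P) (hx : ∀ s, x * s ∈ 𝔞 → s ∈ 𝔞) (j : ℕ)
    (h0 : StepAt S₀ 𝔞 j) (h1 : StepAt S₀ 𝔞 (j + 1)) :
    StepAt S₀ (𝔞 ⊔ Ideal.span {x}) (j + 1) := by
  intro v hv
  obtain ⟨a, ha, w, hw⟩ := exists_of_mem_sup_span_smul_top 𝔞 x hv
  -- `x • d w ∈ 𝔞 F`
  have h2 : x • dF S₀ j w ∈ 𝔞 • (⊤ : Submodule P (Fr S₀ j)) := by
    have h3 : dF S₀ j (dF S₀ (j + 1) v) = 0 := dF_dF S₀ j v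
    rw [hw, map_add, map_smul] at h3
    have h4 : x • dF S₀ j w = -(dF S₀ j a) := eq_neg_of_add_eq_zero_right h3
    rw [h4]
    exact Submodule.neg_mem _ (map_mem_smul_top 𝔞 _ ha)
  have h5 : dF S₀ j w ∈ 𝔞 • (⊤ : Submodule P (Fr S₀ j)) := mem_of_smul_mem 𝔞 hx h2
  obtain ⟨u', a', ha', hw'⟩ := h0 w h5
  -- `d (v - x u') ∈ 𝔞 F`
  have h6 : dF S₀ (j + 1) (v - x • u') ∈ 𝔞 • (⊤ : Submodule P (Fr S₀ (j + 1))) := by
    rw [map_sub, map_smul, hw, hw', smul_add]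
    have : a + (x • dF S₀ (j + 1) u' + x • a') - x • dF S₀ (j + 1) u' = a + x • a' := by abel
    rw [this]
    exact Submodule.add_mem _ ha (Submodule.smul_mem _ _ ha')
  obtain ⟨u'', a'', ha'', hv''⟩ := h1 (v - x • u') h6
  refine ⟨u'', a'' + x • u', Submodule.add_mem _ (smul_top_le_sup 𝔞 x ha'') (smul_mem_sup 𝔞 x u'), ?_⟩
  rw [← add_assoc, ← hv'']
  abel

/-- the induction along a list regular modulo `𝔞` -/
theorem stepAt_ofList (𝔞 : Ideal P) (j₀ : ℕ) (h : ∀ j, j₀ ≤ j → StepAt S₀ 𝔞 j) (xs : List P)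
    (hreg : ∀ (i : ℕ) (hi : i < xs.length) (s : P),
      xs[i] * s ∈ 𝔞 ⊔ Ideal.ofList (xs.take i) → s ∈ 𝔞 ⊔ Ideal.ofList (xs.take i)) :
    ∀ j, j₀ + xs.length ≤ j → StepAt S₀ (𝔞 ⊔ Ideal.ofList xs) j := by
  have key : ∀ i, i ≤ xs.length → ∀ j, j₀ + i ≤ j →
      StepAt S₀ (𝔞 ⊔ Ideal.ofList (xs.take i)) j := by
    intro i
    induction i with
    | zero =>
      intro _ j hj
      rw [List.take_zero, Ideal.ofList_nil, sup_bot_eq]
      exact h j (by omega)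
    | succ i ih =>
      intro hi j hj
      have hi' : i < xs.length := by omega
      have htake : xs.take (i + 1) = xs.take i ++ [xs[i]] := by
        rw [List.take_succ_eq_append_getElem hi']
      rw [htake, Ideal.ofList_append, Ideal.ofList_singleton, ← sup_assoc]
      obtain ⟨j', rfl⟩ : ∃ j', j = j' + 1 := ⟨j - 1, by omega⟩
      exact stepAt_sup S₀ _ _ (hreg i hi') j' (ih (by omega) j' (by omega))
        (ih (by omega) (j' + 1) (by omega))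
  intro j hj
  have := key xs.length le_rfl j hj
  rwa [List.take_length] at this

end Groth.Agent.Lib.Helper91.AvramovRegStep
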