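import Mathlib
import Groth.Agent.Lib.Helper91.AvramovFlat

/-!
# Vanishing of a single `Tor_{j+1}(S₀, R/I)` gives "cycles mod `I` are boundaries mod `I`" in
degree `j + 1` of the canonical resolution
-/

universe u

open CategoryTheory CategoryTheory.Limits TensorProduct

namespace Groth.Agent.Lib.Helper91.AvramovTorK

open Groth.Agent.Lib.Helper91.AvramovRes Groth.Agent.Lib.Helper91.AvramovFlat
  Groth.Agent.Lib.Helper35.TA

/-- if `Q ⊗ I → Q ⊗ R` is injective (`Tor₁(Q, R/I) = 0`) for `Q = F/K` then `K ∩ IF = IK` -/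
theorem mem_smul_ker_of_lTensor_injective {R : Type*} [CommRing R] (I : Ideal R) {F Q : Type*}
    [AddCommGroup F] [Module R F] [AddCommGroup Q] [Module R Q]
    (g : F →ₗ[R] Q) (hg : Function.Surjective g)
    (hinj : Function.Injective (LinearMap.lTensor Q (Submodule.subtype I)))
    {x : F} (hx : x ∈ I • (⊤ : Submodule R F)) (hgx : g x = 0) : x ∈ I • LinearMap.ker g := by
  obtain ⟨ι, _, f, v, hf, rfl⟩ := exists_rep_of_mem_smul_top I hx
  -- the multiplication maps
  let μF : F ⊗[R] I →ₗ[R] F :=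
    TensorProduct.lift (((LinearMap.lsmul R F).comp (Submodule.subtype I)).flip)
  have hμF : ∀ (w : F) (a : I), μF (w ⊗ₜ a) = (a : R) • w := fun w a => by
    simp only [μF, TensorProduct.lift.tmul, LinearMap.flip_apply, LinearMap.comp_apply,
      Submodule.subtype_apply, LinearMap.lsmul_apply]
  let η : F ⊗[R] I := ∑ i, v i ⊗ₜ[R] (⟨f i, hf i⟩ : I)
  have hη : μF η = ∑ i, f i • v i := by
    simp only [η, map_sum, hμF]
  -- the image of `η` in `Q ⊗ I` vanishes
  have hξ : LinearMap.rTensor I g η = 0 := by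
    apply hinj
    rw [map_zero]
    apply (TensorProduct.rid R Q).injective
    rw [map_zero]
    simp only [η, map_sum, LinearMap.rTensor_tmul, LinearMap.lTensor_tmul, Submodule.subtype_apply,
      TensorProduct.rid_tmul]
    rw [← hgx, map_sum]
    exact Finset.sum_congr rfl fun i _ => (map_smul g _ _).symm
  -- exactness
  have hex : Function.Exact (LinearMap.rTensor I (LinearMap.ker g).subtype)
      (LinearMap.rTensor I g) :=
    rTensor_exact I (LinearMap.exact_subtype_ker_map g) hg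
  obtain ⟨ζ, hζ⟩ := (hex η).1 hξ
  rw [← hη, ← hζ]
  clear hζ
  induction ζ using TensorProduct.induction_on with
  | zero => simp
  | tmul n a =>
    rw [LinearMap.rTensor_tmul, hμF]
    exact Submodule.smul_mem_smul a.2 n.2
  | add y z hy hz =>
    rw [map_add, map_add]
    exact Submodule.add_mem _ hy hz

variable {R : Type u} [CommRing R]

/-- dimension shifting in the first variable -/
theorem isZero_tor_succ_iff (S : ShortComplex (ModuleCat.{u} R)) (hS : S.ShortExact)
    [Module.Flat R S.X₂] (N : ModuleCat.{u} R) (q : ℕ) (hq : 1 ≤ q) :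
    IsZero (TorZ (q + 1) S.X₃ N) ↔ IsZero (TorZ q S.X₁ N) := by
  obtain ⟨-, δ, w₁, w₂, h₁, h₂⟩ := Groth.Agent.Lib.Helper73.tor_les_first hS N q
  have hz1 : IsZero (TorZ (q + 1) S.X₂ N) := TD_zero_of_flat S.X₂ N (q + 1) (by omega)
  have hz2 : IsZero (TorZ q S.X₂ N) := TD_zero_of_flat S.X₂ N q (by omega)
  have hmono : Mono δ := h₁.mono_g (hz1.eq_of_src _ _)
  have hepi : Epi δ := h₂.epi_f (hz2.eq_of_tgt _ _)
  constructor
  · intro h
    exact IsZero.of_epi_eq_zero δ (h.eq_of_src _ _)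
  · intro h
    exact IsZero.of_mono_eq_zero δ (h.eq_of_tgt _ _)

variable (R) {P : Type u} [CommRing P] [Algebra R P] [Module.Flat R P] (S₀ : ModuleCat.{u} P)

attribute [local instance] modR

lemma isZero_tor_Zc (N : ModuleCat.{u} R) : ∀ (j q : ℕ), 1 ≤ q →
    IsZero (TorZ (q + j) (toR R (Zc S₀ 0)) N) → IsZero (TorZ q (toR R (Zc S₀ j)) N)
  | 0, q, _, h => h
  | (j + 1), q, hq, h => by
    have h1 : IsZero (TorZ (q + 1) (toR R (Zc S₀ j)) N) := isZero_tor_Zc N j (q + 1) (by omega) (by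
      have : q + 1 + j = q + (j + 1) := by ring
      rw [this]; exact h)
    exact (isZero_tor_succ_iff (sc R S₀ j) (sc_shortExact R S₀ j) N q hq).1 h1

/-- **The Tor step**: if `Tor_{j+1}(S₀, R/I) = 0` then cycles mod `I` of degree `j+1` are
boundaries mod `I`. -/
theorem tor_step (I : Ideal R) (j : ℕ)
    (hTor : IsZero (TorZ (j + 1) (toR R (Zc S₀ 0)) (ModuleCat.of R (R ⧸ I))))
    (v : Fr S₀ (j + 1))
    (hv : dF S₀ j v ∈ I.map (algebraMap R P) • (⊤ : Submodule P (Fr S₀ j))) :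
    ∃ u a, a ∈ I.map (algebraMap R P) • (⊤ : Submodule P (Fr S₀ (j + 1))) ∧
      v = dF S₀ (j + 1) u + a := by
  have h0 : IsZero (TorZ 1 (toR R (Zc S₀ j)) (ModuleCat.of R (R ⧸ I))) :=
    isZero_tor_Zc R S₀ _ j 1 le_rfl (by rw [add_comm]; exact hTor)
  have hproj : Projective (Groth.Agent.Lib.Helper63.quotSC (R := R) (N := R) I).X₂ :=
    (IsProjective.iff_projective (R := R) R).mp inferInstance
  have hinj : Function.Injective (LinearMap.lTensor (Zc S₀ j) (Submodule.subtype I)) :=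
    (Groth.Agent.Lib.Helper63.tor_one_isZero_iff (toR R (Zc S₀ j))
      (Groth.Agent.Lib.Helper63.quotSC (R := R) (N := R) I)
      (Groth.Agent.Lib.Helper63.quotSC_shortExact I)).1 h0
  have h1 : dF S₀ j v ∈ I • LinearMap.ker ((fpi S₀ j).restrictScalars R) :=
    mem_smul_ker_of_lTensor_injective I ((fpi S₀ j).restrictScalars R) (fpi_surjective S₀ j) hinj
      (mem_smul_top_of_mem_map_smul_top R I hv) (fpi_dF S₀ j v)
  have h2 : ∃ w ∈ I.map (algebraMap R P) • (⊤ : Submodule P (Fr S₀ (j + 1))),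
      dF S₀ j v = dF S₀ j w := by
    refine Submodule.smul_induction_on h1 ?_ ?_
    · intro r hr n hn
      obtain ⟨u, rfl⟩ := exists_dF_eq_of_fpi S₀ j n hn
      refine ⟨algebraMap R P r • u, Submodule.smul_mem_smul (Ideal.mem_map_of_mem _ hr)
        Submodule.mem_top, ?_⟩
      rw [map_smul, algebraMap_smul]
    · rintro x y ⟨w₁, hw₁, h₁⟩ ⟨w₂, hw₂, h₂⟩
      exact ⟨w₁ + w₂, Submodule.add_mem _ hw₁ hw₂, by rw [map_add, h₁, h₂]⟩
  obtain ⟨w, hw, hvw⟩ := h2
  obtain ⟨u, hu⟩ := exists_dF_eq S₀ j (v - w) (by rw [map_sub, hvw, sub_self])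
  exact ⟨u, w, hw, by rw [hu]; abel⟩

end Groth.Agent.Lib.Helper91.AvramovTorK
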