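import Mathlib
import Groth.Agent.Lib.Helper85.RegularSeq

/-!
# Regular systems of parameters and their lifts along a surjection
-/

universe u

open IsLocalRing RingTheory.Sequence

namespace Groth.Agent.Lib.Helper91.AvramovRelPre

/-- a regular local ring has a regular sequence generating the maximal ideal -/
lemma exists_regular_parameters (Φ : Type u) [CommRing Φ] [IsRegularLocalRing Φ] :
    ∃ xs : List Φ, Ideal.ofList xs = maximalIdeal Φ ∧ IsRegular Φ xs := by
  classical
  have hfg : (maximalIdeal Φ).FG := IsNoetherian.noetherian _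
  obtain ⟨s, hs1, hs2⟩ := Submodule.FG.exists_span_finset_card_eq_spanFinrank hfg
  let e := s.equivFin
  let x : Fin s.card → Φ := fun i => (e.symm i : Φ)
  have hrange : Set.range x = (s : Set Φ) := by
    ext y
    constructor
    · rintro ⟨i, rfl⟩
      exact (e.symm i).2
    · intro hy
      exact ⟨e ⟨y, hy⟩, by simp [x]⟩
  have hx : Ideal.span (Set.range x) = maximalIdeal Φ := by
    rw [hrange]
    exact hs2
  have hd : ringKrullDim Φ = (s.card : ℕ) := by
    rw [hs1]
    exact (IsRegularLocalRing.spanFinrank_maximalIdeal (R := Φ)).symm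
  refine ⟨List.ofFn x, ?_, Groth.Agent.Lib.Helper85.isRegular_ofFn_of_span_eq_maximalIdeal _ hd x hx⟩
  rw [← hx]
  unfold Ideal.ofList
  congr 1
  ext y
  simp [List.mem_ofFn]

variable {B Φ : Type*} [CommRing B] [CommRing Φ] (ρ : B →+* Φ)

lemma ker_sup_ofList (hρ : Function.Surjective ρ) (l : List B) :
    RingHom.ker ρ ⊔ Ideal.ofList l = Ideal.comap ρ (Ideal.ofList (l.map ρ)) := by
  rw [← Ideal.map_ofList, Ideal.comap_map_of_surjective ρ hρ, sup_comm, RingHom.ker_eq_comap_bot]

/-- lifting a weakly regular sequence along a surjection: regular modulo the kernel -/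
lemma exists_lift_regular (hρ : Function.Surjective ρ) (xs : List Φ) (hxs : IsWeaklyRegular Φ xs) :
    ∃ ys : List B, ys.map ρ = xs ∧
      (∀ (i : ℕ) (hi : i < ys.length) (s : B),
        ys[i] * s ∈ RingHom.ker ρ ⊔ Ideal.ofList (ys.take i) →
          s ∈ RingHom.ker ρ ⊔ Ideal.ofList (ys.take i)) ∧
      RingHom.ker ρ ⊔ Ideal.ofList ys = Ideal.comap ρ (Ideal.ofList xs) := by
  let ys : List B := xs.map (Function.surjInv hρ)
  have hys : ys.map ρ = xs := by
    simp only [ys, List.map_map]
    conv_rhs => rw [← List.map_id xs]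
    apply List.map_congr_left
    intro q _
    exact Function.surjInv_eq hρ q
  refine ⟨ys, hys, ?_, ?_⟩
  · intro i hi s hs
    rw [ker_sup_ofList ρ hρ, Ideal.mem_comap] at hs ⊢
    rw [List.map_take, hys] at hs ⊢
    have hi' : i < xs.length := by rw [← hys, List.length_map]; exact hi
    have h1 := (isWeaklyRegular_iff Φ xs).1 hxs i hi'
    rw [isSMulRegular_quotient_iff_mem_of_smul_mem] at h1
    have h2 := h1 (ρ s)
    rw [smul_eq_mul, Ideal.mul_top] at h2
    apply h2
    have h3 : xs[i] = ρ ys[i] := by
      have : (ys.map ρ)[i]'(by rw [List.length_map]; exact hi) = ρ ys[i] := List.getElem_map ρ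
      rw [← this]
      congr 1
      exact hys.symm
    rw [smul_eq_mul, h3, ← map_mul]
    exact hs
  · rw [ker_sup_ofList ρ hρ, hys]

end Groth.Agent.Lib.Helper91.AvramovRelPre
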