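import Mathlib
import Groth.Agent.Lib.Helper91.Avramov09PZS
import Groth.Agent.Lib.Helper91.AvramovRelPre
import Groth.Prelude.Def_DRing2

/-!
# The relative form of Stacks 09PZ: `R → S` flat local with regular closed fibre
-/

universe u

open IsLocalRing CategoryTheory CategoryTheory.Limits

namespace Groth.Agent.Lib.Helper91.AvramovRel

open Groth.Agent.Lib.Helper91.AvramovRes Groth.Agent.Lib.Helper91.AvramovFlat
  Groth.Agent.Lib.Helper91.AvramovTorK Groth.Agent.Lib.Helper91.AvramovRegStep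
  Groth.Agent.Lib.Helper91.AvramovRelPre Groth.Agent.Lib.Helper91.Avramov09PZS
  Groth.Agent.Lib.Helper35.TA

variable {R S : Type u} [CommRing R] [CommRing S] [Algebra R S]

theorem flat_quot [Module.Flat R S] (I : Ideal R) :
    Module.Flat (R ⧸ I) (S ⧸ I.map (algebraMap R S)) :=
  Module.Flat.of_linearEquiv
    (Algebra.TensorProduct.quotIdealMapEquivQuotTensor S I).toLinearEquiv

lemma ker_factor {I K : Ideal S} (h : I ≤ K) :
    RingHom.ker (Ideal.Quotient.factor h) = K.map (Ideal.Quotient.mk I) := by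
  ext z
  obtain ⟨s, rfl⟩ := Ideal.Quotient.mk_surjective z
  rw [RingHom.mem_ker, Ideal.Quotient.factor_mk, Ideal.Quotient.eq_zero_iff_mem,
    Ideal.mem_quotient_iff_mem h]

attribute [local instance] modR

variable [IsNoetherianRing R] [IsNoetherianRing S] [IsLocalRing R] [IsLocalRing S]
  [IsLocalHom (algebraMap R S)] [Module.Flat R S]

theorem rel_09PZ [IsRegularLocalRing (S ⧸ Ideal.map (algebraMap R S) (maximalIdeal R))]
    (I : Ideal R) (J : Ideal S) (hI : I ≠ ⊤) (hJ : J ≠ ⊤) (hIJ : I.map (algebraMap R S) ≤ J)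
    [Algebra (R ⧸ I) (S ⧸ J)] [IsScalarTower R (R ⧸ I) (S ⧸ J)]
    (p₀ : ℕ) (hTor : ∀ p, p₀ ≤ p → Subsingleton (DRing.Tor (R ⧸ I) p (S ⧸ J)
      ((R ⧸ I) ⧸ (maximalIdeal R).map (Ideal.Quotient.mk I))))
    (x : S) (hx : x ∈ I.map (algebraMap R S)) (hxm : x ∈ maximalIdeal S * J) :
    x ∈ maximalIdeal S * I.map (algebraMap R S) := by
  classical
  letI : Algebra (S ⧸ I.map (algebraMap R S)) (S ⧸ J) := (Ideal.Quotient.factor hIJ).toAlgebra
  haveI : IsScalarTower S (S ⧸ I.map (algebraMap R S)) (S ⧸ J) :=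
    IsScalarTower.of_algebraMap_eq (fun x => rfl)
  haveI := flat_quot (S := S) I
  let S₀ : ModuleCat.{u} (S ⧸ I.map (algebraMap R S)) :=
    ModuleCat.of (S ⧸ I.map (algebraMap R S)) (S ⧸ J)
  -- the identification of the two `R ⧸ I`-module structures on `S ⧸ J`
  let e0 : (S ⧸ J) ≃ₗ[R ⧸ I] (toR (R ⧸ I) (Zc S₀ 0)) :=
    { toFun := fun x => x
      invFun := fun x => x
      map_add' := fun _ _ => rfl
      map_smul' := fun a y => by
        obtain ⟨r, rfl⟩ := Ideal.Quotient.mk_surjective a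
        obtain ⟨y', rfl⟩ := Ideal.Quotient.mk_surjective y
        refine Eq.trans ?_ (smul_def' (R ⧸ I) S₀ _ _).symm
        have h1 : (Ideal.Quotient.mk I r) • (Ideal.Quotient.mk J y') =
            r • (Ideal.Quotient.mk J y') := algebraMap_smul (R ⧸ I) r _
        refine h1.trans ?_
        rw [Algebra.smul_def]
        exact (Algebra.smul_def (A := S ⧸ J)
          (algebraMap (R ⧸ I) (S ⧸ I.map (algebraMap R S)) (Ideal.Quotient.mk I r))
          (Ideal.Quotient.mk J y')).symm
      left_inv := fun _ => rfl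
      right_inv := fun _ => rfl }
  -- step 1
  have h1 : ∀ j, p₀ ≤ j → StepAt S₀ (((maximalIdeal R).map (Ideal.Quotient.mk I)).map
      (algebraMap (R ⧸ I) (S ⧸ I.map (algebraMap R S)))) j := by
    intro j hj v hv
    refine tor_step (R ⧸ I) S₀ ((maximalIdeal R).map (Ideal.Quotient.mk I)) j ?_ v hv
    have := hTor (j + 1) (by omega)
    have hz : IsZero (TorZ (j + 1) (ModuleCat.of (R ⧸ I) (S ⧸ J))
        (ModuleCat.of (R ⧸ I) ((R ⧸ I) ⧸ (maximalIdeal R).map (Ideal.Quotient.mk I)))) :=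
      ModuleCat.isZero_of_subsingleton _
    exact hz.of_iso ((((Tor (ModuleCat.{u} (R ⧸ I)) (j + 1)).mapIso
      e0.toModuleIso).app _).symm)
  -- step 2: regular parameters of the fibre
  have hle : I.map (algebraMap R S) ≤ (maximalIdeal R).map (algebraMap R S) :=
    Ideal.map_mono (le_maximalIdeal hI)
  have hmS : (maximalIdeal R).map (algebraMap R S) ≤ maximalIdeal S := by
    rw [Ideal.map_le_iff_le_comap]
    intro a ha
    exact map_nonunit (algebraMap R S) a ha
  let ρ := Ideal.Quotient.factor hle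
  have hρ : Function.Surjective ρ := Ideal.Quotient.factor_surjective hle
  have hker : RingHom.ker ρ = ((maximalIdeal R).map (Ideal.Quotient.mk I)).map
      (algebraMap (R ⧸ I) (S ⧸ I.map (algebraMap R S))) := by
    rw [ker_factor hle, Ideal.map_map, Ideal.map_map]
    rfl
  obtain ⟨xs, hxs1, hxs2⟩ :=
    exists_regular_parameters (S ⧸ Ideal.map (algebraMap R S) (maximalIdeal R))
  obtain ⟨ys, hys, hreg, hsup⟩ := exists_lift_regular ρ hρ xs hxs2.toIsWeaklyRegular
  have h2 := stepAt_ofList S₀ _ p₀ h1 ys (by rw [← hker]; exact hreg)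
  have hmax : ((maximalIdeal R).map (Ideal.Quotient.mk I)).map
      (algebraMap (R ⧸ I) (S ⧸ I.map (algebraMap R S))) ⊔ Ideal.ofList ys =
      (maximalIdeal S).map (Ideal.Quotient.mk (I.map (algebraMap R S))) := by
    rw [← hker, hsup, hxs1]
    have hM : ((maximalIdeal S).map
        (Ideal.Quotient.mk ((maximalIdeal R).map (algebraMap R S)))).IsMaximal :=
      Ideal.IsMaximal.map_of_surjective_of_ker_le Ideal.Quotient.mk_surjective
        (by rw [Ideal.mk_ker]; exact hmS)
    rw [← IsLocalRing.eq_maximalIdeal hM]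
    have h3 : (maximalIdeal S).map (Ideal.Quotient.mk ((maximalIdeal R).map (algebraMap R S))) =
        ((maximalIdeal S).map (Ideal.Quotient.mk (I.map (algebraMap R S)))).map ρ := by
      rw [Ideal.map_map]
      rfl
    rw [h3, Ideal.comap_map_of_surjective ρ hρ, ← RingHom.ker_eq_comap_bot, ker_factor hle]
    exact sup_eq_left.2 (Ideal.map_mono hmS)
  rw [hmax] at h2
  exact stacks_09PZ_step (I.map (algebraMap R S)) J hIJ hJ (p₀ + ys.length + 1)
    (2 * (p₀ + ys.length + 1) - 1) (by omega) (h2 _ (by omega)) x hx hxm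

end Groth.Agent.Lib.Helper91.AvramovRel
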