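import Mathlib
import Groth.Agent.Lib.Helper91.AvramovRel
import Groth.Agent.Lib.Helper91.AvramovDescent
import Groth.Agent.Lib.Helper91.AvramovKoszulTD
import Groth.Agent.Lib.Helper10.RegSeqTorDim

/-!
# Stacks 09Q1: the relative form, assembled
-/

universe u

open IsLocalRing CategoryTheory CategoryTheory.Limits RingTheory.Sequence

namespace Groth.Agent.Lib.Helper91.AvramovRelMain

open Groth.Agent.Lib.Helper91.AvramovFlat Groth.Agent.Lib.Helper91.AvramovRel
  Groth.Agent.Lib.Helper91.AvramovRelPre Groth.Agent.Lib.Helper91.AvramovDescent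
  Groth.Agent.Lib.Helper91.AvramovKoszulTD Groth.Agent.Lib.Helper35.TA

variable {R S : Type u} [CommRing R] [CommRing S] [Algebra R S]

section backward

variable [Module.Flat R S]

/-- (3) ⇒ `J` is generated by a regular sequence -/
theorem jreg_of_P3 (I : Ideal R) (J : Ideal S) (hJ : J ≠ ⊤) (hIJ : I.map (algebraMap R S) ≤ J)
    (h1 : ∃ rs : List R, Ideal.ofList rs = I ∧ IsRegular R rs)
    (h2 : ∃ rs' : List (S ⧸ I.map (algebraMap R S)),
        Ideal.ofList rs' = J.map (Ideal.Quotient.mk (I.map (algebraMap R S))) ∧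
          IsRegular (S ⧸ I.map (algebraMap R S)) rs') :
    ∃ rs : List S, Ideal.ofList rs = J ∧ IsRegular S rs := by
  obtain ⟨fs, hfs, hfreg⟩ := h1
  obtain ⟨rs', hrs', hreg'⟩ := h2
  let IS : Ideal S := I.map (algebraMap R S)
  have hmk : Function.Surjective (Ideal.Quotient.mk IS) := Ideal.Quotient.mk_surjective
  let gs : List S := rs'.map (Function.surjInv hmk)
  have hgs : gs.map (Ideal.Quotient.mk IS) = rs' := by
    simp only [gs, List.map_map]
    conv_rhs => rw [← List.map_id rs']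
    apply List.map_congr_left
    intro q _
    exact Function.surjInv_eq hmk q
  have hfS : Ideal.ofList (fs.map (algebraMap R S)) = IS := by
    rw [← Ideal.map_ofList, hfs]
  have hJ' : Ideal.ofList (fs.map (algebraMap R S) ++ gs) = J := by
    rw [Ideal.ofList_append, hfS]
    have h := ker_sup_ofList (Ideal.Quotient.mk IS) hmk gs
    rw [Ideal.mk_ker, hgs, hrs', Ideal.comap_map_of_surjective _ hmk,
      ← RingHom.ker_eq_comap_bot, Ideal.mk_ker] at h
    rw [h]
    exact sup_eq_left.mpr hIJ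
  refine ⟨fs.map (algebraMap R S) ++ gs, hJ', ?_, ?_⟩
  · rw [isWeaklyRegular_append_iff]
    refine ⟨IsWeaklyRegular.of_flat hfreg.toIsWeaklyRegular, ?_⟩
    have hw : IsWeaklyRegular (S ⧸ IS) gs := by
      rw [← isWeaklyRegular_map_algebraMap_iff (S ⧸ IS) (S ⧸ IS) gs]
      have : gs.map (algebraMap S (S ⧸ IS)) = rs' := hgs
      rw [this]
      exact hreg'.toIsWeaklyRegular
    have heq : (IS : Submodule S S) =
        (Ideal.ofList (fs.map (algebraMap R S)) • ⊤ : Submodule S S) := by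
      rw [hfS]
      exact (Ideal.mul_top IS).symm
    exact ((Submodule.quotEquivOfEq _ _ heq).isWeaklyRegular_congr gs).mp hw
  · rw [hJ']
    intro h
    apply hJ
    have : (⊤ : Submodule S S) = J * ⊤ := h
    rw [Ideal.mul_top] at this
    exact this.symm

/-- (3) ⇒ `S ⧸ J` has finite tor dimension over `R ⧸ I` -/
theorem finTorDim_of_P3 (I : Ideal R) (J : Ideal S) (hIJ : I.map (algebraMap R S) ≤ J)
    [Algebra (R ⧸ I) (S ⧸ J)] [IsScalarTower R (R ⧸ I) (S ⧸ J)]
    (h2 : ∃ rs' : List (S ⧸ I.map (algebraMap R S)),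
        Ideal.ofList rs' = J.map (Ideal.Quotient.mk (I.map (algebraMap R S))) ∧
          IsRegular (S ⧸ I.map (algebraMap R S)) rs') :
    DRing.HasFiniteTorDim (R ⧸ I) (S ⧸ J) := by
  obtain ⟨rs', hrs', hreg'⟩ := h2
  haveI := flat_quot (S := S) I
  have h0 : TD 0 (ModuleCat.of (R ⧸ I) (S ⧸ I.map (algebraMap R S))) := TD_zero_of_flat _
  have h1 := TD_quot_of_isWeaklyRegular (R ⧸ I) rs' (S ⧸ I.map (algebraMap R S)) 0
    hreg'.toIsWeaklyRegular h0
  have heq : (Ideal.ofList rs' • ⊤ : Submodule (S ⧸ I.map (algebraMap R S))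
      (S ⧸ I.map (algebraMap R S))) = J.map (Ideal.Quotient.mk (I.map (algebraMap R S))) := by
    rw [hrs']
    exact Ideal.mul_top _
  let e1 : ((S ⧸ I.map (algebraMap R S)) ⧸ (Ideal.ofList rs' • ⊤ :
      Submodule (S ⧸ I.map (algebraMap R S)) (S ⧸ I.map (algebraMap R S)))) ≃+
        (S ⧸ J) :=
    (Submodule.quotEquivOfEq _ _ heq).toAddEquiv.trans
      (DoubleQuot.quotQuotEquivQuotOfLE hIJ).toAddEquiv
  have he1 : ∀ s : S, e1 (Submodule.Quotient.mk (Ideal.Quotient.mk _ s)) =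
      Ideal.Quotient.mk J s := fun s => rfl
  let e : ((S ⧸ I.map (algebraMap R S)) ⧸ (Ideal.ofList rs' • ⊤ :
      Submodule (S ⧸ I.map (algebraMap R S)) (S ⧸ I.map (algebraMap R S)))) ≃ₗ[R ⧸ I]
        (S ⧸ J) :=
    { e1 with
      map_smul' := fun a z => by
        obtain ⟨r, rfl⟩ := Ideal.Quotient.mk_surjective a
        obtain ⟨z', rfl⟩ := Submodule.Quotient.mk_surjective _ z
        obtain ⟨s, rfl⟩ := Ideal.Quotient.mk_surjective z'
        have h1 : (Ideal.Quotient.mk I r) • (Submodule.Quotient.mk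
            (p := (Ideal.ofList rs' • ⊤ :
              Submodule (S ⧸ I.map (algebraMap R S)) (S ⧸ I.map (algebraMap R S))))
            (Ideal.Quotient.mk (I.map (algebraMap R S)) s)) =
            Submodule.Quotient.mk (Ideal.Quotient.mk (I.map (algebraMap R S))
              (algebraMap R S r * s)) := by
          rw [← Submodule.Quotient.mk_smul, Ideal.Quotient.mk_smul_mk_quotient_map_quotient]
        have h2 : (Ideal.Quotient.mk I r) • (Ideal.Quotient.mk J s) =
            Ideal.Quotient.mk J (algebraMap R S r * s) := by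
          have h3 : (Ideal.Quotient.mk I r) • (Ideal.Quotient.mk J s) =
              r • (Ideal.Quotient.mk J s) := algebraMap_smul (R ⧸ I) r _
          rw [h3, ← Algebra.smul_def]
          rfl
        show e1 _ = (RingHom.id _ (Ideal.Quotient.mk I r)) • e1 _
        rw [h1, he1, he1, RingHom.id_apply, h2] }
  refine ⟨0 + rs'.length, ?_⟩
  rw [hasTorDimLE_iff_TD]
  exact TD_of_iso (R ⧸ I) e.toModuleIso h1

end backward

section forward

variable [IsNoetherianRing R] [IsNoetherianRing S] [IsLocalRing R] [IsLocalRing S]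
  [IsLocalHom (algebraMap R S)] [Module.Flat R S]
  [IsRegularLocalRing (S ⧸ Ideal.map (algebraMap R S) (maximalIdeal R))]

/-- (2) ⇒ (3) -/
theorem P3_of_finite (I : Ideal R) (J : Ideal S) (hI : I ≠ ⊤) (hJ : J ≠ ⊤)
    (hIJ : I.map (algebraMap R S) ≤ J)
    [Algebra (R ⧸ I) (S ⧸ J)] [IsScalarTower R (R ⧸ I) (S ⧸ J)]
    (hJreg : ∃ rs : List S, Ideal.ofList rs = J ∧ IsRegular S rs)
    (hfin : Set.Finite {p : ℕ | ¬Subsingleton (DRing.Tor (R ⧸ I) p (S ⧸ J)
        ((R ⧸ I) ⧸ (maximalIdeal R).map (Ideal.Quotient.mk I)))}) :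
    (∃ rs : List R, Ideal.ofList rs = I ∧ IsRegular R rs) ∧
      ∃ rs' : List (S ⧸ I.map (algebraMap R S)),
        Ideal.ofList rs' = J.map (Ideal.Quotient.mk (I.map (algebraMap R S))) ∧
          IsRegular (S ⧸ I.map (algebraMap R S)) rs' := by
  obtain ⟨p₀, hp₀⟩ := hfin.bddAbove
  have H : ∀ x ∈ I.map (algebraMap R S), x ∈ maximalIdeal S * J →
      x ∈ maximalIdeal S * I.map (algebraMap R S) := fun x hx hxm =>
    rel_09PZ I J hI hJ hIJ (p₀ + 1) (fun p hp => by
      by_contra hns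
      have := hp₀ hns
      omega) x hx hxm
  obtain ⟨h1, h2⟩ := Groth.Agent.Lib.Helper10.RegSeqTorDim.regular_of_mem_maximal_mul
    (I.map (algebraMap R S)) J hIJ hJ H hJreg
  exact ⟨regular_descent I hI h1, h2⟩

/-- (1) ⇒ (2) -/
theorem finite_of_finTorDim (I : Ideal R) (J : Ideal S)
    [Algebra (R ⧸ I) (S ⧸ J)]
    (h : DRing.HasFiniteTorDim (R ⧸ I) (S ⧸ J)) :
    Set.Finite {p : ℕ | ¬Subsingleton (DRing.Tor (R ⧸ I) p (S ⧸ J)
        ((R ⧸ I) ⧸ (maximalIdeal R).map (Ideal.Quotient.mk I)))} := by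
  obtain ⟨n, hn⟩ := h
  refine (Set.finite_Iic n).subset ?_
  intro p hp
  by_contra hlt
  exact hp (hn _ p (not_le.mp hlt))

end forward

end Groth.Agent.Lib.Helper91.AvramovRelMain
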