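import Groth.Agent.Lib.Helper91.FormsEval

/-!
# Orbit maps of the special linear group on forms, evaluated at matrix points (helper91)
-/

set_option autoImplicit false
universe u v

open CoordGrp MvPolynomial TensorProduct
open Groth.Agent.Lib.Helper91.FormsEval

namespace Groth.Agent.Lib.Helper91.FormsOrbit

section Setup

variable {k : Type u} [CommRing k] (N d : ℕ)

/-- the bialgebra map from the matrix monoid to the special linear group -/
noncomputable abbrev phiSL : Mat N k →ₐc[k] SLn N k := (SLn.mkHom N k).comp (Mat.toGLn N k)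

/-- the comodule structure of the statements -/
noncomputable abbrev cmd : HopfRep.Comod k (SLn N k) (FormRing k N d) :=
  GLin.comodAlong (phiSL N) (formsCoact k N d)

theorem ica : @GLin.IsCoactAlg k _ (SLn N k) _ _ (FormRing k N d) _ _ (cmd N d) :=
  GLin.isCoactAlg_comodAlong _ _ (formsCoact_isCoactAlg k N d)

/-- the orbit map of the point `a` -/
noncomputable abbrev orb (a : FormIdx N d → k) : FormRing k N d →ₐ[k] SLn N k :=
  @GLin.orbitHom k _ (SLn N k) _ _ (FormRing k N d) _ _ (cmd N d) (ica N d) (GLin.vecPt k _ a)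

theorem orb_X (a : FormIdx N d → k) (m : FormIdx N d) :
    orb N d a (X m) = ∑ l, a l • (phiSL N (formCoeff k N d l m) : SLn N k) := by
  change (Algebra.TensorProduct.lid k (SLn N k))
    ((Algebra.TensorProduct.map (GLin.vecPt k _ a) (AlgHom.id k (SLn N k)))
      (TensorProduct.map LinearMap.id
        ((phiSL N : Mat N k →ₐc[k] SLn N k) : Mat N k →ₗ[k] SLn N k)
        (formsCoactAlg k N d (X m)))) = _
  rw [formsCoactAlg_X, map_sum, map_sum, map_sum]
  refine Finset.sum_congr rfl fun l _ => ?_
  rw [TensorProduct.map_tmul, Algebra.TensorProduct.map_tmul, Algebra.TensorProduct.lid_tmul]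
  simp

variable {N d}
variable {B : Type v} [CommRing B] [Algebra k B]

/-- the matrix of a point of the special linear group -/
noncomputable def matOf (γ : SLn N k →ₐ[k] B) : Matrix (Fin N) (Fin N) B := fun i j => γ (SLn.X i j)

theorem comp_phiSL (γ : SLn N k →ₐ[k] B) :
    γ.comp ((phiSL N : Mat N k →ₐc[k] SLn N k) : Mat N k →ₐ[k] SLn N k) =
      Mat.aeval N k (matOf γ) := by
  apply Mat.algHom_ext
  intro i j
  rw [Mat.aeval_X]
  change γ (SLn.mk N k (Mat.toGLn N k (Mat.X i j))) = _
  rw [Mat.toGLn_X]
  rfl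

/-- The point `a` moved by the point `γ` of the special linear group. -/
theorem comp_orb (γ : SLn N k →ₐ[k] B) (a : FormIdx N d → k) :
    γ.comp (orb N d a) = aeval (movedPt a (matOf γ)) := by
  apply MvPolynomial.algHom_ext
  intro m
  rw [AlgHom.comp_apply, orb_X, map_sum, aeval_X, movedPt]
  refine Finset.sum_congr rfl fun l _ => ?_
  rw [map_smul, Algebra.smul_def, cM, ← comp_phiSL]
  rfl

theorem matOf_pt (M : Matrix (Fin N) (Fin N) B) (h : M.det = 1) :
    matOf (SLn.pt N k M h) = M := by
  ext i j
  exact SLn.pt_X M h i j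

theorem det_matOf (γ : SLn N k →ₐ[k] B) : (matOf γ).det = 1 := by
  have h1 : matOf γ = (γ.comp (SLn.mk N k)).mapMatrix (GLn.genMat N k) := by
    ext i j
    rfl
  rw [h1, ← AlgHom.map_det, ← GLn.det_eq, AlgHom.comp_apply, SLn.det_eq_one, map_one]

variable (k N) in
theorem finiteType_SLn : Algebra.FiniteType k (SLn N k) := by
  have : Algebra.FiniteType k (GLb N k) :=
    inferInstanceAs (Algebra.FiniteType k (MvPolynomial (GLPoly.Idx N) k))
  have h1 : Function.Surjective (GLn.mk N k) := Ideal.Quotient.mkₐ_surjective k _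
  have h2 : Function.Surjective (SLn.mk N k) := Ideal.Quotient.mkₐ_surjective k _
  exact Algebra.FiniteType.of_surjective ((SLn.mk N k).comp (GLn.mk N k)) (h2.comp h1)

theorem multinomial_dvd_factorial (m : FormIdx N d) : m.1.multinomial ∣ d.factorial := by
  have h := Nat.multinomial_spec m.1.support m.1
  have hd : ∑ i ∈ m.1.support, m.1 i = d := m.2
  rw [hd] at h
  exact ⟨_, by rw [← h, Finsupp.multinomial_eq, mul_comm]⟩

theorem isUnit_multinomial (hd : IsUnit ((d.factorial : ℕ) : B)) (m : FormIdx N d) :
    IsUnit ((m.1.multinomial : ℕ) : B) :=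
  isUnit_of_dvd_unit (Nat.cast_dvd_cast (multinomial_dvd_factorial m)) hd

/-- A point is determined by its form when `d!` is invertible. -/
theorem eq_of_formPoly_eq (hd : IsUnit ((d.factorial : ℕ) : B)) {a' a'' : FormIdx N d → B}
    (h : formPoly a' = formPoly a'') : a' = a'' := by
  funext m
  have h1 := congrArg (coeff m.1) h
  rw [coeff_formPoly, coeff_formPoly] at h1
  exact (isUnit_multinomial hd m).mul_left_cancel h1

/-- Recognising the form of a point from its coefficients. -/
theorem formPoly_eq_of_coeff (a' : FormIdx N d → B) (H : MvPolynomial (Fin N) B)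
    (hH : H.IsHomogeneous d)
    (h : ∀ m : FormIdx N d, ((m.1.multinomial : ℕ) : B) * a' m = coeff m.1 H) :
    formPoly a' = H := by
  classical
  ext s
  by_cases hs : s.degree = d
  · have := coeff_formPoly a' ⟨s, hs⟩
    rw [this, h]
  · rw [hH.coeff_eq_zero hs, formPoly, coeff_sum]
    refine Finset.sum_eq_zero fun l _ => ?_
    rw [coeff_monomial, if_neg]
    intro hl
    exact hs (hl ▸ l.2)

theorem formPoly_map {B' : Type*} [CommRing B'] (f : B →+* B') (a' : FormIdx N d → B) :
    MvPolynomial.map f (formPoly a') = formPoly (fun m => f (a' m)) := by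
  rw [formPoly, formPoly, map_sum]
  refine Finset.sum_congr rfl fun m _ => ?_
  rw [map_monomial, map_mul, map_natCast]

/-- A point of the group fixing `a` kills the stabiliser ideal. -/
theorem kills_stabIdeal (γ : SLn N k →ₐ[k] B) (a : FormIdx N d → k)
    (h : movedPt a (matOf γ) = fun m => algebraMap k B (a m)) :
    ∀ f ∈ @GLin.stabIdeal k _ (SLn N k) _ _ (FormRing k N d) _ _ (cmd N d) (ica N d)
      (GLin.vecPt k _ a), γ f = 0 := by
  intro f hf
  have hle : @GLin.stabIdeal k _ (SLn N k) _ _ (FormRing k N d) _ _ (cmd N d) (ica N d)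
      (GLin.vecPt k _ a) ≤ RingHom.ker γ := by
    change Ideal.map (orb N d a) (RingHom.ker (GLin.vecPt k _ a)) ≤ _
    rw [Ideal.map_le_iff_le_comap]
    intro r hr
    rw [Ideal.mem_comap, RingHom.mem_ker]
    have h1 : γ (orb N d a r) = (γ.comp (orb N d a)) r := rfl
    rw [h1, comp_orb, h]
    have h2 := MvPolynomial.aeval_algebraMap_apply (B := B) a r
    change aeval (fun m => algebraMap k B (a m)) r = _ at h2
    rw [h2]
    have h3 : (aeval a) r = 0 := hr
    rw [h3, map_zero]
  exact hle hf

end Setup

end Groth.Agent.Lib.Helper91.FormsOrbit
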