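import Mathlib

/-!
# Auxiliary lemmas on adic completeness

(precompleteness of finite products and quotients; finite modules over complete Noetherian rings;
proofs follow helper12 `ComplFlat` and helper47 `ComplMapFinite`.)
-/

namespace Groth.Agent.Lib.Helper91.AdicAux

variable {A : Type*} [CommRing A] (J : Ideal A)
  {P Q : Type*} [AddCommGroup P] [Module A P] [AddCommGroup Q] [Module A Q]

theorem map_mem_smul_top (f : P →ₗ[A] Q) {x : P} (hx : x ∈ J • (⊤ : Submodule A P)) :
    f x ∈ J • (⊤ : Submodule A Q) := by
  have : (J • (⊤ : Submodule A P)).map f ≤ J • ⊤ := by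
    rw [Submodule.map_smul'']
    exact Submodule.smul_mono le_rfl le_top
  exact this ⟨x, hx, rfl⟩

theorem isPrecomplete_of_surjective (f : P →ₗ[A] Q) (hf : Function.Surjective f)
    [IsPrecomplete J P] : IsPrecomplete J Q := by
  rw [← AdicCompletion.of_surjective_iff]
  have h1 : Function.Surjective (AdicCompletion.map J f) := AdicCompletion.map_surjective J hf
  have h2 : Function.Surjective (AdicCompletion.of J P) := AdicCompletion.of_surjective J P
  intro y
  obtain ⟨x, rfl⟩ := h1 y
  obtain ⟨p, rfl⟩ := h2 x
  exact ⟨f p, (AdicCompletion.map_of J f p).symm⟩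

theorem isHausdorff_pi (ι : Type*) (M : Type*) [AddCommGroup M] [Module A M] [IsHausdorff J M] :
    IsHausdorff J (ι → M) := by
  refine ⟨fun x hx => ?_⟩
  funext i
  refine IsHausdorff.haus' (I := J) (x i) (fun n => ?_)
  rw [SModEq.zero]
  have := hx n
  rw [SModEq.zero] at this
  exact map_mem_smul_top (J ^ n) (LinearMap.proj (R := A) (φ := fun _ : ι => M) i) this

theorem mem_smul_top_pi {ι : Type*} [Finite ι] {M : Type*} [AddCommGroup M] [Module A M]
    (x : ι → M) (hx : ∀ i, x i ∈ J • (⊤ : Submodule A M)) :
    x ∈ J • (⊤ : Submodule A (ι → M)) := by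
  classical
  cases nonempty_fintype ι
  rw [← Finset.univ_sum_single x]
  refine Submodule.sum_mem _ (fun i _ => ?_)
  exact map_mem_smul_top J (LinearMap.single A (fun _ : ι => M) i) (hx i)

theorem isPrecomplete_pi (ι : Type*) [Finite ι] (M : Type*) [AddCommGroup M] [Module A M]
    [IsPrecomplete J M] : IsPrecomplete J (ι → M) := by
  refine ⟨fun f hf => ?_⟩
  have h1 : ∀ i : ι, ∃ L : M, ∀ n, f n i ≡ L [SMOD (J ^ n • ⊤ : Submodule A M)] := by
    intro i
    refine IsPrecomplete.prec' (I := J) (fun n => f n i) ?_
    intro m n hmn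
    have := hf hmn
    rw [SModEq.sub_mem] at this ⊢
    exact map_mem_smul_top (J ^ m) (LinearMap.proj (R := A) (φ := fun _ : ι => M) i) this
  choose L hL using h1
  refine ⟨L, fun n => ?_⟩
  rw [SModEq.sub_mem]
  refine mem_smul_top_pi (J ^ n) _ (fun i => ?_)
  have := hL i n
  rw [SModEq.sub_mem] at this
  exact this

/-- a finite module over a Noetherian adically complete ring is adically complete -/
theorem isAdicComplete_of_finite [IsNoetherianRing A] [IsAdicComplete J A]
    (M : Type*) [AddCommGroup M] [Module A M] [Module.Finite A M] : IsAdicComplete J M := by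
  have h1 : IsHausdorff J M := IsHausdorff.of_le_jacobson J M (IsAdicComplete.le_jacobson_bot J)
  obtain ⟨n, f, hf⟩ := Module.Finite.exists_fin' A M
  have h2 : IsPrecomplete J (Fin n → A) := isPrecomplete_pi J (Fin n) A
  have h3 : IsPrecomplete J M := isPrecomplete_of_surjective J f hf
  exact { }

end Groth.Agent.Lib.Helper91.AdicAux
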