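import Groth.Agent.Lib.Helper88.FormalFn.Interface

/-!
# The algebra of the theorem on formal functions (EGA III 4.1.5), for helper88's `FFData`

For `D : FFData A I f` with `f i ∈ I` for all `i`, we prove `D.C1` (kernels of `H → P n` are
adically small), `D.C2` (uniform Mittag-Leffler) and `D.C3` (`AdicCompletion I H ≃ lim P n`).
-/

set_option autoImplicit false
universe u v

namespace Groth.Agent.Lib.Helper91.FormalFnAlg

open Groth.Agent.Lib.Helper88.FormalFn

variable {A : Type u} [CommRing A] {I : Ideal A} {ι : Type v} {f : ι → A} (D : FFData A I f)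

/-! ### C1 -/

theorem range_a_succ_le (hf : ∀ i, f i ∈ I) {n : ℕ}
    (hgen : (⊤ : Submodule A (D.NF.N (n + 1))) =
      ⨆ i ∈ (Set.univ : Set ι), (⊤ : Submodule A (D.NF.N n)).map (D.NF.T i n)) :
    LinearMap.range (D.a (n + 1)) ≤ I • LinearMap.range (D.a n) := by
  have h1 : (⊤ : Submodule A (D.NF.N (n + 1))) ≤
      (I • LinearMap.range (D.a n)).comap (D.a (n + 1)) := by
    rw [hgen]
    refine iSup₂_le fun i _ => ?_
    rintro _ ⟨y, _, rfl⟩
    rw [Submodule.mem_comap, D.a_T]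
    exact Submodule.smul_mem_smul (hf i) (LinearMap.mem_range_self _ y)
  rintro _ ⟨x, rfl⟩
  exact h1 (Submodule.mem_top)

theorem c1 (hf : ∀ i, f i ∈ I) : D.C1 := by
  have hst : D.NF.IsStable Set.univ (fun n => (⊤ : Submodule A (D.NF.N n))) :=
    fun i _ n => le_top
  obtain ⟨n₀, hn₀⟩ := D.NF.eventually_generated D.noeth hst
  refine ⟨n₀, fun n hn => ?_⟩
  obtain ⟨k, rfl⟩ := Nat.exists_eq_add_of_le hn
  rw [Nat.add_sub_cancel_left, ← D.exact_H]
  induction k with
  | zero =>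
    rw [pow_zero, Ideal.one_eq_top, Submodule.top_smul]
    exact le_top
  | succ k ih =>
    have h1 := range_a_succ_le D hf (hn₀ (n₀ + k) (Nat.le_add_right _ _))
    refine h1.trans ?_
    have h2 : I • LinearMap.range (D.a (n₀ + k)) ≤ I • (I ^ k • (⊤ : Submodule A D.H)) :=
      Submodule.smul_mono le_rfl (ih (Nat.le_add_right _ _))
    refine h2.trans ?_
    rw [← Submodule.mul_smul, ← pow_succ']

/-! ### C2 -/

/-- the iterated transition map `N' (n + j) → N' n` -/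
def j'add (n : ℕ) : ∀ j, D.NF'.N (n + j) →ₗ[A] D.NF'.N n
  | 0 => LinearMap.id
  | j + 1 => (j'add n j).comp (D.j' (n + j))

@[simp] theorem j'add_zero (n : ℕ) (y : D.NF'.N n) : j'add D n 0 y = y := rfl

theorem j'add_succ (n j : ℕ) (y : D.NF'.N (n + (j + 1))) :
    j'add D n (j + 1) y = j'add D n j (D.j' (n + j) y) := rfl

theorem δ_τadd (n j : ℕ) (y : D.P (n + j)) :
    D.δ n (D.τadd n j y) = j'add D n j (D.δ (n + j) y) := by
  induction j with
  | zero => rfl
  | succ j ih =>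
    rw [FFData.τadd_succ, ih, j'add_succ]
    congr 1
    exact D.δ_τ (n + j) y

/-- `Q n = ker (a' n) = range (δ n)` -/
def Q (n : ℕ) : Submodule A (D.NF'.N n) := LinearMap.ker (D.a' n)

theorem Q_eq_range (n : ℕ) : Q D n = LinearMap.range (D.δ n) := (D.exact_N' n).symm

theorem isStable_Q : D.NF'.IsStable Set.univ (Q D) := by
  intro i _ n
  rintro _ ⟨x, hx, rfl⟩
  change D.a' (n + 1) (D.NF'.T i n x) = 0
  rw [D.a'_T]
  have hx' : D.a' n x = 0 := hx
  rw [hx', smul_zero]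

theorem killed_Q (n : ℕ) (r : A) (hr : r ∈ I ^ n) (q : D.NF'.N n) (hq : q ∈ Q D n) :
    r • q = 0 := by
  rw [Q_eq_range] at hq
  obtain ⟨y, rfl⟩ := hq
  rw [← map_smul, D.killed n r hr y, map_zero]

theorem j'_map_Q (n : ℕ) (q : D.NF'.N (n + 1)) (hq : q ∈ Q D (n + 1)) : D.j' n q ∈ Q D n := by
  rw [Q_eq_range] at hq ⊢
  obtain ⟨y, rfl⟩ := hq
  exact ⟨D.τ n y, D.δ_τ n y⟩

theorem j'add_map_Q (n j : ℕ) (q : D.NF'.N (n + j)) (hq : q ∈ Q D (n + j)) :
    j'add D n j q ∈ Q D n := by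
  induction j with
  | zero => exact hq
  | succ j ih =>
    rw [j'add_succ]
    exact ih _ (j'_map_Q D (n + j) q hq)

theorem exists_gen_Q : ∃ n₀, ∀ n, n₀ ≤ n →
    Q D (n + 1) = ⨆ i ∈ (Set.univ : Set ι), (Q D n).map (D.NF'.T i n) :=
  D.NF'.eventually_generated D.noeth' (isStable_Q D)

/-- `I ^ n₀` kills all `Q n`. -/
theorem killed_Q_uniform {n₀ : ℕ} (hn₀ : ∀ n, n₀ ≤ n →
    Q D (n + 1) = ⨆ i ∈ (Set.univ : Set ι), (Q D n).map (D.NF'.T i n))
    (n : ℕ) (r : A) (hr : r ∈ I ^ n₀) (q : D.NF'.N n) (hq : q ∈ Q D n) : r • q = 0 := by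
  by_cases hn : n ≤ n₀
  · exact killed_Q D n r (Ideal.pow_le_pow_right hn hr) q hq
  · push Not at hn
    have key : ∀ m, n₀ ≤ m → Q D m ≤ LinearMap.ker (LinearMap.lsmul A (D.NF'.N m) r) := by
      intro m hm
      induction m, hm using Nat.le_induction with
      | base =>
        intro q hq
        rw [LinearMap.mem_ker, LinearMap.lsmul_apply]
        exact killed_Q D n₀ r hr q hq
      | succ m hm ih =>
        rw [hn₀ m hm]
        refine iSup₂_le fun i _ => ?_
        rintro _ ⟨x, hx, rfl⟩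
        rw [LinearMap.mem_ker, LinearMap.lsmul_apply, ← map_smul]
        have := ih hx
        rw [LinearMap.mem_ker, LinearMap.lsmul_apply] at this
        rw [this, map_zero]
    have := key n hn.le hq
    rwa [LinearMap.mem_ker, LinearMap.lsmul_apply] at this

theorem j'add_map_Q_le (hf : ∀ i, f i ∈ I) {n₀ : ℕ} (hn₀ : ∀ n, n₀ ≤ n →
    Q D (n + 1) = ⨆ i ∈ (Set.univ : Set ι), (Q D n).map (D.NF'.T i n)) (n j : ℕ) :
    (Q D (n + j)).map (j'add D n j) ≤ I ^ (j - n₀) • Q D n := by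
  induction j with
  | zero =>
    rw [Nat.zero_sub, pow_zero, Ideal.one_eq_top, Submodule.top_smul]
    rintro _ ⟨q, hq, rfl⟩
    exact hq
  | succ j ih =>
    by_cases h : n₀ ≤ n + j
    · rw [Submodule.map_le_iff_le_comap]
      change Q D (n + j + 1) ≤ _
      rw [hn₀ (n + j) h]
      refine iSup₂_le fun i _ => ?_
      rintro _ ⟨x, hx, rfl⟩
      rw [Submodule.mem_comap, j'add_succ, D.j'_T, map_smul]
      have h1 : j'add D n j x ∈ I ^ (j - n₀) • Q D n := ih ⟨x, hx, rfl⟩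
      have h2 : f i • j'add D n j x ∈ I • (I ^ (j - n₀) • Q D n) :=
        Submodule.smul_mem_smul (hf i) h1
      rw [← Submodule.mul_smul, ← pow_succ'] at h2
      exact Submodule.smul_mono_left (Ideal.pow_le_pow_right (by omega)) h2
    · have h0 : j + 1 - n₀ = 0 := by omega
      rw [h0, pow_zero, Ideal.one_eq_top, Submodule.top_smul]
      rintro _ ⟨q, hq, rfl⟩
      exact j'add_map_Q D n (j + 1) q hq

theorem c2 (hf : ∀ i, f i ∈ I) : D.C2 := by
  obtain ⟨n₀, hn₀⟩ := exists_gen_Q D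
  refine ⟨2 * n₀, fun n j hj => le_antisymm ?_ ?_⟩
  · rintro _ ⟨y, rfl⟩
    rw [D.exact_P, LinearMap.mem_ker, δ_τadd]
    have hq : D.δ (n + j) y ∈ Q D (n + j) := by
      rw [Q_eq_range]; exact LinearMap.mem_range_self _ y
    have h1 : j'add D n j (D.δ (n + j) y) ∈ I ^ (j - n₀) • Q D n :=
      j'add_map_Q_le D hf hn₀ n j ⟨_, hq, rfl⟩
    have h2 : I ^ (j - n₀) • Q D n ≤ ⊥ := by
      rw [Submodule.smul_le]
      intro r hr q hq
      rw [Submodule.mem_bot]
      exact killed_Q_uniform D hn₀ n r (Ideal.pow_le_pow_right (by omega) hr) q hq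
    exact (Submodule.mem_bot A).mp (h2 h1)
  · rintro _ ⟨x, rfl⟩
    exact ⟨D.b (n + j) x, D.τadd_b n j x⟩

/-! ### C3 -/

theorem τadd_limP (y : D.limP) (n j : ℕ) : D.τadd n j (y.1 (n + j)) = y.1 n := by
  induction j with
  | zero => rfl
  | succ j ih =>
    rw [FFData.τadd_succ]
    have h : D.τ (n + j) (y.1 (n + j + 1)) = y.1 (n + j) := y.2 (n + j)
    have h' : D.τ (n + j) (y.1 (n + (j + 1))) = y.1 (n + j) := h
    rw [h', ih]

theorem Φ_injective (hf : ∀ i, f i ∈ I) : Function.Injective D.Φ := by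
  obtain ⟨c, hc⟩ := c1 D hf
  rw [injective_iff_map_eq_zero]
  intro x hx
  obtain ⟨g, rfl⟩ := AdicCompletion.mk_surjective I D.H x
  have h0 : ∀ n, D.b n (g n) = 0 := by
    intro n
    have h1 := congrFun (congrArg Subtype.val hx) n
    exact h1
  apply AdicCompletion.mk_zero_of
  refine ⟨0, fun n _ => ⟨n + c, Nat.le_add_right _ _, n, le_rfl, ?_⟩⟩
  have h1 : g (n + c) ∈ LinearMap.ker (D.b (n + c)) := h0 (n + c)
  have h2 := hc (n + c) (Nat.le_add_left _ _) h1
  rwa [Nat.add_sub_cancel] at h2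

theorem Φ_surjective (hf : ∀ i, f i ∈ I) : Function.Surjective D.Φ := by
  obtain ⟨c₁, hc₁⟩ := c1 D hf
  obtain ⟨c₂, hc₂⟩ := c2 D hf
  intro y
  have hy : ∀ n, y.1 n ∈ LinearMap.range (D.b n) := by
    intro n
    rw [← hc₂ n c₂ le_rfl]
    exact ⟨y.1 (n + c₂), τadd_limP D y n c₂⟩
  choose h hh using hy
  have hdiff : ∀ n, h (n + 1) - h n ∈ LinearMap.ker (D.b n) := by
    intro n
    rw [LinearMap.mem_ker, map_sub, hh n, ← D.τ_b n (h (n + 1)), hh (n + 1)]
    have : D.τ n (y.1 (n + 1)) = y.1 n := y.2 n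
    rw [this, sub_self]
  let g : ℕ → D.H := fun m => h (m + c₁)
  have hg : ∀ m, g m ≡ g (m + 1) [SMOD (I ^ m • ⊤ : Submodule A D.H)] := by
    intro m
    symm
    rw [SModEq.sub_mem]
    have h1 := hc₁ (m + c₁) (Nat.le_add_left _ _) (hdiff (m + c₁))
    rw [Nat.add_sub_cancel] at h1
    have e : g (m + 1) - g m = h (m + c₁ + 1) - h (m + c₁) := by
      simp only [g]
      congr 2
      omega
    rw [e]
    exact h1
  refine ⟨AdicCompletion.mk I D.H (AdicCompletion.AdicCauchySequence.mk I D.H g hg), ?_⟩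
  apply Subtype.ext
  funext m
  change D.b m (h (m + c₁)) = y.1 m
  rw [← D.τadd_b m c₁ (h (m + c₁)), hh (m + c₁), τadd_limP]

theorem c3 (hf : ∀ i, f i ∈ I) : D.C3 := ⟨Φ_injective D hf, Φ_surjective D hf⟩

end Groth.Agent.Lib.Helper91.FormalFnAlg
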