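import Mathlib

/-!
# An affine algebraic set with no points at infinity is finite (helper91)

Let `g j` be polynomials over an algebraically closed field `k` in finitely many variables, with
`g j = h j + (lower order terms)`, `h j` homogeneous of degree `dg j`.  If the `h j` have no common
zero besides the origin, then the `g j` have only finitely many common zeros
(`finite_zeros_of_top_parts`).
-/

set_option autoImplicit false

open MvPolynomial

namespace Groth.Agent.Lib.Helper91.AffineFinite

variable {σ : Type*} {k : Type*} [Field k]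

section hc

attribute [local instance] MvPolynomial.gradedAlgebra

theorem homogeneousComponent_mul_of_isHomogeneous {h : MvPolynomial σ k} (c : MvPolynomial σ k)
    {e : ℕ} (D : ℕ) (hh : h.IsHomogeneous e) :
    homogeneousComponent D (c * h) =
      if e ≤ D then homogeneousComponent (D - e) c * h else 0 := by
  have h1 := DirectSum.coe_decompose_mul_of_right_mem (𝒜 := homogeneousSubmodule σ k) (a := c)
    (b := h) (i := e) D ((mem_homogeneousSubmodule e h).mpr hh)
  have h2 : ∀ (φ : MvPolynomial σ k) (i : ℕ),
      (DirectSum.decompose (homogeneousSubmodule σ k) φ i : MvPolynomial σ k) =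
        homogeneousComponent i φ := fun φ i => decomposition.decompose'_apply φ i
  rw [h2, h2] at h1
  exact h1

end hc

/-- A homogeneous element of the ideal generated by homogeneous elements `h j` is a combination
of the `h j` with coefficients of the right degrees. -/
theorem exists_combination_of_isHomogeneous {ι : Type*} (h : ι → MvPolynomial σ k) (dg : ι → ℕ)
    (hh : ∀ j, (h j).IsHomogeneous (dg j)) {q : MvPolynomial σ k} {D : ℕ}
    (hq : q.IsHomogeneous D) (hmem : q ∈ Ideal.span (Set.range h)) :
    ∃ (s : Finset ι) (c : ι → MvPolynomial σ k),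
      (∀ j, (c j).totalDegree + dg j ≤ D ∨ c j = 0) ∧ q = ∑ j ∈ s, c j * h j := by
  classical
  obtain ⟨c₀, hc₀⟩ := Finsupp.mem_ideal_span_range_iff_exists_finsupp.mp hmem
  refine ⟨c₀.support, fun j => if dg j ≤ D then homogeneousComponent (D - dg j) (c₀ j) else 0,
    ?_, ?_⟩
  · intro j
    beta_reduce
    by_cases hj : dg j ≤ D
    · left
      rw [if_pos hj]
      have := (homogeneousComponent_isHomogeneous (D - dg j) (c₀ j)).totalDegree_le
      omega
    · right
      rw [if_neg hj]
  · have h1 : q = homogeneousComponent D q := by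
      rw [homogeneousComponent_of_mem ((mem_homogeneousSubmodule D q).mpr hq), if_pos rfl]
    conv_lhs => rw [h1, ← hc₀, Finsupp.sum, map_sum]
    refine Finset.sum_congr rfl fun j _ => ?_
    rw [homogeneousComponent_mul_of_isHomogeneous _ D (hh j)]
    beta_reduce
    by_cases hj : dg j ≤ D
    · rw [if_pos hj, if_pos hj]
    · rw [if_neg hj, if_neg hj, zero_mul]

/-- Nullstellensatz step: if the `h j` have only the origin as a common zero, a power of every
variable lies in the ideal they generate. -/
theorem exists_pow_mem [Finite σ] [IsAlgClosed k] {ι : Type*} (h : ι → MvPolynomial σ k)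
    (hzero : ∀ x : σ → k, (∀ j, eval x (h j) = 0) → x = 0) :
    ∃ M : ℕ, ∀ i : σ, (X i : MvPolynomial σ k) ^ M ∈ Ideal.span (Set.range h) := by
  classical
  have := Fintype.ofFinite σ
  have h1 : ∀ i : σ, (X i : MvPolynomial σ k) ∈ (Ideal.span (Set.range h)).radical := by
    intro i
    rw [← vanishingIdeal_zeroLocus_eq_radical (K := k)]
    intro x hx
    have hx0 : x = 0 := hzero x (fun j => by
      exact hx (h j) (Ideal.subset_span ⟨j, rfl⟩))
    subst hx0
    simp
  choose n hn using h1
  refine ⟨Finset.univ.sup n, fun i => ?_⟩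
  have hle : n i ≤ Finset.univ.sup n := Finset.le_sup (Finset.mem_univ i)
  obtain ⟨t, ht⟩ := Nat.exists_eq_add_of_le hle
  rw [ht, pow_add]
  exact Ideal.mul_mem_right _ _ (hn i)

/-- a homogeneous polynomial of large degree lies in an ideal containing a power of each
variable. -/
theorem mem_of_isHomogeneous_of_pow_mem [Fintype σ] {I : Ideal (MvPolynomial σ k)} {M : ℕ}
    (hM : ∀ i : σ, (X i : MvPolynomial σ k) ^ M ∈ I) {q : MvPolynomial σ k} {D : ℕ}
    (hq : q.IsHomogeneous D) (hD : Fintype.card σ * M < D) : q ∈ I := by
  classical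
  rw [q.as_sum]
  refine Ideal.sum_mem _ fun m hm => ?_
  have hdeg : m.degree = D := by
    by_contra hne
    exact (mem_support_iff.mp hm) (hq.coeff_eq_zero hne)
  obtain ⟨i, hi⟩ : ∃ i, M ≤ m i := by
    by_contra hcon
    push Not at hcon
    have h1 : m.degree ≤ Fintype.card σ * M := by
      rw [Finsupp.degree_eq_sum]
      calc ∑ i, m i ≤ ∑ _i : σ, M := Finset.sum_le_sum fun i _ => (hcon i).le
        _ = Fintype.card σ * M := by simp
    omega
  have hm' : m = (m - Finsupp.single i M) + Finsupp.single i M := by
    rw [tsub_add_cancel_of_le]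
    rw [Finsupp.single_le_iff]
    exact hi
  rw [hm', monomial_add_single]
  exact Ideal.mul_mem_left _ _ (hM i)

theorem totalDegree_sub_homogeneousComponent_lt {f : MvPolynomial σ k} {D : ℕ} (hD : 1 ≤ D)
    (hf : f.totalDegree ≤ D) : (f - homogeneousComponent D f).totalDegree < D := by
  classical
  rw [totalDegree, Finset.sup_lt_iff (show (⊥ : ℕ) < D by rw [Nat.bot_eq_zero]; omega)]
  intro m hm
  rw [mem_support_iff, coeff_sub, coeff_homogeneousComponent] at hm
  have h1 : m.degree ≠ D := by
    intro h
    rw [if_pos h, sub_self] at hm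
    exact hm rfl
  rw [if_neg h1, sub_zero] at hm
  have h2 := le_totalDegree (mem_support_iff.mpr hm)
  have h3 : m.degree = m.sum fun _ e => e := by
    rw [Finsupp.degree_apply]
    rfl
  omega

theorem sup_eq_top [Finite σ] [IsAlgClosed k] {ι : Type*} (g h : ι → MvPolynomial σ k)
    (dg : ι → ℕ) (hh : ∀ j, (h j).IsHomogeneous (dg j))
    (hlow : ∀ j, (g j - h j).totalDegree < dg j)
    (hzero : ∀ x : σ → k, (∀ j, eval x (h j) = 0) → x = 0) :
    ∃ N : ℕ, restrictTotalDegree σ k N ⊔ (Ideal.span (Set.range g)).restrictScalars k = ⊤ := by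
  classical
  have := Fintype.ofFinite σ
  obtain ⟨M, hM⟩ := exists_pow_mem h hzero
  refine ⟨Fintype.card σ * M, ?_⟩
  set N := Fintype.card σ * M with hN
  set B := restrictTotalDegree σ k N ⊔ (Ideal.span (Set.range g)).restrictScalars k with hB
  have key : ∀ D : ℕ, ∀ f : MvPolynomial σ k, f.totalDegree ≤ D → f ∈ B := by
    intro D
    induction D with
    | zero =>
      intro f hf
      exact Submodule.mem_sup_left ((mem_restrictTotalDegree _ _ _).mpr (by omega))
    | succ D ih =>
      intro f hf
      by_cases hDN : D + 1 ≤ N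
      · exact Submodule.mem_sup_left ((mem_restrictTotalDegree _ _ _).mpr (by omega))
      · push Not at hDN
        have hq : (homogeneousComponent (D + 1) f).IsHomogeneous (D + 1) :=
          homogeneousComponent_isHomogeneous _ _
        have hqI : homogeneousComponent (D + 1) f ∈ Ideal.span (Set.range h) :=
          mem_of_isHomogeneous_of_pow_mem hM hq hDN
        obtain ⟨s, c, hc, hqc⟩ := exists_combination_of_isHomogeneous h dg hh hq hqI
        have h1 : f = (f - homogeneousComponent (D + 1) f) + (∑ j ∈ s, c j * g j) -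
            ∑ j ∈ s, c j * (g j - h j) := by
          rw [hqc]
          simp only [mul_sub, Finset.sum_sub_distrib]
          ring
        rw [h1]
        refine B.sub_mem (B.add_mem (ih _ ?_) (Submodule.mem_sup_right ?_)) (ih _ ?_)
        · have := totalDegree_sub_homogeneousComponent_lt (D := D + 1) (by omega) hf
          omega
        · change (∑ j ∈ s, c j * g j) ∈ Ideal.span (Set.range g)
          exact Ideal.sum_mem _ fun j _ => Ideal.mul_mem_left _ _ (Ideal.subset_span ⟨j, rfl⟩)
        · apply totalDegree_finsetSum_le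
          intro j _
          rcases hc j with hcj | hcj
          · calc (c j * (g j - h j)).totalDegree
                ≤ (c j).totalDegree + (g j - h j).totalDegree := totalDegree_mul _ _
              _ ≤ D := by have := hlow j; omega
          · rw [hcj, zero_mul, totalDegree_zero]
            omega
  rw [eq_top_iff]
  intro f _
  exact key f.totalDegree f le_rfl

/-- **An affine algebraic set with no points at infinity is finite.** -/
theorem finite_zeros_of_top_parts [Finite σ] [IsAlgClosed k] {ι : Type*}
    (g h : ι → MvPolynomial σ k)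
    (dg : ι → ℕ) (hh : ∀ j, (h j).IsHomogeneous (dg j))
    (hlow : ∀ j, (g j - h j).totalDegree < dg j)
    (hzero : ∀ x : σ → k, (∀ j, eval x (h j) = 0) → x = 0) :
    {x : σ → k | ∀ j, eval x (g j) = 0}.Finite := by
  classical
  obtain ⟨N, hN⟩ := sup_eq_top g h dg hh hlow hzero
  set I := Ideal.span (Set.range g) with hI
  have hfin : Module.Finite k (MvPolynomial σ k ⧸ I) := by
    let φ : restrictTotalDegree σ k N →ₗ[k] (MvPolynomial σ k ⧸ I) :=
      (Ideal.Quotient.mkₐ k I).toLinearMap ∘ₗ (restrictTotalDegree σ k N).subtype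
    apply Module.Finite.of_surjective φ
    intro y
    obtain ⟨f, rfl⟩ := Ideal.Quotient.mk_surjective y
    have hf : f ∈ restrictTotalDegree σ k N ⊔ I.restrictScalars k := hN ▸ Submodule.mem_top
    obtain ⟨r, hr, i, hi, rfl⟩ := Submodule.mem_sup.mp hf
    refine ⟨⟨r, hr⟩, ?_⟩
    change Ideal.Quotient.mk I r = Ideal.Quotient.mk I (r + i)
    rw [map_add, (Ideal.Quotient.eq_zero_iff_mem (I := I)).mpr hi, add_zero]
  haveI := hfin
  haveI : Fintype ((MvPolynomial σ k ⧸ I) →ₐ[k] k) := minpoly.AlgHom.fintype k _ k
  have hker : ∀ x : σ → k, (∀ j, eval x (g j) = 0) → ∀ a ∈ I, aeval x a = 0 := by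
    intro x hx a ha
    have hle : I ≤ RingHom.ker (aeval x : MvPolynomial σ k →ₐ[k] k) := by
      rw [hI, Ideal.span_le]
      rintro _ ⟨j, rfl⟩
      exact hx j
    exact hle ha
  let Φ : {x : σ → k | ∀ j, eval x (g j) = 0} → ((MvPolynomial σ k ⧸ I) →ₐ[k] k) := fun x =>
    Ideal.Quotient.liftₐ I (aeval x.1) (hker x.1 x.2)
  have hΦ : Function.Injective Φ := by
    intro x y hxy
    apply Subtype.ext
    funext i
    have h1 := DFunLike.congr_fun hxy (Ideal.Quotient.mk I (X i))
    simpa [Φ] using h1
  exact Set.finite_coe_iff.mp (Finite.of_injective Φ hΦ)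

end Groth.Agent.Lib.Helper91.AffineFinite
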