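import Mathlib

/-!
# The Artin (staircase) basis of `R[t_1..t_n] / (e_i(t) - a_i)`
-/

namespace Helper91.ArtinBasis

open MvPolynomial

universe u

section E

variable {S S' : Type*} [CommRing S] [CommRing S']

/-- elementary symmetric function of the values of `g` -/
noncomputable def E {m : ℕ} (g : Fin m → S) (k : ℕ) : S := (Finset.univ.val.map g).esymm k

theorem E_zero {m : ℕ} (g : Fin m → S) : E g 0 = 1 := by
  simp [E, Multiset.esymm]

theorem univ_map_cons {m : ℕ} (x : S) (g : Fin m → S) :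
    (Finset.univ : Finset (Fin (m + 1))).val.map (Fin.cons x g : Fin (m + 1) → S)
      = x ::ₘ (Finset.univ : Finset (Fin m)).val.map g := by
  rw [Fin.univ_val_map, Fin.univ_val_map, List.ofFn_succ]
  simp

theorem esymm_cons (x : S) (s : Multiset S) (k : ℕ) :
    (x ::ₘ s).esymm (k + 1) = s.esymm (k + 1) + x * s.esymm k := by
  simp only [Multiset.esymm, Multiset.powersetCard_cons, Multiset.map_add, Multiset.sum_add,
    Multiset.map_map, Function.comp_def, Multiset.prod_cons]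
  rw [Multiset.sum_map_mul_left]

theorem E_cons {m : ℕ} (x : S) (g : Fin m → S) (k : ℕ) :
    E (Fin.cons x g : Fin (m + 1) → S) (k + 1) = E g (k + 1) + x * E g k := by
  rw [E, univ_map_cons, esymm_cons]; rfl

theorem E_gt {m : ℕ} (g : Fin m → S) (k : ℕ) (h : m < k) : E g k = 0 := by
  rw [E, Multiset.esymm, Multiset.powersetCard_eq_empty]
  · simp
  · simpa using h

theorem map_esymm' (φ : S →+* S') (s : Multiset S) (k : ℕ) :
    φ (s.esymm k) = (s.map φ).esymm k := by
  simp only [Multiset.esymm]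
  rw [map_multiset_sum, Multiset.map_map, Multiset.powersetCard_map, Multiset.map_map]
  congr 1
  apply Multiset.map_congr rfl
  intro t _
  simp [map_multiset_prod]

theorem map_E (φ : S →+* S') {m : ℕ} (g : Fin m → S) (k : ℕ) : φ (E g k) = E (φ ∘ g) k := by
  rw [E, E, map_esymm', Multiset.map_map]

theorem esymm_eq_E (R : Type*) [CommRing R] (m k : ℕ) :
    esymm (Fin m) R k = E (X : Fin m → MvPolynomial (Fin m) R) k := by
  rw [esymm_eq_multiset_esymm]; rfl

end E


section defs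

variable {R : Type u} [CommRing R]

/-- the ideal generated by `e_i(t) - a_i` -/
noncomputable def I {n : ℕ} (a : Fin n → R) : Ideal (MvPolynomial (Fin n) R) :=
  Ideal.span (Set.range fun i : Fin n => esymm (Fin n) R ((i : ℕ) + 1) - C (a i))

/-- monomials -/
noncomputable def mon {n : ℕ} (R : Type*) [CommRing R] (d : Fin n → ℕ) : MvPolynomial (Fin n) R :=
  ∏ i, X i ^ d i

/-- staircase exponent vectors -/
def Stair (n : ℕ) := {d : Fin n → ℕ // ∀ i, d i < n - i}

/-- `ext a 0 = 1`, `ext a (j+1) = a j` -/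
def ext {n : ℕ} (a : Fin n → R) : ℕ → R
  | 0 => 1
  | (j + 1) => if h : j < n then a ⟨j, h⟩ else 0

@[simp] theorem ext_zero {n : ℕ} (a : Fin n → R) : ext a 0 = 1 := rfl

theorem ext_succ {n : ℕ} (a : Fin n → R) (j : ℕ) (h : j < n) : ext a (j + 1) = a ⟨j, h⟩ := by
  simp [ext, h]

/-- the polynomials `g_j`, with `g_{n}` the monic polynomial whose roots are the `t_i` -/
noncomputable def gpoly {n : ℕ} (a : Fin n → R) : ℕ → Polynomial R
  | 0 => 1
  | (j + 1) => Polynomial.X * gpoly a j + Polynomial.C ((-1) ^ (j + 1) * ext a (j + 1))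

@[simp] theorem gpoly_zero {n : ℕ} (a : Fin n → R) : gpoly a 0 = 1 := rfl

theorem gpoly_succ {n : ℕ} (a : Fin n → R) (j : ℕ) :
    gpoly a (j + 1) = Polynomial.X * gpoly a j + Polynomial.C ((-1) ^ (j + 1) * ext a (j + 1)) := rfl

theorem gpoly_monic [Nontrivial R] {n : ℕ} (a : Fin n → R) (j : ℕ) :
    (gpoly a j).Monic ∧ (gpoly a j).natDegree = j := by
  induction j with
  | zero => exact ⟨Polynomial.monic_one, by simp⟩
  | succ j ih =>
    have h1 : (Polynomial.X * gpoly a j).Monic := Polynomial.monic_X.mul ih.1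
    have h2 : (Polynomial.X * gpoly a j).natDegree = j + 1 := by
      rw [Polynomial.natDegree_X_mul ih.1.ne_zero, ih.2]
    rw [gpoly_succ]
    constructor
    · apply Polynomial.Monic.add_of_left h1
      apply lt_of_le_of_lt Polynomial.degree_C_le
      rw [Polynomial.degree_eq_natDegree h1.ne_zero, h2]
      exact_mod_cast Nat.succ_pos j
    · rw [Polynomial.natDegree_add_C, h2]

end defs


theorem neg_one_pow_mul_self (A : Type*) [CommRing A] (m : ℕ) : ((-1 : A) ^ m) * (-1) ^ m = 1 := by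
  rw [← mul_pow]; simp

section chainQ

variable {R : Type u} [CommRing R] {n : ℕ} (a : Fin (n + 1) → R)

/-- the class of `t_0` -/
noncomputable def τ : MvPolynomial (Fin (n + 1)) R ⧸ I a := Ideal.Quotient.mk (I a) (X 0)

/-- the classes of `t_{j+1}` -/
noncomputable def yv (j : Fin n) : MvPolynomial (Fin (n + 1)) R ⧸ I a :=
  Ideal.Quotient.mk (I a) (X j.succ)

theorem mk_esymm_succ (j : ℕ) (h : j < n + 1) :
    Ideal.Quotient.mk (I a) (esymm (Fin (n + 1)) R (j + 1))
      = algebraMap R (MvPolynomial (Fin (n + 1)) R ⧸ I a) (a ⟨j, h⟩) := by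
  have hmem : esymm (Fin (n + 1)) R (j + 1) - C (a ⟨j, h⟩) ∈ I a :=
    Ideal.subset_span ⟨⟨j, h⟩, rfl⟩
  have := (Ideal.Quotient.eq_zero_iff_mem).mpr hmem
  rw [map_sub, sub_eq_zero] at this
  rw [this]; rfl

theorem Q1 (k : ℕ) (hk : k ≤ n + 1) :
    E (Fin.cons (τ a) (yv a) : Fin (n + 1) → MvPolynomial (Fin (n + 1)) R ⧸ I a) k
      = algebraMap R (MvPolynomial (Fin (n + 1)) R ⧸ I a) (ext a k) := by
  have h1 : (Fin.cons (τ a) (yv a) : Fin (n + 1) → MvPolynomial (Fin (n + 1)) R ⧸ I a)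
      = (Ideal.Quotient.mk (I a)) ∘ (X : Fin (n + 1) → MvPolynomial (Fin (n + 1)) R) := by
    funext i
    refine Fin.cases ?_ ?_ i
    · rfl
    · intro j; rfl
  rw [h1, ← map_E, ← esymm_eq_E]
  cases k with
  | zero => rw [esymm_zero, map_one, ext_zero, map_one]
  | succ j =>
    have hj : j < n + 1 := by omega
    rw [mk_esymm_succ a j hj, ext_succ a j hj]

theorem Q2 (k : ℕ) (hk : k ≤ n + 1) :
    E (yv a) k = (-1) ^ k * Polynomial.aeval (τ a) (gpoly a k) := by
  induction k with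
  | zero => simp [E_zero]
  | succ k ih =>
    have h1 := Q1 a (k + 1) hk
    rw [E_cons, ih (by omega)] at h1
    rw [gpoly_succ, map_add, map_mul, Polynomial.aeval_X, Polynomial.aeval_C]
    have h2 : E (yv a) (k + 1) = algebraMap R (MvPolynomial (Fin (n + 1)) R ⧸ I a) (ext a (k + 1))
        - τ a * ((-1) ^ k * Polynomial.aeval (τ a) (gpoly a k)) := by
      rw [← h1]; ring
    rw [h2, map_mul, map_pow, map_neg, map_one]
    have h3 : ((-1 : MvPolynomial (Fin (n + 1)) R ⧸ I a) ^ (k + 1)) * (-1) ^ (k + 1) = 1 :=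
      neg_one_pow_mul_self _ _
    linear_combination (-(algebraMap R (MvPolynomial (Fin (n + 1)) R ⧸ I a)) (ext a (k + 1))) * h3

theorem Q3 : Polynomial.aeval (τ a) (gpoly a (n + 1)) = 0 := by
  have h := Q2 a (n + 1) le_rfl
  rw [E_gt _ _ (Nat.lt_succ_self n)] at h
  have h3 : ((-1 : MvPolynomial (Fin (n + 1)) R ⧸ I a) ^ (n + 1)) * (-1) ^ (n + 1) = 1 :=
    neg_one_pow_mul_self _ _
  calc Polynomial.aeval (τ a) (gpoly a (n + 1))
      = ((-1) ^ (n + 1) * (-1) ^ (n + 1)) * Polynomial.aeval (τ a) (gpoly a (n + 1)) := by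
        rw [h3, one_mul]
    _ = (-1) ^ (n + 1) * ((-1) ^ (n + 1) * Polynomial.aeval (τ a) (gpoly a (n + 1))) := by ring
    _ = 0 := by rw [← h, mul_zero]

end chainQ


section chainP

variable {R : Type u} [CommRing R] {n : ℕ} (a : Fin (n + 1) → R)

/-- the base ring of the next stage -/
abbrev R₁ : Type u := AdjoinRoot (gpoly a (n + 1))

/-- the next parameters -/
noncomputable def a' (i : Fin n) : R₁ a :=
  (-1) ^ ((i : ℕ) + 1) * AdjoinRoot.mk (gpoly a (n + 1)) (gpoly a ((i : ℕ) + 1))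

/-- the next quotient -/
abbrev Q' : Type u := MvPolynomial (Fin n) (R₁ a) ⧸ I (a' a)

/-- the classes of the variables -/
noncomputable def xv (j : Fin n) : Q' a := Ideal.Quotient.mk (I (a' a)) (X j)

/-- the class of the root -/
noncomputable def ρ' : Q' a := algebraMap (R₁ a) (Q' a) (AdjoinRoot.root (gpoly a (n + 1)))

theorem P1 (k : ℕ) (hk : k ≤ n + 1) :
    E (xv a) k = algebraMap (R₁ a) (Q' a) ((-1) ^ k * AdjoinRoot.mk (gpoly a (n + 1)) (gpoly a k)) := by
  have h1 : (xv a : Fin n → Q' a)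
      = (Ideal.Quotient.mk (I (a' a))) ∘ (X : Fin n → MvPolynomial (Fin n) (R₁ a)) := rfl
  cases k with
  | zero => rw [E_zero, gpoly_zero, map_one, pow_zero, one_mul, map_one]
  | succ j =>
    by_cases hj : j < n
    · rw [h1, ← map_E, ← esymm_eq_E]
      have hmem : esymm (Fin n) (R₁ a) (j + 1) - C (a' a ⟨j, hj⟩) ∈ I (a' a) :=
        Ideal.subset_span ⟨⟨j, hj⟩, rfl⟩
      have := (Ideal.Quotient.eq_zero_iff_mem).mpr hmem
      rw [map_sub, sub_eq_zero] at this
      rw [this]; rfl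
    · have hjn : j = n := by omega
      subst hjn
      rw [E_gt _ _ (Nat.lt_succ_self j), AdjoinRoot.mk_self, mul_zero, map_zero]

theorem P2 (j : ℕ) (hj : j < n + 1) :
    E (Fin.cons (ρ' a) (xv a) : Fin (n + 1) → Q' a) (j + 1) = algebraMap R (Q' a) (ext a (j + 1)) := by
  rw [E_cons, P1 a (j + 1) (by omega), P1 a j (by omega), ρ', ← map_mul, ← map_add]
  have key : (-1) ^ (j + 1) * AdjoinRoot.mk (gpoly a (n + 1)) (gpoly a (j + 1))
      + AdjoinRoot.root (gpoly a (n + 1)) * ((-1) ^ j * AdjoinRoot.mk (gpoly a (n + 1)) (gpoly a j))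
      = algebraMap R (R₁ a) (ext a (j + 1)) := by
    rw [gpoly_succ a j, map_add, map_mul, AdjoinRoot.mk_X, AdjoinRoot.mk_C, map_mul, map_pow, map_neg,
      map_one]
    have hs : ((-1 : R₁ a) ^ j) * (-1) ^ j = 1 := neg_one_pow_mul_self _ _
    have e1 : (AdjoinRoot.of (gpoly a (n + 1))) (ext a (j + 1)) = algebraMap R (R₁ a) (ext a (j + 1)) := rfl
    rw [e1, pow_succ]
    linear_combination (algebraMap R (R₁ a) (ext a (j + 1))) * hs
  rw [key, ← IsScalarTower.algebraMap_apply]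

end chainP


section iso

variable {R : Type u} [CommRing R] {n : ℕ} (a : Fin (n + 1) → R)

/-- the quotient at stage `n + 1` -/
abbrev Q : Type u := MvPolynomial (Fin (n + 1)) R ⧸ I a

/-- the forward map on polynomials -/
noncomputable def Θ : MvPolynomial (Fin (n + 1)) R →ₐ[R] Q' a :=
  aeval (Fin.cons (ρ' a) (xv a) : Fin (n + 1) → Q' a)

theorem Θ_X_zero : Θ a (X 0) = ρ' a := by
  rw [Θ, aeval_X]; rfl

theorem Θ_X_succ (j : Fin n) : Θ a (X j.succ) = xv a j := by
  rw [Θ, aeval_X]; rfl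

theorem Θ_mem (p : MvPolynomial (Fin (n + 1)) R) (hp : p ∈ I a) : Θ a p = 0 := by
  have hle : I a ≤ RingHom.ker (Θ a).toRingHom := by
    rw [I, Ideal.span_le]
    rintro _ ⟨i, rfl⟩
    change Θ a (esymm (Fin (n + 1)) R ((i : ℕ) + 1) - C (a i)) = 0
    rw [map_sub, Θ, aeval_esymm_eq_multiset_esymm]
    change E (Fin.cons (ρ' a) (xv a) : Fin (n + 1) → Q' a) ((i : ℕ) + 1) - _ = 0
    rw [P2 a i i.isLt, ext_succ a i i.isLt, aeval_C, sub_self]
  exact hle hp

/-- the forward map -/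
noncomputable def Θbar : Q a →ₐ[R] Q' a := Ideal.Quotient.liftₐ (I a) (Θ a) (Θ_mem a)

theorem Θbar_mk (p : MvPolynomial (Fin (n + 1)) R) : Θbar a (Ideal.Quotient.mk (I a) p) = Θ a p := rfl

/-- the root map -/
noncomputable def ψ₀ : R₁ a →+* Q a :=
  AdjoinRoot.lift (algebraMap R (Q a)) (τ a) (by
    have := Q3 a
    rwa [Polynomial.aeval_def] at this)

theorem ψ₀_mk (g : Polynomial R) : ψ₀ a (AdjoinRoot.mk _ g) = Polynomial.aeval (τ a) g := by
  rw [ψ₀, AdjoinRoot.lift_mk, Polynomial.aeval_def]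

theorem ψ₀_root : ψ₀ a (AdjoinRoot.root _) = τ a := by
  rw [ψ₀, AdjoinRoot.lift_root]

theorem ψ₀_of (r : R) : ψ₀ a (AdjoinRoot.of _ r) = algebraMap R (Q a) r := by
  rw [ψ₀, AdjoinRoot.lift_of]

/-- the backward map on polynomials -/
noncomputable def Ψ₁ : MvPolynomial (Fin n) (R₁ a) →+* Q a := eval₂Hom (ψ₀ a) (yv a)

theorem Ψ₁_mem (p : MvPolynomial (Fin n) (R₁ a)) (hp : p ∈ I (a' a)) : Ψ₁ a p = 0 := by
  have hle : I (a' a) ≤ RingHom.ker (Ψ₁ a) := by
    rw [I, Ideal.span_le]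
    rintro _ ⟨i, rfl⟩
    change Ψ₁ a (esymm (Fin n) (R₁ a) ((i : ℕ) + 1) - C (a' a i)) = 0
    rw [map_sub, esymm_eq_E, map_E]
    have h1 : (Ψ₁ a) ∘ (X : Fin n → MvPolynomial (Fin n) (R₁ a)) = yv a := by
      funext j
      simp [Ψ₁]
    rw [h1, Q2 a ((i : ℕ) + 1) (by have := i.isLt; omega)]
    have h2 : Ψ₁ a (C (a' a i)) = ψ₀ a (a' a i) := by simp [Ψ₁]
    rw [h2, a', map_mul, map_pow, map_neg, map_one, ψ₀_mk, sub_self]
  exact hle hp

/-- the backward map -/
noncomputable def Ψbar : Q' a →+* Q a := Ideal.Quotient.lift (I (a' a)) (Ψ₁ a) (Ψ₁_mem a)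

theorem Ψbar_mk (p : MvPolynomial (Fin n) (R₁ a)) : Ψbar a (Ideal.Quotient.mk (I (a' a)) p) = Ψ₁ a p := rfl

theorem Ψbar_algebraMap (s : R₁ a) : Ψbar a (algebraMap (R₁ a) (Q' a) s) = ψ₀ a s := by
  change Ψbar a (Ideal.Quotient.mk (I (a' a)) (C s)) = _
  rw [Ψbar_mk]; simp [Ψ₁]

theorem Ψbar_xv (j : Fin n) : Ψbar a (xv a j) = yv a j := by
  rw [xv, Ψbar_mk]; simp [Ψ₁]

theorem left_inv (q : Q a) : Ψbar a (Θbar a q) = q := by
  have h : (Ψbar a).comp (Θbar a).toRingHom = RingHom.id (Q a) := by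
    apply Ideal.Quotient.ringHom_ext
    apply MvPolynomial.ringHom_ext
    · intro r
      change Ψbar a (Θbar a (Ideal.Quotient.mk (I a) (C r))) = Ideal.Quotient.mk (I a) (C r)
      rw [Θbar_mk, Θ, aeval_C, IsScalarTower.algebraMap_apply R (R₁ a) (Q' a), Ψbar_algebraMap]
      exact ψ₀_of a r
    · intro i
      change Ψbar a (Θbar a (Ideal.Quotient.mk (I a) (X i))) = Ideal.Quotient.mk (I a) (X i)
      rw [Θbar_mk]
      refine Fin.cases ?_ ?_ i
      · rw [Θ_X_zero, ρ', Ψbar_algebraMap, ψ₀_root]; rfl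
      · intro j
        rw [Θ_X_succ, Ψbar_xv]; rfl
  exact congrFun (congrArg DFunLike.coe h) q

theorem right_inv (q : Q' a) : Θbar a (Ψbar a q) = q := by
  have h : (Θbar a).toRingHom.comp (Ψbar a) = RingHom.id (Q' a) := by
    apply Ideal.Quotient.ringHom_ext
    apply MvPolynomial.ringHom_ext
    · intro s
      change Θbar a (Ψbar a (algebraMap (R₁ a) (Q' a) s)) = algebraMap (R₁ a) (Q' a) s
      rw [Ψbar_algebraMap]
      have h2 : ((Θbar a).toRingHom.comp (ψ₀ a)) = algebraMap (R₁ a) (Q' a) := by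
        apply AdjoinRoot.ringHom_ext
        · ext r
          change Θbar a (ψ₀ a (AdjoinRoot.of _ r)) = algebraMap (R₁ a) (Q' a) (AdjoinRoot.of _ r)
          rw [ψ₀_of, AlgHom.commutes]
          exact IsScalarTower.algebraMap_apply R (R₁ a) (Q' a) r
        · change Θbar a (ψ₀ a (AdjoinRoot.root _)) = algebraMap (R₁ a) (Q' a) (AdjoinRoot.root _)
          rw [ψ₀_root, τ, Θbar_mk, Θ_X_zero]; rfl
      exact congrFun (congrArg DFunLike.coe h2) s
    · intro j
      change Θbar a (Ψbar a (xv a j)) = xv a j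
      rw [Ψbar_xv, yv, Θbar_mk, Θ_X_succ]
  exact congrFun (congrArg DFunLike.coe h) q

/-- the equivalence between the two stages -/
noncomputable def stageEquiv : Q a ≃ₐ[R] Q' a :=
  AlgEquiv.ofBijective (Θbar a)
    ⟨(Function.LeftInverse.injective (left_inv a)), (Function.RightInverse.surjective (right_inv a))⟩

end iso


section basis

/-- `Stair (n+1) ≃ Fin (n+1) × Stair n` -/
def stairEquiv (n : ℕ) : Fin (n + 1) × Stair n ≃ Stair (n + 1) where
  toFun p := ⟨Fin.cons (p.1 : ℕ) p.2.1, by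
    intro i
    refine Fin.cases ?_ ?_ i
    · have := p.1.isLt
      simp only [Fin.cons_zero, Fin.val_zero]
      omega
    · intro j
      have := p.2.2 j
      simp only [Fin.cons_succ, Fin.val_succ]
      omega⟩
  invFun d := (⟨d.1 0, by have := d.2 0; simpa using this⟩,
    ⟨fun j => d.1 j.succ, by
      intro j
      have := d.2 j.succ
      simp only [Fin.val_succ] at this
      show d.1 j.succ < n - (j : ℕ)
      omega⟩)
  left_inv p := by
    apply Prod.ext
    · apply Fin.ext; simp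
    · apply Subtype.ext; funext j; simp
  right_inv d := by
    apply Subtype.ext
    funext i
    refine Fin.cases ?_ ?_ i
    · simp
    · intro j; simp

instance : Unique (Stair 0) where
  default := ⟨fun i => i.elim0, fun i => i.elim0⟩
  uniq d := Subtype.ext (funext fun i => i.elim0)

variable {R : Type u} [CommRing R]

theorem I_zero (a : Fin 0 → R) : I a = ⊥ := by
  rw [I, Ideal.span_eq_bot]
  rintro _ ⟨i, _⟩
  exact i.elim0

theorem Θbar_mon {n : ℕ} (a : Fin (n + 1) → R) (k : ℕ) (d' : Fin n → ℕ) :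
    Θbar a (Ideal.Quotient.mk (I a) (mon R (Fin.cons k d' : Fin (n + 1) → ℕ)))
      = (AdjoinRoot.root (gpoly a (n + 1))) ^ k • Ideal.Quotient.mk (I (a' a)) (mon (R₁ a) d') := by
  rw [Θbar_mk, mon, map_prod, Fin.prod_univ_succ]
  simp only [map_pow, Fin.cons_zero, Fin.cons_succ, Θ_X_zero, Θ_X_succ]
  have hsm : (AdjoinRoot.root (gpoly a (n + 1))) ^ k • Ideal.Quotient.mk (I (a' a)) (mon (R₁ a) d')
      = algebraMap (R₁ a) (Q' a) ((AdjoinRoot.root (gpoly a (n + 1))) ^ k)
        * Ideal.Quotient.mk (I (a' a)) (mon (R₁ a) d') := by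
    have h1 : (AdjoinRoot.root (gpoly a (n + 1))) ^ k • Ideal.Quotient.mk (I (a' a)) (mon (R₁ a) d')
        = Ideal.Quotient.mk (I (a' a)) ((AdjoinRoot.root (gpoly a (n + 1))) ^ k • mon (R₁ a) d') := rfl
    rw [h1, MvPolynomial.smul_eq_C_mul, map_mul]; rfl
  rw [hsm, map_pow, mon, map_prod]
  simp only [map_pow]
  rfl

theorem stageEquiv_apply {n : ℕ} (a : Fin (n + 1) → R) (q : Q a) : stageEquiv a q = Θbar a q := rfl

theorem exists_basis (n : ℕ) : ∀ (R : Type u) [CommRing R] (a : Fin n → R),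
    ∃ b : Module.Basis (Stair n) R (MvPolynomial (Fin n) R ⧸ I a),
      ∀ d, b d = Ideal.Quotient.mk (I a) (mon R d.1) := by
  induction n with
  | zero =>
    intro R _ a
    let e₁ : (MvPolynomial (Fin 0) R ⧸ I a) ≃ₐ[R] (MvPolynomial (Fin 0) R ⧸ (⊥ : Ideal _)) :=
      Ideal.quotientEquivAlgOfEq R (I_zero a)
    let e₂ : (MvPolynomial (Fin 0) R ⧸ (⊥ : Ideal (MvPolynomial (Fin 0) R))) ≃ₐ[R] MvPolynomial (Fin 0) R :=
      AlgEquiv.quotientBot R _
    let e₃ : MvPolynomial (Fin 0) R ≃ₐ[R] R := MvPolynomial.isEmptyAlgEquiv R (Fin 0)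
    let e : (MvPolynomial (Fin 0) R ⧸ I a) ≃ₐ[R] R := (e₁.trans e₂).trans e₃
    refine ⟨(Module.Basis.singleton (Stair 0) R).map e.symm.toLinearEquiv, ?_⟩
    intro d
    rw [Module.Basis.map_apply, Module.Basis.singleton_apply]
    have h1 : mon R d.1 = 1 := by simp [mon]
    have h2 : Ideal.Quotient.mk (I a) (mon R d.1) = 1 := by rw [h1, map_one]
    rw [h2]
    change e.symm 1 = 1
    exact map_one e.symm
  | succ n ih =>
    intro R _ a
    rcases subsingleton_or_nontrivial R with hR | hR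
    · haveI : Subsingleton (MvPolynomial (Fin (n + 1)) R ⧸ I a) := Module.subsingleton R _
      refine ⟨Module.Basis.ofRepr (LinearEquiv.ofSubsingleton _ _), ?_⟩
      intro d
      exact Subsingleton.elim _ _
    · obtain ⟨b', hb'⟩ := ih (R₁ a) (a' a)
      have hmonic := (gpoly_monic a (n + 1)).1
      have hdim : (AdjoinRoot.powerBasis' hmonic).dim = n + 1 := (gpoly_monic a (n + 1)).2
      let B := (AdjoinRoot.powerBasis' hmonic).basis.smulTower b'
      let B2 := B.map (stageEquiv a).symm.toLinearEquiv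
      let σ : Fin (AdjoinRoot.powerBasis' hmonic).dim × Stair n ≃ Stair (n + 1) :=
        ((finCongr hdim).prodCongr (Equiv.refl _)).trans (stairEquiv n)
      refine ⟨B2.reindex σ, ?_⟩
      intro d
      rw [Module.Basis.reindex_apply, Module.Basis.map_apply, Module.Basis.smulTower_apply]
      change (stageEquiv a).symm _ = _
      rw [AlgEquiv.symm_apply_eq, stageEquiv_apply]
      have hd : d.1 = (Fin.cons (d.1 0) (fun j => d.1 j.succ) : Fin (n + 1) → ℕ) := by
        funext i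
        refine Fin.cases ?_ ?_ i
        · simp
        · intro j; simp
      rw [hd, Θbar_mon, PowerBasis.coe_basis, hb']
      rfl

end basis


section consequences

variable {R : Type u} [CommRing R]

/-- the index type of the statements -/
abbrev P (n : ℕ) : Type := (i : Fin n) → Fin (n - (i : ℕ))

/-- exponent vector of an index -/
def toExp {n : ℕ} (p : P n) : Fin n → ℕ := fun i => ((p i : Fin (n - (i : ℕ))) : ℕ)

/-- `P n ≃ Stair n` -/
def stairPiEquiv (n : ℕ) : P n ≃ Stair n where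
  toFun p := ⟨toExp p, fun i => (p i).isLt⟩
  invFun d := fun i => ⟨d.1 i, d.2 i⟩
  left_inv p := by funext i; rfl
  right_inv d := by apply Subtype.ext; funext i; rfl

theorem exists_basisP {n : ℕ} (a : Fin n → R) :
    ∃ b : Module.Basis (P n) R (MvPolynomial (Fin n) R ⧸ I a),
      ∀ p, b p = Ideal.Quotient.mk (I a) (mon R (toExp p)) := by
  obtain ⟨b, hb⟩ := exists_basis n R a
  refine ⟨b.reindex (stairPiEquiv n).symm, ?_⟩
  intro p
  rw [Module.Basis.reindex_apply, hb]
  rfl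

theorem mk_sum {n : ℕ} (a : Fin n → R) (c : P n → R) :
    Ideal.Quotient.mk (I a) (∑ p, C (c p) * mon R (toExp p))
      = ∑ p, c p • Ideal.Quotient.mk (I a) (mon R (toExp p)) := by
  rw [map_sum]
  apply Finset.sum_congr rfl
  intro p _
  rw [← MvPolynomial.smul_eq_C_mul]
  rfl

theorem spanP {n : ℕ} (a : Fin n → R) (x : MvPolynomial (Fin n) R) :
    ∃ c : P n → R, x - ∑ p, C (c p) * mon R (toExp p) ∈ I a := by
  obtain ⟨b, hb⟩ := exists_basisP a
  refine ⟨fun p => b.repr (Ideal.Quotient.mk (I a) x) p, ?_⟩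
  rw [← Ideal.Quotient.eq_zero_iff_mem, map_sub, mk_sum, sub_eq_zero]
  have := b.sum_repr (Ideal.Quotient.mk (I a) x)
  rw [← this]
  apply Finset.sum_congr rfl
  intro p _
  rw [hb, this]

theorem indepP {n : ℕ} (a : Fin n → R) (c : P n → R)
    (h : ∑ p, C (c p) * mon R (toExp p) ∈ I a) : ∀ p, c p = 0 := by
  obtain ⟨b, hb⟩ := exists_basisP a
  have h1 := (Ideal.Quotient.eq_zero_iff_mem).mpr h
  rw [mk_sum] at h1
  have h2 : ∑ p, c p • b p = 0 := by
    rw [← h1]
    apply Finset.sum_congr rfl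
    intro p _
    rw [hb]
  exact Fintype.linearIndependent_iff.mp b.linearIndependent c h2

theorem main16404 (n : ℕ) (a : Fin n → R) (J : Ideal R) (x : MvPolynomial (Fin n) R) :
    x ∈ I a ⊔ Ideal.map (C : R →+* MvPolynomial (Fin n) R) J
    ↔ ∃ j : P n → R, (∀ d, j d ∈ J) ∧ x - ∑ d, C (j d) * mon R (toExp d) ∈ I a := by
  constructor
  · intro hx
    obtain ⟨y, hy, z, hz, rfl⟩ := Submodule.mem_sup.mp hx
    obtain ⟨b, hb⟩ := exists_basisP a
    -- the class of z lies in J • ⊤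
    have h1 : Ideal.Quotient.mk (I a) z ∈ J • (⊤ : Submodule R (MvPolynomial (Fin n) R ⧸ I a)) := by
      rw [Ideal.smul_top_eq_map]
      change Ideal.Quotient.mk (I a) z ∈ Ideal.map (algebraMap R (MvPolynomial (Fin n) R ⧸ I a)) J
      have h2 : algebraMap R (MvPolynomial (Fin n) R ⧸ I a)
          = (Ideal.Quotient.mk (I a)).comp (C : R →+* MvPolynomial (Fin n) R) := rfl
      rw [h2, ← Ideal.map_map]
      exact Ideal.mem_map_of_mem _ hz
    rw [← b.span_eq, Submodule.mem_ideal_smul_span_iff_exists_sum] at h1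
    obtain ⟨c, hc, hsum⟩ := h1
    refine ⟨fun p => c p, hc, ?_⟩
    have h3 : z - ∑ d, C (c d) * mon R (toExp d) ∈ I a := by
      rw [← Ideal.Quotient.eq_zero_iff_mem, map_sub, mk_sum, sub_eq_zero, ← hsum]
      have hs : (c.sum fun i r => r • b i) = ∑ p, c p • b p :=
        Finsupp.sum_fintype c (fun i r => r • b i) (fun i => zero_smul _ _)
      rw [hs]
      apply Finset.sum_congr rfl
      intro p _
      rw [hb]
    have h4 : y + z - ∑ d, C (c d) * mon R (toExp d) = y + (z - ∑ d, C (c d) * mon R (toExp d)) := by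
      ring
    rw [h4]
    exact (I a).add_mem hy h3
  · rintro ⟨j, hj, hx⟩
    have h1 : ∑ d, C (j d) * mon R (toExp d) ∈ Ideal.map (C : R →+* MvPolynomial (Fin n) R) J := by
      apply Ideal.sum_mem
      intro d _
      exact Ideal.mul_mem_right _ _ (Ideal.mem_map_of_mem _ (hj d))
    have h2 : x = (x - ∑ d, C (j d) * mon R (toExp d)) + ∑ d, C (j d) * mon R (toExp d) := by ring
    rw [h2]
    exact Submodule.add_mem_sup hx h1

theorem main16403 (n : ℕ) (a : Fin n → R) (J : Ideal R) (α β : P n → R) :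
    (∑ d, C (α d) * mon R (toExp d)) - (∑ d, C (β d) * mon R (toExp d))
      ∈ I a ⊔ Ideal.map (C : R →+* MvPolynomial (Fin n) R) J
    ↔ ∀ d, α d - β d ∈ J := by
  have hdiff : (∑ d, C (α d) * mon R (toExp d)) - (∑ d, C (β d) * mon R (toExp d))
      = ∑ d, C (α d - β d) * mon R (toExp d) := by
    rw [← Finset.sum_sub_distrib]
    apply Finset.sum_congr rfl
    intro d _
    rw [map_sub]; ring
  rw [hdiff, main16404]
  constructor
  · rintro ⟨j, hj, hx⟩ d
    have h1 : ∑ d, C (α d - β d) * mon R (toExp d) - ∑ d, C (j d) * mon R (toExp d)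
        = ∑ d, C (α d - β d - j d) * mon R (toExp d) := by
      rw [← Finset.sum_sub_distrib]
      apply Finset.sum_congr rfl
      intro d _
      rw [map_sub (C : R →+* MvPolynomial (Fin n) R) (α d - β d) (j d)]; ring
    rw [h1] at hx
    have h2 := indepP a _ hx d
    have h3 : α d - β d = j d := sub_eq_zero.mp h2
    rw [h3]; exact hj d
  · intro h
    refine ⟨fun d => α d - β d, h, ?_⟩
    rw [sub_self]; exact zero_mem _

end consequences

end Helper91.ArtinBasis
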