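import Mathlib
import Groth.Agent.Lib.Helper91.ArtinBasis

/-!
# `ℤ[t]` is free over `ℤ[e_1, …, e_n]` on the staircase monomials
-/

namespace Helper91.ArtinBasis

open MvPolynomial

section int

variable (n : ℕ)

/-- the ring of the `c_i` -/
abbrev Rc : Type := MvPolynomial (Fin n) ℤ

/-- `c_i ↦ e_i(t)` -/
noncomputable def fE : Rc n →ₐ[ℤ] MvPolynomial (Fin n) ℤ :=
  aeval (fun i : Fin n => esymm (Fin n) ℤ ((i : ℕ) + 1))

/-- substitute `c_i ↦ e_i(t)` in the coefficients -/
noncomputable def ψ : MvPolynomial (Fin n) (Rc n) →+* MvPolynomial (Fin n) ℤ :=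
  eval₂Hom (fE n).toRingHom X

/-- view integer coefficients as constant coefficients -/
noncomputable def ι : MvPolynomial (Fin n) ℤ →+* MvPolynomial (Fin n) (Rc n) :=
  MvPolynomial.map (C : ℤ →+* Rc n)

theorem ψ_C (q : Rc n) : ψ n (C q) = fE n q := by simp [ψ]

theorem ψ_X (j : Fin n) : ψ n (X j) = X j := by simp [ψ]

theorem ψ_mon (d : Fin n → ℕ) : ψ n (mon (Rc n) d) = mon ℤ d := by
  simp [mon, ψ_X]

theorem ψ_esymm (k : ℕ) : ψ n (esymm (Fin n) (Rc n) k) = esymm (Fin n) ℤ k := by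
  rw [esymm_eq_E, map_E, esymm_eq_E]
  congr 1
  funext j
  exact ψ_X n j

theorem ψ_mem (p : MvPolynomial (Fin n) (Rc n)) (hp : p ∈ I (X : Fin n → Rc n)) : ψ n p = 0 := by
  have hle : I (X : Fin n → Rc n) ≤ RingHom.ker (ψ n) := by
    rw [I, Ideal.span_le]
    rintro _ ⟨i, rfl⟩
    change ψ n (esymm (Fin n) (Rc n) ((i : ℕ) + 1) - C (X i)) = 0
    rw [map_sub, ψ_esymm, ψ_C, fE, aeval_X, sub_self]
  exact hle hp

theorem ι_esymm (k : ℕ) : ι n (esymm (Fin n) ℤ k) = esymm (Fin n) (Rc n) k := by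
  rw [ι]
  exact MvPolynomial.map_esymm (Fin n) ℤ k (C : ℤ →+* Rc n)

theorem sub_ι_ψ_mem (p : MvPolynomial (Fin n) (Rc n)) : p - ι n (ψ n p) ∈ I (X : Fin n → Rc n) := by
  rw [← Ideal.Quotient.eq_zero_iff_mem, map_sub, sub_eq_zero]
  have h : (Ideal.Quotient.mk (I (X : Fin n → Rc n)))
      = (Ideal.Quotient.mk (I (X : Fin n → Rc n))).comp ((ι n).comp (ψ n)) := by
    apply MvPolynomial.ringHom_ext
    · intro q
      have h2 : (Ideal.Quotient.mk (I (X : Fin n → Rc n))).comp (C : Rc n →+* MvPolynomial (Fin n) (Rc n))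
          = ((Ideal.Quotient.mk (I (X : Fin n → Rc n))).comp ((ι n).comp (ψ n))).comp
            (C : Rc n →+* MvPolynomial (Fin n) (Rc n)) := by
        apply MvPolynomial.ringHom_ext
        · intro m
          simp [ψ_C, fE, ι]
        · intro i
          simp only [RingHom.comp_apply, ψ_C, fE, aeval_X, ι_esymm]
          have hmem : esymm (Fin n) (Rc n) ((i : ℕ) + 1) - C (X i) ∈ I (X : Fin n → Rc n) :=
            Ideal.subset_span ⟨i, rfl⟩
          have := (Ideal.Quotient.eq_zero_iff_mem).mpr hmem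
          rw [map_sub, sub_eq_zero] at this
          exact this.symm
      exact congrFun (congrArg DFunLike.coe h2) q
    · intro j
      simp [ψ_X, ι]
  exact congrFun (congrArg DFunLike.coe h) p

theorem ψ_ι (x : MvPolynomial (Fin n) ℤ) : ψ n (ι n x) = x := by
  have h : (ψ n).comp (ι n) = RingHom.id _ := by
    apply MvPolynomial.ringHom_ext
    · intro m
      simp [ι, ψ_C, fE]
    · intro j
      simp [ι, ψ_X]
  exact congrFun (congrArg DFunLike.coe h) x

theorem Φ_eq (p : P n → Rc n) :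
    ∑ d : P n, (fE n) (p d) * mon ℤ (toExp d)
      = ψ n (∑ d : P n, C (p d) * mon (Rc n) (toExp d)) := by
  rw [map_sum]
  apply Finset.sum_congr rfl
  intro d _
  rw [map_mul, ψ_C, ψ_mon]

theorem main16402 :
    Function.Bijective (fun p : P n → MvPolynomial (Fin n) ℤ =>
      ∑ d : P n, (fE n) (p d) * mon ℤ (toExp d)) := by
  constructor
  · intro p q hpq
    simp only at hpq
    rw [Φ_eq, Φ_eq, ← sub_eq_zero, ← map_sub, ← Finset.sum_sub_distrib] at hpq
    have h1 : ∑ d : P n, (C (p d) * mon (Rc n) (toExp d) - C (q d) * mon (Rc n) (toExp d))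
        = ∑ d : P n, C (p d - q d) * mon (Rc n) (toExp d) := by
      apply Finset.sum_congr rfl
      intro d _
      rw [map_sub (C : Rc n →+* MvPolynomial (Fin n) (Rc n)) (p d) (q d)]; ring
    rw [h1] at hpq
    have h2 := sub_ι_ψ_mem n (∑ d : P n, C (p d - q d) * mon (Rc n) (toExp d))
    rw [hpq, map_zero, sub_zero] at h2
    funext d
    exact sub_eq_zero.mp (indepP _ _ h2 d)
  · intro x
    obtain ⟨c, hc⟩ := spanP (X : Fin n → Rc n) (ι n x)
    refine ⟨c, ?_⟩
    simp only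
    rw [Φ_eq]
    have h := ψ_mem n _ hc
    rw [map_sub, ψ_ι, sub_eq_zero] at h
    exact h.symm

end int

end Helper91.ArtinBasis
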