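import Mathlib
import Groth.Agent.Lib.Helper91.AvramovMain
import Groth.Prelude.Def_DRing2

/-!
# Stacks 09PY for polynomial rings
-/

universe u

open MvPolynomial ExteriorAlgebra CliffordAlgebra

namespace Groth.Agent.Lib.Helper91.AvramovMv

open Groth.Agent.Lib.Helper91.AvramovCore Groth.Agent.Lib.Helper91.AvramovRes
  Groth.Agent.Lib.Helper91.TateE Groth.Agent.Lib.Helper91.TateLam
  Groth.Agent.Lib.Helper91.AvramovComp Groth.Agent.Lib.Helper91.AvramovFlat
  Groth.Agent.Lib.Helper91.AvramovMain Groth.Agent.Lib.Helper35.TA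

section general

variable {A : Type*} [CommRing A] {M : Type*} [AddCommGroup M] [Module A M]
  (d : Module.Dual A M) (r : M)

/-- the degree zero component of `D x` for `x` of degree one -/
lemma algebraMapInv_D_zero {x : Etot A M} (hx : x ∈ Edeg A M 1) :
    ∃ m : M, algebraMapInv (D d r x 0) = d m := by
  have h0 : x 0 ∈ LamZ A M 1 := by
    have := hx 0
    simpa using this
  have h1 : x 1 = 0 := by
    have := hx 1
    rw [LamZ_of_neg (by norm_num)] at this
    simpa using this
  have h2 : LamZ A M 1 = LinearMap.range (ι A : M →ₗ[A] ExteriorAlgebra A M) := by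
    have := LamZ_natCast (A := A) (M := M) 1
    rw [Nat.cast_one] at this
    rw [this, exteriorPower, pow_one]
  rw [h2] at h0
  obtain ⟨m, hm⟩ := h0
  refine ⟨m, ?_⟩
  rw [D_apply, h1, mul_zero, add_zero, ← hm, contractLeft_ι]
  exact algebraMap_leftInverse M (d m)

end general

variable {R' R : Type u} [CommRing R'] [CommRing R] (π : R' →+* R) (f : R') {n : ℕ}

lemma ker_map_eq (hker : RingHom.ker π = Ideal.span {f}) :
    RingHom.ker (MvPolynomial.map π : MvPolynomial (Fin n) R' →+* MvPolynomial (Fin n) R) =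
      Ideal.span {C f} := by
  rw [MvPolynomial.ker_map, hker, Ideal.map_span, Set.image_singleton]

lemma annI_C : annI (C f : MvPolynomial (Fin n) R') = ((Ideal.span {f}).annihilator).map C := by
  ext a
  rw [mem_annI, MvPolynomial.mem_map_C_iff]
  constructor
  · intro h d
    rw [Submodule.mem_annihilator_span_singleton, smul_eq_mul, mul_comm, ← coeff_C_mul, mul_comm,
      h, coeff_zero]
  · intro h
    ext d
    rw [mul_comm, coeff_C_mul, coeff_zero, mul_comm]
    have := h d
    rwa [Submodule.mem_annihilator_span_singleton, smul_eq_mul] at this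

lemma annJ_C : annJ (MvPolynomial.map π) (C f : MvPolynomial (Fin n) R') =
    (((Ideal.span {f}).annihilator).map π).map (algebraMap R (MvPolynomial (Fin n) R)) := by
  rw [annJ, annI_C, Ideal.map_map, Ideal.map_map]
  congr 1
  ext a
  simp

lemma mem_annI_of_coeff (hker : RingHom.ker π = Ideal.span {f}) (hf : f * f = 0)
    (p : MvPolynomial (Fin n) R')
    (hp : ∀ d, coeff d (MvPolynomial.map π p) ∈ ((Ideal.span {f}).annihilator).map π)
    (hπ : Function.Surjective π) :
    p ∈ annI (C f : MvPolynomial (Fin n) R') := by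
  rw [annI_C, MvPolynomial.mem_map_C_iff]
  intro d
  have h1 := hp d
  rw [coeff_map] at h1
  obtain ⟨s, hs, hst⟩ := (Ideal.mem_map_iff_of_surjective π hπ).1 h1
  have h2 : coeff d p - s ∈ RingHom.ker π := by
    rw [RingHom.mem_ker, map_sub, hst, sub_self]
  rw [hker, Ideal.mem_span_singleton'] at h2
  obtain ⟨w, hw⟩ := h2
  rw [Submodule.mem_annihilator_span_singleton, smul_eq_mul] at hs ⊢
  have : coeff d p = s + w * f := by rw [hw]; ring
  rw [this, add_mul, hs, mul_assoc, hf, mul_zero, add_zero]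


section final

variable {R' R : Type u} [CommRing R'] [CommRing R] (π : R' →+* R) (f : R') {n m : ℕ}

noncomputable instance : Module.Free (MvPolynomial (Fin n) R')
    (ExteriorAlgebra (MvPolynomial (Fin n) R') (Fin m → MvPolynomial (Fin n) R')) :=
  Module.Free.of_basis ((Pi.basisFun (MvPolynomial (Fin n) R') (Fin m)).ExteriorAlgebra)

/-- the augmentation `Koszul⟨T⟩ → P/J`, semilinear -/
noncomputable def psi0 (J : Ideal (MvPolynomial (Fin n) R)) :
    Etot (MvPolynomial (Fin n) R') (Fin m → MvPolynomial (Fin n) R') →ₛₗ[(MvPolynomial.map π :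
      MvPolynomial (Fin n) R' →+* MvPolynomial (Fin n) R)] (MvPolynomial (Fin n) R ⧸ J) :=
  ((Submodule.mkQ J : MvPolynomial (Fin n) R →ₗ[MvPolynomial (Fin n) R]
      (MvPolynomial (Fin n) R ⧸ J)).comp (MvPolynomial.map π :
      MvPolynomial (Fin n) R' →+* MvPolynomial (Fin n) R).toSemilinearMap).comp
    ((algebraMapInv.toLinearMap).comp (Finsupp.lapply 0))

lemma psi0_apply (J : Ideal (MvPolynomial (Fin n) R))
    (x : Etot (MvPolynomial (Fin n) R') (Fin m → MvPolynomial (Fin n) R')) :
    psi0 π J x = Ideal.Quotient.mk J (MvPolynomial.map π (algebraMapInv (x 0))) := rfl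

attribute [local instance] modR

local notation "P'" => MvPolynomial (Fin n) R'
local notation "P" => MvPolynomial (Fin n) R

theorem stacks_09PY [IsNoetherianRing R'] [IsNoetherianRing R]
    (hπ : Function.Surjective π)
    (hker : RingHom.ker π = Ideal.span {f}) (hf : f * f = 0)
    (fs r : Fin m → MvPolynomial (Fin n) R) (hrel : ∑ j, r j * fs j = 0)
    (h1 : ∀ (j : Fin m) (d : Fin n →₀ ℕ),
      MvPolynomial.coeff d (r j) ∈ ((Ideal.span {f}).annihilator).map π)
    (r' f' : Fin m → MvPolynomial (Fin n) R') (g : MvPolynomial (Fin n) R')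
    (hr' : ∀ j, MvPolynomial.map π (r' j) = r j) (hf' : ∀ j, MvPolynomial.map π (f' j) = fs j)
    (hsum : ∑ j, r' j * f' j = MvPolynomial.C f * g)
    (hg : ¬ IsNilpotent (Ideal.Quotient.mk
      (Ideal.span (Set.range fs) ⊔ (((Ideal.span {f}).annihilator).map π).map MvPolynomial.C)
      (MvPolynomial.map π g))) :
    ¬ DRing.HasFiniteTorDim R (MvPolynomial (Fin n) R ⧸ Ideal.span (Set.range fs)) := by
  classical
  rintro ⟨n₀, hn₀⟩
  let J : Ideal P := Ideal.span (Set.range fs)
  let σ : P' →+* P := MvPolynomial.map π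
  have hσ : Function.Surjective σ := MvPolynomial.map_surjective π hπ
  let c : P' := C f
  have hkerσ : RingHom.ker σ = Ideal.span {c} := ker_map_eq π f hker
  have hcc : c * c = 0 := by
    show (C f : P') * C f = 0
    rw [← C_mul, hf, C_0]
  let I : Ideal R := ((Ideal.span {f}).annihilator).map π
  have hI : annJ σ c = I.map (algebraMap R P) := annJ_C π f
  let d' : Module.Dual P' (Fin m → P') := Fintype.linearCombination P' f'
  have hdr : d' r' = c * g := by
    rw [← hsum]
    exact Fintype.linearCombination_apply P' f' r'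
  have hr'mem : r' ∈ annI c • (⊤ : Submodule P' (Fin m → P')) := by
    rw [pi_eq_sum_univ r']
    refine Submodule.sum_mem _ fun j _ => ?_
    refine Submodule.smul_mem_smul ?_ Submodule.mem_top
    apply mem_annI_of_coeff π f hker hf (r' j) _ hπ
    intro d
    rw [hr']
    exact h1 j d
  let S₀ : ModuleCat.{u} P := ModuleCat.of P (P ⧸ J)
  let ψ0 : Stage σ d' r' S₀ 0 :=
    ⟨show Etot P' (Fin m → P') →ₛₗ[σ] (P ⧸ J) from psi0 π J, by
      intro x hx
      obtain ⟨v, hv⟩ := algebraMapInv_D_zero d' r' hx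
      show psi0 π J (D d' r' x) = 0
      rw [psi0_apply, hv, Ideal.Quotient.eq_zero_iff_mem]
      show σ (Fintype.linearCombination P' f' v) ∈ J
      rw [Fintype.linearCombination_apply, map_sum]
      refine Ideal.sum_mem _ fun j _ => ?_
      rw [smul_eq_mul, map_mul]
      show σ (v j) * MvPolynomial.map π (f' j) ∈ J
      rw [hf' j]
      exact Ideal.mul_mem_left _ _ (Ideal.subset_span ⟨j, rfl⟩)⟩
  -- the tor dimension hypothesis
  have hTD0 : TD n₀ (ModuleCat.of R (P ⧸ J)) := (hasTorDimLE_iff_TD n₀ (P ⧸ J)).1 hn₀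
  let e0 : (P ⧸ J) ≃ₗ[R] (Zc S₀ 0) :=
    { toFun := fun x => x
      invFun := fun x => x
      map_add' := fun _ _ => rfl
      map_smul' := fun a x => (algebraMap_smul P a x).symm
      left_inv := fun _ => rfl
      right_inv := fun _ => rfl }
  have hTD : TD n₀ (toR R (Zc S₀ 0)) := TD_of_iso R e0.toModuleIso hTD0
  obtain ⟨k, hk⟩ := main R σ hσ c hkerσ hcc I hI d' r' g hdr hr'mem S₀ ψ0 n₀ hTD
  apply hg
  refine ⟨k, ?_⟩
  rw [← map_pow, Ideal.Quotient.eq_zero_iff_mem]
  -- the value of the augmentation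
  have hval : ψ0.1 (g ^ k • Tpow P' (Fin m → P') 0) = Ideal.Quotient.mk J (σ g ^ k) := by
    show psi0 π J (g ^ k • Tpow P' (Fin m → P') 0) = _
    rw [psi0_apply, Tpow, Finsupp.smul_apply, Finsupp.single_eq_same, map_smul, map_one,
      smul_eq_mul, mul_one, map_pow]
  rw [hval] at hk
  have key : ∀ y : P ⧸ J, y ∈ annJ σ c • (⊤ : Submodule P (P ⧸ J)) →
      ∃ s ∈ annJ σ c, y = Ideal.Quotient.mk J s := by
    intro y hy
    refine Submodule.smul_induction_on hy ?_ ?_
    · intro a ha v _
      obtain ⟨p, rfl⟩ := Ideal.Quotient.mk_surjective v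
      exact ⟨a * p, Ideal.mul_mem_right _ _ ha, rfl⟩
    · rintro x y ⟨s, hs, rfl⟩ ⟨t, ht, rfl⟩
      exact ⟨s + t, Ideal.add_mem _ hs ht, (map_add _ _ _).symm⟩
  obtain ⟨s, hs, hsk⟩ := key _ hk
  have h3 : σ g ^ k - s ∈ J := by
    rw [← Ideal.Quotient.eq_zero_iff_mem, map_sub, hsk, sub_self]
  have h4 : (MvPolynomial.map π g) ^ k = (σ g ^ k - s) + s := by
    show σ g ^ k = _
    ring
  rw [h4]
  refine Ideal.add_mem _ (Ideal.mem_sup_left h3) (Ideal.mem_sup_right ?_)
  rw [hI] at hs
  exact hs

end final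

end Groth.Agent.Lib.Helper91.AvramovMv
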