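import Groth.Prelude.Def_W4c4cptpiccptjacBI
import Mathlib

/-!
# Combinatorics of the Basic Inequality on weighted multigraphs
-/

open LabGraph Finset

universe u

namespace Helper91.BICombi

variable {V E : Type u} [Fintype V] [Fintype E] [DecidableEq V] [DecidableEq E]

theorem exists_crossing' {α : Type*} {r : α → α → Prop} (S : Set α) {s s' : α}
    (h : Relation.ReflTransGen r s s') (hs : s ∈ S) (hs' : s' ∉ S) :
    ∃ x y, r x y ∧ x ∈ S ∧ y ∉ S := by
  induction h with
  | refl => exact absurd hs hs'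
  | @tail b c _ hbc ih =>
    by_cases hb : b ∈ S
    · exact ⟨b, c, hbc, hb, hs'⟩
    · exact ih hb

theorem sum_endCount_univ (ends : E → V × V) :
    ∑ v, (endCount ends Finset.univ v : ℤ) = 2 * Fintype.card E := by
  unfold endCount
  push_cast
  rw [Finset.sum_comm]
  simp [Finset.sum_add_distrib, Finset.card_univ]
  ring

theorem canDeg_univ (ends : E → V × V) (w : V → ℕ) :
    canDeg ends w Finset.univ = 2 * genus ends w - 2 := by
  unfold canDeg genus
  rw [Finset.sum_add_distrib, Finset.sum_sub_distrib, sum_endCount_univ, ← Finset.mul_sum]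
  simp
  ring

/-- Indicator function of a vertex set. -/
def ind (Z : Finset V) : V → ℤ := fun u => if u ∈ Z then 1 else 0

theorem twist_ind_empty (ends : E → V × V) (v : V) : twist ends (ind (∅ : Finset V)) v = 0 := by
  unfold twist ind
  simp

theorem twist_ind_univ (ends : E → V × V) (v : V) :
    twist ends (ind (Finset.univ : Finset V)) v = 0 := by
  unfold twist ind
  simp

theorem twist_term_nonpos (ends : E → V × V) (Z : Finset V) (v : V) (hv : v ∈ Z) (e : E) :
    ((if (ends e).1 = v then ind Z (ends e).2 - ind Z (ends e).1 else 0) +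
      (if (ends e).2 = v then ind Z (ends e).1 - ind Z (ends e).2 else 0)) ≤ 0 := by
  unfold ind
  by_cases h1 : (ends e).1 = v <;> by_cases h2 : (ends e).2 = v
  · simp [h1, h2]
  · by_cases h3 : (ends e).2 ∈ Z <;> simp [h1, h2, h3, hv]
  · by_cases h3 : (ends e).1 ∈ Z <;> simp [h1, h2, h3, hv]
  · simp [h1, h2]

theorem twist_ind_nonpos (ends : E → V × V) (Z : Finset V) (v : V) (hv : v ∈ Z) :
    twist ends (ind Z) v ≤ 0 := by
  unfold twist
  exact Finset.sum_nonpos (fun e _ => twist_term_nonpos ends Z v hv e)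

theorem twist_ind_neg (ends : E → V × V) (Z : Finset V) (v : V) (hv : v ∈ Z) (e : E)
    (he : ((ends e).1 = v ∧ (ends e).2 ∉ Z) ∨ ((ends e).2 = v ∧ (ends e).1 ∉ Z)) :
    twist ends (ind Z) v ≤ -1 := by
  unfold twist
  rw [← Finset.add_sum_erase Finset.univ _ (Finset.mem_univ e)]
  have h1 : ((if (ends e).1 = v then ind Z (ends e).2 - ind Z (ends e).1 else 0) +
      (if (ends e).2 = v then ind Z (ends e).1 - ind Z (ends e).2 else 0)) ≤ -1 := by
    unfold ind
    rcases he with ⟨h1, h2⟩ | ⟨h1, h2⟩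
    · have h3 : (ends e).2 ≠ v := fun h => h2 (h ▸ hv)
      simp [h1, h2, h3, hv]
    · have h3 : (ends e).1 ≠ v := fun h => h2 (h ▸ hv)
      simp [h1, h2, h3, hv]
  have h2 : ∑ e' ∈ Finset.univ.erase e,
      ((if (ends e').1 = v then ind Z (ends e').2 - ind Z (ends e').1 else 0) +
      (if (ends e').2 = v then ind Z (ends e').1 - ind Z (ends e').2 else 0)) ≤ 0 :=
    Finset.sum_nonpos (fun e' _ => twist_term_nonpos ends Z v hv e')
  linarith

theorem endCount_univ_of_isExceptional (ends : E → V × V) (w : V → ℕ) (y : V)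
    (hy : IsExceptional ends w y) : endCount ends Finset.univ y = 2 := by
  obtain ⟨_, hloop, hcut⟩ := hy
  rw [← hcut]
  unfold endCount cut
  rw [Finset.card_filter]
  apply Finset.sum_congr rfl
  intro e _
  by_cases h1 : (ends e).1 = y <;> by_cases h2 : (ends e).2 = y
  · exact absurd (Prod.ext h1 h2) (hloop e)
  · simp [h1, h2]
  · simp [h1, h2]
  · simp [h1, h2]

theorem cut_insert_le (ends : E → V × V) (Y : Finset V) (y : V) (e₀ : E)
    (h : ((ends e₀).1 = y ∧ (ends e₀).2 ∈ Y) ∨ ((ends e₀).2 = y ∧ (ends e₀).1 ∈ Y))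
    (hy : y ∉ Y) :
    cut ends (insert y Y) + 1 ≤ cut ends Y + cut ends {y} := by
  unfold cut
  set A := Finset.univ.filter (fun e : E =>
    ((ends e).1 ∈ Y ∧ (ends e).2 ∉ Y) ∨ ((ends e).1 ∉ Y ∧ (ends e).2 ∈ Y)) with hA
  set B := Finset.univ.filter (fun e : E =>
    ((ends e).1 ∈ ({y} : Finset V) ∧ (ends e).2 ∉ ({y} : Finset V)) ∨
      ((ends e).1 ∉ ({y} : Finset V) ∧ (ends e).2 ∈ ({y} : Finset V))) with hB
  set C := Finset.univ.filter (fun e : E =>
    ((ends e).1 ∈ insert y Y ∧ (ends e).2 ∉ insert y Y) ∨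
      ((ends e).1 ∉ insert y Y ∧ (ends e).2 ∈ insert y Y)) with hC
  have he₀A : e₀ ∈ A := by
    simp only [hA, Finset.mem_filter, Finset.mem_univ, true_and]
    rcases h with ⟨h1, h2⟩ | ⟨h1, h2⟩
    · right; exact ⟨h1 ▸ hy, h2⟩
    · left; exact ⟨h2, h1 ▸ hy⟩
  have hsub : C ⊆ (A ∪ B).erase e₀ := by
    intro e he
    simp only [hC, Finset.mem_filter, Finset.mem_univ, true_and, Finset.mem_insert, not_or] at he
    rw [Finset.mem_erase]
    constructor
    · rintro rfl
      rcases h with ⟨h1, h2⟩ | ⟨h1, h2⟩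
      · rcases he with ⟨_, h3, h4⟩ | ⟨⟨h3, _⟩, _⟩
        · exact h4 h2
        · exact h3 h1
      · rcases he with ⟨_, h3, _⟩ | ⟨⟨_, h4⟩, _⟩
        · exact h3 h1
        · exact h4 h2
    · rw [Finset.mem_union]
      simp only [hA, hB, Finset.mem_filter, Finset.mem_univ, true_and, Finset.mem_singleton]
      rcases he with ⟨h1 | h1, h3, h4⟩ | ⟨⟨h3, h4⟩, h1 | h1⟩
      · right; left; exact ⟨h1, h3⟩
      · left; left; exact ⟨h1, h4⟩
      · right; right; exact ⟨h3, h1⟩
      · left; right; exact ⟨h4, h1⟩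
  have h1 : C.card ≤ ((A ∪ B).erase e₀).card := Finset.card_le_card hsub
  have h2 : ((A ∪ B).erase e₀).card = (A ∪ B).card - 1 :=
    Finset.card_erase_of_mem (Finset.mem_union_left B he₀A)
  have h3 : (A ∪ B).card ≤ A.card + B.card := Finset.card_union_le A B
  have h4 : 0 < (A ∪ B).card := Finset.card_pos.mpr ⟨e₀, Finset.mem_union_left B he₀A⟩
  omega


theorem main19033 (ends : E → V × V) (w : V → ℕ) (hX : IsQuasistableGraph ends w)
    (hg : 2 ≤ genus ends w) (d d' : V → ℤ)
    (hBI : SatisfiesBI ends w d)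
    (hone : ∀ v : V, IsExceptional ends w v → d v = 1)
    (hone' : ∀ v : V, IsExceptional ends w v → d' v = 1)
    (hstrict : ∀ Y : Finset V, Y.Nonempty → Y ≠ Finset.univ →
      2 * (canDeg ends w Finset.univ * (∑ v ∈ Y, d v) - (∑ v, d v) * canDeg ends w Y)
          = (cut ends Y : ℤ) * canDeg ends w Finset.univ →
      ∀ e : E, (((ends e).1 ∈ Y ∧ (ends e).2 ∉ Y) ∨ ((ends e).1 ∉ Y ∧ (ends e).2 ∈ Y)) →
        (IsExceptional ends w (ends e).1 ∨ IsExceptional ends w (ends e).2))
    (m : ℕ) (Z : Fin m → Finset V) (hmono : ∀ i j : Fin m, i ≤ j → Z i ⊆ Z j)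
    (hext : ∀ i : Fin m,
      2 * (canDeg ends w Finset.univ * (∑ v ∈ Z i, d v) - (∑ v, d v) * canDeg ends w (Z i))
          = (cut ends (Z i) : ℤ) * canDeg ends w Finset.univ)
    (hsum : ∀ v : V, d' v = d v + ∑ i : Fin m, twist ends (ind (Z i)) v) :
    d = d' := by
  have hK : 0 < canDeg ends w Finset.univ := by rw [canDeg_univ]; linarith
  have hexc : ∀ v, IsExceptional ends w v → ∑ i : Fin m, twist ends (ind (Z i)) v = 0 := by
    intro v hv
    have := hsum v
    rw [hone v hv, hone' v hv] at this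
    linarith
  have claim : ∀ i, Z i = ∅ ∨ Z i = Finset.univ := by
    by_contra hcon
    push Not at hcon
    obtain ⟨i₀, hi₀e, hi₀u⟩ := hcon
    let S : Finset (Fin m) := Finset.univ.filter (fun i => Z i ≠ ∅)
    have hS : S.Nonempty := ⟨i₀, by simp [S, hi₀e.ne_empty]⟩
    set i₁ := S.min' hS with hi₁
    have hi₁S : i₁ ∈ S := Finset.min'_mem S hS
    have hYne : Z i₁ ≠ ∅ := by simpa [S] using hi₁S
    have hlt : ∀ j, j < i₁ → Z j = ∅ := by
      intro j hj
      by_contra hne
      have : j ∈ S := by simp [S, hne]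
      exact absurd (Finset.min'_le S j this) (not_le.mpr hj)
    have hYu : Z i₁ ≠ Finset.univ := by
      intro h
      have h1 : i₁ ≤ i₀ := Finset.min'_le S i₀ (by simp [S, hi₀e.ne_empty])
      have h2 := hmono i₁ i₀ h1
      rw [h] at h2
      exact hi₀u (Finset.univ_subset_iff.mp h2)
    obtain ⟨x, hx⟩ := Finset.nonempty_iff_ne_empty.mpr hYne
    obtain ⟨y, hy⟩ : ∃ y, y ∉ Z i₁ := by
      by_contra h
      push Not at h
      exact hYu (Finset.eq_univ_iff_forall.mpr h)
    obtain ⟨a, b, hab, ha, hb⟩ :=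
      exists_crossing' (↑(Z i₁) : Set V) (hX.1.1.2 x y) (Finset.mem_coe.mpr hx)
        (fun h => hy (Finset.mem_coe.mp h))
    have ha : a ∈ Z i₁ := Finset.mem_coe.mp ha
    have hb : b ∉ Z i₁ := fun h => hb (Finset.mem_coe.mpr h)
    obtain ⟨e, he⟩ := hab
    have hcross : ((ends e).1 ∈ Z i₁ ∧ (ends e).2 ∉ Z i₁) ∨
        ((ends e).1 ∉ Z i₁ ∧ (ends e).2 ∈ Z i₁) := by
      rcases he with he | he
      · left; rw [he]; exact ⟨ha, hb⟩
      · right; rw [he]; exact ⟨hb, ha⟩
    have hexc2 := hstrict (Z i₁) (Finset.nonempty_iff_ne_empty.mpr hYne) hYu (hext i₁) e hcross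
    have hab' : IsExceptional ends w a ∨ IsExceptional ends w b := by
      rcases he with he | he
      · rw [he] at hexc2; exact hexc2
      · rw [he] at hexc2; exact hexc2.symm
    rcases hab' with hae | hbe
    · have h0 := hexc a hae
      have hle : ∀ j, twist ends (ind (Z j)) a ≤ 0 := by
        intro j
        by_cases hj : j < i₁
        · rw [hlt j hj, twist_ind_empty]
        · exact twist_ind_nonpos ends (Z j) a (hmono i₁ j (not_lt.mp hj) ha)
      have hneg : twist ends (ind (Z i₁)) a ≤ -1 := by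
        apply twist_ind_neg ends (Z i₁) a ha e
        rcases he with he | he
        · left; rw [he]; exact ⟨rfl, hb⟩
        · right; rw [he]; exact ⟨rfl, hb⟩
      have : ∑ j : Fin m, twist ends (ind (Z j)) a ≤ -1 := by
        rw [← Finset.add_sum_erase Finset.univ _ (Finset.mem_univ i₁)]
        have := Finset.sum_nonpos (fun j (_ : j ∈ Finset.univ.erase i₁) => hle j)
        linarith
      linarith
    · have hcutb : cut ends {b} = 2 := hbe.2.2
      have hins := cut_insert_le ends (Z i₁) b e (by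
        rcases he with he | he
        · right; rw [he]; exact ⟨rfl, ha⟩
        · left; rw [he]; exact ⟨rfl, ha⟩) hb
      have hBIW := hBI (insert b (Z i₁))
      rw [Finset.sum_insert hb, hone b hbe] at hBIW
      have hcan : canDeg ends w (insert b (Z i₁)) = canDeg ends w (Z i₁) := by
        unfold canDeg
        rw [Finset.sum_insert hb, endCount_univ_of_isExceptional ends w b hbe, hbe.1]
        simp
      rw [hcan] at hBIW
      have h1 := le_abs_self (canDeg ends w Finset.univ * (1 + ∑ v ∈ Z i₁, d v) -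
        (∑ v, d v) * canDeg ends w (Z i₁))
      have h2 := hext i₁
      have h3 : (cut ends (insert b (Z i₁)) : ℤ) ≤ cut ends (Z i₁) + 1 := by
        have : cut ends (insert b (Z i₁)) ≤ cut ends (Z i₁) + 1 := by omega
        exact_mod_cast this
      have h4 := mul_le_mul_of_nonneg_right h3 hK.le
      nlinarith
  funext v
  rw [hsum v]
  have : ∑ i : Fin m, twist ends (ind (Z i)) v = 0 := by
    apply Finset.sum_eq_zero
    intro i _
    rcases claim i with h | h
    · rw [h, twist_ind_empty]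
    · rw [h, twist_ind_univ]
  rw [this, add_zero]


theorem cut_compl (ends : E → V × V) (Y : Finset V) : cut ends Yᶜ = cut ends Y := by
  unfold cut
  congr 1
  ext e
  simp only [Finset.mem_filter, Finset.mem_univ, true_and, Finset.mem_compl, not_not]
  tauto

theorem cut_insert_le2 (ends : E → V × V) (Y : Finset V) (y : V) (e₀ : E)
    (h : ((ends e₀).1 = y ∧ (ends e₀).2 ∈ Y) ∨ ((ends e₀).2 = y ∧ (ends e₀).1 ∈ Y))
    (hy : y ∉ Y) :
    cut ends (insert y Y) + 2 ≤ cut ends Y + cut ends {y} := by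
  unfold cut
  set A := Finset.univ.filter (fun e : E =>
    ((ends e).1 ∈ Y ∧ (ends e).2 ∉ Y) ∨ ((ends e).1 ∉ Y ∧ (ends e).2 ∈ Y)) with hA
  set B := Finset.univ.filter (fun e : E =>
    ((ends e).1 ∈ ({y} : Finset V) ∧ (ends e).2 ∉ ({y} : Finset V)) ∨
      ((ends e).1 ∉ ({y} : Finset V) ∧ (ends e).2 ∈ ({y} : Finset V))) with hB
  set C := Finset.univ.filter (fun e : E =>
    ((ends e).1 ∈ insert y Y ∧ (ends e).2 ∉ insert y Y) ∨
      ((ends e).1 ∉ insert y Y ∧ (ends e).2 ∈ insert y Y)) with hC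
  have he₀A : e₀ ∈ A := by
    simp only [hA, Finset.mem_filter, Finset.mem_univ, true_and]
    rcases h with ⟨h1, h2⟩ | ⟨h1, h2⟩
    · right; exact ⟨h1 ▸ hy, h2⟩
    · left; exact ⟨h2, h1 ▸ hy⟩
  have he₀B : e₀ ∈ B := by
    simp only [hB, Finset.mem_filter, Finset.mem_univ, true_and, Finset.mem_singleton]
    rcases h with ⟨h1, h2⟩ | ⟨h1, h2⟩
    · left; exact ⟨h1, fun h3 => hy (h3 ▸ h2)⟩
    · right; exact ⟨fun h3 => hy (h3 ▸ h2), h1⟩
  have hsub : C ⊆ (A ∪ B).erase e₀ := by
    intro e he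
    simp only [hC, Finset.mem_filter, Finset.mem_univ, true_and, Finset.mem_insert, not_or] at he
    rw [Finset.mem_erase]
    constructor
    · rintro rfl
      rcases h with ⟨h1, h2⟩ | ⟨h1, h2⟩
      · rcases he with ⟨_, h3, h4⟩ | ⟨⟨h3, _⟩, _⟩
        · exact h4 h2
        · exact h3 h1
      · rcases he with ⟨_, h3, _⟩ | ⟨⟨_, h4⟩, _⟩
        · exact h3 h1
        · exact h4 h2
    · rw [Finset.mem_union]
      simp only [hA, hB, Finset.mem_filter, Finset.mem_univ, true_and, Finset.mem_singleton]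
      rcases he with ⟨h1 | h1, h3, h4⟩ | ⟨⟨h3, h4⟩, h1 | h1⟩
      · right; left; exact ⟨h1, h3⟩
      · left; left; exact ⟨h1, h4⟩
      · right; right; exact ⟨h3, h1⟩
      · left; right; exact ⟨h4, h1⟩
  have h1 : C.card ≤ ((A ∪ B).erase e₀).card := Finset.card_le_card hsub
  have h2 : ((A ∪ B).erase e₀).card = (A ∪ B).card - 1 :=
    Finset.card_erase_of_mem (Finset.mem_union_left B he₀A)
  have h3 : (A ∪ B).card + (A ∩ B).card = A.card + B.card := Finset.card_union_add_card_inter A B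
  have h4 : 0 < (A ∩ B).card := Finset.card_pos.mpr ⟨e₀, Finset.mem_inter.mpr ⟨he₀A, he₀B⟩⟩
  have h5 : 0 < (A ∪ B).card := Finset.card_pos.mpr ⟨e₀, Finset.mem_union_left B he₀A⟩
  omega

theorem flip_in (ends : E → V × V) (Y : Finset V) (s : V)
    (h : ∀ e : E, ((ends e).1 = s → (ends e).2 ∈ Y) ∧ ((ends e).2 = s → (ends e).1 ∈ Y)) :
    cut ends (insert s Y) ≤ cut ends Y := by
  unfold cut
  apply Finset.card_le_card
  intro e he
  simp only [Finset.mem_filter, Finset.mem_univ, true_and, Finset.mem_insert, not_or] at he ⊢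
  rcases he with ⟨h1 | h1, h2, h3⟩ | ⟨⟨h2, h3⟩, h1 | h1⟩
  · exact absurd ((h e).1 h1) h3
  · left; exact ⟨h1, h3⟩
  · exact absurd ((h e).2 h1) h3
  · right; exact ⟨h3, h1⟩

theorem flip_out (ends : E → V × V) (Y : Finset V) (s : V) (hsY : s ∈ Y)
    (hcut : cut ends {s} = 2) (e₀ : E)
    (h : ((ends e₀).1 = s ∧ (ends e₀).2 ∉ Y) ∨ ((ends e₀).2 = s ∧ (ends e₀).1 ∉ Y)) :
    cut ends (Y.erase s) ≤ cut ends Y := by
  rw [← cut_compl ends (Y.erase s), ← cut_compl ends Y]
  have h1 : (Y.erase s)ᶜ = insert s Yᶜ := by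
    ext v
    simp only [Finset.mem_compl, Finset.mem_erase, Finset.mem_insert, not_and]
    by_cases hv : v = s
    · simp [hv]
    · simp [hv]
  rw [h1]
  have h2 := cut_insert_le2 ends Yᶜ s e₀ (by
    rcases h with ⟨h1, h2⟩ | ⟨h1, h2⟩
    · left; exact ⟨h1, Finset.mem_compl.mpr h2⟩
    · right; exact ⟨h1, Finset.mem_compl.mpr h2⟩) (by simp [hsY])
  omega

theorem nbr_not_mem (ends : E → V × V) (w : V → ℕ) (hZ : IsQuasistableGraph ends w)
    (S : Finset V) (hS : ∀ v ∈ S, IsExceptional ends w v) (e : E) :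
    ¬ ((ends e).1 ∈ S ∧ (ends e).2 ∈ S) := by
  rintro ⟨h1, h2⟩
  have hx1 := hS _ h1
  have hx2 := hS _ h2
  by_cases heq : (ends e).1 = (ends e).2
  · exact hx1.2.1 e (Prod.ext rfl heq.symm)
  · exact hZ.2 e heq ⟨hx1, hx2⟩

theorem cut_hat_le (ends : E → V × V) (w : V → ℕ) (hZ : IsQuasistableGraph ends w)
    (S : Finset V) (hS : ∀ v ∈ S, IsExceptional ends w v) (W : Finset V) (hWS : Disjoint W S)
    (What : Finset V)
    (hWhat : ∀ v, v ∈ What ↔ v ∈ W ∨ (v ∈ S ∧ ∀ e : E,
      ((ends e).1 = v → (ends e).2 ∈ W) ∧ ((ends e).2 = v → (ends e).1 ∈ W))) :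
    ∀ n : ℕ, ∀ Y : Finset V, Y \ S = W → (symmDiff Y What).card ≤ n →
      cut ends What ≤ cut ends Y := by
  intro n
  induction n with
  | zero =>
    intro Y hYW hn
    have h1 : symmDiff Y What = ∅ := Finset.card_eq_zero.mp (Nat.le_zero.mp hn)
    have h2 : Y = What := symmDiff_eq_bot.mp h1
    rw [h2]
  | succ n ih =>
    intro Y hYW hn
    by_cases hYe : Y = What
    · rw [hYe]
    · have hne : (symmDiff Y What).Nonempty := by
        rw [Finset.nonempty_iff_ne_empty]
        intro h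
        exact hYe (symmDiff_eq_bot.mp h)
      obtain ⟨s, hs⟩ := hne
      have hYmem : ∀ v, v ∉ S → (v ∈ Y ↔ v ∈ W) := by
        intro v hv
        rw [← hYW, Finset.mem_sdiff]
        tauto
      have hsS : s ∈ S := by
        by_contra hsS
        rw [Finset.mem_symmDiff] at hs
        have h1 := hYmem s hsS
        have h2 : s ∈ What ↔ s ∈ W := by rw [hWhat]; tauto
        tauto
      have hsW : s ∉ W := fun h => (Finset.disjoint_left.mp hWS h) hsS
      have hcard : ∀ Y' : Finset V, (∀ v, v ≠ s → (v ∈ Y' ↔ v ∈ Y)) → (s ∈ Y' ↔ s ∈ What) →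
          (symmDiff Y' What).card < (symmDiff Y What).card := by
        intro Y' h1 h2
        apply Finset.card_lt_card
        refine ⟨?_, fun h => ?_⟩
        · intro v hv
          rw [Finset.mem_symmDiff] at hv ⊢
          by_cases hvs : v = s
          · subst hvs; tauto
          · rw [h1 v hvs] at hv; exact hv
        · have := h hs
          rw [Finset.mem_symmDiff] at this
          tauto
      have hsd : ∀ Y' : Finset V, (∀ v, v ≠ s → (v ∈ Y' ↔ v ∈ Y)) → Y' \ S = W := by
        intro Y' h1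
        rw [← hYW]
        ext v
        rw [Finset.mem_sdiff, Finset.mem_sdiff]
        by_cases hvs : v = s
        · subst hvs; tauto
        · rw [h1 v hvs]
      rw [Finset.mem_symmDiff] at hs
      rcases hs with ⟨hsY, hsWh⟩ | ⟨hsWh, hsY⟩
      · -- erase s
        have hnot : ¬ ∀ e : E, ((ends e).1 = s → (ends e).2 ∈ W) ∧
            ((ends e).2 = s → (ends e).1 ∈ W) := by
          intro h; exact hsWh ((hWhat s).mpr (Or.inr ⟨hsS, h⟩))
        obtain ⟨e₀, he₀⟩ := not_forall.mp hnot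
        have hflip : cut ends (Y.erase s) ≤ cut ends Y := by
          apply flip_out ends Y s hsY (hS s hsS).2.2 e₀
          rcases not_and_or.mp he₀ with h | h
          · obtain ⟨h1, h2⟩ := Classical.not_imp.mp h
            left
            refine ⟨h1, fun h3 => h2 ((hYmem _ ?_).mp h3)⟩
            intro h4
            exact nbr_not_mem ends w hZ S hS e₀ ⟨h1 ▸ hsS, h4⟩
          · obtain ⟨h1, h2⟩ := Classical.not_imp.mp h
            right
            refine ⟨h1, fun h3 => h2 ((hYmem _ ?_).mp h3)⟩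
            intro h4
            exact nbr_not_mem ends w hZ S hS e₀ ⟨h4, h1 ▸ hsS⟩
        have hmem : ∀ v, v ≠ s → (v ∈ Y.erase s ↔ v ∈ Y) := by
          intro v hv
          rw [Finset.mem_erase]
          tauto
        have h3 := hcard (Y.erase s) hmem (by simp [hsWh])
        exact le_trans (ih (Y.erase s) (hsd _ hmem) (by omega)) hflip
      · -- insert s
        have hall : ∀ e : E, ((ends e).1 = s → (ends e).2 ∈ W) ∧
            ((ends e).2 = s → (ends e).1 ∈ W) := by
          rcases (hWhat s).mp hsWh with h | h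
          · exact absurd h hsW
          · exact h.2
        have hWY : W ⊆ Y := by rw [← hYW]; exact Finset.sdiff_subset
        have hflip : cut ends (insert s Y) ≤ cut ends Y :=
          flip_in ends Y s (fun e => ⟨fun h => hWY ((hall e).1 h), fun h => hWY ((hall e).2 h)⟩)
        have hmem : ∀ v, v ≠ s → (v ∈ insert s Y ↔ v ∈ Y) := by
          intro v hv
          rw [Finset.mem_insert]
          tauto
        have h3 := hcard (insert s Y) hmem (by simp [hsWh])
        exact le_trans (ih (insert s Y) (hsd _ hmem) (by omega)) hflip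

theorem canDeg_term_of_isExceptional (ends : E → V × V) (w : V → ℕ) (v : V)
    (hv : IsExceptional ends w v) :
    (2 * (w v : ℤ) - 2 + (endCount ends Finset.univ v : ℤ)) = 0 := by
  rw [endCount_univ_of_isExceptional ends w v hv, hv.1]
  simp

theorem main19034 (ends : E → V × V) (w : V → ℕ) (hZ : IsQuasistableGraph ends w)
    (hg : 2 ≤ genus ends w) (S : Finset V) (hS : ∀ v ∈ S, IsExceptional ends w v)
    (dt : V → ℤ) (hzero : ∀ v ∈ S, dt v = 0)
    (hBI : ∀ W : Finset V, Disjoint W S →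
      2 * |canDeg ends w Finset.univ * (∑ v ∈ W, dt v) - (∑ v, dt v) * canDeg ends w (Finset.univ.filter (fun v : V => v ∈ W ∨ (v ∈ S ∧ ∀ e : E, ((ends e).1 = v → (ends e).2 ∈ W) ∧ ((ends e).2 = v → (ends e).1 ∈ W))))|
        ≤ (cut ends (Finset.univ.filter (fun v : V => v ∈ W ∨ (v ∈ S ∧ ∀ e : E, ((ends e).1 = v → (ends e).2 ∈ W) ∧ ((ends e).2 = v → (ends e).1 ∈ W)))) : ℤ) * canDeg ends w Finset.univ) :
    SatisfiesBI ends w dt := by
  intro Y
  have hK : 0 ≤ canDeg ends w Finset.univ := by rw [canDeg_univ]; linarith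
  have hWS : Disjoint (Y \ S) S := Finset.sdiff_disjoint
  have h1 := hBI (Y \ S) hWS
  set What := Finset.univ.filter (fun v : V => v ∈ Y \ S ∨ (v ∈ S ∧ ∀ e : E,
    ((ends e).1 = v → (ends e).2 ∈ Y \ S) ∧ ((ends e).2 = v → (ends e).1 ∈ Y \ S))) with hWhatdef
  have hWhat : ∀ v, v ∈ What ↔ v ∈ Y \ S ∨ (v ∈ S ∧ ∀ e : E,
      ((ends e).1 = v → (ends e).2 ∈ Y \ S) ∧ ((ends e).2 = v → (ends e).1 ∈ Y \ S)) := by
    intro v
    simp only [hWhatdef, Finset.mem_filter, Finset.mem_univ, true_and]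
  have hcut : cut ends What ≤ cut ends Y :=
    cut_hat_le ends w hZ S hS (Y \ S) hWS What hWhat _ Y rfl le_rfl
  have hsumY : ∑ v ∈ Y \ S, dt v = ∑ v ∈ Y, dt v := by
    apply Finset.sum_subset Finset.sdiff_subset
    intro v hvY hv
    apply hzero
    by_contra hvS
    exact hv (Finset.mem_sdiff.mpr ⟨hvY, hvS⟩)
  have hcanY : canDeg ends w (Y \ S) = canDeg ends w Y := by
    unfold canDeg
    apply Finset.sum_subset Finset.sdiff_subset
    intro v hvY hv
    apply canDeg_term_of_isExceptional ends w v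
    apply hS
    by_contra hvS
    exact hv (Finset.mem_sdiff.mpr ⟨hvY, hvS⟩)
  have hcanW : canDeg ends w (Y \ S) = canDeg ends w What := by
    unfold canDeg
    apply Finset.sum_subset
    · intro v hv
      exact (hWhat v).mpr (Or.inl hv)
    · intro v hvW hv
      apply canDeg_term_of_isExceptional ends w v
      apply hS
      rcases (hWhat v).mp hvW with h | h
      · exact absurd h hv
      · exact h.1
  rw [← hcanW, hsumY, hcanY] at h1
  have h2 : (cut ends What : ℤ) ≤ cut ends Y := by exact_mod_cast hcut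
  have h3 := mul_le_mul_of_nonneg_right h2 hK
  linarith

end Helper91.BICombi
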