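import Mathlib

/-!
# Rado's theorem for abstract submodular rank functions (Mirsky's proof)
-/

namespace Helper91.Rado

open Finset

/-- an abstract (poly)matroid rank function -/
structure RankFn (G : Type*) [DecidableEq G] where
  ρ : Finset G → ℕ
  mono : ∀ S T, S ⊆ T → ρ S ≤ ρ T
  submod : ∀ S T, ρ (S ∪ T) + ρ (S ∩ T) ≤ ρ S + ρ T
  empty : ρ ∅ = 0

variable {G : Type*} [DecidableEq G] (R : RankFn G) {T : Type*} [Fintype T] [DecidableEq T]

/-- Rado's condition -/
def Cond (A : T → Finset G) : Prop := ∀ J : Finset T, J.card ≤ R.ρ (J.biUnion A)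

lemma biUnion_update_of_notMem (A : T → Finset G) (t₁ : T) (B : Finset G) (J : Finset T)
    (h : t₁ ∉ J) : J.biUnion (Function.update A t₁ B) = J.biUnion A := by
  apply Finset.biUnion_congr rfl
  intro t ht
  rw [Function.update_of_ne]
  rintro rfl
  exact h ht

lemma biUnion_update_of_mem (A : T → Finset G) (t₁ : T) (B : Finset G) (J : Finset T)
    (h : t₁ ∈ J) :
    J.biUnion (Function.update A t₁ B) = B ∪ (J.erase t₁).biUnion A := by
  conv_lhs => rw [← Finset.insert_erase h]
  rw [Finset.biUnion_insert, Function.update_self,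
    biUnion_update_of_notMem A t₁ B (J.erase t₁) (Finset.notMem_erase _ _)]

/-- the key step of Mirsky's proof -/
lemma cond_erase (A : T → Finset G) (hA : Cond R A) (t₁ : T) (x y : G) (hx : x ∈ A t₁)
    (hy : y ∈ A t₁) (hxy : x ≠ y) :
    Cond R (Function.update A t₁ ((A t₁).erase x)) ∨
      Cond R (Function.update A t₁ ((A t₁).erase y)) := by
  by_contra hcon
  rw [not_or] at hcon
  obtain ⟨h1, h2⟩ := hcon
  unfold Cond at h1 h2
  push Not at h1 h2
  obtain ⟨J, hJ⟩ := h1
  obtain ⟨K, hK⟩ := h2
  have htJ : t₁ ∈ J := by
    by_contra h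
    rw [biUnion_update_of_notMem A t₁ _ J h] at hJ
    exact absurd (hA J) (not_le.mpr hJ)
  have htK : t₁ ∈ K := by
    by_contra h
    rw [biUnion_update_of_notMem A t₁ _ K h] at hK
    exact absurd (hA K) (not_le.mpr hK)
  rw [biUnion_update_of_mem A t₁ _ J htJ] at hJ
  rw [biUnion_update_of_mem A t₁ _ K htK] at hK
  set J₀ := J.erase t₁ with hJ₀
  set K₀ := K.erase t₁ with hK₀
  have hcJ : J.card = J₀.card + 1 := by rw [hJ₀, Finset.card_erase_of_mem htJ]; 
                                         have := Finset.card_pos.mpr ⟨t₁, htJ⟩; omega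
  have hcK : K.card = K₀.card + 1 := by rw [hK₀, Finset.card_erase_of_mem htK]; 
                                         have := Finset.card_pos.mpr ⟨t₁, htK⟩; omega
  set U := (A t₁).erase x ∪ J₀.biUnion A with hU
  set W := (A t₁).erase y ∪ K₀.biUnion A with hW
  have hsub := R.submod U W
  -- union
  have h3 : (insert t₁ (J₀ ∪ K₀)).biUnion A ⊆ U ∪ W := by
    rw [Finset.biUnion_insert, Finset.union_biUnion]
    intro g hg
    rw [Finset.mem_union, Finset.mem_union] at hg
    rcases hg with hg | hg | hg
    · by_cases hgx : g = x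
      · subst hgx
        exact Finset.mem_union_right _ (Finset.mem_union_left _
          (Finset.mem_erase.mpr ⟨hxy, hg⟩))
      · exact Finset.mem_union_left _ (Finset.mem_union_left _ (Finset.mem_erase.mpr ⟨hgx, hg⟩))
    · exact Finset.mem_union_left _ (Finset.mem_union_right _ hg)
    · exact Finset.mem_union_right _ (Finset.mem_union_right _ hg)
  have h4 : (J₀ ∩ K₀).biUnion A ⊆ U ∩ W := by
    intro g hg
    rw [Finset.mem_biUnion] at hg
    obtain ⟨t, ht, hgt⟩ := hg
    rw [Finset.mem_inter] at ht
    exact Finset.mem_inter.mpr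
      ⟨Finset.mem_union_right _ (Finset.mem_biUnion.mpr ⟨t, ht.1, hgt⟩),
        Finset.mem_union_right _ (Finset.mem_biUnion.mpr ⟨t, ht.2, hgt⟩)⟩
  have h5 := (hA (insert t₁ (J₀ ∪ K₀))).trans (R.mono _ _ h3)
  have h6 := (hA (J₀ ∩ K₀)).trans (R.mono _ _ h4)
  have ht₁ : t₁ ∉ J₀ ∪ K₀ := by
    rw [Finset.mem_union, not_or]
    exact ⟨Finset.notMem_erase _ _, Finset.notMem_erase _ _⟩
  rw [Finset.card_insert_of_notMem ht₁] at h5
  have h7 := Finset.card_union_add_card_inter J₀ K₀
  omega

theorem rado_aux (n : ℕ) : ∀ A : T → Finset G, (∑ t, (A t).card = n) → Cond R A →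
    ∃ τ : T → G, (∀ t, τ t ∈ A t) ∧ Fintype.card T ≤ R.ρ (Finset.univ.image τ) := by
  induction n using Nat.strong_induction_on with
  | _ n ih =>
    intro A hn hA
    by_cases hall : ∀ t, (A t).card ≤ 1
    · -- all singletons
      have hne : ∀ t, (A t).Nonempty := by
        intro t
        by_contra h
        rw [Finset.not_nonempty_iff_eq_empty] at h
        have := hA {t}
        rw [Finset.singleton_biUnion, h, R.empty] at this
        simp at this
      choose τ hτ using hne
      refine ⟨τ, hτ, ?_⟩
      have hsing : ∀ t, A t = {τ t} := by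
        intro t
        have h1 : (A t).card = 1 := le_antisymm (hall t) (Finset.card_pos.mpr ⟨τ t, hτ t⟩)
        obtain ⟨a, ha⟩ := Finset.card_eq_one.mp h1
        have := hτ t
        rw [ha, Finset.mem_singleton] at this
        rw [ha, this]
      have himg : Finset.univ.image τ = Finset.univ.biUnion A := by
        ext g
        simp only [Finset.mem_image, Finset.mem_univ, true_and, Finset.mem_biUnion]
        constructor
        · rintro ⟨t, rfl⟩
          exact ⟨t, hτ t⟩
        · rintro ⟨t, ht⟩
          rw [hsing t, Finset.mem_singleton] at ht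
          exact ⟨t, ht.symm⟩
      rw [himg]
      have := hA Finset.univ
      rwa [Finset.card_univ] at this
    · push Not at hall
      obtain ⟨t₁, ht₁⟩ := hall
      obtain ⟨x, hx, y, hy, hxy⟩ := Finset.one_lt_card.mp ht₁
      have hsum : ∀ z ∈ A t₁, ∑ t, ((Function.update A t₁ ((A t₁).erase z)) t).card < n := by
        intro z hz
        rw [← hn]
        apply Finset.sum_lt_sum
        · intro t _
          by_cases h : t = t₁
          · subst h
            rw [Function.update_self]
            exact Finset.card_le_card (Finset.erase_subset _ _)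
          · rw [Function.update_of_ne h]
        · refine ⟨t₁, Finset.mem_univ _, ?_⟩
          rw [Function.update_self, Finset.card_erase_of_mem hz]
          have := Finset.card_pos.mpr ⟨z, hz⟩
          omega
      rcases cond_erase R A hA t₁ x y hx hy hxy with h | h
      · obtain ⟨τ, hτ, hcard⟩ := ih _ (hsum x hx) _ rfl h
        refine ⟨τ, ?_, hcard⟩
        intro t
        have := hτ t
        by_cases ht : t = t₁
        · subst ht
          rw [Function.update_self] at this
          exact Finset.mem_of_mem_erase this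
        · rwa [Function.update_of_ne ht] at this
      · obtain ⟨τ, hτ, hcard⟩ := ih _ (hsum y hy) _ rfl h
        refine ⟨τ, ?_, hcard⟩
        intro t
        have := hτ t
        by_cases ht : t = t₁
        · subst ht
          rw [Function.update_self] at this
          exact Finset.mem_of_mem_erase this
        · rwa [Function.update_of_ne ht] at this

/-- **Rado's theorem** for an abstract rank function. -/
theorem rado (A : T → Finset G) (hA : Cond R A) :
    ∃ τ : T → G, (∀ t, τ t ∈ A t) ∧ Fintype.card T ≤ R.ρ (Finset.univ.image τ) :=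
  rado_aux R _ A rfl hA

end Helper91.Rado
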