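import Mathlib
import Groth.Agent.Lib.Helper91.RadoAbs

/-!
# Linear rank functions, fibrewise sums, and base packing
-/

namespace Helper91.Rado

open Finset

section Lin

variable {K : Type*} [Field K] {V : Type*} [AddCommGroup V] [Module K V] [FiniteDimensional K V]
variable {E : Type*} [DecidableEq E]

/-- rank of a finite set of indexed vectors -/
noncomputable def linρ (K : Type*) [Field K] {V : Type*} [AddCommGroup V] [Module K V]
    (x : E → V) (S : Finset E) : ℕ :=
  Module.finrank K (Submodule.span K (x '' (S : Set E)))

lemma linρ_mono (x : E → V) (S T : Finset E) (h : S ⊆ T) : linρ K x S ≤ linρ K x T := by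
  unfold linρ
  apply Submodule.finrank_mono
  apply Submodule.span_mono
  exact Set.image_mono (Finset.coe_subset.mpr h)

lemma linρ_empty (x : E → V) : linρ K x ∅ = 0 := by
  unfold linρ
  simp

lemma linρ_submod (x : E → V) (S T : Finset E) :
    linρ K x (S ∪ T) + linρ K x (S ∩ T) ≤ linρ K x S + linρ K x T := by
  unfold linρ
  have h1 : Submodule.span K (x '' ((S ∪ T : Finset E) : Set E)) =
      Submodule.span K (x '' (S : Set E)) ⊔ Submodule.span K (x '' (T : Set E)) := by
    rw [Finset.coe_union, Set.image_union, Submodule.span_union]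
  have h2 : Submodule.span K (x '' ((S ∩ T : Finset E) : Set E)) ≤
      Submodule.span K (x '' (S : Set E)) ⊓ Submodule.span K (x '' (T : Set E)) := by
    apply le_inf
    · apply Submodule.span_mono
      apply Set.image_mono
      rw [Finset.coe_inter]
      exact Set.inter_subset_left
    · apply Submodule.span_mono
      apply Set.image_mono
      rw [Finset.coe_inter]
      exact Set.inter_subset_right
  rw [h1]
  have h3 := Submodule.finrank_sup_add_finrank_inf_eq
    (Submodule.span K (x '' (S : Set E))) (Submodule.span K (x '' (T : Set E)))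
  have h4 := Submodule.finrank_mono h2
  omega

/-- the linear rank function -/
noncomputable def linRank (K : Type*) [Field K] {V : Type*} [AddCommGroup V] [Module K V]
    [FiniteDimensional K V] (x : E → V) : RankFn E where
  ρ := linρ K x
  mono := linρ_mono x
  submod := linρ_submod x
  empty := linρ_empty x

lemma linρ_le_card (x : E → V) (S : Finset E) : linρ K x S ≤ S.card := by
  classical
  unfold linρ
  have : x '' (S : Set E) = ((S.image x : Finset V) : Set V) := by
    rw [Finset.coe_image]
  rw [this]
  exact (finrank_span_finset_le_card _).trans Finset.card_image_le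

lemma linρ_le_finrank (x : E → V) (S : Finset E) : linρ K x S ≤ Module.finrank K V :=
  Submodule.finrank_le _

lemma linearIndependent_of_linρ_eq_card (x : E → V) (S : Finset E) (h : linρ K x S = S.card) :
    LinearIndependent K (fun j : S => x j) := by
  rw [linearIndependent_iff_card_eq_finrank_span]
  have : Set.range (fun j : S => x j) = x '' (S : Set E) := by
    ext v
    simp
  rw [Set.finrank, this]
  simp only [Fintype.card_coe]
  exact h.symm

end Lin

section Sum

variable {E : Type*} [DecidableEq E] [Fintype E] {C : Type*} [DecidableEq C] [Fintype C]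

/-- the fibre of a subset of `E × C` over `c` -/
def fiber (Z : Finset (E × C)) (c : C) : Finset E := Finset.univ.filter (fun e => (e, c) ∈ Z)

@[simp] lemma mem_fiber (Z : Finset (E × C)) (c : C) (e : E) : e ∈ fiber Z c ↔ (e, c) ∈ Z := by
  simp [fiber]

lemma fiber_union (Z Z' : Finset (E × C)) (c : C) : fiber (Z ∪ Z') c = fiber Z c ∪ fiber Z' c := by
  ext e; simp

lemma fiber_inter (Z Z' : Finset (E × C)) (c : C) : fiber (Z ∩ Z') c = fiber Z c ∩ fiber Z' c := by
  ext e; simp

lemma fiber_mono {Z Z' : Finset (E × C)} (h : Z ⊆ Z') (c : C) : fiber Z c ⊆ fiber Z' c := by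
  intro e he
  rw [mem_fiber] at he ⊢
  exact h he

lemma card_eq_sum_fiber (Z : Finset (E × C)) : Z.card = ∑ c, (fiber Z c).card := by
  have : Z = Finset.univ.biUnion (fun c => (fiber Z c).image (fun e => (e, c))) := by
    ext ⟨e, c⟩
    simp
  conv_lhs => rw [this]
  rw [Finset.card_biUnion]
  · refine Finset.sum_congr rfl fun c _ => ?_
    rw [Finset.card_image_of_injective]
    intro e e' h
    exact (Prod.mk.inj h).1
  · intro c _ c' _ hcc'
    rw [Function.onFun, Finset.disjoint_left]
    intro p hp hp'
    rw [Finset.mem_image] at hp hp'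
    obtain ⟨e, _, rfl⟩ := hp
    obtain ⟨e', _, h⟩ := hp'
    exact hcc' (Prod.mk.inj h).2.symm

/-- the fibrewise sum of a rank function -/
def RankFn.sum (R : RankFn E) (C : Type*) [DecidableEq C] [Fintype C] : RankFn (E × C) where
  ρ Z := ∑ c, R.ρ (fiber Z c)
  mono Z Z' h := Finset.sum_le_sum fun c _ => R.mono _ _ (fiber_mono h c)
  submod Z Z' := by
    rw [← Finset.sum_add_distrib, ← Finset.sum_add_distrib]
    refine Finset.sum_le_sum fun c _ => ?_
    rw [fiber_union, fiber_inter]
    exact R.submod _ _
  empty := by
    apply Finset.sum_eq_zero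
    intro c _
    have : fiber (∅ : Finset (E × C)) c = ∅ := by ext e; simp
    rw [this, R.empty]

end Sum

end Helper91.Rado
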