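import Mathlib
import Groth.Agent.Lib.Helper91.RadoLin

/-!
# Edmonds' base packing theorem for vector configurations (via Rado's theorem)
-/

namespace Helper91.Rado

open Finset

variable {K : Type*} [Field K] {V : Type*} [AddCommGroup V] [Module K V] [FiniteDimensional K V]
variable {E : Type*} [DecidableEq E] [Fintype E]

lemma eq_of_sum_ge {ι : Type*} (s : Finset ι) (a : ι → ℕ) (r : ℕ) (hle : ∀ c ∈ s, a c ≤ r)
    (hsum : s.card * r ≤ ∑ c ∈ s, a c) : ∀ c ∈ s, a c = r := by
  intro c hc
  by_contra hne
  have hlt : a c < r := lt_of_le_of_ne (hle c hc) hne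
  have : ∑ c ∈ s, a c < ∑ _c ∈ s, r := Finset.sum_lt_sum hle ⟨c, hc, hlt⟩
  rw [Finset.sum_const, smul_eq_mul] at this
  omega

lemma eq_of_sum_le {ι : Type*} (s : Finset ι) (a b : ι → ℕ) (hle : ∀ c ∈ s, a c ≤ b c)
    (hsum : ∑ c ∈ s, b c ≤ ∑ c ∈ s, a c) : ∀ c ∈ s, b c = a c := by
  intro c hc
  by_contra hne
  have hlt : a c < b c := lt_of_le_of_ne (hle c hc) (Ne.symm hne)
  have : ∑ c ∈ s, a c < ∑ c ∈ s, b c := Finset.sum_lt_sum hle ⟨c, hc, hlt⟩
  omega

/-- **Base packing**: a weight function which has total `k * dim V` and satisfies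
`w(A) ≤ k * rank(A)` is a sum of `k` bases. -/
theorem base_packing (x : E → V) (w : E → ℕ) (k : ℕ)
    (htot : ∑ e, w e = k * Module.finrank K V)
    (hcond : ∀ A : Finset E, ∑ e ∈ A, w e ≤ k * linρ K x A) :
    ∃ S : Fin k → Finset E,
      (∀ c, (S c).card = Module.finrank K V ∧ LinearIndependent K (fun j : S c => x j)) ∧
        ∀ j : E, (Finset.univ.filter (fun c => j ∈ S c)).card = w j := by
  classical
  set r := Module.finrank K V with hr
  let T := Σ j : E, Fin (w j)
  have hcardT : Fintype.card T = k * r := by
    rw [Fintype.card_sigma]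
    simp only [Fintype.card_fin]
    exact htot
  let R := (linRank K x).sum (Fin k)
  let A : T → Finset (E × Fin k) := fun t => Finset.univ.image (fun c : Fin k => (t.1, c))
  have hfib : ∀ (J : Finset T) (c : Fin k), fiber (J.biUnion A) c = J.image Sigma.fst := by
    intro J c
    ext e
    simp only [mem_fiber, Finset.mem_biUnion, Finset.mem_image, Finset.mem_univ, true_and, A,
      Prod.mk.injEq]
    constructor
    · rintro ⟨t, ht, c', h1, _⟩
      exact ⟨t, ht, h1⟩
    · rintro ⟨t, ht, h1⟩
      exact ⟨t, ht, c, h1, rfl⟩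
  have hA : Cond R A := by
    intro J
    change J.card ≤ ∑ c, (linRank K x).ρ (fiber (J.biUnion A) c)
    simp_rw [hfib]
    rw [Finset.sum_const, Finset.card_univ, Fintype.card_fin, smul_eq_mul]
    refine le_trans ?_ (hcond (J.image Sigma.fst))
    have hsub : J ⊆ (J.image Sigma.fst).sigma (fun j => (Finset.univ : Finset (Fin (w j)))) := by
      intro t ht
      rw [Finset.mem_sigma]
      exact ⟨Finset.mem_image_of_mem _ ht, Finset.mem_univ _⟩
    have := Finset.card_le_card hsub
    rw [Finset.card_sigma] at this
    simpa using this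
  obtain ⟨τ, hτ, hcard⟩ := rado R A hA
  have hτ1 : ∀ t, (τ t).1 = t.1 := by
    intro t
    have := hτ t
    simp only [Finset.mem_image, Finset.mem_univ, true_and, A] at this
    obtain ⟨c, hc⟩ := this
    rw [← hc]
  set Z := Finset.univ.image τ with hZ
  rw [hcardT] at hcard
  change k * r ≤ ∑ c, linρ K x (fiber Z c) at hcard
  -- ranks
  have ha : ∀ c ∈ (Finset.univ : Finset (Fin k)), linρ K x (fiber Z c) = r := by
    apply eq_of_sum_ge
    · intro c _
      exact linρ_le_finrank x _
    · rw [Finset.card_univ, Fintype.card_fin]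
      exact hcard
  have hZcard : Z.card ≤ k * r := by
    rw [← hcardT]
    exact Finset.card_image_le
  have hb : ∀ c ∈ (Finset.univ : Finset (Fin k)), (fiber Z c).card = linρ K x (fiber Z c) := by
    apply eq_of_sum_le
    · intro c _
      exact linρ_le_card x _
    · rw [← card_eq_sum_fiber]
      exact hZcard.trans hcard
  have hZeq : Z.card = Fintype.card T := by
    rw [card_eq_sum_fiber, hcardT]
    rw [Finset.sum_congr rfl hb, Finset.sum_congr rfl ha, Finset.sum_const, Finset.card_univ,
      Fintype.card_fin, smul_eq_mul]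
  have hinj : Function.Injective τ := by
    have : Z.card = (Finset.univ : Finset T).card := by rw [hZeq, Finset.card_univ]
    have := Finset.card_image_iff.mp this
    exact fun a b hab => this (Finset.mem_coe.mpr (Finset.mem_univ a))
      (Finset.mem_coe.mpr (Finset.mem_univ b)) hab
  refine ⟨fun c => fiber Z c, ?_, ?_⟩
  · intro c
    have h1 := ha c (Finset.mem_univ c)
    have h2 := hb c (Finset.mem_univ c)
    refine ⟨by rw [h2, h1], ?_⟩
    exact linearIndependent_of_linρ_eq_card x _ h2.symm
  · intro j
    have h1 : (Finset.univ.filter (fun t : T => t.1 = j)).card = w j := by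
      have : Finset.univ.filter (fun t : T => t.1 = j) =
          (Finset.univ : Finset (Fin (w j))).image (Sigma.mk j) := by
        ext ⟨j', i⟩
        simp only [Finset.mem_filter, Finset.mem_univ, true_and, Finset.mem_image]
        constructor
        · rintro rfl
          exact ⟨i, rfl⟩
        · rintro ⟨i', h⟩
          exact (Sigma.mk.inj_iff.mp h).1.symm
      rw [this, Finset.card_image_of_injective _ sigma_mk_injective, Finset.card_univ,
        Fintype.card_fin]
    rw [← h1]
    symm
    apply Finset.card_bij (fun t _ => (τ t).2)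
    · intro t ht
      simp only [Finset.mem_filter, Finset.mem_univ, true_and] at ht ⊢
      rw [mem_fiber, hZ, Finset.mem_image]
      refine ⟨t, Finset.mem_univ _, ?_⟩
      rw [← ht, ← hτ1 t]
    · intro t ht t' ht' h
      simp only [Finset.mem_filter, Finset.mem_univ, true_and] at ht ht'
      apply hinj
      apply Prod.ext
      · rw [hτ1, hτ1, ht, ht']
      · exact h
    · intro c hc
      simp only [Finset.mem_filter, Finset.mem_univ, true_and] at hc
      rw [mem_fiber, hZ, Finset.mem_image] at hc
      obtain ⟨t, _, ht⟩ := hc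
      refine ⟨t, ?_, ?_⟩
      · simp only [Finset.mem_filter, Finset.mem_univ, true_and]
        rw [← hτ1, ht]
      · rw [ht]

end Helper91.Rado
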