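import Groth.Agent.Lib.Helper91.FormsOrbit
import Groth.Agent.Lib.Helper84.LinGrading
import Groth.Agent.S12559

/-!
# Nullforms have the origin in their orbit closure (forms under the special linear group,
characteristic zero) (helper91; adapted from helper84's proof of S19603 to index types in `Type`)
-/

set_option autoImplicit false
universe u
open TensorProduct

namespace Groth.Agent.Lib.Helper91.NullformClosure

section General

variable {k : Type u} [Field k] [IsAlgClosed k]
  {A : Type u} [CommRing A] [HopfAlgebra k A] [Algebra.FiniteType k A]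
  {ι : Type} [Fintype ι] [HopfRep.Comod k A (MvPolynomial ι k)]
  [GLin.IsCoactAlg k A (MvPolynomial ι k)]

theorem inOrbitClosure_zero_of_isNullform (hG : HopfRep.IsLinearlyReductive k A)
    (hlin : GLin.IsLinear k A ι) (v : ι → k) (hnull : GLin.IsNullform k A v) :
    GLin.InOrbitClosure k A (GLin.vecPt k ι v) (GLin.vecPt k ι (fun _ => (0 : k))) := by
  classical
  have hmul : ∀ f g : MvPolynomial ι k, HopfRep.Comod.coact (k := k) (A := A) (f * g) =
      HopfRep.Comod.coact (k := k) (A := A) f * HopfRep.Comod.coact (k := k) (A := A) g :=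
    GLin.IsCoactAlg.coact_mul
  have hone : HopfRep.Comod.coact (k := k) (A := A) (1 : MvPolynomial ι k) = 1 :=
    GLin.IsCoactAlg.coact_one (k := k)
  set x₁ := GLin.vecPt k ι v with hx₁
  set x₂ := GLin.vecPt k ι (fun _ => (0 : k)) with hx₂
  have hx₁e : ∀ F : MvPolynomial ι k, x₁ F = MvPolynomial.eval v F := by
    intro F
    rw [hx₁]
    exact RingHom.congr_fun (MvPolynomial.coe_aeval_eq_eval v) F
  have hx₂e : ∀ F : MvPolynomial ι k, x₂ F = MvPolynomial.constantCoeff F := by
    intro F
    rw [hx₂]
    exact MvPolynomial.aeval_zero' F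
  by_contra hno
  have hJ : RingHom.ker (GLin.orbitHom k A x₁) ⊔ RingHom.ker x₂ = ⊤ := by
    by_contra hJ
    obtain ⟨z, hz⟩ := Groth.Agent.Lib.Helper59.exists_algHom_of_ne_top k (MvPolynomial ι k) _ hJ
    have hzx : z = x₂ := by
      apply MvPolynomial.algHom_ext
      intro i
      have h0 : x₂ (MvPolynomial.X i) = 0 := by rw [hx₂e]; simp
      rw [h0]
      exact hz _ (Submodule.mem_sup_right (RingHom.mem_ker.mpr h0))
    apply hno
    intro f hf
    rw [RingHom.mem_ker, ← hzx]
    exact hz f (Submodule.mem_sup_left hf)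
  have h1 : (1 : MvPolynomial ι k) ∈ RingHom.ker (GLin.orbitHom k A x₁) ⊔ RingHom.ker x₂ := by
    rw [hJ]; trivial
  obtain ⟨f, hf, g, hg, hfg⟩ := Submodule.mem_sup.mp h1
  obtain ⟨E, hE⟩ := Groth.Agent.Lib.Helper59.LinRed.exists_isReynolds (V := MvPolynomial ι k) hG
  have hE1 : E 1 = 1 := by
    apply hE.apply_of_mem
    change HopfRep.Comod.coact (k := k) (A := A) (1 : MvPolynomial ι k) = 1 ⊗ₜ[k] (1 : A)
    rw [hone, Algebra.TensorProduct.one_def]
  have hEf : E f ∈ (RingHom.ker (GLin.orbitHom k A x₁)).restrictScalars k :=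
    hE.apply_mem_of_isSubcomod hG _
      (Groth.Agent.Lib.Helper59.LinRed.isSubcomod_ker_orbitAlg hmul hone x₁) hf
  have hxf : x₁ (E f) = 0 :=
    Groth.Agent.Lib.Helper59.LinRed.apply_eq_zero_of_orbitAlg_eq_zero hmul hone x₁ hEf
  have hxg : x₁ (E g) = 1 := by
    have : x₁ (E (f + g)) = 1 := by rw [hfg, hE1, map_one]
    rwa [map_add, map_add, hxf, zero_add] at this
  have hcomp : ∀ d : ℕ, x₁ (E (MvPolynomial.homogeneousComponent d g)) = 0 := by
    intro d
    rcases Nat.eq_zero_or_pos d with hd | hd
    · subst hd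
      have hg0 : MvPolynomial.constantCoeff g = 0 := by
        rw [← hx₂e]; exact RingHom.mem_ker.mp hg
      rw [MvPolynomial.homogeneousComponent_zero]
      have : MvPolynomial.coeff 0 g = 0 := hg0
      rw [this]
      simp
    · have hhom : (E (MvPolynomial.homogeneousComponent d g)).IsHomogeneous d :=
        hE.apply_mem_of_isSubcomod hG _
          (Groth.Agent.Lib.Helper84.LinGrading.isSubcomod_homogeneousSubmodule hlin d)
          (MvPolynomial.homogeneousComponent_isHomogeneous d g)
      rw [hx₁e]
      exact hnull _ (hE.apply_mem _) d hd hhom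
  have hsum := MvPolynomial.sum_homogeneousComponent g
  rw [← hsum, map_sum, map_sum] at hxg
  rw [Finset.sum_eq_zero (fun d _ => hcomp d)] at hxg
  exact zero_ne_one hxg

end General

section Forms

open CoordGrp Groth.Agent.Lib.Helper91.FormsOrbit

variable {k : Type u} [Field k] [IsAlgClosed k] [CharZero k] (N d : ℕ)

/-- For forms under the special linear group in characteristic zero: a nullform has the origin
in its orbit closure. -/
theorem forms_ker_le_of_isNullform (a : FormIdx N d → k)
    (hnull : @GLin.IsNullform k _ (SLn N k) _ _ (FormIdx N d) (cmd N d) (ica N d) a) :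
    RingHom.ker (orb N d a) ≤
      RingHom.ker (MvPolynomial.aeval (fun _ => (0 : k)) : FormRing k N d →ₐ[k] k) := by
  letI : HopfRep.Comod k (SLn N k) (MvPolynomial (FormIdx N d) k) := cmd N d
  haveI : GLin.IsCoactAlg k (SLn N k) (MvPolynomial (FormIdx N d) k) := ica N d
  haveI := finiteType_SLn k N
  have hG : HopfRep.IsLinearlyReductive k (SLn N k) := Groth.Agent.S12559.result k N
  have hlin : GLin.IsLinear k (SLn N k) (FormIdx N d) :=
    GLin.isLinear_comodAlong (phiSL N) (formsCoact k N d) (formsCoact_isLinear k N d)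
  exact inOrbitClosure_zero_of_isNullform hG hlin a hnull

end Forms

section Invariant

open CoordGrp Groth.Agent.Lib.Helper91.FormsOrbit

variable {k : Type u} [CommRing k] (N d : ℕ)

/-- An invariant function is constant along the orbit map. -/
theorem orb_apply_of_mem_invariants (a : FormIdx N d → k) (F : FormRing k N d)
    (hF : F ∈ @GLin.invariants k _ (SLn N k) _ _ (FormRing k N d) _ _ (cmd N d) (ica N d)) :
    orb N d a F = algebraMap k (SLn N k) (MvPolynomial.aeval a F) := by
  have hF' : (cmd N d).coact F = F ⊗ₜ[k] (1 : SLn N k) := hF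
  change (Algebra.TensorProduct.lid k (SLn N k))
    ((Algebra.TensorProduct.map (GLin.vecPt k _ a) (AlgHom.id k (SLn N k)))
      ((cmd N d).coact F)) = _
  rw [hF']
  simp [Algebra.algebraMap_eq_smul_one]

end Invariant

end Groth.Agent.Lib.Helper91.NullformClosure
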