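import Groth.Agent.Lib.Helper91.BinaryMain
import Groth.Agent.Lib.Helper91.FiniteStab

/-!
# Stable binary forms: root multiplicities less than `d/2` (helper91)
-/

set_option autoImplicit false
universe u v

open MvPolynomial CoordGrp
open Groth.Agent.Lib.Helper91.PointSetOnePS
open Groth.Agent.Lib.Helper91.FormsEval
open Groth.Agent.Lib.Helper91.FormsOrbit
open Groth.Agent.Lib.Helper91.PointSetStable
open Groth.Agent.Lib.Helper91.BinaryFactor
open Groth.Agent.Lib.Helper91.BinaryCond
open Groth.Agent.Lib.Helper91.BinaryMain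

namespace Groth.Agent.Lib.Helper91.BinaryStable

section Factor

variable {k : Type u} [Field k] [IsAlgClosed k]

/-- For positive degree the constant can be absorbed into a linear factor. -/
theorem exists_factor' {d : ℕ} (hd : 0 < d) (F : MvPolynomial (Fin 2) k) (hF : F.IsHomogeneous d)
    (hF0 : F ≠ 0) : ∃ p : Fin d → Fin 2 → k, (∀ i, p i ≠ 0) ∧ F = ∏ i, lin (p i) := by
  classical
  obtain ⟨c, p, hc, hp, hFp⟩ := exists_factor d F hF hF0
  let i0 : Fin d := ⟨0, hd⟩
  refine ⟨fun i => if i = i0 then c • p i else p i, ?_, ?_⟩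
  · intro i
    by_cases hi : i = i0
    · simp only [hi, if_true]
      exact smul_ne_zero hc (hp i0)
    · simp only [hi, if_false]
      exact hp i
  · have h1 : ∀ i, lin (if i = i0 then c • p i else p i) =
        (if i = i0 then C c else 1) * lin (p i) := by
      intro i
      by_cases hi : i = i0
      · simp only [hi, if_true, lin_smul]
      · simp only [hi, if_false, one_mul]
    simp_rw [h1]
    rw [Finset.prod_mul_distrib, Finset.prod_ite_eq' Finset.univ i0 (fun _ => C c),
      if_pos (Finset.mem_univ _), hFp]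

end Factor

section DegreeZero

variable {k : Type u} [Field k] [IsAlgClosed k]

/-- In degree zero the whole group fixes every point: the stabiliser is not finite. -/
theorem not_hasFiniteStab_zero {N : ℕ} (hN : 2 ≤ N) (a : FormIdx N 0 → k) :
    ¬ @GLin.HasFiniteStab k _ (SLn N k) _ _ (FormRing k N 0) _ _ (cmd N 0) (ica N 0)
      (GLin.vecPt k _ a) := by
  classical
  intro hfin
  let q : Fin N → k := Pi.single ⟨0, by omega⟩ 1
  have hq : q ≠ 0 := by
    intro h
    have := congrFun h ⟨0, by omega⟩
    simp [q] at this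
  have hfr : Module.finrank k (Submodule.span k {q}) = 1 := finrank_span_singleton hq
  obtain ⟨U, V, hVU, -⟩ := exists_UV (Submodule.span k {q})
  have hw1 : 1 ≤ Module.finrank k (Submodule.span k {q}) := by omega
  have hw2 : Module.finrank k (Submodule.span k {q}) < N := by omega
  have hdet : ((lamT U V).transpose).det = 1 := by rw [Matrix.det_transpose, det_lamT U V hVU]
  let M : Matrix (Fin N) (Fin N) (LaurentPolynomial k) :=
    (1 : Matrix (Fin N) (Fin N) k).map (algebraMap k (LaurentPolynomial k)) *
      (lamT U V).transpose * (1 : Matrix (Fin N) (Fin N) k).map (algebraMap k (LaurentPolynomial k))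
  have hM : M = (lamT U V).transpose := by
    simp only [M]
    rw [Matrix.map_one _ (map_zero _) (map_one _), Matrix.one_mul, Matrix.mul_one]
  have hdetM : M.det = 1 := by rw [hM, hdet]
  let mu : SLn N k →ₐ[k] LaurentPolynomial k := SLn.pt N k M hdetM
  have hunit : IsUnit (((0 : ℕ).factorial : ℕ) : LaurentPolynomial k) := by
    simp
  have hfix : movedPt a (matOf mu) = fun l => algebraMap k (LaurentPolynomial k) (a l) := by
    rw [matOf_pt]
    apply eq_of_formPoly_eq hunit
    rw [formPoly_movedPt, ← formPoly_map (algebraMap k (LaurentPolynomial k)) a]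
    have hC : formPoly a = C (coeff 0 (formPoly a)) :=
      (totalDegree_eq_zero_iff_eq_C).mp
        (Nat.le_zero.mp (formPoly_isHomogeneous a).totalDegree_le)
    rw [hC, map_C, ← MvPolynomial.algebraMap_eq, AlgHom.commutes, MvPolynomial.algebraMap_apply]
  have hkill := kills_stabIdeal mu a hfix
  have hint : ∀ i j, IsIntegral k (M i j) := by
    intro i j
    let J := @GLin.stabIdeal k _ (SLn N k) _ _ (FormRing k N 0) _ _
      (cmd N 0) (ica N 0) (GLin.vecPt k _ a)
    let mu' : (SLn N k ⧸ J) →ₐ[k] LaurentPolynomial k := Ideal.Quotient.liftₐ J mu hkill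
    haveI : Module.Finite k (SLn N k ⧸ J) := hfin
    have h1 : IsIntegral k (Ideal.Quotient.mkₐ k J (SLn.X i j)) :=
      Algebra.IsIntegral.isIntegral _
    have h2 := h1.map mu'
    have h3 : mu' (Ideal.Quotient.mkₐ k J (SLn.X i j)) = M i j := by
      change mu (SLn.X i j) = M i j
      exact SLn.pt_X M hdetM i j
    rw [h3] at h2
    exact h2
  exact final_contra U V hVU hw1 hw2 1 1 (Matrix.one_mul 1) hint

end DegreeZero

section Main

variable {k : Type u} [Field k] [IsAlgClosed k] [CharZero k]

theorem main12546 (d : ℕ) (a : Fin (d + 1) → k) (ha : a ≠ 0) :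
    @GLin.IsStableVec k _ (CoordGrp.SLn 2 k) _ _ (CoordGrp.FormIdx 2 d)
      (GLin.comodAlong ((CoordGrp.SLn.mkHom 2 k).comp (CoordGrp.Mat.toGLn 2 k))
        (CoordGrp.formsCoact k 2 d))
      (GLin.isCoactAlg_comodAlong ((CoordGrp.SLn.mkHom 2 k).comp (CoordGrp.Mat.toGLn 2 k))
        (CoordGrp.formsCoact k 2 d) (CoordGrp.formsCoact_isCoactAlg k 2 d))
      (CoordGrp.binVec d a) ↔
      ∀ ℓ : MvPolynomial (Fin 2) k, ℓ.IsHomogeneous 1 → ℓ ≠ 0 →
        ∀ m : ℕ, ℓ ^ m ∣ CoordGrp.formPoly (CoordGrp.binVec d a) → 2 * m < d := by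
  have hb : binVec d a ≠ 0 := by
    intro h0
    apply ha
    funext i
    have := congrFun h0 (binIdx d i)
    rwa [binVec_binIdx] at this
  have hdu : IsUnit ((d.factorial : ℕ) : k) :=
    isUnit_iff_ne_zero.mpr (Nat.cast_ne_zero.mpr (Nat.factorial_ne_zero d))
  have hF0 : formPoly (binVec d a) ≠ 0 := by
    intro h0
    apply hb
    apply eq_of_formPoly_eq hdu
    rw [h0, formPoly_zero]
  rcases Nat.eq_zero_or_pos d with hd0 | hd
  · -- degree zero: both sides are false
    subst hd0
    constructor
    · intro hst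
      exact absurd hst.2 (not_hasFiniteStab_zero (le_refl 2) (binVec 0 a))
    · intro h
      have := h (X 0) (isHomogeneous_X k 0) (X_ne_zero 0) 0 (by rw [pow_zero]; exact one_dvd _)
      omega
  · obtain ⟨p, hp, hF⟩ := exists_factor' hd (formPoly (binVec d a))
      (formPoly_isHomogeneous _) hF0
    rw [hF]
    rw [← cond_lt_iff p hp]
    constructor
    · intro hst W hW hW'
      exact main18262 k 1 d (Nat.cast_ne_zero.mpr (Nat.factorial_ne_zero d)) p hp (binVec d a) hF
        hst W hW hW'
    · intro hcond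
      exact Groth.Agent.Lib.Helper91.FiniteStab.main12563 k 1 d p hp (binVec d a) hF hcond

end Main

end Groth.Agent.Lib.Helper91.BinaryStable
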