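import Mathlib

/-!
# A lattice computation: the subgroup of `Hom(ℤ^r, ℤ/δ)` generated by the maps
`x ↦ b(d,x) + (1-g) b(x,x)`.
-/

namespace Helper91.BunLattice

open Finset

section Euclid

variable {k : ℕ}

/-- Transvection `x ↦ x - q x_j e_i`. -/
def transvMap (i j : Fin (k + 1)) (q : ℤ) : (Fin (k + 1) → ℤ) →ₗ[ℤ] (Fin (k + 1) → ℤ) :=
  LinearMap.id - q • ((LinearMap.single ℤ (fun _ : Fin (k + 1) => ℤ) i).comp (LinearMap.proj j))

theorem transvMap_apply (i j : Fin (k + 1)) (q : ℤ) (x : Fin (k + 1) → ℤ) (l : Fin (k + 1)) :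
    transvMap i j q x l = x l - q * (if l = i then x j else 0) := by
  simp [transvMap, Pi.single_apply]

theorem transvMap_comp (i j : Fin (k + 1)) (hij : i ≠ j) (q : ℤ) :
    (transvMap i j (-q)).comp (transvMap i j q) = LinearMap.id := by
  refine LinearMap.ext fun x => funext fun l => ?_
  simp only [LinearMap.coe_comp, Function.comp_apply, transvMap_apply, LinearMap.id_coe, id_eq]
  by_cases hl : l = i
  · subst hl
    simp [hij.symm]
  · simp [hl]

/-- Transvection as a linear equivalence. -/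
def transv (i j : Fin (k + 1)) (hij : i ≠ j) (q : ℤ) :
    (Fin (k + 1) → ℤ) ≃ₗ[ℤ] (Fin (k + 1) → ℤ) :=
  LinearEquiv.ofLinearMap (transvMap i j q) (transvMap i j (-q))
    (by have := transvMap_comp i j hij (-q); rwa [neg_neg] at this)
    (transvMap_comp i j hij q)

theorem transv_apply (i j : Fin (k + 1)) (hij : i ≠ j) (q : ℤ) (x : Fin (k + 1) → ℤ)
    (l : Fin (k + 1)) :
    transv i j hij q x l = x l - q * (if l = i then x j else 0) :=
  transvMap_apply i j q x l

theorem gcd_transv (i j : Fin (k + 1)) (hij : i ≠ j) (q : ℤ) (d : Fin (k + 1) → ℤ) :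
    Finset.univ.gcd (transv i j hij q d) = Finset.univ.gcd d := by
  apply dvd_antisymm_of_normalize_eq (Finset.normalize_gcd) (Finset.normalize_gcd)
  · apply Finset.dvd_gcd
    intro l _
    have hl : d l = transv i j hij q d l + q * (if l = i then transv i j hij q d j else 0) := by
      rw [transv_apply, transv_apply]
      by_cases h : l = i
      · simp [h, hij.symm]
      · simp [h]
    rw [hl]
    apply dvd_add (Finset.gcd_dvd (Finset.mem_univ l))
    apply Dvd.dvd.mul_left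
    split_ifs
    · exact Finset.gcd_dvd (Finset.mem_univ j)
    · exact dvd_zero _
  · apply Finset.dvd_gcd
    intro l _
    rw [transv_apply]
    apply dvd_sub (Finset.gcd_dvd (Finset.mem_univ l))
    apply Dvd.dvd.mul_left
    split_ifs
    · exact Finset.gcd_dvd (Finset.mem_univ j)
    · exact dvd_zero _

theorem sum_natAbs_transv_lt (i j : Fin (k + 1)) (hij : i ≠ j) (d : Fin (k + 1) → ℤ)
    (hj : d j ≠ 0) (hle : (d j).natAbs ≤ (d i).natAbs) :
    ∑ l, (transv i j hij (d i / d j) d l).natAbs < ∑ l, (d l).natAbs := by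
  apply Finset.sum_lt_sum
  · intro l _
    rw [transv_apply]
    by_cases h : l = i
    · subst h
      simp only [if_true]
      have : d l - d l / d j * d j = d l % d j := by
        have := Int.emod_add_mul_ediv (d l) (d j)
        linarith
      rw [this]
      have h1 : 0 ≤ d l % d j := Int.emod_nonneg _ hj
      have h2 : d l % d j < |d j| := Int.emod_lt_abs _ hj
      rw [Int.abs_eq_natAbs] at h2
      omega
    · simp [h]
  · refine ⟨i, Finset.mem_univ i, ?_⟩
    rw [transv_apply]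
    simp only [if_true]
    have : d i - d i / d j * d j = d i % d j := by
      have := Int.emod_add_mul_ediv (d i) (d j)
      linarith
    rw [this]
    have h1 : 0 ≤ d i % d j := Int.emod_nonneg _ hj
    have h2 : d i % d j < |d j| := Int.emod_lt_abs _ hj
    rw [Int.abs_eq_natAbs] at h2
    have hi0 : d i ≠ 0 := by
      intro h0
      rw [h0] at hle
      simp at hle
      exact hj hle
    omega

/-- Every integer vector can be moved to `gcd • e₀` by a unimodular transformation. -/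
theorem exists_equiv_gcd (d : Fin (k + 1) → ℤ) :
    ∃ U : (Fin (k + 1) → ℤ) ≃ₗ[ℤ] (Fin (k + 1) → ℤ), U d = Pi.single 0 (Finset.univ.gcd d) := by
  induction' hN : ∑ l, (d l).natAbs using Nat.strong_induction_on with N ih generalizing d
  by_cases hA : ∃ i j, i ≠ j ∧ d i ≠ 0 ∧ d j ≠ 0
  · obtain ⟨i, j, hij, hi, hj⟩ := hA
    -- wlog |d j| ≤ |d i|
    have key : ∀ i j, i ≠ j → d j ≠ 0 → (d j).natAbs ≤ (d i).natAbs →
        ∃ U : (Fin (k + 1) → ℤ) ≃ₗ[ℤ] (Fin (k + 1) → ℤ),
          U d = Pi.single 0 (Finset.univ.gcd d) := by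
      intro i j hij hj hle
      have hlt := sum_natAbs_transv_lt i j hij d hj hle
      rw [hN] at hlt
      obtain ⟨U', hU'⟩ := ih _ hlt (transv i j hij (d i / d j) d) rfl
      refine ⟨(transv i j hij (d i / d j)).trans U', ?_⟩
      rw [LinearEquiv.trans_apply, hU', gcd_transv]
    rcases le_total (d j).natAbs (d i).natAbs with h | h
    · exact key i j hij hj h
    · exact key j i hij.symm hi h
  · push Not at hA
    by_cases h0 : d = 0
    · refine ⟨LinearEquiv.refl ℤ _, ?_⟩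
      subst h0
      have : Finset.univ.gcd (0 : Fin (k + 1) → ℤ) = 0 :=
        Finset.gcd_eq_zero_iff.mpr (fun _ _ => rfl)
      rw [this]
      simp
    · obtain ⟨i, hi⟩ := Function.ne_iff.mp h0
      have hi' : d i ≠ 0 := hi
      have hd : d = Pi.single i (d i) := by
        funext l
        by_cases hl : l = i
        · subst hl; simp
        · rw [Pi.single_apply, if_neg hl]
          by_contra hne
          exact hi' (hA l i hl hne)
      have hgcd : Finset.univ.gcd d = normalize (d i) := by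
        apply dvd_antisymm_of_normalize_eq (Finset.normalize_gcd) (normalize_idem _)
        · exact dvd_normalize_iff.mpr (Finset.gcd_dvd (Finset.mem_univ i))
        · apply Finset.dvd_gcd
          intro l _
          have hdl : d l = if l = i then d i else 0 := by
            have := congrFun hd l
            rw [Pi.single_apply] at this
            exact this
          rw [hdl]
          split_ifs
          · exact normalize_dvd_iff.mpr dvd_rfl
          · exact dvd_zero _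
      set U₁ := LinearEquiv.funCongrLeft ℤ ℤ (Equiv.swap (0 : Fin (k + 1)) i) with hU₁
      have hU₁d : U₁ d = Pi.single 0 (d i) := by
        funext l
        rw [hU₁, LinearEquiv.funCongrLeft_apply, LinearMap.funLeft_apply, hd]
        simp only [Pi.single_apply]
        by_cases hl : l = 0
        · subst hl; simp
        · have : Equiv.swap 0 i l ≠ i := by
            intro h
            apply hl
            have := congrArg (Equiv.swap 0 i) h
            simpa using this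
          simp [hl, this]
      rcases le_total 0 (d i) with hpos | hneg
      · refine ⟨U₁, ?_⟩
        rw [hU₁d, hgcd, Int.normalize_of_nonneg hpos]
      · refine ⟨U₁.trans (LinearEquiv.neg ℤ), ?_⟩
        rw [LinearEquiv.trans_apply, hU₁d, hgcd, Int.normalize_of_nonpos hneg]
        funext l
        simp only [LinearEquiv.neg_apply, Pi.neg_apply, Pi.single_apply]
        split_ifs <;> simp

end Euclid

section Transport

variable {r : ℕ} (δ : ℕ) (g : ℤ)

/-- The generating set of the subgroup. -/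
def genSet (d : Fin r → ℤ) : Set ((Fin r → ℤ) →+ ZMod δ) :=
  {φ | ∃ b : LinearMap.BilinForm ℤ (Fin r → ℤ), b.IsSymm ∧
    ∀ x, φ x = ((b d x + (1 - g) * b x x : ℤ) : ZMod δ)}

/-- Precomposition with the inverse of a linear automorphism. -/
def precomp (U : (Fin r → ℤ) ≃ₗ[ℤ] (Fin r → ℤ)) :
    ((Fin r → ℤ) →+ ZMod δ) ≃+ ((Fin r → ℤ) →+ ZMod δ) where
  toFun φ := φ.comp U.symm.toLinearMap.toAddMonoidHom
  invFun φ := φ.comp U.toLinearMap.toAddMonoidHom
  left_inv φ := by ext x; simp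
  right_inv φ := by ext x; simp
  map_add' φ ψ := by ext x; simp

theorem precomp_apply (U : (Fin r → ℤ) ≃ₗ[ℤ] (Fin r → ℤ)) (φ : (Fin r → ℤ) →+ ZMod δ)
    (x : Fin r → ℤ) : precomp δ U φ x = φ (U.symm x) := rfl

theorem precomp_mem_genSet (U : (Fin r → ℤ) ≃ₗ[ℤ] (Fin r → ℤ)) (d : Fin r → ℤ)
    (φ : (Fin r → ℤ) →+ ZMod δ) (hφ : φ ∈ genSet δ g d) :
    precomp δ U φ ∈ genSet δ g (U d) := by
  obtain ⟨b, hb, hφb⟩ := hφ
  refine ⟨b.comp U.symm.toLinearMap U.symm.toLinearMap, ⟨fun x y => ?_⟩, fun x => ?_⟩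
  · simp only [LinearMap.BilinForm.comp_apply]
    exact hb.eq _ _
  · rw [precomp_apply, hφb]
    simp [LinearMap.BilinForm.comp_apply]

theorem image_genSet (U : (Fin r → ℤ) ≃ₗ[ℤ] (Fin r → ℤ)) (d : Fin r → ℤ) :
    (precomp δ U) '' genSet δ g d = genSet δ g (U d) := by
  apply Set.Subset.antisymm
  · rintro _ ⟨φ, hφ, rfl⟩
    exact precomp_mem_genSet δ g U d φ hφ
  · intro ψ hψ
    refine ⟨precomp δ U.symm ψ, ?_, ?_⟩
    · have := precomp_mem_genSet δ g U.symm (U d) ψ hψ
      rwa [LinearEquiv.symm_apply_apply] at this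
    · ext x
      simp [precomp_apply]

theorem map_closure_genSet (U : (Fin r → ℤ) ≃ₗ[ℤ] (Fin r → ℤ)) (d : Fin r → ℤ) :
    (AddSubgroup.closure (genSet δ g d)).map (precomp δ U).toAddMonoidHom =
      AddSubgroup.closure (genSet δ g (U d)) := by
  rw [AddMonoidHom.map_closure]
  congr 1
  exact image_genSet δ g U d

end Transport

section Core

variable {k : ℕ} (δ : ℕ) (g : ℤ)

/-- The functional `x ↦ x_i • z`. -/
def coordHom (i : Fin (k + 1)) (z : ZMod δ) : (Fin (k + 1) → ℤ) →+ ZMod δ :=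
  (zmultiplesHom (ZMod δ) z).comp (Pi.evalAddMonoidHom (fun _ : Fin (k + 1) => ℤ) i)

theorem coordHom_apply (i : Fin (k + 1)) (z : ZMod δ) (x : Fin (k + 1) → ℤ) :
    coordHom δ i z x = (x i : ZMod δ) * z := by
  simp [coordHom, zsmul_eq_mul]

theorem coordHom_add (i : Fin (k + 1)) (z z' : ZMod δ) :
    coordHom δ i (z + z') = coordHom δ i z + coordHom δ i z' := by
  ext x
  simp [coordHom_apply, mul_add]

theorem eq_sum_coordHom (φ : (Fin (k + 1) → ℤ) →+ ZMod δ) :
    φ = ∑ i, coordHom δ i (φ (Pi.single i 1)) := by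
  apply AddMonoidHom.functions_ext
  intro j n
  rw [AddMonoidHom.finsetSum_apply]
  simp only [coordHom_apply, Pi.single_apply]
  rw [Finset.sum_eq_single j]
  · simp only [if_true]
    have : (Pi.single j n : Fin (k + 1) → ℤ) = n • Pi.single j 1 := by
      funext l
      simp [Pi.single_apply]
    rw [this, map_zsmul, zsmul_eq_mul]
  · intro l _ hl
    simp [hl]
  · intro h
    exact absurd (Finset.mem_univ j) h

theorem sq_key (hδ : (δ : ℤ) ∣ 2 * (g - 1)) (t : ℤ) :
    (1 - (g : ZMod δ)) * (t : ZMod δ) * (t : ZMod δ) = (1 - (g : ZMod δ)) * (t : ZMod δ) := by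
  have h1 : (((1 - g) * t * t : ℤ) : ZMod δ) = (((1 - g) * t : ℤ) : ZMod δ) := by
    rw [ZMod.intCast_eq_intCast_iff_dvd_sub]
    obtain ⟨m, hm⟩ := Int.even_mul_pred_self t
    obtain ⟨q, hq⟩ := hδ
    refine ⟨q * m, ?_⟩
    have h2 : (1 - g) * t - (1 - g) * t * t = (2 * (g - 1)) * m := by
      have : t * (t - 1) = m + m := hm
      calc (1 - g) * t - (1 - g) * t * t = (g - 1) * (t * (t - 1)) := by ring
        _ = (g - 1) * (m + m) := by rw [this]
        _ = 2 * (g - 1) * m := by ring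
    rw [h2, hq]
    ring
  push_cast at h1
  exact h1

theorem two_key (hδ : (δ : ℤ) ∣ 2 * (g - 1)) :
    (2 : ZMod δ) * (1 - (g : ZMod δ)) = 0 := by
  have h1 : ((2 * (1 - g) : ℤ) : ZMod δ) = 0 := by
    rw [← Int.cast_zero, ZMod.intCast_eq_intCast_iff_dvd_sub]
    obtain ⟨q, hq⟩ := hδ
    exact ⟨q, by linarith⟩
  push_cast at h1
  exact h1

variable (D : ℤ)

theorem mem_genSet_zero (hδ : (δ : ℤ) ∣ 2 * (g - 1)) (s : ℤ) :
    coordHom δ (0 : Fin (k + 1)) (((s * (D + 1 - g) : ℤ) : ZMod δ)) ∈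
      genSet δ g (Pi.single (0 : Fin (k + 1)) D) := by
  refine ⟨s • LinearMap.BilinForm.linMulLin (LinearMap.proj 0) (LinearMap.proj 0),
    ⟨fun x y => ?_⟩, fun x => ?_⟩
  · simp [mul_comm]
  · rw [coordHom_apply]
    simp only [LinearMap.smul_apply, LinearMap.BilinForm.linMulLin_apply, LinearMap.proj_apply,
      Pi.single_eq_same, smul_eq_mul]
    push_cast
    linear_combination (-(s : ZMod δ)) * sq_key δ g hδ (x 0)

theorem mem_genSet_succ_one (hδ : (δ : ℤ) ∣ 2 * (g - 1)) (j : Fin k) (s : ℤ) :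
    coordHom δ j.succ (((s * (1 - g) : ℤ) : ZMod δ)) ∈
      genSet δ g (Pi.single (0 : Fin (k + 1)) D) := by
  refine ⟨s • LinearMap.BilinForm.linMulLin (LinearMap.proj j.succ) (LinearMap.proj j.succ),
    ⟨fun x y => ?_⟩, fun x => ?_⟩
  · simp [mul_comm]
  · rw [coordHom_apply]
    simp only [LinearMap.smul_apply, LinearMap.BilinForm.linMulLin_apply, LinearMap.proj_apply,
      smul_eq_mul, Pi.single_apply, Fin.succ_ne_zero, if_false]
    push_cast
    linear_combination (-(s : ZMod δ)) * sq_key δ g hδ (x j.succ)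

theorem mem_genSet_succ_two (hδ : (δ : ℤ) ∣ 2 * (g - 1)) (j : Fin k) (t : ℤ) :
    coordHom δ j.succ (((t * D : ℤ) : ZMod δ)) ∈
      genSet δ g (Pi.single (0 : Fin (k + 1)) D) := by
  refine ⟨t • (LinearMap.BilinForm.linMulLin (LinearMap.proj 0) (LinearMap.proj j.succ) +
      LinearMap.BilinForm.linMulLin (LinearMap.proj j.succ) (LinearMap.proj 0)),
    ⟨fun x y => ?_⟩, fun x => ?_⟩
  · simp only [LinearMap.smul_apply, LinearMap.add_apply, LinearMap.BilinForm.linMulLin_apply,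
      LinearMap.proj_apply, smul_eq_mul]
    ring
  · rw [coordHom_apply]
    simp only [LinearMap.smul_apply, LinearMap.add_apply, LinearMap.BilinForm.linMulLin_apply,
      LinearMap.proj_apply, smul_eq_mul, Pi.single_apply, Fin.succ_ne_zero, if_false, if_true]
    push_cast
    linear_combination (-(t : ZMod δ) * (x 0 : ZMod δ) * (x j.succ : ZMod δ)) * two_key δ g hδ

/-- The two moduli. -/
abbrev modA : ℕ := Int.gcd δ (D + 1 - g)
abbrev modC : ℕ := Int.gcd δ (Int.gcd (g - 1) D)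

theorem modA_dvd : modA δ g D ∣ δ :=
  Int.natCast_dvd_natCast.mp (Int.gcd_dvd_left _ _)

theorem modC_dvd : modC δ g D ∣ δ :=
  Int.natCast_dvd_natCast.mp (Int.gcd_dvd_left _ _)

/-- The map whose kernel is the subgroup. -/
def Psi : ((Fin (k + 1) → ℤ) →+ ZMod δ) →+ ZMod (modA δ g D) × (Fin k → ZMod (modC δ g D)) where
  toFun φ := (ZMod.castHom (modA_dvd δ g D) (ZMod (modA δ g D)) (φ (Pi.single 0 1)),
    fun j => ZMod.castHom (modC_dvd δ g D) (ZMod (modC δ g D)) (φ (Pi.single j.succ 1)))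
  map_zero' := by
    apply Prod.ext
    · exact map_zero (ZMod.castHom (modA_dvd δ g D) (ZMod (modA δ g D)))
    · funext j
      exact map_zero (ZMod.castHom (modC_dvd δ g D) (ZMod (modC δ g D)))
  map_add' φ ψ := by
    apply Prod.ext
    · exact map_add (ZMod.castHom (modA_dvd δ g D) (ZMod (modA δ g D))) _ _
    · funext j
      exact map_add (ZMod.castHom (modC_dvd δ g D) (ZMod (modC δ g D))) _ _

theorem mem_ker_Psi (φ : (Fin (k + 1) → ℤ) →+ ZMod δ) :
    φ ∈ (Psi (k := k) δ g D).ker ↔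
      ZMod.castHom (modA_dvd δ g D) (ZMod (modA δ g D)) (φ (Pi.single 0 1)) = 0 ∧
      ∀ j : Fin k, ZMod.castHom (modC_dvd δ g D) (ZMod (modC δ g D)) (φ (Pi.single j.succ 1)) = 0 := by
  rw [AddMonoidHom.mem_ker]
  simp only [Psi, AddMonoidHom.coe_mk, ZeroHom.coe_mk, Prod.mk_eq_zero]
  constructor
  · rintro ⟨h1, h2⟩
    exact ⟨h1, fun j => congrFun h2 j⟩
  · rintro ⟨h1, h2⟩
    exact ⟨h1, funext h2⟩

theorem cast_zero_A (z : ZMod δ)
    (hz : ZMod.castHom (modA_dvd δ g D) (ZMod (modA δ g D)) z = 0) :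
    ∃ s : ℤ, z = ((s * (D + 1 - g) : ℤ) : ZMod δ) := by
  obtain ⟨n, rfl⟩ := ZMod.intCast_surjective z
  rw [map_intCast, CharP.intCast_eq_zero_iff (ZMod (modA δ g D)) (modA δ g D)] at hz
  obtain ⟨m, hm⟩ := hz
  have hbez := Int.gcd_eq_gcd_ab (δ : ℤ) (D + 1 - g)
  refine ⟨Int.gcdB δ (D + 1 - g) * m, ?_⟩
  rw [ZMod.intCast_eq_intCast_iff_dvd_sub]
  refine ⟨-(Int.gcdA δ (D + 1 - g) * m), ?_⟩
  rw [hm]
  show _ - ((Int.gcd (δ : ℤ) (D + 1 - g) : ℕ) : ℤ) * m = _
  rw [hbez]
  ring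

theorem cast_zero_C (z : ZMod δ)
    (hz : ZMod.castHom (modC_dvd δ g D) (ZMod (modC δ g D)) z = 0) :
    ∃ s t : ℤ, z = ((s * (1 - g) : ℤ) : ZMod δ) + ((t * D : ℤ) : ZMod δ) := by
  obtain ⟨n, rfl⟩ := ZMod.intCast_surjective z
  rw [map_intCast, CharP.intCast_eq_zero_iff (ZMod (modC δ g D)) (modC δ g D)] at hz
  obtain ⟨m, hm⟩ := hz
  have hbez := Int.gcd_eq_gcd_ab (δ : ℤ) (Int.gcd (g - 1) D)
  have hbez2 := Int.gcd_eq_gcd_ab (g - 1) D
  set u := Int.gcdA δ (Int.gcd (g - 1) D)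
  set v := Int.gcdB δ (Int.gcd (g - 1) D)
  set p := Int.gcdA (g - 1) D
  set q := Int.gcdB (g - 1) D
  refine ⟨-(p * v * m), q * v * m, ?_⟩
  rw [← Int.cast_add, ZMod.intCast_eq_intCast_iff_dvd_sub]
  refine ⟨-(u * m), ?_⟩
  rw [hm]
  show _ - ((Int.gcd (δ : ℤ) (Int.gcd (g - 1) D) : ℕ) : ℤ) * m = _
  rw [hbez, hbez2]
  ring

theorem genSet_le_ker :
    genSet δ g (Pi.single (0 : Fin (k + 1)) D) ⊆ ((Psi (k := k) δ g D).ker : Set _) := by
  rintro φ ⟨b, _, hφ⟩
  have hd : (Pi.single (0 : Fin (k + 1)) D : Fin (k + 1) → ℤ) = D • Pi.single 0 1 := by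
    funext l
    simp [Pi.single_apply]
  rw [SetLike.mem_coe, mem_ker_Psi]
  constructor
  · rw [hφ, map_intCast, CharP.intCast_eq_zero_iff (ZMod (modA δ g D)) (modA δ g D), hd,
      map_smul, LinearMap.smul_apply, smul_eq_mul]
    have h1 : ((modA δ g D : ℕ) : ℤ) ∣ D + 1 - g := Int.gcd_dvd_right _ _
    have : D * b (Pi.single 0 1) (Pi.single 0 1) + (1 - g) * b (Pi.single 0 1) (Pi.single 0 1) =
        (D + 1 - g) * b (Pi.single 0 1) (Pi.single 0 1) := by ring
    rw [this]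
    exact Dvd.dvd.mul_right h1 _
  · intro j
    rw [hφ, map_intCast, CharP.intCast_eq_zero_iff (ZMod (modC δ g D)) (modC δ g D), hd,
      map_smul, LinearMap.smul_apply, smul_eq_mul]
    have h0 : ((modC δ g D : ℕ) : ℤ) ∣ ((Int.gcd (g - 1) D : ℕ) : ℤ) := Int.gcd_dvd_right _ _
    have h1 : ((modC δ g D : ℕ) : ℤ) ∣ D := h0.trans (Int.gcd_dvd_right _ _)
    have h2 : ((modC δ g D : ℕ) : ℤ) ∣ 1 - g := by
      have : ((modC δ g D : ℕ) : ℤ) ∣ g - 1 := h0.trans (Int.gcd_dvd_left _ _)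
      have h3 : 1 - g = -(g - 1) := by ring
      rw [h3]
      exact (dvd_neg).mpr this
    exact dvd_add (Dvd.dvd.mul_right h1 _) (Dvd.dvd.mul_right h2 _)

theorem closure_eq_ker (hδ : (δ : ℤ) ∣ 2 * (g - 1)) :
    AddSubgroup.closure (genSet δ g (Pi.single (0 : Fin (k + 1)) D)) =
      (Psi (k := k) δ g D).ker := by
  apply le_antisymm
  · rw [AddSubgroup.closure_le]
    exact genSet_le_ker δ g D
  · intro φ hφ
    rw [mem_ker_Psi] at hφ
    obtain ⟨h0, hj⟩ := hφ
    rw [eq_sum_coordHom δ φ]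
    apply AddSubgroup.sum_mem
    intro i _
    refine Fin.cases ?_ (fun j => ?_) i
    · obtain ⟨s, hs⟩ := cast_zero_A δ g D _ h0
      rw [hs]
      exact AddSubgroup.subset_closure (mem_genSet_zero δ g D hδ s)
    · obtain ⟨s, t, hst⟩ := cast_zero_C δ g D _ (hj j)
      rw [hst, coordHom_add]
      exact AddSubgroup.add_mem _
        (AddSubgroup.subset_closure (mem_genSet_succ_one δ g D hδ j s))
        (AddSubgroup.subset_closure (mem_genSet_succ_two δ g D hδ j t))

theorem coordHom_single (i l : Fin (k + 1)) (z : ZMod δ) :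
    coordHom δ i z (Pi.single l 1) = if l = i then z else 0 := by
  rw [coordHom_apply, Pi.single_apply]
  by_cases h : i = l
  · simp [h]
  · simp [h, Ne.symm h]

theorem sum_coordHom_single (zz : Fin (k + 1) → ZMod δ) (l : Fin (k + 1)) :
    (∑ i, coordHom δ i (zz i)) (Pi.single l 1) = zz l := by
  rw [AddMonoidHom.finsetSum_apply]
  simp only [coordHom_single]
  rw [Finset.sum_ite_eq]
  simp

theorem Psi_surjective : Function.Surjective (Psi (k := k) δ g D) := by
  rintro ⟨y0, y⟩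
  obtain ⟨z0, hz0⟩ := ZMod.ringHom_surjective (ZMod.castHom (modA_dvd δ g D) (ZMod (modA δ g D))) y0
  have hz : ∀ j, ∃ z, ZMod.castHom (modC_dvd δ g D) (ZMod (modC δ g D)) z = y j := fun j =>
    ZMod.ringHom_surjective _ (y j)
  choose zs hzs using hz
  refine ⟨∑ i, coordHom δ i ((Fin.cases z0 zs : Fin (k + 1) → ZMod δ) i), ?_⟩
  simp only [Psi, AddMonoidHom.coe_mk, ZeroHom.coe_mk]
  rw [sum_coordHom_single]
  ext
  · exact hz0
  · rename_i j
    simp only
    rw [sum_coordHom_single]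
    exact hzs j

/-- The quotient in the reduced case. -/
noncomputable def quotEquivCore (hδ : (δ : ℤ) ∣ 2 * (g - 1)) :
    (((Fin (k + 1) → ℤ) →+ ZMod δ) ⧸
        AddSubgroup.closure (genSet δ g (Pi.single (0 : Fin (k + 1)) D))) ≃+
      ZMod (modA δ g D) × (Fin k → ZMod (modC δ g D)) :=
  (QuotientAddGroup.quotientAddEquivOfEq (closure_eq_ker δ g D hδ)).trans
    (QuotientAddGroup.quotientKerEquivOfSurjective _ (Psi_surjective δ g D))

/-- Multiplication by `n` as a map `ℤ/(δ/n) → ℤ/δ`. -/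
def iota (n : ℕ) (hn : n ∣ δ) : ZMod (δ / n) →+ ZMod δ :=
  ZMod.lift (δ / n) ⟨zmultiplesHom (ZMod δ) (n : ZMod δ), by
    rw [zmultiplesHom_apply, natCast_zsmul, nsmul_eq_mul, ← Nat.cast_mul, Nat.div_mul_cancel hn,
      ZMod.natCast_self]⟩

theorem iota_intCast (n : ℕ) (hn : n ∣ δ) (i : ℤ) :
    iota δ n hn (i : ZMod (δ / n)) = ((i * n : ℤ) : ZMod δ) := by
  rw [iota, ZMod.lift_coe]
  simp [zsmul_eq_mul]

theorem iota_injective (hδ0 : 0 < δ) (n : ℕ) (hn : n ∣ δ) : Function.Injective (iota δ n hn) := by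
  rw [injective_iff_map_eq_zero]
  intro y hy
  obtain ⟨i, rfl⟩ := ZMod.intCast_surjective y
  rw [iota_intCast, CharP.intCast_eq_zero_iff (ZMod δ) δ] at hy
  rw [CharP.intCast_eq_zero_iff (ZMod (δ / n)) (δ / n)]
  have hn0 : 0 < n := Nat.pos_of_dvd_of_pos hn hδ0
  have h1 : ((δ / n : ℕ) : ℤ) * (n : ℤ) ∣ i * n := by
    rw [← Nat.cast_mul, Nat.div_mul_cancel hn]
    exact hy
  exact Int.dvd_of_mul_dvd_mul_right (by exact_mod_cast hn0.ne') h1

theorem castHom_iota (n : ℕ) (hn : n ∣ δ) (y : ZMod (δ / n)) :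
    ZMod.castHom hn (ZMod n) (iota δ n hn y) = 0 := by
  obtain ⟨i, rfl⟩ := ZMod.intCast_surjective y
  rw [iota_intCast, map_intCast, CharP.intCast_eq_zero_iff (ZMod n) n]
  exact Dvd.intro_left i rfl

theorem exists_iota_eq (n : ℕ) (hn : n ∣ δ) (z : ZMod δ) (hz : ZMod.castHom hn (ZMod n) z = 0) :
    ∃ y, iota δ n hn y = z := by
  obtain ⟨i, rfl⟩ := ZMod.intCast_surjective z
  rw [map_intCast, CharP.intCast_eq_zero_iff (ZMod n) n] at hz
  obtain ⟨m, rfl⟩ := hz
  refine ⟨(m : ZMod (δ / n)), ?_⟩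
  rw [iota_intCast, mul_comm]

theorem coordHom_zero (i : Fin (k + 1)) : coordHom δ i (0 : ZMod δ) = 0 := by
  ext x
  simp [coordHom_apply]

/-- The parametrisation of the kernel. -/
def Phi : ZMod (δ / modA δ g D) × (Fin k → ZMod (δ / modC δ g D)) →+
    ((Fin (k + 1) → ℤ) →+ ZMod δ) where
  toFun y := coordHom δ 0 (iota δ _ (modA_dvd δ g D) y.1) +
    ∑ j : Fin k, coordHom δ j.succ (iota δ _ (modC_dvd δ g D) (y.2 j))
  map_zero' := by
    simp [coordHom_zero]
  map_add' y y' := by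
    simp only [Prod.fst_add, Prod.snd_add, Pi.add_apply, map_add, coordHom_add,
      Finset.sum_add_distrib]
    abel

theorem Phi_apply_zero (y : ZMod (δ / modA δ g D) × (Fin k → ZMod (δ / modC δ g D))) :
    Phi (k := k) δ g D y (Pi.single 0 1) = iota δ _ (modA_dvd δ g D) y.1 := by
  simp only [Phi, AddMonoidHom.coe_mk, ZeroHom.coe_mk, AddMonoidHom.add_apply,
    AddMonoidHom.finsetSum_apply, coordHom_single]
  rw [Finset.sum_eq_zero]
  · simp
  · intro j _
    rw [if_neg (Fin.succ_ne_zero j).symm]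

theorem Phi_apply_succ (y : ZMod (δ / modA δ g D) × (Fin k → ZMod (δ / modC δ g D)))
    (l : Fin k) :
    Phi (k := k) δ g D y (Pi.single l.succ 1) = iota δ _ (modC_dvd δ g D) (y.2 l) := by
  simp only [Phi, AddMonoidHom.coe_mk, ZeroHom.coe_mk, AddMonoidHom.add_apply,
    AddMonoidHom.finsetSum_apply, coordHom_single]
  rw [if_neg (Fin.succ_ne_zero l), zero_add, Finset.sum_eq_single l]
  · simp
  · intro j _ hj
    rw [if_neg]
    intro h
    exact hj (Fin.succ_injective _ h).symm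
  · intro h
    exact absurd (Finset.mem_univ l) h

theorem Phi_injective (hδ0 : 0 < δ) : Function.Injective (Phi (k := k) δ g D) := by
  rw [injective_iff_map_eq_zero]
  intro y hy
  apply Prod.ext
  · apply iota_injective δ hδ0 _ (modA_dvd δ g D)
    rw [← Phi_apply_zero, hy]
    simp
  · funext l
    apply iota_injective δ hδ0 _ (modC_dvd δ g D)
    rw [← Phi_apply_succ δ g D y l, hy]
    simp

theorem range_Phi : (Phi (k := k) δ g D).range = (Psi (k := k) δ g D).ker := by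
  apply le_antisymm
  · rintro _ ⟨y, rfl⟩
    rw [mem_ker_Psi]
    refine ⟨?_, fun j => ?_⟩
    · rw [Phi_apply_zero]
      exact castHom_iota δ _ _ _
    · rw [Phi_apply_succ]
      exact castHom_iota δ _ _ _
  · intro φ hφ
    rw [mem_ker_Psi] at hφ
    obtain ⟨h0, hj⟩ := hφ
    obtain ⟨y0, hy0⟩ := exists_iota_eq δ _ (modA_dvd δ g D) _ h0
    have hy : ∀ j : Fin k, ∃ y, iota δ _ (modC_dvd δ g D) y = φ (Pi.single j.succ 1) := fun j =>
      exists_iota_eq δ _ (modC_dvd δ g D) _ (hj j)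
    choose ys hys using hy
    refine ⟨(y0, ys), ?_⟩
    rw [eq_sum_coordHom δ φ, Fin.sum_univ_succ]
    simp only [Phi, AddMonoidHom.coe_mk, ZeroHom.coe_mk, hy0, hys]

/-- The subgroup in the reduced case. -/
noncomputable def subgroupEquivCore (hδ0 : 0 < δ) (hδ : (δ : ℤ) ∣ 2 * (g - 1)) :
    AddSubgroup.closure (genSet δ g (Pi.single (0 : Fin (k + 1)) D)) ≃+
      ZMod (δ / modA δ g D) × (Fin k → ZMod (δ / modC δ g D)) :=
  (AddEquiv.addSubgroupCongr ((closure_eq_ker δ g D hδ).trans (range_Phi δ g D).symm)).trans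
    (AddMonoidHom.ofInjective (Phi_injective δ g D hδ0)).symm

end Core

section Main

theorem main18330 (r : ℕ) (hr : 0 < r) (δ : ℕ) (g : ℤ) (hδ : (δ : ℤ) ∣ 2 * (g - 1))
    (d : Fin r → ℤ) :
    Nonempty ((((Fin r → ℤ) →+ ZMod δ) ⧸ AddSubgroup.closure
      {φ : (Fin r → ℤ) →+ ZMod δ | ∃ b : LinearMap.BilinForm ℤ (Fin r → ℤ), b.IsSymm ∧
      ∀ x, φ x = ((b d x + (1 - g) * b x x : ℤ) : ZMod δ)}) ≃+
      (ZMod (Int.gcd δ (Finset.univ.gcd d + 1 - g)) ×
        (Fin (r - 1) → ZMod (Int.gcd δ (Int.gcd (g - 1) (Finset.univ.gcd d)))))) := by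
  obtain ⟨k, rfl⟩ : ∃ k, r = k + 1 := ⟨r - 1, by omega⟩
  obtain ⟨U, hU⟩ := exists_equiv_gcd d
  have e1 : (((Fin (k + 1) → ℤ) →+ ZMod δ) ⧸ AddSubgroup.closure (genSet δ g d)) ≃+
      (((Fin (k + 1) → ℤ) →+ ZMod δ) ⧸ AddSubgroup.closure (genSet δ g (U d))) :=
    QuotientAddGroup.congr _ _ (precomp δ U) (map_closure_genSet δ g U d)
  rw [hU] at e1
  exact ⟨e1.trans (quotEquivCore δ g (Finset.univ.gcd d) hδ)⟩

theorem main18331 (r : ℕ) (hr : 0 < r) (δ : ℕ) (hδ0 : 0 < δ) (g : ℤ)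
    (hδ : (δ : ℤ) ∣ 2 * (g - 1)) (d : Fin r → ℤ) :
    Nonempty (AddSubgroup.closure
      {φ : (Fin r → ℤ) →+ ZMod δ | ∃ b : LinearMap.BilinForm ℤ (Fin r → ℤ), b.IsSymm ∧
      ∀ x, φ x = ((b d x + (1 - g) * b x x : ℤ) : ZMod δ)} ≃+
      (ZMod (δ / Int.gcd δ (Finset.univ.gcd d + 1 - g)) ×
        (Fin (r - 1) → ZMod (δ / Int.gcd δ (Int.gcd (g - 1) (Finset.univ.gcd d)))))) := by
  obtain ⟨k, rfl⟩ : ∃ k, r = k + 1 := ⟨r - 1, by omega⟩
  obtain ⟨U, hU⟩ := exists_equiv_gcd d
  have e1 : AddSubgroup.closure (genSet δ g d) ≃+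
      (AddSubgroup.closure (genSet δ g d)).map (precomp δ U).toAddMonoidHom :=
    AddSubgroup.equivMapOfInjective _ _ (precomp δ U).injective
  have e2 : (AddSubgroup.closure (genSet δ g d)).map (precomp δ U).toAddMonoidHom ≃+
      AddSubgroup.closure (genSet δ g (Pi.single (0 : Fin (k + 1)) (Finset.univ.gcd d))) :=
    AddEquiv.addSubgroupCongr (by rw [map_closure_genSet, hU])
  exact ⟨(e1.trans e2).trans (subgroupEquivCore δ g (Finset.univ.gcd d) hδ0 hδ)⟩

end Main

end Helper91.BunLattice
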