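import Mathlib
import Groth.Agent.Lib.Helper93.DepthFlat

/-!
# A regular element with flat quotient: the module is flat (Noetherian local target)
-/

universe u

open IsLocalRing TensorProduct
open scoped Pointwise

namespace Groth.Agent.Lib.Helper91.CIDescFlat

open Groth.Agent.Lib.Helper93.DepthFlat

variable {R S : Type*} [CommRing R] [CommRing S] [Algebra R S] [IsLocalRing S] [IsNoetherianRing S]

/-- Let `S` be a Noetherian local ring, `N` a finite `S`-module and `y ∈ 𝔪_S` an `N`-regular
element. If `N / y N` is flat over `R` then so is `N`. -/
theorem flat_of_regular_of_flat_quot (N : Type*) [AddCommGroup N] [Module S N] [Module R N]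
    [IsScalarTower R S N] [Module.Finite S N] {y : S} (hym : y ∈ maximalIdeal S)
    (hy : IsSMulRegular N y) [Module.Flat R (QuotSMulTop y N)] : Module.Flat R N := by
  rw [Module.Flat.iff_lTensor_injective]
  intro A hA
  haveI : Module.Finite R A := Module.Finite.iff_fg.mpr hA
  haveI : Module.Finite S (N ⊗[R] A) := finite_tensor
  let u : N →ₗ[R] N := (LinearMap.lsmul S N y).restrictScalars R
  let g : N →ₗ[R] QuotSMulTop y N := (Submodule.mkQ (y • (⊤ : Submodule S N))).restrictScalars R
  have hg : Function.Surjective g := Submodule.mkQ_surjective (y • (⊤ : Submodule S N))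
  have hex : Function.Exact u g := exact_lsmul_mkQ y
  have hbar : Function.Injective (LinearMap.lTensor (QuotSMulTop y N) A.subtype) :=
    Module.Flat.lTensor_preserves_injective_linearMap _ Subtype.val_injective
  have huR : Function.Injective (LinearMap.rTensor R u) := by
    intro a b hab
    have h1 : ∀ z, TensorProduct.rid R N (LinearMap.rTensor R u z) = u (TensorProduct.rid R N z) := by
      intro z
      induction z with
      | zero => simp
      | tmul n r => simp
      | add a b ha hb => simp only [map_add, ha, hb]
    apply (TensorProduct.rid R N).injective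
    apply hy
    have := congrArg (TensorProduct.rid R N) hab
    rw [h1, h1] at this
    exact this
  have key : ∀ n : ℕ, ∀ t : N ⊗[R] A, LinearMap.lTensor N A.subtype t = 0 →
      t ∈ (maximalIdeal S ^ n • ⊤ : Submodule S (N ⊗[R] A)) := by
    intro n
    induction n with
    | zero =>
      intro t _
      rw [pow_zero, Ideal.one_eq_top, Submodule.top_smul]
      exact Submodule.mem_top
    | succ n ih =>
      intro t ht
      have h1 : LinearMap.lTensor (QuotSMulTop y N) A.subtype (LinearMap.rTensor A g t) = 0 := by
        have : LinearMap.lTensor (QuotSMulTop y N) A.subtype (LinearMap.rTensor A g t) =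
            LinearMap.rTensor R g (LinearMap.lTensor N A.subtype t) := by
          rw [← LinearMap.comp_apply, ← LinearMap.comp_apply, LinearMap.lTensor_comp_rTensor,
            LinearMap.rTensor_comp_lTensor]
        rw [this, ht, map_zero]
      have h2 : LinearMap.rTensor A g t = 0 := by
        apply hbar
        rw [h1, map_zero]
      obtain ⟨t₁, rfl⟩ := (rTensor_exact A hex hg t).mp h2
      have h3 : LinearMap.lTensor N A.subtype t₁ = 0 := by
        apply huR
        have : LinearMap.rTensor R u (LinearMap.lTensor N A.subtype t₁) =
            LinearMap.lTensor N A.subtype (LinearMap.rTensor A u t₁) := by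
          rw [← LinearMap.comp_apply, ← LinearMap.comp_apply, LinearMap.lTensor_comp_rTensor,
            LinearMap.rTensor_comp_lTensor]
        rw [this, ht, map_zero]
      have h4 := ih t₁ h3
      rw [← smul_tensor, pow_succ', Submodule.mul_smul]
      exact Submodule.smul_mem_smul hym h4
  rw [injective_iff_map_eq_zero]
  intro t ht
  have hmem : t ∈ (⨅ i : ℕ, maximalIdeal S ^ i • ⊤ : Submodule S (N ⊗[R] A)) :=
    (Submodule.mem_iInf _).mpr (fun n => key n t ht)
  rw [Ideal.iInf_pow_smul_eq_bot_of_isLocalRing (maximalIdeal S)
    (Ideal.IsMaximal.ne_top inferInstance)] at hmem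
  exact (Submodule.mem_bot S).mp hmem

open RingTheory.Sequence in
/-- A sequence in `𝔪_S`, weakly regular on a finite module `N` over the Noetherian local ring `S`,
such that `N / (rs) N` is flat over `R`: every partial quotient is flat over `R`. -/
theorem flat_take_of_flat_quot {R S : Type u} [CommRing R] [CommRing S] [Algebra R S] [IsLocalRing S]
    [IsNoetherianRing S] (fs : List S) :
    ∀ (N : Type u) [AddCommGroup N] [Module S N] [Module R N] [IsScalarTower R S N]
      [Module.Finite S N],
      (∀ r ∈ fs, r ∈ maximalIdeal S) → IsWeaklyRegular N fs →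
      Module.Flat R (N ⧸ (Ideal.ofList fs • (⊤ : Submodule S N))) →
        ∀ i ≤ fs.length,
          Module.Flat R (N ⧸ (Ideal.ofList (fs.take i) • (⊤ : Submodule S N))) := by
  induction fs with
  | nil =>
    intro N _ _ _ _ _ _ _ hfl i _
    rw [List.take_nil]
    exact hfl
  | cons y l ih =>
    intro N _ _ _ _ _ hmem hreg hfl i hi
    rw [isWeaklyRegular_cons_iff] at hreg
    have hfl' : Module.Flat R (QuotSMulTop y N ⧸
        (Ideal.ofList l • (⊤ : Submodule S (QuotSMulTop y N)))) :=
      Module.Flat.of_linearEquiv
        ((Submodule.quotOfListConsSMulTopEquivQuotSMulTopInner N y l).restrictScalars R).symm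
    have h5 := ih (QuotSMulTop y N) (fun r hr => hmem r (List.mem_cons_of_mem _ hr)) hreg.2 hfl'
    have h0 : Module.Flat R (QuotSMulTop y N) := by
      have h := h5 0 (Nat.zero_le _)
      have hbot : Ideal.ofList (l.take 0) • (⊤ : Submodule S (QuotSMulTop y N)) = ⊥ := by
        rw [List.take_zero, Ideal.ofList_nil, Submodule.bot_smul]
      exact Module.Flat.of_linearEquiv
        ((Submodule.quotEquivOfEqBot _ hbot).restrictScalars R).symm
    have hN : Module.Flat R N :=
      flat_of_regular_of_flat_quot N (hmem y List.mem_cons_self) hreg.1
    cases i with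
    | zero =>
      have hbot : Ideal.ofList ((y :: l).take 0) • (⊤ : Submodule S N) = ⊥ := by
        rw [List.take_zero, Ideal.ofList_nil, Submodule.bot_smul]
      exact Module.Flat.of_linearEquiv ((Submodule.quotEquivOfEqBot _ hbot).restrictScalars R)
    | succ j =>
      have hj : j ≤ l.length := by simpa using hi
      have := h5 j hj
      rw [List.take_succ_cons]
      exact Module.Flat.of_linearEquiv
        ((Submodule.quotOfListConsSMulTopEquivQuotSMulTopInner N y (l.take j)).restrictScalars R)

end Groth.Agent.Lib.Helper91.CIDescFlat
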