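import Mathlib
import Groth.Agent.Lib.Helper91.CIDescFlat
import Groth.Agent.Lib.Helper94.CIAsc1
import Groth.Agent.Lib.Helper62.CITrans3
import Groth.Agent.S5068
import Groth.Agent.S2201

/-!
# Complete intersections: the core of the flat descent (Avramov)
-/

set_option autoImplicit false
universe u

open IsLocalRing RingTheory.Sequence

namespace Groth.Agent.Lib.Helper91.CIDescCore

open Groth.Agent.Lib.Helper35.TA

variable {P Q A B : Type u} [CommRing P] [CommRing Q] [CommRing A] [CommRing B]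

/-- Core of the descent: regular presentations `P → A`, `Q → B` compatible with a flat local map
`A → B` through a flat `τ : P → Q` with regular closed fibre. If `ker (Q → B)` is generated by a
regular sequence then so is `ker (P → A)`, and the closed fibre of `A → B` is a complete
intersection. -/
theorem core [IsRegularLocalRing P] [IsRegularLocalRing Q] [IsLocalRing A] [IsLocalRing B]
    [IsNoetherianRing A] [IsNoetherianRing B] [Algebra A B] [IsLocalHom (algebraMap A B)]
    [Module.Flat A B]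
    (ρ : P →+* A) (σ : Q →+* B) (τ : P →+* Q) (hρ : Function.Surjective ρ)
    (hσ : Function.Surjective σ) (hcomm : σ.comp τ = (algebraMap A B).comp ρ) (hτ : τ.Flat)
    (hreg : IsRegularRing (Q ⧸ (maximalIdeal P).map τ))
    (hJ : ∃ rs : List Q, Ideal.ofList rs = RingHom.ker σ ∧ IsRegular Q rs) :
    (∃ rs : List P, Ideal.ofList rs = RingHom.ker ρ ∧ IsRegular P rs) ∧
      Pi1.IsCompleteIntersection (EGA4.FibRing A B) := by
  classical
  letI : Algebra P Q := τ.toAlgebra
  haveI : Module.Flat P Q := hτ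
  have hτa : algebraMap P Q = τ := rfl
  have hcomm' : ∀ p : P, σ (τ p) = algebraMap A B (ρ p) := fun p => by
    have := congrArg (fun f => f p) hcomm
    simpa using this
  -- `σ` is local
  have hσloc : ∀ y : Q, σ y ∈ maximalIdeal B → y ∈ maximalIdeal Q := by
    intro y hy
    rw [mem_maximalIdeal, mem_nonunits_iff] at hy ⊢
    exact fun h => hy (h.map σ)
  -- `ρ` maps the maximal ideal into the maximal ideal
  have hρm : ∀ p : P, p ∈ maximalIdeal P → ρ p ∈ maximalIdeal A := by
    intro p hp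
    haveI : IsLocalHom ρ := hρ.isLocalHom
    rw [mem_maximalIdeal, mem_nonunits_iff] at hp ⊢
    exact fun h => hp (isUnit_of_map_unit ρ p h)
  -- `τ` maps the maximal ideal into the maximal ideal
  have hτm : ∀ p : P, p ∈ maximalIdeal P → τ p ∈ maximalIdeal Q := by
    intro p hp
    apply hσloc
    rw [hcomm']
    have h1 := hρm p hp
    rw [mem_maximalIdeal, mem_nonunits_iff] at h1 ⊢
    exact fun h => h1 (isUnit_of_map_unit (algebraMap A B) _ h)
  haveI hτloc : IsLocalHom (algebraMap P Q) := by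
    apply ((IsLocalRing.local_hom_TFAE _).out 0 2).mpr
    rw [Ideal.map_le_iff_le_comap]
    intro p hp
    exact hτm p hp
  let I : Ideal P := RingHom.ker ρ
  let J : Ideal Q := RingHom.ker σ
  have hIne : I ≠ ⊤ := RingHom.ker_ne_top ρ
  have hJne : J ≠ ⊤ := RingHom.ker_ne_top σ
  have hIm : I ≤ maximalIdeal P := le_maximalIdeal hIne
  have hσI : I.map (algebraMap P Q) ≤ J := by
    rw [Ideal.map_le_iff_le_comap]
    intro x hx
    rw [Ideal.mem_comap, RingHom.mem_ker, hτa, hcomm', (RingHom.mem_ker).mp hx, map_zero]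
  -- the closed fibre of `P → Q` is a regular local ring
  have hmQ : (maximalIdeal P).map (algebraMap P Q) ≤ maximalIdeal Q := by
    rw [Ideal.map_le_iff_le_comap]
    intro p hp
    exact hτm p hp
  haveI ntF : Nontrivial (Q ⧸ (maximalIdeal P).map (algebraMap P Q)) := by
    rw [Ideal.Quotient.nontrivial_iff]
    intro h
    exact (maximalIdeal.isMaximal Q).ne_top (top_le_iff.mp (h ▸ hmQ))
  haveI locF : IsLocalRing (Q ⧸ (maximalIdeal P).map (algebraMap P Q)) :=
    IsLocalRing.of_surjective' (Ideal.Quotient.mk _) Ideal.Quotient.mk_surjective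
  haveI regF : IsRegularLocalRing (Q ⧸ (maximalIdeal P).map (algebraMap P Q)) := by
    haveI : IsRegularRing (Q ⧸ (maximalIdeal P).map (algebraMap P Q)) := hreg
    exact IsRegularLocalRing.of_isRegularRing_of_isLocalRing _
  -- the algebra `P ⧸ I → Q ⧸ J`
  have hle : I ≤ J.comap τ := by
    intro x hx
    exact hσI (Ideal.mem_map_of_mem _ hx)
  letI algPQ : Algebra (P ⧸ I) (Q ⧸ J) := (Ideal.quotientMap J τ hle).toAlgebra
  haveI towerPQ : IsScalarTower P (P ⧸ I) (Q ⧸ J) :=
    IsScalarTower.of_algebraMap_eq (fun x => rfl)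
  let eA : (P ⧸ I) ≃+* A := RingHom.quotientKerEquivOfSurjective hρ
  let eB : (Q ⧸ J) ≃+* B := RingHom.quotientKerEquivOfSurjective hσ
  have heA : ∀ p : P, eA (Ideal.Quotient.mk I p) = ρ p := fun p => rfl
  have heB : ∀ q : Q, eB (Ideal.Quotient.mk J q) = σ q := fun q => rfl
  have hflatPQ : Module.Flat (P ⧸ I) (Q ⧸ J) := by
    rw [← RingHom.flat_algebraMap_iff]
    have hfac : algebraMap (P ⧸ I) (Q ⧸ J) =
        ((eB.symm : B →+* Q ⧸ J).comp (algebraMap A B)).comp (eA : P ⧸ I →+* A) := by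
      refine Ideal.Quotient.ringHom_ext (RingHom.ext fun p => ?_)
      change Ideal.Quotient.mk J (τ p) = eB.symm (algebraMap A B (eA (Ideal.Quotient.mk I p)))
      rw [heA, ← hcomm', ← heB, RingEquiv.symm_apply_apply]
    rw [hfac]
    refine RingHom.Flat.comp (RingHom.Flat.of_bijective eA.bijective) ?_
    refine RingHom.Flat.comp ?_ (RingHom.Flat.of_bijective eB.symm.bijective)
    rw [RingHom.flat_algebraMap_iff]
    infer_instance
  have hfin : DRing.HasFiniteTorDim (P ⧸ I) (Q ⧸ J) :=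
    ⟨0, (hasTorDimLE_iff_TD 0 _).mpr (TD_zero_of_flat _)⟩
  obtain ⟨hIreg, rsC, hrsC, hregC⟩ :=
    (Groth.Agent.S2201.result I J hIne hJne hσI).1.mp ⟨hJ, hfin⟩
  refine ⟨hIreg, ?_⟩
  -- the ring `C = Q / I Q`
  have heA' : ∀ p : P, eA.symm (ρ p) = Ideal.Quotient.mk I p := by
    intro p
    rw [RingEquiv.symm_apply_eq]
    rfl
  let φ : A →+* (Q ⧸ I.map (algebraMap P Q)) :=
    (algebraMap (P ⧸ I) (Q ⧸ I.map (algebraMap P Q))).comp (eA.symm : A →+* P ⧸ I)
  have hφ : ∀ p : P, φ (ρ p) = Ideal.Quotient.mk (I.map (algebraMap P Q)) (τ p) := by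
    intro p
    change algebraMap (P ⧸ I) (Q ⧸ I.map (algebraMap P Q)) (eA.symm (ρ p)) = _
    rw [heA']
    rfl
  have hφflat : φ.Flat := by
    refine RingHom.Flat.comp (RingHom.Flat.of_bijective eA.symm.bijective) ?_
    rw [RingHom.flat_algebraMap_iff]
    exact Module.Flat.of_linearEquiv
      (Algebra.TensorProduct.quotIdealMapEquivQuotTensor Q I).toLinearEquiv
  letI algAC : Algebra A (Q ⧸ I.map (algebraMap P Q)) := φ.toAlgebra
  haveI flatAC : Module.Flat A (Q ⧸ I.map (algebraMap P Q)) := hφflat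
  let g : (Q ⧸ I.map (algebraMap P Q)) →+* B :=
    Ideal.Quotient.lift (I.map (algebraMap P Q)) σ (fun x hx => hσI hx)
  have hg : ∀ y : Q, g (Ideal.Quotient.mk _ y) = σ y := fun y => rfl
  letI algCB : Algebra (Q ⧸ I.map (algebraMap P Q)) B := g.toAlgebra
  haveI tower : IsScalarTower A (Q ⧸ I.map (algebraMap P Q)) B := by
    refine IsScalarTower.of_algebraMap_eq' ?_
    ext a
    obtain ⟨p, rfl⟩ := hρ a
    change _ = g (φ (ρ p))
    rw [hφ, hg, hcomm']
  have hgsurj : Function.Surjective g := fun b => by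
    obtain ⟨y, rfl⟩ := hσ b
    exact ⟨Ideal.Quotient.mk _ y, rfl⟩
  haveI ntC : Nontrivial (Q ⧸ I.map (algebraMap P Q)) := by
    rw [Ideal.Quotient.nontrivial_iff]
    intro h
    exact RingHom.ker_ne_top σ (top_le_iff.mp (h ▸ hσI))
  haveI locC : IsLocalRing (Q ⧸ I.map (algebraMap P Q)) :=
    IsLocalRing.of_surjective' (Ideal.Quotient.mk _) Ideal.Quotient.mk_surjective
  haveI lochom : IsLocalHom (algebraMap A (Q ⧸ I.map (algebraMap P Q))) := by
    constructor
    intro a ha
    have h1 : IsUnit (algebraMap A B a) := by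
      rw [IsScalarTower.algebraMap_apply A (Q ⧸ I.map (algebraMap P Q)) B]
      exact ha.map _
    exact isUnit_of_map_unit (algebraMap A B) a h1
  -- the closed fibre of `A → C` is `Q / 𝔪_P Q`
  have hmA : (maximalIdeal P).map ρ = maximalIdeal A := by
    rcases Ideal.map_eq_top_or_isMaximal_of_surjective ρ hρ (maximalIdeal.isMaximal P) with h | h
    · exfalso
      have h1 : (1 : A) ∈ (maximalIdeal P).map ρ := h ▸ Submodule.mem_top
      obtain ⟨p, hp, hp1⟩ := (Ideal.mem_map_iff_of_surjective ρ hρ).mp h1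
      have := hρm p hp
      rw [hp1] at this
      exact (maximalIdeal.isMaximal A).ne_top ((Ideal.eq_top_iff_one _).mpr this)
    · exact (IsLocalRing.eq_maximalIdeal h)
  have hmB : EGA4.mB A (Q ⧸ I.map (algebraMap P Q)) =
      ((maximalIdeal P).map τ).map (Ideal.Quotient.mk (I.map (algebraMap P Q))) := by
    change (maximalIdeal A).map φ = _
    rw [← hmA, Ideal.map_map, Ideal.map_map]
    congr 1
    ext p
    exact hφ p
  have hsup : I.map (algebraMap P Q) ⊔ (maximalIdeal P).map τ = (maximalIdeal P).map τ :=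
    sup_eq_right.mpr (Ideal.map_mono hIm)
  let e : EGA4.FibRing A (Q ⧸ I.map (algebraMap P Q)) ≃+* Q ⧸ (maximalIdeal P).map τ :=
    (Ideal.quotEquivOfEq hmB).trans
      ((DoubleQuot.quotQuotEquivQuotSup (I.map (algebraMap P Q)) ((maximalIdeal P).map τ)).trans
        (Ideal.quotEquivOfEq hsup))
  haveI : IsRegularRing (EGA4.FibRing A (Q ⧸ I.map (algebraMap P Q))) :=
    IsRegularRing.of_ringEquiv e.symm
  have hregC' : IsRegularLocalRing (EGA4.FibRing A (Q ⧸ I.map (algebraMap P Q))) :=
    IsRegularLocalRing.of_isRegularRing_of_isLocalRing _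
  -- the kernel of `g`
  have hkerg : RingHom.ker g = J.map (Ideal.Quotient.mk (I.map (algebraMap P Q))) :=
    Ideal.ker_quotient_lift σ _
  have hkergne : RingHom.ker g ≠ ⊤ := RingHom.ker_ne_top g
  have hmemC : ∀ r ∈ rsC, r ∈ maximalIdeal (Q ⧸ I.map (algebraMap P Q)) := by
    intro r hr
    apply le_maximalIdeal hkergne
    rw [hkerg, ← hrsC]
    exact Ideal.subset_span hr
  -- flatness of the last quotient
  have hflC : Module.Flat A ((Q ⧸ I.map (algebraMap P Q)) ⧸
      (Ideal.ofList rsC • ⊤ : Submodule (Q ⧸ I.map (algebraMap P Q))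
        (Q ⧸ I.map (algebraMap P Q)))) := by
    have h1 : (Ideal.ofList rsC • ⊤ : Submodule (Q ⧸ I.map (algebraMap P Q))
        (Q ⧸ I.map (algebraMap P Q))) =
        RingHom.ker (IsScalarTower.toAlgHom A (Q ⧸ I.map (algebraMap P Q)) B) := by
      rw [Groth.Agent.Lib.Helper62.CITrans.smul_top_eq_self, hrsC, ← hkerg]
      rfl
    let e1 := (Submodule.quotEquivOfEq _ _ h1).restrictScalars A
    let e2 := (Ideal.quotientKerAlgEquivOfSurjective
      (f := IsScalarTower.toAlgHom A (Q ⧸ I.map (algebraMap P Q)) B) hgsurj).toLinearEquiv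
    exact Module.Flat.of_linearEquiv (e1.trans e2)
  have hfl := Groth.Agent.Lib.Helper91.CIDescFlat.flat_take_of_flat_quot (R := A) rsC
    (Q ⧸ I.map (algebraMap P Q)) hmemC hregC.toIsWeaklyRegular hflC
  have htrans : RegImm.IsTransRegularSeq A (Q ⧸ I.map (algebraMap P Q)) rsC := by
    refine ⟨hregC.toIsWeaklyRegular, fun j hj => ?_⟩
    haveI := hfl j hj
    exact Module.Flat.of_linearEquiv
      ((Submodule.quotEquivOfEq _ _ (Groth.Agent.Lib.Helper62.CITrans.smul_top_eq_self
        (Ideal.ofList (rsC.take j)))).restrictScalars A).symm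
  have hrs' : Ideal.ofList rsC = RingHom.ker (algebraMap (Q ⧸ I.map (algebraMap P Q)) B) := by
    change _ = RingHom.ker g
    rw [hkerg, hrsC]
  exact ((Groth.Agent.S5068.result A (Q ⧸ I.map (algebraMap P Q)) B hregC' hgsurj).mp
    ⟨rsC, hrs', htrans⟩).2

end Groth.Agent.Lib.Helper91.CIDescCore
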