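import Mathlib
import Groth.Agent.Lib.Helper91.CIDescCore
import Groth.Agent.Lib.Helper94.CIAsc4
import Groth.Agent.S2166

/-!
# Complete intersections: flat descent for Noetherian local rings (Avramov)
-/

set_option autoImplicit false
universe u

open IsLocalRing RingTheory.Sequence

namespace Groth.Agent.Lib.Helper91.CIDescMain

section Complete

variable {A B : Type u} [CommRing A] [CommRing B] [IsLocalRing A] [IsLocalRing B]
  [IsNoetherianRing A] [IsNoetherianRing B]
  [IsAdicComplete (maximalIdeal A) A] [IsAdicComplete (maximalIdeal B) B]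
  [Algebra A B] [IsLocalHom (algebraMap A B)] [Module.Flat A B]

/-- Flat descent of the complete intersection property, complete case. -/
theorem isCI_descent_complete (hB : Pi1.IsCompleteIntersection B) :
    Pi1.IsCompleteIntersection A ∧ Pi1.IsCompleteIntersection (EGA4.FibRing A B) := by
  classical
  obtain ⟨Λ, Λ', _, _, hlocΛ, n, m, ρ, σ, τ, hΛ, hρ, hσ, hcomm, hτ, hreg⟩ :=
    Groth.Agent.S2053.result (A := A) (B := B)
  have hΛ1 : IsField Λ ∨ CAlg.IsCohenRing Λ := by
    rcases hΛ with ⟨-, h, -⟩ | ⟨-, h, -⟩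
    · exact Or.inl h
    · exact Or.inr h
  have hΛ2 : IsField Λ' ∨ CAlg.IsCohenRing Λ' := by
    rcases hΛ with ⟨-, -, h⟩ | ⟨-, -, h⟩
    · exact Or.inl h
    · exact Or.inr h
  obtain ⟨hloc1, hP⟩ := Groth.Agent.Lib.Helper94.CIAsc3.isRegularLocalRing_mvPowerSeries Λ n hΛ1
  obtain ⟨hloc2, hQ⟩ := Groth.Agent.Lib.Helper94.CIAsc3.isRegularLocalRing_mvPowerSeries Λ' m hΛ2
  have hJ := Groth.Agent.S2169.result σ hσ hB
  obtain ⟨hI, hF⟩ := Groth.Agent.Lib.Helper91.CIDescCore.core ρ σ τ hρ hσ hcomm hτ hreg hJ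
  refine ⟨?_, hF⟩
  haveI : Nontrivial (MvPowerSeries (Fin n) Λ ⧸ RingHom.ker ρ) :=
    Ideal.Quotient.nontrivial_iff.mpr (RingHom.ker_ne_top ρ)
  haveI : IsLocalRing (MvPowerSeries (Fin n) Λ ⧸ RingHom.ker ρ) :=
    IsLocalRing.of_surjective' (Ideal.Quotient.mk _) Ideal.Quotient.mk_surjective
  have h1 : Pi1.IsCompleteIntersection (MvPowerSeries (Fin n) Λ ⧸ RingHom.ker ρ) :=
    (Groth.Agent.S2166.result (RingHom.ker ρ) (RingHom.ker_ne_top ρ)).mpr hI
  exact Groth.Agent.Lib.Helper62.CITrans.isCI_of_ringEquiv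
    (RingHom.quotientKerEquivOfSurjective hρ) h1

end Complete

variable {R S : Type u} [CommRing R] [CommRing S] [IsLocalRing R] [IsLocalRing S]
  [IsNoetherianRing R] [IsNoetherianRing S] [Algebra R S] [IsLocalHom (algebraMap R S)]
  [Module.Flat R S]

/-- **Flat descent of the complete intersection property** (Avramov): for a flat local
homomorphism `R → S` of Noetherian local rings, if `S` is a complete intersection then so are `R`
and the closed fibre `S / 𝔪_R S`. -/
theorem isCI_descent (hS : Pi1.IsCompleteIntersection S) :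
    Pi1.IsCompleteIntersection R ∧ Pi1.IsCompleteIntersection (EGA4.FibRing R S) := by
  classical
  have hNR : IsNoetherianRing (AdicCompletion (maximalIdeal R) R) := Groth.Agent.S0543.result R _
  have hNS : IsNoetherianRing (AdicCompletion (maximalIdeal S) S) := Groth.Agent.S0543.result S _
  have hle : (maximalIdeal R).map (algebraMap R S) ≤ maximalIdeal S :=
    IsLocalRing.map_maximalIdeal_le (algebraMap R S)
  let ψ : AdicCompletion (maximalIdeal R) R →+* AdicCompletion (maximalIdeal S) S :=
    FSch.complMap (maximalIdeal R) (maximalIdeal S) (algebraMap R S) hle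
  have hψ : ψ.comp (algebraMap R (AdicCompletion (maximalIdeal R) R)) =
      (algebraMap S (AdicCompletion (maximalIdeal S) S)).comp (algebraMap R S) := by
    refine RingHom.ext fun r => ?_
    rw [RingHom.comp_apply, RingHom.comp_apply, AdicCompletion.algebraMap_apply,
      AdicCompletion.algebraMap_apply]
    exact Groth.Agent.Lib.Helper18.complMap_of _ _ _ hle r
  have hflat : ψ.Flat := Groth.Agent.Lib.Helper47.flat_completion_of_flat R S ψ hψ
  letI : Algebra (AdicCompletion (maximalIdeal R) R) (AdicCompletion (maximalIdeal S) S) :=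
    ψ.toAlgebra
  haveI : Module.Flat (AdicCompletion (maximalIdeal R) R) (AdicCompletion (maximalIdeal S) S) :=
    hflat
  have hmap : (maximalIdeal (AdicCompletion (maximalIdeal R) R)).map ψ =
      (EGA4.mB R S).map (algebraMap S (AdicCompletion (maximalIdeal S) S)) := by
    rw [AdicCompletion.maximalIdeal_eq_map, Ideal.map_map, hψ, ← Ideal.map_map]
  haveI : IsLocalHom (algebraMap (AdicCompletion (maximalIdeal R) R)
      (AdicCompletion (maximalIdeal S) S)) := by
    apply ((IsLocalRing.local_hom_TFAE _).out 0 2).mpr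
    change (maximalIdeal (AdicCompletion (maximalIdeal R) R)).map ψ ≤ _
    rw [hmap, AdicCompletion.maximalIdeal_eq_map (R := S)]
    exact Ideal.map_mono hle
  have hS' : Pi1.IsCompleteIntersection (AdicCompletion (maximalIdeal S) S) :=
    (Groth.Agent.Lib.Helper94.CIAsc1.isCI_iff_of_completion_equiv
      (AdicCompletion (maximalIdeal S) S) S (RingEquiv.refl _)).mp hS
  obtain ⟨hR', hF'⟩ := isCI_descent_complete (A := AdicCompletion (maximalIdeal R) R)
    (B := AdicCompletion (maximalIdeal S) S) hS'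
  refine ⟨(Groth.Agent.Lib.Helper94.CIAsc1.isCI_iff_of_completion_equiv
      (AdicCompletion (maximalIdeal R) R) R (RingEquiv.refl _)).mpr hR', ?_⟩
  haveI := Groth.Agent.Lib.Helper94.CIAsc4.isAdicComplete_quotient
    (AdicCompletion (maximalIdeal S) S)
    (EGA4.mB (AdicCompletion (maximalIdeal R) R) (AdicCompletion (maximalIdeal S) S))
  obtain ⟨e⟩ := Groth.Agent.Lib.Helper82.ComplQuot.exists_ringEquiv S (EGA4.mB R S)
  have hmap' : EGA4.mB (AdicCompletion (maximalIdeal R) R) (AdicCompletion (maximalIdeal S) S) =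
      (EGA4.mB R S).map (algebraMap S (AdicCompletion (maximalIdeal S) S)) := hmap
  exact (Groth.Agent.Lib.Helper94.CIAsc1.isCI_iff_of_completion_equiv _ (EGA4.FibRing R S)
    (e.trans (Ideal.quotEquivOfEq hmap'.symm))).mpr hF'

end Groth.Agent.Lib.Helper91.CIDescMain
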