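import Mathlib

/-!
# Ext of a module with a two-term free resolution `0 → R → R^m → M → 0`
-/

universe u v w

open CategoryTheory Abelian

namespace Groth.Agent.Lib.Helper91.ExtTwoTerm

section abstract

variable {C : Type u} [Category.{v} C] [Abelian C] [HasExt.{w} C]
  {S : ShortComplex C} (hS : S.ShortExact) (Y : C)

include hS

lemma ext_two_eq_zero [Projective S.X₁] [Projective S.X₂] (x : Ext S.X₃ Y 2) : x = 0 := by
  have h1 : (Ext.mk₀ S.g).comp x (zero_add 2) = 0 := Ext.eq_zero_of_projective _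
  obtain ⟨x₁, hx₁⟩ := Ext.contravariant_sequence_exact₃ hS Y x h1 (show 1 + 1 = 2 from rfl)
  rw [← hx₁, Ext.eq_zero_of_projective x₁, Ext.comp_zero]

lemma ext_one_surj [Projective S.X₂] (x : Ext S.X₃ Y 1) :
    ∃ g : S.X₁ ⟶ Y, hS.extClass.comp (Ext.mk₀ g) (add_zero 1) = x := by
  have h1 : (Ext.mk₀ S.g).comp x (zero_add 1) = 0 := Ext.eq_zero_of_projective _
  obtain ⟨x₁, hx₁⟩ := Ext.contravariant_sequence_exact₃ hS Y x h1 (show 1 + 0 = 1 from rfl)
  obtain ⟨g, rfl⟩ := (Ext.mk₀_bijective _ _).2 x₁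
  exact ⟨g, hx₁⟩

lemma ext_one_eq_zero_iff (g : S.X₁ ⟶ Y) :
    hS.extClass.comp (Ext.mk₀ g) (add_zero 1) = 0 ↔ ∃ h : S.X₂ ⟶ Y, S.f ≫ h = g := by
  constructor
  · intro h
    obtain ⟨x₂, hx₂⟩ := Ext.contravariant_sequence_exact₁ hS Y (Ext.mk₀ g)
      (show 1 + 0 = 1 from rfl) h
    obtain ⟨h₂, rfl⟩ := (Ext.mk₀_bijective _ _).2 x₂
    rw [Ext.mk₀_comp_mk₀] at hx₂
    exact ⟨h₂, (Ext.mk₀_bijective _ _).1 hx₂⟩
  · rintro ⟨h, rfl⟩
    rw [← Ext.mk₀_comp_mk₀, ← Ext.comp_assoc_of_second_deg_zero, hS.extClass_comp, Ext.zero_comp]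

end abstract

variable {R : Type u} [CommRing R]
variable {M : Type u} [AddCommGroup M] [Module R M] {m : ℕ} (v : Fin m → R)
  (π : (Fin m → R) →ₗ[R] M)

/-- the short complex `R --v--> R^m --π--> M` -/
noncomputable abbrev sc (hv : π v = 0) : ShortComplex (ModuleCat.{u} R) :=
  ShortComplex.mk (X₁ := ModuleCat.of R R) (X₂ := ModuleCat.of R (Fin m → R))
    (X₃ := ModuleCat.of R M)
    (ModuleCat.ofHom (LinearMap.toSpanSingleton R (Fin m → R) v))
    (ModuleCat.ofHom π) (by
      ext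
      simp [hv])

variable {v π}

lemma sc_shortExact (hv : π v = 0) (hπ : Function.Surjective π)
    (hker : LinearMap.ker π ≤ Submodule.span R {v}) (hinj : ∀ r : R, r • v = 0 → r = 0) :
    (sc v π hv).ShortExact where
  exact := by
    rw [ShortComplex.moduleCat_exact_iff]
    intro x hx
    have hx' : x ∈ LinearMap.ker π := hx
    obtain ⟨r, hr⟩ := Submodule.mem_span_singleton.mp (hker hx')
    exact ⟨r, hr⟩
  mono_f := by
    rw [ModuleCat.mono_iff_injective]
    intro (r : R) (s : R) hrs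
    have h1 : r • v = s • v := by
      have h0 : (LinearMap.toSpanSingleton R (Fin m → R) v) r =
          (LinearMap.toSpanSingleton R (Fin m → R) v) s := hrs
      simpa [LinearMap.toSpanSingleton_apply] using h0
    change r = s
    have h2 : (r - s) • v = 0 := by rw [sub_smul, h1, sub_self]
    exact sub_eq_zero.mp (hinj _ h2)
  epi_g := by
    rw [ModuleCat.epi_iff_surjective]
    exact hπ

lemma end_eq (g : ModuleCat.of R R ⟶ ModuleCat.of R R) :
    g = (g.hom (1 : R)) • 𝟙 (ModuleCat.of R R) := by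
  ext
  simp

lemma factor_iff (r : R) :
    (∃ h : ModuleCat.of R (Fin m → R) ⟶ ModuleCat.of R R,
      ModuleCat.ofHom (LinearMap.toSpanSingleton R (Fin m → R) v) ≫ h =
        r • 𝟙 (ModuleCat.of R R)) ↔ r ∈ Ideal.span (Set.range v) := by
  constructor
  · rintro ⟨h, h3⟩
    let ℓ : (Fin m → R) →ₗ[R] R := h.hom
    have h4 : ℓ v = r := by
      have := congrArg (fun φ : ModuleCat.of R R ⟶ ModuleCat.of R R => φ.hom (1 : R)) h3
      simpa [ℓ] using this
    rw [← h4, Ideal.mem_span_range_iff_exists_fun]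
    refine ⟨fun i => ℓ (Pi.single i 1), ?_⟩
    have hv' : v = ∑ i, v i • (Pi.single i (1 : R) : Fin m → R) := by
      funext j
      simp [Finset.sum_apply, Pi.single_apply]
    conv_rhs => rw [hv']
    rw [map_sum]
    apply Finset.sum_congr rfl
    intro i _
    rw [map_smul, smul_eq_mul, mul_comm]
  · intro h
    rw [Ideal.mem_span_range_iff_exists_fun] at h
    obtain ⟨c, hc⟩ := h
    refine ⟨ModuleCat.ofHom (∑ i, c i • LinearMap.proj i), ?_⟩
    ext
    simp only [ModuleCat.hom_comp, ModuleCat.hom_ofHom, LinearMap.comp_apply,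
      LinearMap.toSpanSingleton_apply, one_smul, LinearMap.sum_apply, LinearMap.smul_apply,
      LinearMap.proj_apply, smul_eq_mul]
    rw [hc]
    simp

theorem main (hv : π v = 0) (hπ : Function.Surjective π)
    (hker : LinearMap.ker π ≤ Submodule.span R {v}) (hinj : ∀ r : R, r • v = 0 → r = 0) :
    Subsingleton (Ext (ModuleCat.of R M) (ModuleCat.of R R) 2) ∧
      Nonempty (Ext (ModuleCat.of R M) (ModuleCat.of R R) 1 ≃ₗ[R]
        R ⧸ Ideal.span (Set.range v)) := by
  have hS := sc_shortExact hv hπ hker hinj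
  have : Module.Projective R (ModuleCat.of R R) := inferInstanceAs (Module.Projective R R)
  have : Module.Projective R (ModuleCat.of R (Fin m → R)) :=
    inferInstanceAs (Module.Projective R (Fin m → R))
  have hP1 : Projective (sc v π hv).X₁ := by
    change Projective (ModuleCat.of R R); infer_instance
  have hP2 : Projective (sc v π hv).X₂ := by
    change Projective (ModuleCat.of R (Fin m → R)); infer_instance
  refine ⟨?_, ?_⟩
  · have h0 : ∀ x : Ext (ModuleCat.of R M) (ModuleCat.of R R) 2, x = 0 :=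
      fun x => ext_two_eq_zero hS (ModuleCat.of R R) x
    exact ⟨fun x y => (h0 x).trans (h0 y).symm⟩
  · -- the class
    let ξ : Ext (ModuleCat.of R M) (ModuleCat.of R R) 1 := hS.extClass
    let Δ : R →ₗ[R] Ext (ModuleCat.of R M) (ModuleCat.of R R) 1 :=
      LinearMap.toSpanSingleton R _ ξ
    have hΔ : ∀ r : R, Δ r = ξ.comp (Ext.mk₀ (r • 𝟙 (ModuleCat.of R R))) (add_zero 1) := by
      intro r
      rw [← Ext.smul_eq_comp_mk₀]
      rfl
    have hsurj : Function.Surjective Δ := by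
      intro x
      obtain ⟨g, hg⟩ := ext_one_surj hS (ModuleCat.of R R) x
      let g' : ModuleCat.of R R ⟶ ModuleCat.of R R := g
      have hg' : ξ.comp (Ext.mk₀ g') (add_zero 1) = x := hg
      refine ⟨g'.hom (1 : R), ?_⟩
      rw [hΔ, ← end_eq]
      exact hg'
    have hkerΔ : LinearMap.ker Δ = Ideal.span (Set.range v) := by
      ext r
      rw [LinearMap.mem_ker, hΔ, ← factor_iff]
      exact ext_one_eq_zero_iff hS (ModuleCat.of R R) (r • 𝟙 (ModuleCat.of R R))
    exact ⟨((Submodule.quotEquivOfEq _ _ hkerΔ).symm.trans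
      (LinearMap.quotKerEquivOfSurjective Δ hsurj)).symm⟩

end Groth.Agent.Lib.Helper91.ExtTwoTerm
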