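import Mathlib
import Groth.Agent.Lib.Helper91.ExtTwoTerm

/-!
# `Ext¹(M, R)` for a module with a two-term projective resolution `0 → N₁ → N₂ → M → 0`

`Ext¹(M, R) ≃ Dual N₁ / range (dualMap u)`.
-/

universe u

open CategoryTheory Abelian

namespace Groth.Agent.Lib.Helper91.ExtFreeRes

open Groth.Agent.Lib.Helper91.ExtTwoTerm

variable {R : Type u} [CommRing R]
variable {M N₁ N₂ : Type u} [AddCommGroup M] [Module R M] [AddCommGroup N₁] [Module R N₁]
  [AddCommGroup N₂] [Module R N₂]
  (f : N₁ →ₗ[R] N₂) (π : N₂ →ₗ[R] M)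

/-- the short complex `N₁ --f--> N₂ --π--> M` -/
noncomputable abbrev sc (h : π ∘ₗ f = 0) : ShortComplex (ModuleCat.{u} R) :=
  ShortComplex.mk (X₁ := ModuleCat.of R N₁) (X₂ := ModuleCat.of R N₂)
    (X₃ := ModuleCat.of R M) (ModuleCat.ofHom f) (ModuleCat.ofHom π) (by
      rw [← ModuleCat.ofHom_comp, h]
      rfl)

variable {f π}

lemma sc_shortExact (hf : Function.Injective f) (hπ : Function.Surjective π)
    (hex : Function.Exact f π) :
    (sc f π (hex.linearMap_comp_eq_zero)).ShortExact where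
  exact := by
    rw [ShortComplex.moduleCat_exact_iff]
    intro x hx
    have hx' : π x = 0 := hx
    obtain ⟨y, hy⟩ := (hex x).mp hx'
    exact ⟨y, hy⟩
  mono_f := by
    rw [ModuleCat.mono_iff_injective]
    exact hf
  epi_g := by
    rw [ModuleCat.epi_iff_surjective]
    exact hπ

theorem main [Module.Projective R N₁] [Module.Projective R N₂]
    (hf : Function.Injective f) (hπ : Function.Surjective π) (hex : Function.Exact f π) :
    Nonempty (Ext (ModuleCat.of R M) (ModuleCat.of R R) 1 ≃ₗ[R]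
      Module.Dual R N₁ ⧸ LinearMap.range f.dualMap) := by
  have hS := sc_shortExact hf hπ hex
  have hP1 : Projective (sc f π (hex.linearMap_comp_eq_zero)).X₁ := by
    change Projective (ModuleCat.of R N₁); infer_instance
  have hP2 : Projective (sc f π (hex.linearMap_comp_eq_zero)).X₂ := by
    change Projective (ModuleCat.of R N₂); infer_instance
  let ξ : Ext (ModuleCat.of R M) (ModuleCat.of R N₁) 1 := hS.extClass
  let Δ : Module.Dual R N₁ →ₗ[R] Ext (ModuleCat.of R M) (ModuleCat.of R R) 1 :=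
    { toFun := fun g => ξ.comp (Ext.mk₀ (ModuleCat.ofHom g)) (add_zero 1)
      map_add' := by
        intro g g'
        rw [ModuleCat.ofHom_add, Ext.mk₀_add, Ext.comp_add]
      map_smul' := by
        intro a g
        have h0 : ModuleCat.ofHom (a • g) = a • ModuleCat.ofHom g := rfl
        rw [h0, Ext.mk₀_smul, Ext.comp_smul]
        rfl }
  have hΔ : ∀ g, Δ g = ξ.comp (Ext.mk₀ (ModuleCat.ofHom g)) (add_zero 1) := fun g => rfl
  have hsurj : Function.Surjective Δ := by
    intro x
    obtain ⟨g, hg⟩ := ext_one_surj hS (ModuleCat.of R R) x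
    let g' : ModuleCat.of R N₁ ⟶ ModuleCat.of R R := g
    have hg' : ξ.comp (Ext.mk₀ g') (add_zero 1) = x := hg
    refine ⟨g'.hom, ?_⟩
    rw [hΔ]
    exact hg'
  have hkerΔ : LinearMap.ker Δ = LinearMap.range f.dualMap := by
    ext g
    rw [LinearMap.mem_ker, hΔ]
    have h1 := ext_one_eq_zero_iff hS (ModuleCat.of R R) (ModuleCat.ofHom g)
    constructor
    · intro h
      obtain ⟨h₂, hh₂⟩ := h1.mp h
      let ℓ : N₂ →ₗ[R] R := (show ModuleCat.of R N₂ ⟶ ModuleCat.of R R from h₂).hom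
      refine ⟨ℓ, ?_⟩
      have h3 : (ModuleCat.ofHom f ≫ (show ModuleCat.of R N₂ ⟶ ModuleCat.of R R from h₂)).hom =
          (ModuleCat.ofHom g).hom := congrArg ModuleCat.Hom.hom hh₂
      simpa [ℓ, LinearMap.dualMap_apply'] using h3
    · rintro ⟨ℓ, rfl⟩
      apply h1.mpr
      exact ⟨ModuleCat.ofHom ℓ, rfl⟩
  exact ⟨((Submodule.quotEquivOfEq _ _ hkerΔ).symm.trans
    (LinearMap.quotKerEquivOfSurjective Δ hsurj)).symm⟩

end Groth.Agent.Lib.Helper91.ExtFreeRes
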