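import Mathlib
import Groth.Prelude.Def_Fitting
import Groth.Agent.Lib.Helper10.FittingMinors
import Groth.Agent.Lib.Helper91.ExtFreeRes

/-!
# Fitting ideals of a module with a two-term free resolution and of its `Ext¹`

For `0 → R^c → R^r → M → 0` exact: `Fitt_{r-c}(M) = Fitt_0(Ext¹(M, R))` (both are the ideal of
`c × c` minors of the presentation matrix).
-/

universe u

open CategoryTheory Abelian

namespace Groth.Agent.Lib.Helper91.FittTwoTerm

open Groth.Agent.Lib.Helper10.Fitting

variable {R : Type u} [CommRing R]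
variable {M N₁ N₂ : Type u} [AddCommGroup M] [Module R M] [AddCommGroup N₁] [Module R N₁]
  [AddCommGroup N₂] [Module R N₂] {c r : ℕ}
  (b₁ : Module.Basis (Fin c) R N₁) (b₂ : Module.Basis (Fin r) R N₂)
  (f : N₁ →ₗ[R] N₂) (π : N₂ →ₗ[R] M)

/-- the matrix of `f` -/
noncomputable def U (j : Fin r) (i : Fin c) : R := b₂.repr (f (b₁ i)) j

lemma f_b₁ (i : Fin c) : f (b₁ i) = ∑ j, U b₁ b₂ f j i • b₂ j := by
  unfold U
  exact (b₂.sum_repr (f (b₁ i))).symm

/-- columns of the matrix: relations among the generators `π (b₂ j)` of `M` -/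
noncomputable def SM : Set (Fin r → R) := Set.range fun i : Fin c => fun j => U b₁ b₂ f j i

/-- rows of the matrix: relations among the generators of the cokernel of the dual map -/
noncomputable def SN : Set (Fin c → R) := Set.range fun j : Fin r => fun i => U b₁ b₂ f j i

variable {f π}

lemma SM_subset (hex : Function.Exact f π) : SM b₁ b₂ f ⊆ Rel R (fun j => π (b₂ j)) := by
  rintro _ ⟨i, rfl⟩
  rw [SetLike.mem_coe, mem_Rel]
  simp only [← map_smul, ← map_sum]
  rw [← f_b₁]
  exact hex.apply_apply_eq_zero _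

lemma Rel_le_SM (hex : Function.Exact f π) :
    Rel R (fun j => π (b₂ j)) ≤ Submodule.span R (SM b₁ b₂ f) := by
  intro v hv
  rw [mem_Rel] at hv
  simp only [← map_smul, ← map_sum] at hv
  obtain ⟨n, hn⟩ := (hex _).mp hv
  have h1 : ∑ j, v j • b₂ j = ∑ j, (∑ i, b₁.repr n i * U b₁ b₂ f j i) • b₂ j := by
    rw [← hn]
    conv_lhs => rw [← b₁.sum_repr n]
    rw [map_sum]
    simp only [map_smul, f_b₁ b₁ b₂ f, Finset.smul_sum, smul_smul, Finset.sum_smul]
    rw [Finset.sum_comm]
  have h2 : ∀ j, v j = ∑ i, b₁.repr n i * U b₁ b₂ f j i := by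
    intro j
    have := congrArg (fun m => b₂.repr m j) h1
    simpa [Finsupp.single_apply] using this
  have h3 : v = ∑ i, b₁.repr n i • (fun j => U b₁ b₂ f j i) := by
    funext j
    rw [h2 j]
    simp [Finset.sum_apply]
  rw [h3]
  apply Submodule.sum_mem
  intro i _
  apply Submodule.smul_mem
  exact Submodule.subset_span ⟨i, rfl⟩

/-- the generators of the cokernel of the dual map -/
noncomputable def y (i : Fin c) : Module.Dual R N₁ ⧸ LinearMap.range f.dualMap :=
  Submodule.Quotient.mk (b₁.coord i)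

lemma span_y : Submodule.span R (Set.range (y b₁ (f := f))) = ⊤ := by
  classical
  have h1 : Submodule.span R (Set.range b₁.coord) = ⊤ := by
    rw [← Module.Basis.coe_dualBasis]
    exact b₁.dualBasis.span_eq
  have h2 : Set.range (y b₁ (f := f)) = (LinearMap.range f.dualMap).mkQ '' Set.range b₁.coord := by
    ext z
    constructor
    · rintro ⟨i, rfl⟩
      exact ⟨b₁.coord i, ⟨i, rfl⟩, rfl⟩
    · rintro ⟨_, ⟨i, rfl⟩, rfl⟩
      exact ⟨i, rfl⟩
  rw [h2, ← Submodule.map_span, h1, Submodule.map_top, Submodule.range_mkQ]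

lemma sum_U_coord (j : Fin r) :
    ∑ i, U b₁ b₂ f j i • b₁.coord i = f.dualMap (b₂.coord j) := by
  apply b₁.ext
  intro i'
  simp only [LinearMap.sum_apply, LinearMap.smul_apply, Module.Basis.coord_apply,
    Module.Basis.repr_self, smul_eq_mul, LinearMap.dualMap_apply, Finsupp.single_apply]
  rw [Finset.sum_eq_single i']
  · simp [U]
  · intro i _ hi
    rw [if_neg (Ne.symm hi), mul_zero]
  · intro h
    exact absurd (Finset.mem_univ i') h

lemma SN_subset : SN b₁ b₂ f ⊆ Rel R (y b₁ (f := f)) := by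
  rintro _ ⟨j, rfl⟩
  rw [SetLike.mem_coe, mem_Rel]
  unfold y
  simp only [← Submodule.Quotient.mk_smul]
  simp only [← Submodule.mkQ_apply]
  rw [← map_sum, sum_U_coord, Submodule.mkQ_apply, Submodule.Quotient.mk_eq_zero]
  exact ⟨_, rfl⟩

lemma Rel_le_SN : Rel R (y b₁ (f := f)) ≤ Submodule.span R (SN b₁ b₂ f) := by
  intro w hw
  rw [mem_Rel] at hw
  unfold y at hw
  simp only [← Submodule.Quotient.mk_smul] at hw
  simp only [← Submodule.mkQ_apply] at hw
  rw [← map_sum, Submodule.mkQ_apply, Submodule.Quotient.mk_eq_zero] at hw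
  obtain ⟨h, hh⟩ := hw
  have h2 : ∀ i, w i = ∑ j, h (b₂ j) * U b₁ b₂ f j i := by
    intro i
    have := congrArg (fun g : Module.Dual R N₁ => g (b₁ i)) hh
    simp only [LinearMap.dualMap_apply, LinearMap.sum_apply, LinearMap.smul_apply,
      Module.Basis.coord_apply, Module.Basis.repr_self, smul_eq_mul, Finsupp.single_apply] at this
    rw [Finset.sum_eq_single i] at this
    · rw [if_pos rfl, mul_one] at this
      rw [← this, f_b₁ b₁ b₂ f, map_sum]
      apply Finset.sum_congr rfl
      intro j _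
      rw [map_smul, smul_eq_mul, mul_comm]
    · intro i' _ hi'
      rw [if_neg (Ne.symm hi'), mul_zero]
    · intro hi
      exact absurd (Finset.mem_univ i) hi
  have h3 : w = ∑ j, h (b₂ j) • (fun i => U b₁ b₂ f j i) := by
    funext i
    rw [h2 i]
    simp [Finset.sum_apply]
  rw [h3]
  apply Submodule.sum_mem
  intro j _
  apply Submodule.smul_mem
  exact Submodule.subset_span ⟨j, rfl⟩

lemma minors_eq : Minors (SM b₁ b₂ f) c = Minors (SN b₁ b₂ f) c := by
  unfold Minors
  congr 1
  ext d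
  constructor
  · rintro ⟨z, e, hz, rfl⟩
    choose i hi using hz
    refine ⟨fun b => fun i' => U b₁ b₂ f (e b) i', i, fun b => ⟨e b, rfl⟩, ?_⟩
    rw [← Matrix.det_transpose]
    congr 1
    ext a b
    simp only [Matrix.transpose_apply, Matrix.of_apply]
    rw [← hi a]
  · rintro ⟨z, e, hz, rfl⟩
    choose j hj using hz
    refine ⟨fun b => fun j' => U b₁ b₂ f j' (e b), j, fun b => ⟨e b, rfl⟩, ?_⟩
    rw [← Matrix.det_transpose]
    congr 1
    ext a b
    simp only [Matrix.transpose_apply, Matrix.of_apply]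
    rw [← hj a]

include b₁ b₂ in
theorem main (hf : Function.Injective f) (hπ : Function.Surjective π)
    (hex : Function.Exact f π) :
    Fitt.ideal R M (r - c) =
      Fitt.ideal R (Ext.{u} (ModuleCat.of R M) (ModuleCat.of R R) 1) 0 := by
  classical
  rcases subsingleton_or_nontrivial R with hR | hR
  · exact Subsingleton.elim _ _
  have hcr : c ≤ r := by
    have hli : LinearIndependent R (fun i => f (b₁ i)) :=
      b₁.linearIndependent.map' f (LinearMap.ker_eq_bot.mpr hf)
    have := b₂.card_le_card_of_linearIndependent hli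
    simpa using this
  have : Module.Projective R N₁ := Module.Projective.of_basis b₁
  have : Module.Projective R N₂ := Module.Projective.of_basis b₂
  obtain ⟨e⟩ := ExtFreeRes.main hf hπ hex
  have hx : Submodule.span R (Set.range fun j => π (b₂ j)) = ⊤ := by
    have h2 : (Set.range fun j => π (b₂ j)) = π '' Set.range b₂ := by
      ext z
      constructor
      · rintro ⟨j, rfl⟩
        exact ⟨b₂ j, ⟨j, rfl⟩, rfl⟩
      · rintro ⟨_, ⟨j, rfl⟩, rfl⟩
        exact ⟨j, rfl⟩
    rw [h2, ← Submodule.map_span, b₂.span_eq, Submodule.map_top, LinearMap.range_eq_top.mpr hπ]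
  rw [fitt_eq_G _ hx, G_eq_Minors _ (SM b₁ b₂ f) (SM_subset b₁ b₂ hex) (Rel_le_SM b₁ b₂ hex) c
    (r - c) (by rw [Fintype.card_fin]; omega)]
  rw [fitt_congr e 0, fitt_eq_G _ (span_y b₁ (f := f)),
    G_eq_Minors _ (SN b₁ b₂ f) (SN_subset b₁ b₂) (Rel_le_SN b₁ b₂) c 0
      (by rw [Fintype.card_fin]; rfl)]
  exact minors_eq b₁ b₂

end Groth.Agent.Lib.Helper91.FittTwoTerm
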