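import Mathlib
import Groth.Agent.Lib.Helper10.LciJacobian
import Groth.Agent.Lib.Helper94.KoszulBridge
import Groth.Agent.Lib.Helper91.FittTwoTerm

/-!
# Kähler differentials of a reduced complete intersection over a perfect field

`0 → I/I² → B ⊗ Ω_P → Ω_B → 0` is exact with `I/I²` free on the generators.
-/

universe u

open TensorProduct

namespace Groth.Agent.Lib.Helper91.CIOmega

open Groth.Agent.Lib.Helper89.JacCrit Groth.Agent.Lib.Helper10.LciJacobian

section field

/-- the localization of a reduced ring at a minimal prime is a field -/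
lemma isField_localization_of_minimal {B : Type*} [CommRing B] [IsReduced B] (p : Ideal B)
    [p.IsPrime] (hp : p ∈ minimalPrimes B) : IsField (Localization.AtPrime p) := by
  rw [IsLocalRing.isField_iff_maximalIdeal_eq]
  have h1 := IsLocalization.AtPrime.radical_map_of_mem_minimalPrimes
    (A := Localization.AtPrime p) p ⊥ hp
  rw [IsLocalization.AtPrime.map_eq_maximalIdeal p (Localization.AtPrime p), Ideal.map_bot] at h1
  rw [← h1]
  exact nilradical_eq_zero _

lemma formallySmooth_localization_of_minimal {k B : Type*} [Field k] [PerfectField k]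
    [CommRing B] [Algebra k B] [Algebra.FiniteType k B] [IsReduced B] (p : Ideal B)
    [p.IsPrime] (hp : p ∈ minimalPrimes B) :
    Algebra.FormallySmooth k (Localization.AtPrime p) := by
  have hF := isField_localization_of_minimal p hp
  let _ : Field (Localization.AtPrime p) := hF.toField
  have h1 : Algebra.EssFiniteType B (Localization.AtPrime p) :=
    .of_isLocalization _ p.primeCompl
  have h2 : Algebra.EssFiniteType k (Localization.AtPrime p) := .comp k B _
  exact Algebra.FormallySmooth.of_perfectField

end field

lemma isH1Regular_cast {R : Type u} [CommRing R] : ∀ (n m : ℕ) (h : n = m) (f : Fin m → R),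
    CAlgX.IsH1Regular (f ∘ Fin.cast h) → CAlgX.IsH1Regular f := by
  intro n m h
  subst h
  intro f hf
  have : f ∘ Fin.cast rfl = f := by
    funext i
    simp
  rwa [this] at hf

lemma isH1Regular_of_isRegular_ofFn {R : Type u} [CommRing R] {c : ℕ} (a : Fin c → R)
    (ha : RingTheory.Sequence.IsRegular R (List.ofFn a)) : CAlgX.IsH1Regular a := by
  have h1 := Groth.Agent.Lib.Helper10.KoszulH1.isH1Regular_of_isKoszulRegularSeq (List.ofFn a)
    (Groth.Agent.Lib.Helper94.isKoszulRegularSeq_of_isRegular R (List.ofFn a) ha)
  apply isH1Regular_cast _ _ (List.length_ofFn (f := a))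
  convert h1 using 1
  funext i
  simp only [Function.comp_apply, List.get_eq_getElem, List.getElem_ofFn]
  rfl

section main

variable {k P B : Type u} [Field k] [CommRing P] [CommRing B] [Algebra k P] [Algebra P B]
  [Algebra k B] [IsScalarTower k P B] [Algebra.FormallySmooth k P] [PerfectField k]
  [Algebra.FiniteType k B] [IsReduced B]
  (hsurj : Function.Surjective (algebraMap P B)) {c : ℕ} (a : Fin c → P)
  (hrs : Ideal.span (Set.range a) = RingHom.ker (algebraMap P B))
  (hH1 : CAlgX.IsH1Regular a)

/-- the basis of the conormal module given by a regular sequence -/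
noncomputable def b₁ : Module.Basis (Fin c) B (ext (A := k) hsurj).Cotangent :=
  Module.Basis.mk (linearIndependent_tgen (A := k) hsurj a hrs hH1)
    (span_tgen (A := k) hsurj a hrs).ge

include a hrs hH1 in
theorem cotangentComplex_injective :
    Function.Injective (ext (A := k) hsurj).cotangentComplex := by
  classical
  rw [← LinearMap.ker_eq_bot, LinearMap.ker_eq_bot']
  intro x hx
  have hcoord : ∀ i, (b₁ (k := k) hsurj a hrs hH1).repr x i = 0 := by
    intro i
    have hnil : (b₁ (k := k) hsurj a hrs hH1).repr x i ∈ (⊥ : Ideal B).radical := by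
      rw [← Ideal.sInf_minimalPrimes, Ideal.mem_sInf]
      intro p hp
      have := hp.1.1
      have hfs := formallySmooth_localization_of_minimal (k := k) p hp
      have hinj := injective_of_formallySmooth_atPrime (A := k) hsurj p hfs
      have h1 : ((ext (A := k) hsurj).cotangentComplex.baseChange p.ResidueField)
          ((1 : p.ResidueField) ⊗ₜ[B] x) = 0 := by
        rw [LinearMap.baseChange_tmul, hx, TensorProduct.tmul_zero]
      have h2 : (1 : p.ResidueField) ⊗ₜ[B] x = 0 := hinj (h1.trans (map_zero _).symm)
      have h3 := congrArg (fun t =>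
        ((b₁ (k := k) hsurj a hrs hH1).baseChange p.ResidueField).repr t i) h2
      simp only [Module.Basis.baseChange_repr_tmul, map_zero, Finsupp.zero_apply] at h3
      rw [← Algebra.algebraMap_eq_smul_one, Ideal.algebraMap_residueField_eq_zero] at h3
      exact h3
    have h0 : (⊥ : Ideal B).radical = ⊥ := nilradical_eq_zero B
    rw [h0] at hnil
    exact hnil
  apply (b₁ (k := k) hsurj a hrs hH1).repr.injective
  ext i
  rw [hcoord i]
  simp

end main

open CategoryTheory in
theorem fitt_eq (k : Type u) [Field k] [IsAlgClosed k] (r c : ℕ)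
    (B : Type u) [CommRing B] [Algebra k B] [IsReduced B]
    (φ : MvPolynomial (Fin r) k →ₐ[k] B) (hφ : Function.Surjective φ)
    (a : Fin c → MvPolynomial (Fin r) k)
    (ha : RingTheory.Sequence.IsRegular (MvPolynomial (Fin r) k) (List.ofFn a))
    (hker : RingHom.ker φ.toRingHom = Ideal.span (Set.range a)) :
    Fitt.ideal B (KaehlerDifferential k B) (r - c) =
      Fitt.ideal B (Abelian.Ext.{u} (ModuleCat.of B (KaehlerDifferential k B))
        (ModuleCat.of B B) 1) 0 := by
  let _ : Algebra (MvPolynomial (Fin r) k) B := φ.toRingHom.toAlgebra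
  have hst : IsScalarTower k (MvPolynomial (Fin r) k) B :=
    IsScalarTower.of_algebraMap_eq (fun x => (φ.commutes x).symm)
  have hsurj : Function.Surjective (algebraMap (MvPolynomial (Fin r) k) B) := hφ
  have hft : Algebra.FiniteType k B := Algebra.FiniteType.of_surjective φ hφ
  have hrs : Ideal.span (Set.range a) = RingHom.ker (algebraMap (MvPolynomial (Fin r) k) B) :=
    hker.symm
  have hH1 := isH1Regular_of_isRegular_ofFn a ha
  let b₂ : Module.Basis (Fin r) B (ext (A := k) hsurj).CotangentSpace :=
    (KaehlerDifferential.mvPolynomialBasis k (Fin r)).baseChange B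
  exact FittTwoTerm.main (b₁ (k := k) hsurj a hrs hH1) b₂
    (cotangentComplex_injective (k := k) hsurj a hrs hH1)
    (ext (A := k) hsurj).toKaehler_surjective
    (ext (A := k) hsurj).exact_cotangentComplex_toKaehler

end Groth.Agent.Lib.Helper91.CIOmega
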