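import Mathlib

/-!
# The `t`-adic completion of a polynomial ring `Λ[T_σ]`

`Ã = AdicCompletion (span {C t}) (MvPolynomial σ Λ)`.

* `approx`: every `f : Ã` is `of p + t ^ n * g` with `p` a polynomial.
* `Dc i : Derivation Λ Ã Ã`: the continuous extension of `∂/∂T_i`.
* `rho`: the reduction map `Ã → κ[T_σ]` for a surjection `Λ → κ` with kernel `(t)`.
-/

universe u v

open MvPolynomial

namespace Groth.Agent.Lib.Helper91.ComplPoly

variable {Λ : Type u} [CommRing Λ] (t : Λ) (σ : Type v)

/-- the ideal `(t)` of the polynomial ring -/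
noncomputable abbrev I : Ideal (MvPolynomial σ Λ) := Ideal.span {MvPolynomial.C (σ := σ) t}

/-- the `t`-adically completed polynomial ring -/
abbrev At : Type (max u v) := AdicCompletion (I t σ) (MvPolynomial σ Λ)

lemma I_fg : (I t σ).FG := ⟨{MvPolynomial.C t}, by simp⟩

lemma I_pow (n : ℕ) : (I t σ) ^ n = Ideal.span {MvPolynomial.C (σ := σ) (t ^ n)} := by
  rw [I, Ideal.span_singleton_pow, map_pow]

lemma algebraMap_t_pow (n : ℕ) :
    algebraMap Λ (At t σ) (t ^ n) = AdicCompletion.of (I t σ) _ (MvPolynomial.C (t ^ n)) := rfl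

/-- polynomial approximation modulo `t ^ n` -/
theorem approx (f : At t σ) (n : ℕ) :
    ∃ (p : MvPolynomial σ Λ) (g : At t σ),
      f = AdicCompletion.of (I t σ) _ p + algebraMap Λ (At t σ) (t ^ n) * g := by
  obtain ⟨p, hp⟩ := Submodule.Quotient.mk_surjective _ (f.val n)
  have h1 : f - AdicCompletion.of (I t σ) _ p ∈
      LinearMap.ker (AdicCompletion.eval (I t σ) (MvPolynomial σ Λ) n) := by
    rw [LinearMap.mem_ker, map_sub, AdicCompletion.eval_of, AdicCompletion.eval_apply,
      Submodule.mkQ_apply, hp, sub_self]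
  rw [← AdicCompletion.pow_smul_top_eq_ker_eval (I_fg t σ), I_pow,
    Submodule.ideal_span_singleton_smul, Submodule.mem_smul_pointwise_iff_exists] at h1
  obtain ⟨g, -, hg⟩ := h1
  refine ⟨p, g, ?_⟩
  rw [algebraMap_t_pow, ← sub_eq_iff_eq_add', ← hg, Algebra.smul_def]
  rfl

section deriv

variable {t σ}

lemma pderiv_mem (i : σ) (n : ℕ) {x : MvPolynomial σ Λ}
    (hx : x ∈ ((I t σ) ^ n • ⊤ : Submodule (MvPolynomial σ Λ) (MvPolynomial σ Λ))) :
    pderiv i x ∈ ((I t σ) ^ n • ⊤ : Submodule (MvPolynomial σ Λ) (MvPolynomial σ Λ)) := by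
  rw [I_pow, Submodule.ideal_span_singleton_smul, Submodule.mem_smul_pointwise_iff_exists] at hx ⊢
  obtain ⟨y, -, rfl⟩ := hx
  refine ⟨pderiv i y, trivial, ?_⟩
  rw [smul_eq_mul, smul_eq_mul, Derivation.leibniz, pderiv_C, smul_zero, add_zero, smul_eq_mul]

/-- the map induced by `∂/∂T_i` on `Λ[T]/t^n` -/
noncomputable def Qn (i : σ) (n : ℕ) :
    (MvPolynomial σ Λ ⧸ ((I t σ) ^ n • ⊤ : Submodule (MvPolynomial σ Λ) (MvPolynomial σ Λ))) →ₗ[Λ]
      (MvPolynomial σ Λ ⧸ ((I t σ) ^ n • ⊤ : Submodule (MvPolynomial σ Λ) (MvPolynomial σ Λ))) :=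
  (Submodule.Quotient.restrictScalarsEquiv Λ _).toLinearMap ∘ₗ
    (Submodule.mapQ (((I t σ) ^ n • ⊤ : Submodule (MvPolynomial σ Λ)
        (MvPolynomial σ Λ)).restrictScalars Λ)
      (((I t σ) ^ n • ⊤ : Submodule (MvPolynomial σ Λ) (MvPolynomial σ Λ)).restrictScalars Λ)
      (pderiv i).toLinearMap (fun x hx => pderiv_mem i n hx)) ∘ₗ
    (Submodule.Quotient.restrictScalarsEquiv Λ _).symm.toLinearMap

lemma Qn_mk (i : σ) (n : ℕ) (x : MvPolynomial σ Λ) :
    Qn (t := t) i n (Submodule.Quotient.mk x) = Submodule.Quotient.mk (pderiv i x) := rfl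

/-- the continuous extension of `∂/∂T_i` to the completion, as a linear map -/
noncomputable def DcLin (i : σ) : At t σ →ₗ[Λ] At t σ where
  toFun x := ⟨fun n => Qn i n (x.val n), by
    intro m n hmn
    obtain ⟨y, hy⟩ := Submodule.Quotient.mk_surjective _ (x.val n)
    have h1 : x.val m = Submodule.Quotient.mk y := by
      rw [← x.property hmn, ← hy]
      rfl
    change AdicCompletion.transitionMap _ _ hmn (Qn i n (x.val n)) = Qn i m (x.val m)
    rw [h1, ← hy, Qn_mk, Qn_mk]
    rfl⟩
  map_add' x y := by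
    apply AdicCompletion.ext
    intro n
    change Qn i n ((x + y).val n) = Qn i n (x.val n) + Qn i n (y.val n)
    rw [AdicCompletion.val_add_apply, map_add]
  map_smul' a x := by
    apply AdicCompletion.ext
    intro n
    change Qn i n ((a • x).val n) = a • Qn i n (x.val n)
    rw [AdicCompletion.val_smul_apply, map_smul]

lemma DcLin_val (i : σ) (x : At t σ) (n : ℕ) : (DcLin i x).val n = Qn i n (x.val n) := rfl

lemma DcLin_of (i : σ) (p : MvPolynomial σ Λ) :
    DcLin (t := t) i (AdicCompletion.of _ _ p) = AdicCompletion.of _ _ (pderiv i p) := by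
  apply AdicCompletion.ext
  intro n
  rw [DcLin_val, AdicCompletion.of_apply, AdicCompletion.of_apply, Submodule.mkQ_apply,
    Submodule.mkQ_apply, Qn_mk]

lemma DcLin_mul (i : σ) (x y : At t σ) :
    DcLin i (x * y) = x * DcLin i y + y * DcLin i x := by
  apply AdicCompletion.ext
  intro n
  rw [DcLin_val, AdicCompletion.val_add_apply, AdicCompletion.val_mul, AdicCompletion.val_mul,
    AdicCompletion.val_mul, DcLin_val, DcLin_val]
  obtain ⟨u, hu⟩ := Ideal.Quotient.mk_surjective (x.val n)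
  obtain ⟨v, hv⟩ := Ideal.Quotient.mk_surjective (y.val n)
  rw [← hu, ← hv, ← map_mul]
  change Qn i n (Submodule.Quotient.mk (u * v)) =
    Ideal.Quotient.mk _ u * Qn i n (Submodule.Quotient.mk v) +
      Ideal.Quotient.mk _ v * Qn i n (Submodule.Quotient.mk u)
  rw [Qn_mk, Qn_mk, Qn_mk, Derivation.leibniz]
  change Ideal.Quotient.mk _ (u * pderiv i v + v * pderiv i u) = _
  rw [map_add, map_mul, map_mul]
  rfl

/-- the continuous extension of `∂/∂T_i` to the completion -/
noncomputable def Dc (i : σ) : Derivation Λ (At t σ) (At t σ) :=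
  Derivation.mk' (DcLin i) (fun x y => by
    rw [DcLin_mul, smul_eq_mul, smul_eq_mul])

@[simp] lemma Dc_of (i : σ) (p : MvPolynomial σ Λ) :
    Dc (t := t) i (AdicCompletion.of _ _ p) = AdicCompletion.of _ _ (pderiv i p) :=
  DcLin_of i p

end deriv

section rho

variable {t σ}
variable {κ : Type*} [CommRing κ] (cc : Λ →+* κ)
  (hker : RingHom.ker cc = Ideal.span {t})

include hker in
lemma ker_map_eq : RingHom.ker (MvPolynomial.map (σ := σ) cc) = I t σ := by
  rw [MvPolynomial.ker_map, hker, Ideal.map_span, Set.image_singleton]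

/-- reduction modulo `t` -/
noncomputable def rho : At t σ →+* MvPolynomial σ κ :=
  (Ideal.Quotient.lift (I t σ) (MvPolynomial.map cc) (fun x hx => by
    rw [← ker_map_eq cc hker, RingHom.mem_ker] at hx
    exact hx)).comp (AdicCompletion.evalOneₐ (I t σ)).toRingHom

@[simp] lemma rho_of (p : MvPolynomial σ Λ) :
    rho cc hker (AdicCompletion.of _ _ p) = MvPolynomial.map cc p := by
  rw [rho, RingHom.comp_apply]
  change Ideal.Quotient.lift (I t σ) (MvPolynomial.map cc) _
    (AdicCompletion.evalOneₐ (I t σ) (AdicCompletion.of _ _ p)) = _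
  rw [AdicCompletion.evalOneₐ_of, Ideal.Quotient.lift_mk]

lemma rho_algebraMap (a : Λ) :
    rho (σ := σ) cc hker (algebraMap Λ _ a) = MvPolynomial.C (cc a) := by
  rw [AdicCompletion.algebraMap_apply, rho_of, MvPolynomial.algebraMap_eq, MvPolynomial.map_C]

lemma rho_t : rho (σ := σ) cc hker (algebraMap Λ _ t) = 0 := by
  rw [rho_algebraMap]
  have : cc t = 0 := by
    rw [← RingHom.mem_ker, hker]
    exact Ideal.mem_span_singleton_self t
  rw [this, map_zero]

lemma rho_surjective (hc : Function.Surjective cc) :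
    Function.Surjective (rho (σ := σ) cc hker) := by
  intro y
  obtain ⟨p, rfl⟩ := MvPolynomial.map_surjective cc hc y
  exact ⟨AdicCompletion.of _ _ p, rho_of cc hker p⟩

lemma ker_rho : RingHom.ker (rho (σ := σ) cc hker) = Ideal.span {algebraMap Λ (At t σ) t} := by
  have h1 : RingHom.ker (rho (σ := σ) cc hker) =
      RingHom.ker (AdicCompletion.evalOneₐ (I t σ)).toRingHom := by
    ext x
    rw [RingHom.mem_ker, RingHom.mem_ker, rho, RingHom.comp_apply]
    refine ⟨fun h => ?_, fun h => by rw [h, map_zero]⟩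
    refine RingHom.lift_injective_of_ker_le_ideal (I t σ) _ ?_ (h.trans (map_zero _).symm)
    rw [ker_map_eq cc hker]
  rw [h1]
  refine (AdicCompletion.ker_evalOneₐ_eq_map (I t σ) (I_fg t σ)).trans ?_
  rw [Ideal.map_span, Set.image_singleton]
  rfl

lemma rho_Dc (i : σ) (f : At t σ) :
    rho cc hker (Dc i f) = pderiv i (rho cc hker f) := by
  obtain ⟨p, g, rfl⟩ := approx t σ f 1
  have h0 : Dc (t := t) i (algebraMap Λ (At t σ) t) = 0 := Derivation.map_algebraMap _ _
  rw [map_add, Derivation.leibniz, map_add, map_add, map_add, Dc_of, rho_of, rho_of,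
    pow_one, smul_eq_mul, smul_eq_mul, map_mul, map_mul, map_mul,
    rho_t, zero_mul, zero_mul, h0, map_zero, mul_zero, add_zero, add_zero, add_zero,
    MvPolynomial.pderiv_map]

end rho

end Groth.Agent.Lib.Helper91.ComplPoly
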