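import Mathlib
import Groth.Agent.Lib.Helper91.ComplPoly
import Groth.Agent.Lib.Helper91.AdicAux

/-!
# Completed differentials of a quotient of a completed polynomial ring

`B = Ã/(a_1..a_c)`, `Ã` the `t`-adic completion of `Λ[T_1..T_r]`.  The completed module of
differentials `Ω̂_{B/Λ}` has the presentation `B^c --J--> B^r --π--> Ω̂ → 0`.
-/

universe u

open MvPolynomial

namespace Groth.Agent.Lib.Helper91.FormalOmega

open Groth.Agent.Lib.Helper91.ComplPoly

section chain

variable {Λ : Type*} [CommRing Λ] {σ : Type*} [Fintype σ] [DecidableEq σ]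
  {B : Type*} [CommRing B] [Algebra Λ B]

/-- chain rule for polynomials -/
theorem chain_rule (g : MvPolynomial σ Λ →ₐ[Λ] B) (p : MvPolynomial σ Λ) :
    KaehlerDifferential.D Λ B (g p) =
      ∑ i, g (pderiv i p) • KaehlerDifferential.D Λ B (g (X i)) := by
  induction p using MvPolynomial.induction_on with
  | C a =>
    rw [← MvPolynomial.algebraMap_eq, AlgHom.commutes, Derivation.map_algebraMap]
    simp
  | add p q hp hq =>
    simp only [map_add, hp, hq, add_smul, Finset.sum_add_distrib]
  | mul_X p j hp =>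
    rw [map_mul, Derivation.leibniz, hp, Finset.smul_sum]
    simp only [Derivation.leibniz, pderiv_X, smul_eq_mul, map_add, map_mul, add_smul]
    rw [Finset.sum_add_distrib]
    congr 1
    · rw [Finset.sum_eq_single j]
      · simp
      · intro b _ hb
        simp [Pi.single_apply, hb]
      · simp
    · apply Finset.sum_congr rfl
      intro i _
      rw [smul_smul, mul_comm]

end chain

section regular

variable {B : Type*} [CommRing B] (τ : B) {α β : Type*}
  (L : (α → B) →ₗ[B] (β → B))

/-- if `τ` is regular and `L` is injective modulo `τ`, then `L` is injective modulo `τ ^ n` -/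
theorem mem_pow_of_map_mem_pow (hτ : IsSMulRegular B τ)
    (hL : ∀ v, (∀ i, L v i ∈ Ideal.span {τ}) → ∀ j, v j ∈ Ideal.span {τ}) (n : ℕ) :
    ∀ v, (∀ i, L v i ∈ Ideal.span {τ ^ n}) → ∀ j, v j ∈ Ideal.span {τ ^ n} := by
  induction n with
  | zero =>
    intro v _ j
    rw [pow_zero, Ideal.span_singleton_one]
    trivial
  | succ n ih =>
    intro v hv j
    have h1 : ∀ j, v j ∈ Ideal.span {τ ^ n} := by
      apply ih
      intro i
      obtain ⟨u, hu⟩ := Ideal.mem_span_singleton'.mp (hv i)
      rw [Ideal.mem_span_singleton']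
      exact ⟨u * τ, by rw [← hu, pow_succ, mul_assoc, mul_comm τ]⟩
    choose w hw using fun j => Ideal.mem_span_singleton'.mp (h1 j)
    have hvw : v = τ ^ n • w := by
      funext j
      rw [Pi.smul_apply, smul_eq_mul, mul_comm, hw j]
    have h2 : ∀ i, L w i ∈ Ideal.span {τ} := by
      intro i
      obtain ⟨u, hu⟩ := Ideal.mem_span_singleton'.mp (hv i)
      rw [hvw, map_smul, Pi.smul_apply, smul_eq_mul, pow_succ, ← mul_assoc, mul_comm u,
        mul_assoc] at hu
      have h3 := (hτ.pow n) hu
      rw [Ideal.mem_span_singleton']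
      exact ⟨u, h3⟩
    obtain ⟨z, hz⟩ := Ideal.mem_span_singleton'.mp (hL w h2 j)
    rw [Ideal.mem_span_singleton']
    exact ⟨z, by rw [← hw j, ← hz, pow_succ]; ring⟩

theorem injective_of_mod (hτ : IsSMulRegular B τ) [IsHausdorff (Ideal.span {τ}) B]
    (hL : ∀ v, (∀ i, L v i ∈ Ideal.span {τ}) → ∀ j, v j ∈ Ideal.span {τ}) :
    Function.Injective L := by
  rw [← LinearMap.ker_eq_bot, LinearMap.ker_eq_bot']
  intro v hv
  funext j
  refine IsHausdorff.haus' (I := Ideal.span {τ}) (v j) (fun n => ?_)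
  rw [SModEq.zero, smul_eq_mul, Ideal.mul_top, Ideal.span_singleton_pow]
  refine mem_pow_of_map_mem_pow τ L hτ hL n v (fun i => ?_) j
  rw [hv]
  exact Submodule.zero_mem _

end regular

section main

variable {Λ : Type u} [CommRing Λ] (t : Λ) {r c : ℕ}
  {B : Type u} [CommRing B] [Algebra Λ B]
  (ψ : At t (Fin r) →ₐ[Λ] B) (a : Fin c → At t (Fin r))

/-- the ideal `(t)` of `B` -/
abbrev tB (B : Type u) [CommRing B] [Algebra Λ B] : Ideal B := Ideal.span {algebraMap Λ B t}

/-- the completed differentials -/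
abbrev OmegaHat (B : Type u) [CommRing B] [Algebra Λ B] : Type u :=
  AdicCompletion (tB t B) (Ω[B⁄Λ])

/-- the polynomial part of `ψ` -/
noncomputable def psi0 : MvPolynomial (Fin r) Λ →ₐ[Λ] B :=
  ψ.comp (IsScalarTower.toAlgHom Λ (MvPolynomial (Fin r) Λ) (At t (Fin r)))

lemma psi0_apply (p : MvPolynomial (Fin r) Λ) :
    psi0 t ψ p = ψ (AdicCompletion.of _ _ p) := rfl

/-- the gradient -/
noncomputable def dd (f : At t (Fin r)) : Fin r → B := fun i => ψ (Dc i f)

/-- the differentials of the coordinates -/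
noncomputable def omega (i : Fin r) : Ω[B⁄Λ] :=
  KaehlerDifferential.D Λ B (ψ (AdicCompletion.of _ _ (X i)))

/-- the Jacobian map -/
noncomputable def J : (Fin c → B) →ₗ[B] (Fin r → B) :=
  Fintype.linearCombination B (fun j => dd t ψ (a j))

/-- the presentation map -/
noncomputable def piM : (Fin r → B) →ₗ[B] OmegaHat t B :=
  Fintype.linearCombination B (fun i => AdicCompletion.of (tB t B) (Ω[B⁄Λ]) (omega t ψ i))

lemma dd_of (p : MvPolynomial (Fin r) Λ) (i : Fin r) :
    dd t ψ (AdicCompletion.of _ _ p) i = psi0 t ψ (pderiv i p) := by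
  rw [dd, Dc_of, psi0_apply]

lemma dd_add (f g : At t (Fin r)) : dd t ψ (f + g) = dd t ψ f + dd t ψ g := by
  funext i
  simp [dd]

lemma dd_mul (f g : At t (Fin r)) : dd t ψ (f * g) = ψ f • dd t ψ g + ψ g • dd t ψ f := by
  funext i
  simp [dd, Derivation.leibniz]

lemma dd_algebraMap_mul (x : Λ) (g : At t (Fin r)) :
    dd t ψ (algebraMap Λ _ x * g) = algebraMap Λ B x • dd t ψ g := by
  funext i
  rw [dd, ← Algebra.smul_def, Derivation.map_smul, Pi.smul_apply, dd, Algebra.smul_def,
    map_mul, AlgHom.commutes, smul_eq_mul]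

theorem key1 (f : At t (Fin r)) (n : ℕ) :
    (∑ i, dd t ψ f i • omega t ψ i) - KaehlerDifferential.D Λ B (ψ f) ∈
      ((tB t B) ^ n • ⊤ : Submodule B (Ω[B⁄Λ])) := by
  classical
  obtain ⟨p, g, rfl⟩ := approx t (Fin r) f n
  have h1 : KaehlerDifferential.D Λ B (ψ (AdicCompletion.of _ _ p)) =
      ∑ i, dd t ψ (AdicCompletion.of _ _ p) i • omega t ψ i := by
    rw [← psi0_apply, chain_rule (psi0 t ψ) p]
    apply Finset.sum_congr rfl
    intro i _
    rw [dd_of, omega, psi0_apply, psi0_apply]
  have h2 : KaehlerDifferential.D Λ B (ψ (algebraMap Λ _ (t ^ n) * g)) =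
      algebraMap Λ B (t ^ n) • KaehlerDifferential.D Λ B (ψ g) := by
    rw [map_mul, AlgHom.commutes, ← Algebra.smul_def, Derivation.map_smul, algebraMap_smul]
  have h3 : (∑ i, dd t ψ (AdicCompletion.of _ _ p + algebraMap Λ _ (t ^ n) * g) i • omega t ψ i) -
      KaehlerDifferential.D Λ B (ψ (AdicCompletion.of _ _ p + algebraMap Λ _ (t ^ n) * g)) =
      algebraMap Λ B (t ^ n) • ((∑ i, dd t ψ g i • omega t ψ i) -
        KaehlerDifferential.D Λ B (ψ g)) := by
    rw [map_add, map_add, h1, h2, dd_add, dd_algebraMap_mul, smul_sub, Finset.smul_sum]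
    simp only [Pi.add_apply, Pi.smul_apply, add_smul, Finset.sum_add_distrib, smul_eq_mul,
      mul_smul]
    abel
  rw [h3]
  refine Submodule.smul_mem_smul ?_ Submodule.mem_top
  rw [map_pow]
  exact Ideal.pow_mem_pow (Ideal.mem_span_singleton_self _) n

lemma piM_apply (w : Fin r → B) :
    piM t ψ w = AdicCompletion.of (tB t B) (Ω[B⁄Λ]) (∑ i, w i • omega t ψ i) := by
  rw [piM, Fintype.linearCombination_apply, map_sum]
  apply Finset.sum_congr rfl
  intro i _
  rw [map_smul]

lemma J_single (j : Fin c) (x : B) [DecidableEq (Fin c)] :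
    J t ψ a (Pi.single j x) = x • dd t ψ (a j) := by
  rw [J, Fintype.linearCombination_apply_single]

lemma of_eq_zero_of_forall_mem {I : Ideal B} {M : Type*} [AddCommGroup M] [Module B M] (x : M)
    (h : ∀ n, x ∈ (I ^ n • ⊤ : Submodule B M)) : AdicCompletion.of I M x = 0 := by
  apply AdicCompletion.ext
  intro n
  rw [AdicCompletion.of_apply, Submodule.mkQ_apply, AdicCompletion.val_zero_apply,
    Submodule.Quotient.mk_eq_zero]
  exact h n

theorem piM_comp_J (hψa : ∀ j, ψ (a j) = 0) : piM t ψ ∘ₗ J t ψ a = 0 := by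
  classical
  apply LinearMap.pi_ext
  intro j x
  rw [LinearMap.comp_apply, J_single, map_smul, LinearMap.zero_apply, piM_apply]
  rw [of_eq_zero_of_forall_mem, smul_zero]
  intro n
  have := key1 t ψ (a j) n
  rwa [hψa j, map_zero, sub_zero] at this

lemma tB_fg : (tB t B).FG := ⟨{algebraMap Λ B t}, by simp⟩

/-- every differential is a combination of the `dT_i` modulo `t` -/
lemma exists_approx_omega (hψ : Function.Surjective ψ) (ω : Ω[B⁄Λ]) :
    ∃ w : Fin r → B, ω - ∑ i, w i • omega t ψ i ∈ (tB t B • ⊤ : Submodule B (Ω[B⁄Λ])) := by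
  have hω : ω ∈ Submodule.span B (Set.range (KaehlerDifferential.D Λ B)) := by
    rw [KaehlerDifferential.span_range_derivation]
    trivial
  induction hω using Submodule.span_induction with
  | mem x hx =>
    obtain ⟨b, rfl⟩ := hx
    obtain ⟨f, rfl⟩ := hψ b
    refine ⟨dd t ψ f, ?_⟩
    have := key1 t ψ f 1
    rw [pow_one] at this
    rw [← neg_sub]
    exact Submodule.neg_mem _ this
  | zero => exact ⟨0, by simp⟩
  | add x y _ _ hx hy =>
    obtain ⟨w, hw⟩ := hx
    obtain ⟨w', hw'⟩ := hy
    refine ⟨w + w', ?_⟩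
    have := Submodule.add_mem _ hw hw'
    convert this using 1
    simp only [Pi.add_apply, add_smul, Finset.sum_add_distrib]
    abel
  | smul b x _ hx =>
    obtain ⟨w, hw⟩ := hx
    refine ⟨b • w, ?_⟩
    have := Submodule.smul_mem _ b hw
    convert this using 1
    simp only [Pi.smul_apply, smul_eq_mul, mul_smul, smul_sub, Finset.smul_sum]

/-- every differential is a combination of the `dT_i` modulo `t ^ m` -/
lemma exists_approx_omega_pow (hψ : Function.Surjective ψ) (m : ℕ) (ω : Ω[B⁄Λ]) :
    ∃ w : Fin r → B, ω - ∑ i, w i • omega t ψ i ∈ ((tB t B) ^ m • ⊤ : Submodule B (Ω[B⁄Λ])) := by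
  have hω : ω ∈ Submodule.span B (Set.range (KaehlerDifferential.D Λ B)) := by
    rw [KaehlerDifferential.span_range_derivation]
    trivial
  induction hω using Submodule.span_induction with
  | mem x hx =>
    obtain ⟨b, rfl⟩ := hx
    obtain ⟨f, rfl⟩ := hψ b
    refine ⟨dd t ψ f, ?_⟩
    have := key1 t ψ f m
    rw [← neg_sub]
    exact Submodule.neg_mem _ this
  | zero => exact ⟨0, by simp⟩
  | add x y _ _ hx hy =>
    obtain ⟨w, hw⟩ := hx
    obtain ⟨w', hw'⟩ := hy
    refine ⟨w + w', ?_⟩
    have := Submodule.add_mem _ hw hw'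
    convert this using 1
    simp only [Pi.add_apply, add_smul, Finset.sum_add_distrib]
    abel
  | smul b x _ hx =>
    obtain ⟨w, hw⟩ := hx
    refine ⟨b • w, ?_⟩
    have := Submodule.smul_mem _ b hw
    convert this using 1
    simp only [Pi.smul_apply, smul_eq_mul, mul_smul, smul_sub, Finset.smul_sum]

theorem piM_surjective [IsPrecomplete (tB t B) B] (hψ : Function.Surjective ψ) :
    Function.Surjective (piM t ψ) := by
  have : IsPrecomplete (tB t B) (Fin r → B) := AdicAux.isPrecomplete_pi _ _ _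
  apply surjective_of_mkQ_comp_surjective (I := tB t B)
  intro y
  obtain ⟨m, rfl⟩ := Submodule.mkQ_surjective _ y
  obtain ⟨ω, hω⟩ := Submodule.mkQ_surjective _ (m.val 1)
  obtain ⟨w, hw⟩ := exists_approx_omega t ψ hψ ω
  refine ⟨w, ?_⟩
  rw [LinearMap.comp_apply, Submodule.mkQ_apply, Submodule.mkQ_apply, eq_comm,
    Submodule.Quotient.eq]
  have h1 : m - piM t ψ w ∈ LinearMap.ker (AdicCompletion.eval (tB t B) (Ω[B⁄Λ]) 1) := by
    rw [LinearMap.mem_ker, map_sub, AdicCompletion.eval_apply, piM_apply, AdicCompletion.eval_of,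
      ← hω, ← map_sub, Submodule.mkQ_apply, Submodule.Quotient.mk_eq_zero, pow_one]
    exact hw
  rwa [← AdicCompletion.pow_smul_top_eq_ker_eval (tB_fg t), pow_one] at h1

section coker

variable (hker : RingHom.ker ψ.toRingHom = Ideal.span (Set.range a))

include hker in
lemma psi_a (j : Fin c) : ψ (a j) = 0 := by
  have : a j ∈ RingHom.ker ψ.toRingHom := by
    rw [hker]
    exact Ideal.subset_span ⟨j, rfl⟩
  exact this

include hker in
lemma dd_mem_range (f : At t (Fin r)) (hf : ψ f = 0) :
    dd t ψ f ∈ LinearMap.range (J t ψ a) := by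
  classical
  have hf' : f ∈ Ideal.span (Set.range a) := by
    rw [← hker]
    exact hf
  induction hf' using Submodule.span_induction with
  | mem x hx =>
    obtain ⟨j, rfl⟩ := hx
    exact ⟨Pi.single j 1, by rw [J_single, one_smul]⟩
  | zero =>
    have : dd t ψ (0 : At t (Fin r)) = 0 := by
      funext i
      simp [dd]
    rw [this]
    exact Submodule.zero_mem _
  | add x y hx hy ihx ihy =>
    have hx0 : ψ x = 0 := by
      have : x ∈ RingHom.ker ψ.toRingHom := by rw [hker]; exact hx
      exact this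
    have hy0 : ψ y = 0 := by
      have : y ∈ RingHom.ker ψ.toRingHom := by rw [hker]; exact hy
      exact this
    rw [dd_add]
    exact Submodule.add_mem _ (ihx hx0) (ihy hy0)
  | smul g x hx ihx =>
    have hx0 : ψ x = 0 := by
      have : x ∈ RingHom.ker ψ.toRingHom := by rw [hker]; exact hx
      exact this
    rw [smul_eq_mul, dd_mul, hx0, zero_smul, add_zero]
    exact Submodule.smul_mem _ _ (ihx hx0)

/-- the gradient as a linear map -/
noncomputable def ddLin : At t (Fin r) →ₗ[Λ] (Fin r → B) where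
  toFun := dd t ψ
  map_add' := dd_add t ψ
  map_smul' x f := by
    rw [Algebra.smul_def, dd_algebraMap_mul, RingHom.id_apply, algebraMap_smul]

/-- the cokernel of the Jacobian map -/
abbrev NJ : Type u := (Fin r → B) ⧸ LinearMap.range (J t ψ a)

/-- auxiliary: the gradient modulo the Jacobian -/
noncomputable def gLin : At t (Fin r) →ₗ[Λ] NJ t ψ a :=
  ((LinearMap.range (J t ψ a)).mkQ.restrictScalars Λ) ∘ₗ ddLin t ψ

lemma gLin_apply (f : At t (Fin r)) :
    gLin t ψ a f = Submodule.Quotient.mk (dd t ψ f) := rfl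

variable (hdd : ∀ f, ψ f = 0 → dd t ψ f ∈ LinearMap.range (J t ψ a))

include hdd in
lemma ker_le_ker_gLin : LinearMap.ker ψ.toLinearMap ≤ LinearMap.ker (gLin t ψ a) := by
  intro f hf
  rw [LinearMap.mem_ker, gLin_apply, Submodule.Quotient.mk_eq_zero]
  exact hdd f hf

/-- the derivation `B → coker J`, as a linear map -/
noncomputable def deltaLin (hψ : Function.Surjective ψ) : B →ₗ[Λ] NJ t ψ a :=
  (Submodule.liftQ _ (gLin t ψ a) (ker_le_ker_gLin t ψ a hdd)) ∘ₗ
    (LinearMap.quotKerEquivOfSurjective ψ.toLinearMap hψ).symm.toLinearMap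

lemma deltaLin_apply (hψ : Function.Surjective ψ) (f : At t (Fin r)) :
    deltaLin t ψ a hdd hψ (ψ f) = Submodule.Quotient.mk (dd t ψ f) := by
  rw [deltaLin, LinearMap.comp_apply, LinearEquiv.coe_coe]
  have : (LinearMap.quotKerEquivOfSurjective ψ.toLinearMap hψ).symm (ψ f) =
      Submodule.Quotient.mk f :=
    LinearMap.quotKerEquivOfSurjective_symm_apply ψ.toLinearMap hψ f
  rw [this, Submodule.liftQ_apply, gLin_apply]

/-- the derivation `B → coker J` -/
noncomputable def delta (hψ : Function.Surjective ψ) : Derivation Λ B (NJ t ψ a) :=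
  Derivation.mk' (deltaLin t ψ a hdd hψ) (fun b b' => by
    obtain ⟨f, rfl⟩ := hψ b
    obtain ⟨f', rfl⟩ := hψ b'
    rw [← map_mul, deltaLin_apply, deltaLin_apply, deltaLin_apply, dd_mul,
      Submodule.Quotient.mk_add, Submodule.Quotient.mk_smul, Submodule.Quotient.mk_smul])

lemma delta_apply (hψ : Function.Surjective ψ) (f : At t (Fin r)) :
    delta t ψ a hdd hψ (ψ f) = Submodule.Quotient.mk (dd t ψ f) :=
  deltaLin_apply t ψ a hdd hψ f

lemma dd_X (i : Fin r) : dd t ψ (AdicCompletion.of _ _ (X i)) = Pi.single i 1 := by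
  classical
  funext j
  rw [dd_of, pderiv_X]
  by_cases h : i = j
  · subst h
    simp
  · rw [Pi.single_apply, Pi.single_apply, if_neg h, if_neg (fun h' => h h'.symm), map_zero]

/-- the induced map on differentials -/
noncomputable def phi (hψ : Function.Surjective ψ) : Ω[B⁄Λ] →ₗ[B] NJ t ψ a :=
  (delta t ψ a hdd hψ).liftKaehlerDifferential

lemma phi_omega (hψ : Function.Surjective ψ) (i : Fin r) :
    phi t ψ a hdd hψ (omega t ψ i) = Submodule.Quotient.mk (Pi.single i 1) := by
  rw [phi, omega, Derivation.liftKaehlerDifferential_comp_D, delta_apply, dd_X]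

lemma phi_sum (hψ : Function.Surjective ψ) (w : Fin r → B) :
    phi t ψ a hdd hψ (∑ i, w i • omega t ψ i) = Submodule.Quotient.mk w := by
  classical
  rw [map_sum]
  simp only [map_smul, phi_omega]
  have h1 : w = ∑ i, w i • (Pi.single i 1 : Fin r → B) := by
    funext j
    simp [Finset.sum_apply, Pi.single_apply]
  conv_rhs => rw [h1]
  rw [← Submodule.mkQ_apply, map_sum]
  apply Finset.sum_congr rfl
  intro i _
  rw [map_smul, Submodule.mkQ_apply]

include hker in
theorem exact_J_piM [IsNoetherianRing B] [IsAdicComplete (tB t B) B]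
    (hψ : Function.Surjective ψ) : Function.Exact (J t ψ a) (piM t ψ) := by
  have hN : IsHausdorff (tB t B) (NJ t ψ a) :=
    IsHausdorff.of_le_jacobson _ _ (IsAdicComplete.le_jacobson_bot _)
  intro w
  constructor
  · intro hw
    have h1 : AdicCompletion.map (tB t B)
        (phi t ψ a (dd_mem_range t ψ a hker) hψ) (piM t ψ w) =
        AdicCompletion.of _ _ (Submodule.Quotient.mk w) := by
      rw [piM_apply, AdicCompletion.map_of, phi_sum]
    rw [hw, map_zero] at h1
    have h2 : (Submodule.Quotient.mk w : NJ t ψ a) = 0 :=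
      AdicCompletion.of_injective (tB t B) (NJ t ψ a) (h1.symm.trans (map_zero _).symm)
    exact (Submodule.Quotient.mk_eq_zero _).mp h2
  · rintro ⟨v, rfl⟩
    exact LinearMap.congr_fun (piM_comp_J t ψ a (psi_a t ψ a hker)) v

end coker

end main

end Groth.Agent.Lib.Helper91.FormalOmega
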