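import Mathlib
import Groth.Agent.Lib.Helper91.CIOmega
import Groth.Agent.Lib.Helper91.FormalOmega

/-!
# Injectivity of the Jacobian matrix of a reduced complete intersection

For `B = k[T_1..T_r]/(a_1..a_c)` reduced, `a` a regular sequence and `k` perfect, the transposed
Jacobian matrix `B^c → B^r` is injective.
-/

universe u

open TensorProduct MvPolynomial

namespace Groth.Agent.Lib.Helper91.CIJacobian

open Groth.Agent.Lib.Helper89.JacCrit Groth.Agent.Lib.Helper10.LciJacobian
  Groth.Agent.Lib.Helper91.CIOmega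

variable {k B : Type u} [Field k] [PerfectField k] {r c : ℕ} [CommRing B]
  [Algebra (MvPolynomial (Fin r) k) B]
  [Algebra k B] [IsScalarTower k (MvPolynomial (Fin r) k) B]
  [Algebra.FiniteType k B] [IsReduced B]
  (hsurj : Function.Surjective (algebraMap (MvPolynomial (Fin r) k) B))
  (a : Fin c → MvPolynomial (Fin r) k)
  (hrs : Ideal.span (Set.range a) = RingHom.ker (algebraMap (MvPolynomial (Fin r) k) B))
  (hH1 : CAlgX.IsH1Regular a)

include hsurj hrs hH1 in
theorem jacobian_injective (v : Fin c → B)
    (hv : ∀ i, ∑ j, v j * algebraMap (MvPolynomial (Fin r) k) B (pderiv i (a j)) = 0) : v = 0 := by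
  classical
  have hinj := cotangentComplex_injective (k := k) hsurj a hrs hH1
  have hb : ∀ j, b₁ (k := k) hsurj a hrs hH1 j = tgen (A := k) hsurj a hrs j := by
    intro j
    rw [b₁, Module.Basis.mk_apply]
  have h1 : ∀ j, (ext (A := k) hsurj).cotangentComplex (tgen (A := k) hsurj a hrs j) =
      ∑ i, algebraMap (MvPolynomial (Fin r) k) B (pderiv i (a j)) •
        ((1 : B) ⊗ₜ[MvPolynomial (Fin r) k] KaehlerDifferential.D k (MvPolynomial (Fin r) k) (X i)) := by
    intro j
    rw [tgen, Algebra.Extension.cotangentComplex_mk]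
    have h2 := FormalOmega.chain_rule (AlgHom.id k (MvPolynomial (Fin r) k)) (a j)
    simp only [AlgHom.coe_id, id_eq] at h2
    change (1 : B) ⊗ₜ[MvPolynomial (Fin r) k] KaehlerDifferential.D k (MvPolynomial (Fin r) k) (a j) = _
    rw [h2, TensorProduct.tmul_sum]
    apply Finset.sum_congr rfl
    intro i _
    rw [TensorProduct.tmul_smul, TensorProduct.smul_tmul', TensorProduct.smul_tmul',
      Algebra.smul_def, mul_one, smul_eq_mul, mul_one]
  have h3 : (ext (A := k) hsurj).cotangentComplex
      (∑ j, v j • b₁ (k := k) hsurj a hrs hH1 j) = 0 := by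
    rw [map_sum]
    simp only [map_smul, hb, h1, Finset.smul_sum, smul_smul]
    rw [Finset.sum_comm]
    simp only [← Finset.sum_smul]
    apply Finset.sum_eq_zero
    intro i _
    rw [hv i, zero_smul]
  have h4 : ∑ j, v j • b₁ (k := k) hsurj a hrs hH1 j = 0 := hinj (h3.trans (map_zero _).symm)
  funext j
  exact Fintype.linearIndependent_iff.mp (b₁ (k := k) hsurj a hrs hH1).linearIndependent v h4 j

end Groth.Agent.Lib.Helper91.CIJacobian
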