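import Mathlib
import Groth.Agent.Lib.Helper91.CIDescMain
import Groth.Agent.Lib.Helper94.SurjLoc
import Groth.Agent.S2165
import Groth.Agent.S0564

/-!
# Localizations of complete intersections are complete intersections (Avramov)
-/

set_option autoImplicit false
universe u

open IsLocalRing RingTheory.Sequence

namespace Groth.Agent.Lib.Helper91.CILocalize

/-- A quotient of a regular local ring by a regular sequence: all localizations are complete
intersections. -/
theorem isCI_localization_of_presentation {T C : Type u} [CommRing T] [CommRing C]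
    [IsRegularLocalRing T] (rs : List T) (hreg : IsRegular T rs)
    (e : C ≃+* T ⧸ Ideal.span {r | r ∈ rs}) (q : Ideal C) [q.IsPrime] :
    Pi1.IsCompleteIntersection (Localization.AtPrime q) := by
  classical
  let φ : T →+* C := (e.symm : (T ⧸ Ideal.span {r | r ∈ rs}) →+* C).comp (Ideal.Quotient.mk _)
  have hφ : Function.Surjective φ :=
    e.symm.surjective.comp Ideal.Quotient.mk_surjective
  have hker : RingHom.ker φ = Ideal.ofList rs := by
    ext x
    rw [RingHom.mem_ker]
    change e.symm (Ideal.Quotient.mk _ x) = 0 ↔ _
    rw [map_eq_zero_iff _ e.symm.injective, Ideal.Quotient.eq_zero_iff_mem]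
  have hmem : ∀ r ∈ rs, r ∈ q.comap φ := by
    intro r hr
    rw [Ideal.mem_comap]
    have : r ∈ RingHom.ker φ := by
      rw [hker]
      exact Ideal.subset_span hr
    rw [(RingHom.mem_ker).mp this]
    exact zero_mem _
  have hkl := Groth.Agent.Lib.Helper94.SurjLoc.ker_locHom φ q hφ
  have hsurj := Groth.Agent.Lib.Helper94.SurjLoc.locHom_surjective φ q hφ
  rw [hker] at hkl
  let e1 : (Localization.AtPrime (q.comap φ) ⧸
      Ideal.map (algebraMap T (Localization.AtPrime (q.comap φ))) (Ideal.ofList rs)) ≃+*
      Localization.AtPrime q :=
    (Ideal.quotEquivOfEq hkl.symm).trans (RingHom.quotientKerEquivOfSurjective hsurj)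
  haveI : IsLocalRing (Localization.AtPrime (q.comap φ) ⧸
      Ideal.map (algebraMap T (Localization.AtPrime (q.comap φ))) (Ideal.ofList rs)) :=
    e1.symm.isLocalRing
  haveI : IsRegularRing T := isRegularRing_iff.mpr (fun P _ => Groth.Agent.S0564.result T P)
  have h1 := Groth.Agent.S2165.result (q.comap φ) rs hmem hreg
  exact Groth.Agent.Lib.Helper62.CITrans.isCI_of_ringEquiv e1 h1

/-- **Avramov**: a localization of a Noetherian local complete intersection at a prime is a
complete intersection. -/
theorem isCI_localization {A : Type u} [CommRing A] [IsNoetherianRing A] [IsLocalRing A]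
    (hA : Pi1.IsCompleteIntersection A) (p : Ideal A) [p.IsPrime] :
    Pi1.IsCompleteIntersection (Localization.AtPrime p) := by
  classical
  obtain ⟨T, _, _, rs, hmem, hreg, ⟨e⟩⟩ := hA
  haveI hN : IsNoetherianRing (AdicCompletion (maximalIdeal A) A) :=
    Groth.Agent.S0543.result A (maximalIdeal A)
  haveI : Module.FaithfullyFlat A (AdicCompletion (maximalIdeal A) A) :=
    Module.FaithfullyFlat.of_flat_of_isLocalHom
  obtain ⟨q, hq, hqp⟩ := Ideal.exists_isPrime_liesOver_of_faithfullyFlat
    (B := AdicCompletion (maximalIdeal A) A) p
  have hq' := isCI_localization_of_presentation rs hreg e q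
  let _ := Localization.AtPrime.algebraOfLiesOver p q
  have hNp : IsNoetherianRing (Localization.AtPrime p) :=
    IsLocalization.isNoetherianRing p.primeCompl _ inferInstance
  have hNq : IsNoetherianRing (Localization.AtPrime q) :=
    IsLocalization.isNoetherianRing q.primeCompl _ inferInstance
  have hflat : Module.Flat (Localization.AtPrime p) (Localization.AtPrime q) := inferInstance
  have hloc : IsLocalHom (algebraMap (Localization.AtPrime p) (Localization.AtPrime q)) := by
    rw [Localization.AtPrime.IsLiesOverAlgebra.algebraMap_eq]
    exact Localization.isLocalHom_localRingHom _ _ _ _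
  exact (Groth.Agent.Lib.Helper91.CIDescMain.isCI_descent (R := Localization.AtPrime p)
    (S := Localization.AtPrime q) hq').1

end Groth.Agent.Lib.Helper91.CILocalize
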