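import Mathlib
import Groth.Agent.Lib.Helper91.CILocalize

/-!
# Complete intersection at all primes iff at all maximal ideals
-/

set_option autoImplicit false
universe u

open IsLocalRing

namespace Groth.Agent.Lib.Helper91.CILocalize2

theorem isCI_of_eq {A : Type u} [CommRing A] {I J : Ideal A} [hI : I.IsPrime] [hJ : J.IsPrime]
    (h : I = J) (hc : Pi1.IsCompleteIntersection (Localization.AtPrime I)) :
    Pi1.IsCompleteIntersection (Localization.AtPrime J) := by
  subst h
  exact hc

theorem isCI_atPrime_of_maximal {A : Type u} [CommRing A] [IsNoetherianRing A]
    (m : Ideal A) [m.IsMaximal] (hm : Pi1.IsCompleteIntersection (Localization.AtPrime m))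
    (p : Ideal A) [hp : p.IsPrime] (hpm : p ≤ m) :
    Pi1.IsCompleteIntersection (Localization.AtPrime p) := by
  have hdisj : Disjoint (m.primeCompl : Set A) (p : Set A) := by
    rw [Set.disjoint_left]
    intro x hx hxp
    exact hx (hpm hxp)
  haveI hP : (p.map (algebraMap A (Localization.AtPrime m))).IsPrime :=
    IsLocalization.isPrime_of_isPrime_disjoint m.primeCompl _ p hp hdisj
  have hcomap : (p.map (algebraMap A (Localization.AtPrime m))).comap
      (algebraMap A (Localization.AtPrime m)) = p :=
    IsLocalization.comap_map_of_isPrime_disjoint m.primeCompl _ hp hdisj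
  haveI : IsNoetherianRing (Localization.AtPrime m) :=
    IsLocalization.isNoetherianRing m.primeCompl _ inferInstance
  have hT := Groth.Agent.Lib.Helper91.CILocalize.isCI_localization hm
    (p.map (algebraMap A (Localization.AtPrime m)))
  haveI hcp : ((p.map (algebraMap A (Localization.AtPrime m))).comap
      (algebraMap A (Localization.AtPrime m))).IsPrime := Ideal.IsPrime.comap _
  haveI : IsLocalization.AtPrime
      (Localization.AtPrime (p.map (algebraMap A (Localization.AtPrime m))))
      ((p.map (algebraMap A (Localization.AtPrime m))).comap
        (algebraMap A (Localization.AtPrime m))) :=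
    IsLocalization.isLocalization_isLocalization_atPrime_isLocalization m.primeCompl _
      (p.map (algebraMap A (Localization.AtPrime m)))
  let e := IsLocalization.algEquiv ((p.map (algebraMap A (Localization.AtPrime m))).comap
      (algebraMap A (Localization.AtPrime m))).primeCompl
    (Localization.AtPrime ((p.map (algebraMap A (Localization.AtPrime m))).comap
      (algebraMap A (Localization.AtPrime m))))
    (Localization.AtPrime (p.map (algebraMap A (Localization.AtPrime m))))
  have h1 := Groth.Agent.Lib.Helper62.CITrans.isCI_of_ringEquiv e.symm.toRingEquiv hT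
  exact isCI_of_eq hcomap h1

end Groth.Agent.Lib.Helper91.CILocalize2
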