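import Mathlib

/-!
# Cauchy–Binet, choice-free form

`det (A * B) = ∑_{T ⊆ n, |T| = |m|} det (A_T * B_T)`.
-/

open Matrix

namespace Helper91.MatTree

section CB
variable {m n R : Type*} [Fintype m] [DecidableEq m] [Fintype n] [DecidableEq n] [CommRing R]

theorem det_mul_expand' (A : Matrix m n R) (B : Matrix n m R) :
    (A * B).det = ∑ f : m → n, (A.submatrix id f).det * ∏ i, B (f i) i := by
  rw [Matrix.det_apply']
  simp_rw [Matrix.mul_apply, Finset.prod_univ_sum, Fintype.piFinset_univ, Finset.mul_sum]
  rw [Finset.sum_comm]
  refine Finset.sum_congr rfl fun f _ => ?_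
  rw [Matrix.det_apply', Finset.sum_mul]
  refine Finset.sum_congr rfl fun σ _ => ?_
  rw [Finset.prod_mul_distrib]
  simp only [Matrix.submatrix_apply, id_eq]
  ring

theorem det_submatrix_of_not_injective (A : Matrix m n R) (f : m → n)
    (hf : ¬ Function.Injective f) : (A.submatrix id f).det = 0 := by
  rw [Function.Injective] at hf
  push Not at hf
  obtain ⟨i, j, hij, hne⟩ := hf
  apply Matrix.det_zero_of_column_eq hne
  intro k
  simp only [Matrix.submatrix_apply, id_eq, hij]

/-- **Cauchy–Binet**, indexed by subsets of the middle index type. -/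
theorem cauchy_binet_finset (A : Matrix m n R) (B : Matrix n m R) :
    (A * B).det =
      ∑ T ∈ (Finset.univ : Finset (Finset n)).filter (fun T => T.card = Fintype.card m),
        ((A.submatrix id (Subtype.val : {j // j ∈ T} → n)) *
          (B.submatrix (Subtype.val : {j // j ∈ T} → n) id)).det := by
  classical
  set F : (m → n) → R := fun f => (A.submatrix id f).det * ∏ i, B (f i) i with hF
  have hterm : ∀ T : Finset n, ((A.submatrix id (Subtype.val : {j // j ∈ T} → n)) *
        (B.submatrix (Subtype.val : {j // j ∈ T} → n) id)).det =
      ∑ f : m → n, if (∀ i, f i ∈ T) then F f else 0 := by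
    intro T
    rw [det_mul_expand', ← Finset.sum_filter]
    apply Finset.sum_bij (fun g _ => fun i => (g i).1)
    · intro g _
      simp only [Finset.mem_filter, Finset.mem_univ, true_and]
      exact fun i => (g i).2
    · intro g _ g' _ h
      funext i
      exact Subtype.ext (congrFun h i)
    · intro f hf
      simp only [Finset.mem_filter, Finset.mem_univ, true_and] at hf
      exact ⟨fun i => ⟨f i, hf i⟩, Finset.mem_univ _, rfl⟩
    · intro g _
      rfl
  rw [det_mul_expand', Finset.sum_congr rfl (fun T _ => hterm T), Finset.sum_comm]
  apply Finset.sum_congr rfl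
  intro f _
  by_cases hf : Function.Injective f
  · rw [Finset.sum_eq_single (Finset.univ.image f)]
    · simp [hF]
    · intro T hT hne
      rw [if_neg]
      intro hall
      apply hne
      symm
      apply Finset.eq_of_subset_of_card_le
      · intro x hx
        obtain ⟨i, _, rfl⟩ := Finset.mem_image.mp hx
        exact hall i
      · rw [Finset.card_image_of_injective _ hf, (Finset.mem_filter.mp hT).2, Finset.card_univ]
    · intro hnot
      exfalso
      apply hnot
      simp [Finset.card_image_of_injective _ hf]
  · have h0 : F f = 0 := by simp [hF, det_submatrix_of_not_injective A f hf]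
    have h0' : (A.submatrix id f).det * ∏ i, B (f i) i = 0 := h0
    rw [h0']
    symm
    apply Finset.sum_eq_zero
    intro T _
    rw [h0, ite_self]

end CB

end Helper91.MatTree
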