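import Mathlib
import Groth.Agent.Lib.Helper91.AdicAux

/-!
# The cokernel of the dual of a map of finite free modules, and its reduction modulo an ideal
-/

open TensorProduct

namespace Groth.Agent.Lib.Helper91.CokerBC

variable {R : Type*} [CommRing R] {α β : Type*} [Fintype α] [Fintype β] [DecidableEq α]

/-- the transpose of a linear map between coordinate spaces -/
noncomputable def LT (L : (α → R) →ₗ[R] (β → R)) : (β → R) →ₗ[R] (α → R) where
  toFun u := fun a => ∑ b, L (Pi.single a 1) b * u b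
  map_add' u u' := by
    funext a
    simp [mul_add, Finset.sum_add_distrib]
  map_smul' x u := by
    funext a
    simp only [Pi.smul_apply, smul_eq_mul, RingHom.id_apply, Finset.mul_sum]
    apply Finset.sum_congr rfl
    intro b _
    ring

lemma LT_apply (L : (α → R) →ₗ[R] (β → R)) (u : β → R) (a : α) :
    LT L u a = ∑ b, L (Pi.single a 1) b * u b := rfl

lemma dualMap_piEquiv (L : (α → R) →ₗ[R] (β → R)) (u : β → R) :
    L.dualMap (Module.piEquiv β R R u) = Module.piEquiv α R R (LT L u) := by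
  apply LinearMap.pi_ext
  intro a x
  rw [LinearMap.dualMap_apply, Module.piEquiv_apply_apply, Module.piEquiv_apply_apply]
  have h1 : (Pi.single a x : α → R) = x • Pi.single a 1 := by
    rw [← Pi.single_smul, smul_eq_mul, mul_one]
  have h2 : L (Pi.single a x) = x • L (Pi.single a 1) := by
    rw [← map_smul, ← h1]
  rw [Finset.sum_eq_single a]
  · rw [h2, Pi.single_eq_same, LT_apply, smul_eq_mul, Finset.mul_sum]
    apply Finset.sum_congr rfl
    intro b _
    rw [Pi.smul_apply, smul_eq_mul, smul_eq_mul]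
    ring
  · intro a' _ ha'
    rw [Pi.single_eq_of_ne ha', zero_smul]
  · intro h
    exact absurd (Finset.mem_univ a) h

lemma range_dualMap (L : (α → R) →ₗ[R] (β → R)) :
    (LinearMap.range (LT L)).map (Module.piEquiv α R R).toLinearMap = LinearMap.range L.dualMap := by
  have h1 : L.dualMap ∘ₗ (Module.piEquiv β R R).toLinearMap =
      (Module.piEquiv α R R).toLinearMap ∘ₗ LT L := by
    apply LinearMap.ext
    intro u
    exact dualMap_piEquiv L u
  rw [← LinearMap.range_comp, ← h1, LinearMap.range_comp, LinearEquiv.range, Submodule.map_top]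

/-- the cokernel of the dual map in coordinates -/
noncomputable def dualCokerEquiv (L : (α → R) →ₗ[R] (β → R)) :
    ((α → R) ⧸ LinearMap.range (LT L)) ≃ₗ[R] (Module.Dual R (α → R) ⧸ LinearMap.range L.dualMap) :=
  Submodule.Quotient.equiv _ _ (Module.piEquiv α R R) (range_dualMap L)

section bc

variable (K : Ideal R) (L : (α → R) →ₗ[R] (β → R))
  (L' : (α → R ⧸ K) →ₗ[R ⧸ K] (β → R ⧸ K))
  (hLL' : ∀ v : α → R, L' (fun a => Ideal.Quotient.mk K (v a)) =
    fun b => Ideal.Quotient.mk K (L v b))

include hLL' in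
lemma LT_mk (u : β → R) :
    LT L' (fun b => Ideal.Quotient.mk K (u b)) = fun a => Ideal.Quotient.mk K (LT L u a) := by
  funext a
  rw [LT_apply, LT_apply, map_sum]
  apply Finset.sum_congr rfl
  intro b _
  have h1 : (Pi.single a 1 : α → R ⧸ K) = fun a' => Ideal.Quotient.mk K ((Pi.single a 1 : α → R) a') := by
    funext a'
    by_cases h : a' = a
    · subst h
      simp
    · simp [Pi.single_eq_of_ne h]
  rw [h1, hLL', map_mul]

omit [Fintype α] [DecidableEq α] in
/-- reduction of vectors mod `K` -/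
noncomputable def mkv {γ : Type*} : (γ → R) →ₗ[R] (γ → R ⧸ K) :=
  (Ideal.Quotient.mkₐ R K).toLinearMap.compLeft γ

omit [Fintype α] [DecidableEq α] in
lemma mkv_apply {γ : Type*} (v : γ → R) (a : γ) : mkv K v a = Ideal.Quotient.mk K (v a) := rfl

omit [Fintype α] [DecidableEq α] in
lemma mkv_surjective {γ : Type*} : Function.Surjective (mkv (γ := γ) K) := by
  intro w
  choose v hv using fun a => Ideal.Quotient.mk_surjective (w a)
  exact ⟨v, funext hv⟩

/-- auxiliary map -/
noncomputable def q₀ : (α → R) →ₗ[R] ((α → R ⧸ K) ⧸ LinearMap.range (LT L')) :=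
  ((LinearMap.range (LT L')).mkQ.restrictScalars R) ∘ₗ mkv K

include hLL' in
lemma range_le_ker_q₀ : LinearMap.range (LT L) ≤ LinearMap.ker (q₀ K L') := by
  rintro _ ⟨u, rfl⟩
  rw [LinearMap.mem_ker, q₀, LinearMap.comp_apply]
  change Submodule.Quotient.mk (mkv K (LT L u)) = 0
  rw [Submodule.Quotient.mk_eq_zero]
  refine ⟨fun b => Ideal.Quotient.mk K (u b), ?_⟩
  rw [LT_mk K L L' hLL']
  rfl

/-- the reduction map on cokernels -/
noncomputable def q : ((α → R) ⧸ LinearMap.range (LT L)) →ₗ[R]
    ((α → R ⧸ K) ⧸ LinearMap.range (LT L')) :=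
  Submodule.liftQ _ (q₀ K L') (range_le_ker_q₀ K L L' hLL')

lemma q_mk (v : α → R) :
    q K L L' hLL' (Submodule.Quotient.mk v) = Submodule.Quotient.mk (mkv K v) := rfl

lemma q_surjective : Function.Surjective (q K L L' hLL') := by
  intro y
  obtain ⟨w, rfl⟩ := Submodule.Quotient.mk_surjective _ y
  obtain ⟨v, rfl⟩ := mkv_surjective K w
  exact ⟨Submodule.Quotient.mk v, rfl⟩

lemma ker_q : LinearMap.ker (q K L L' hLL') =
    (K • ⊤ : Submodule R ((α → R) ⧸ LinearMap.range (LT L))) := by
  apply le_antisymm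
  · intro x hx
    obtain ⟨v, rfl⟩ := Submodule.Quotient.mk_surjective _ x
    rw [LinearMap.mem_ker, q_mk, Submodule.Quotient.mk_eq_zero] at hx
    obtain ⟨u', hu'⟩ := hx
    obtain ⟨u, rfl⟩ := mkv_surjective K u'
    have h1 : LT L' (mkv K u) = mkv K (LT L u) := LT_mk K L L' hLL' u
    rw [h1] at hu'
    have h2 : v - LT L u ∈ (K • ⊤ : Submodule R (α → R)) := by
      apply AdicAux.mem_smul_top_pi
      intro a
      rw [smul_eq_mul, Ideal.mul_top, Pi.sub_apply, ← Ideal.Quotient.eq]
      exact (congrFun hu' a).symm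
    have h3 : (Submodule.Quotient.mk v : (α → R) ⧸ LinearMap.range (LT L)) =
        Submodule.Quotient.mk (v - LT L u) := by
      rw [Submodule.Quotient.mk_sub, eq_comm, sub_eq_self, Submodule.Quotient.mk_eq_zero]
      exact ⟨u, rfl⟩
    rw [h3]
    exact AdicAux.map_mem_smul_top K (LinearMap.range (LT L)).mkQ h2
  · rw [Submodule.smul_le]
    intro k hk x _
    rw [LinearMap.mem_ker, map_smul]
    have : k • q K L L' hLL' x = (Ideal.Quotient.mk K k) • q K L L' hLL' x := by
      rw [← Ideal.Quotient.algebraMap_eq, algebraMap_smul]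
    rw [this, Ideal.Quotient.eq_zero_iff_mem.mpr hk, zero_smul]

/-- base change of the cokernel -/
noncomputable def bcEquiv :
    ((R ⧸ K) ⊗[R] ((α → R) ⧸ LinearMap.range (LT L))) ≃ₗ[R ⧸ K]
      ((α → R ⧸ K) ⧸ LinearMap.range (LT L')) :=
  let eR : ((R ⧸ K) ⊗[R] ((α → R) ⧸ LinearMap.range (LT L))) ≃ₗ[R]
      ((α → R ⧸ K) ⧸ LinearMap.range (LT L')) :=
    (TensorProduct.quotTensorEquivQuotSMul _ K).trans
      ((Submodule.quotEquivOfEq _ _ (ker_q K L L' hLL').symm).trans
        ((q K L L' hLL').quotKerEquivOfSurjective (q_surjective K L L' hLL')))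
  { eR with
    map_smul' := by
      intro s x
      obtain ⟨r, rfl⟩ := Ideal.Quotient.mk_surjective s
      have h1 : ∀ (Y : Type _) [AddCommGroup Y] [Module R Y] [Module (R ⧸ K) Y]
          [IsScalarTower R (R ⧸ K) Y] (y : Y), Ideal.Quotient.mk K r • y = r • y := by
        intro Y _ _ _ _ y
        rw [← Ideal.Quotient.algebraMap_eq, algebraMap_smul]
      simp only [RingHom.id_apply]
      rw [h1, h1]
      exact eR.map_smul r x }

end bc

end Groth.Agent.Lib.Helper91.CokerBC
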