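import Mathlib

/-!
# An index computation for degenerate symmetric integer matrices

For an integer matrix `α` with `α β = 0 = βᵀ α`, `β = m r` with `r` primitive and nonzero principal
minor at `v₀`, the group `ker β / im α` has order `|minor| / r_{v₀}²`.
-/

open Matrix

namespace Helper91.MatTree

variable {V : Type*} [Fintype V] [DecidableEq V]

theorem sum_eq_add_sum_ne (v₀ : V) (f : V → ℤ) :
    ∑ v, f v = f v₀ + ∑ v : {v // v ≠ v₀}, f v.1 := by
  rw [← Finset.add_sum_erase Finset.univ f (Finset.mem_univ v₀)]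
  congr 1
  rw [← Finset.sum_subtype]
  intro x
  simp [Finset.mem_erase]

/-- Index of the image of a nondegenerate integer square matrix. -/
theorem index_range_mulVecLin {ι : Type*} [Fintype ι] [DecidableEq ι] (M : Matrix ι ι ℤ)
    (hM : M.det ≠ 0) :
    (LinearMap.range (Matrix.mulVecLin M)).toAddSubgroup.index = M.det.natAbs := by
  have hinj : Function.Injective (Matrix.mulVecLin M) := by
    rw [← LinearMap.ker_eq_bot, LinearMap.ker_eq_bot']
    intro x hx
    exact Matrix.eq_zero_of_mulVec_eq_zero hM hx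
  have h := Submodule.natAbs_det_equiv (LinearMap.range (Matrix.mulVecLin M))
    (LinearEquiv.ofInjective _ hinj)
  have hcomp : (LinearMap.range (Matrix.mulVecLin M)).subtype ∘ₗ
      AddMonoidHom.toIntLinearMap
        ((LinearEquiv.ofInjective _ hinj : (ι → ℤ) ≃ₗ[ℤ] _) : (ι → ℤ) →+ _) =
      Matrix.mulVecLin M := by
    ext x i
    rfl
  rw [hcomp, ← Matrix.toLin'_apply', LinearMap.det_toLin'] at h
  rw [h, AddSubgroup.index_eq_card]
  rfl


section PartB

variable (α : Matrix V V ℤ) (β : V → ℤ) (v₀ : V)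

/-- Restriction to the vertices other than `v₀`. -/
def resHom (v₀ : V) : (V → ℤ) →+ ({v // v ≠ v₀} → ℤ) where
  toFun x := fun v => x v.1
  map_zero' := rfl
  map_add' _ _ := rfl

/-- Extension by zero. -/
def extZero (v₀ : V) (y : {v // v ≠ v₀} → ℤ) : V → ℤ :=
  fun v => if h : v ≠ v₀ then y ⟨v, h⟩ else 0

theorem extZero_apply_ne (y : {v // v ≠ v₀} → ℤ) (v : {v // v ≠ v₀}) : extZero v₀ y v.1 = y v := by
  simp [extZero, v.2]

theorem extZero_apply_self (y : {v // v ≠ v₀} → ℤ) : extZero v₀ y v₀ = 0 := by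
  simp [extZero]

theorem resHom_surjective : Function.Surjective (resHom v₀) := by
  intro y
  refine ⟨extZero v₀ y, ?_⟩
  funext v
  exact extZero_apply_ne v₀ y v

/-- The principal minor matrix. -/
abbrev minorAt : Matrix {v // v ≠ v₀} {v // v ≠ v₀} ℤ :=
  α.submatrix Subtype.val Subtype.val

theorem minor_mulVec_res (x : V → ℤ) (hx : x v₀ = 0) (v : {v // v ≠ v₀}) :
    (minorAt α v₀ *ᵥ (resHom v₀ x)) v = (α *ᵥ x) v.1 := by
  simp only [Matrix.mulVec, dotProduct, Matrix.submatrix_apply]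
  rw [sum_eq_add_sum_ne v₀ (fun w => α v.1 w * x w), hx, mul_zero, zero_add]
  rfl

/-- The kernel of `α` is contained in the rational line through `β`. -/
theorem ker_prop (hαβ : α *ᵥ β = 0) (hdet : (minorAt α v₀).det ≠ 0)
    (x : V → ℤ) (hx : α *ᵥ x = 0) : β v₀ • x = x v₀ • β := by
  set y : V → ℤ := β v₀ • x - x v₀ • β with hy
  have hαy : α *ᵥ y = 0 := by
    rw [hy, Matrix.mulVec_sub, Matrix.mulVec_smul, Matrix.mulVec_smul, hx, hαβ]
    simp
  have hy0 : y v₀ = 0 := by
    simp only [hy, Pi.sub_apply, Pi.smul_apply, smul_eq_mul]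
    ring
  have hres : resHom v₀ y = 0 := by
    apply Matrix.eq_zero_of_mulVec_eq_zero hdet
    funext v
    rw [minor_mulVec_res α v₀ y hy0 v, hαy]
    rfl
  have hyz : y = 0 := by
    funext v
    by_cases hv : v = v₀
    · rw [hv]; exact hy0
    · exact congrFun hres ⟨v, hv⟩
  exact sub_eq_zero.mp hyz

/-- The additive map of `α`. -/
def αh : (V → ℤ) →+ (V → ℤ) := (Matrix.mulVecLin α).toAddMonoidHom

/-- Evaluation at `v₀`. -/
def evalHom (v₀ : V) : (V → ℤ) →+ ℤ := Pi.evalAddMonoidHom (fun _ => ℤ) v₀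

/-- The linear form `β`. -/
def βh : (V → ℤ) →+ ℤ := (Fintype.linearCombination ℤ β).toAddMonoidHom

theorem βh_apply (x : V → ℤ) : βh β x = ∑ v, x v * β v := by
  simp [βh, Fintype.linearCombination_apply]

theorem αh_apply (x : V → ℤ) : αh α x = α *ᵥ x := rfl

theorem evalHom_apply (x : V → ℤ) : evalHom v₀ x = x v₀ := rfl

theorem evalHom_surjective : Function.Surjective (evalHom v₀) := by
  intro t
  exact ⟨fun _ => t, rfl⟩

theorem sup_ker_eq (hαβ : α *ᵥ β = 0) (hdet : (minorAt α v₀).det ≠ 0)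
    (m : ℤ) (r : V → ℤ) (hm : m ≠ 0) (hr : ∀ v, β v = m * r v)
    (hgcd : Finset.univ.gcd r = 1) :
    (evalHom v₀).ker ⊔ (αh α).ker =
      AddSubgroup.comap (evalHom v₀) (AddSubgroup.zmultiples (r v₀)) := by
  have hβr : β = m • r := by
    funext v; simp [hr v]
  have hαr : α *ᵥ r = 0 := by
    have h := hαβ
    rw [hβr, Matrix.mulVec_smul] at h
    rcases smul_eq_zero.mp h with h | h
    · exact absurd h hm
    · exact h
  apply le_antisymm
  · apply sup_le
    · intro x hx
      rw [AddMonoidHom.mem_ker] at hx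
      rw [AddSubgroup.mem_comap, hx]
      exact zero_mem _
    · intro x hx
      rw [AddMonoidHom.mem_ker, αh_apply] at hx
      have h1 := ker_prop α β v₀ hαβ hdet x hx
      have h2 : ∀ v, r v₀ * x v = x v₀ * r v := by
        intro v
        have := congrFun h1 v
        simp only [Pi.smul_apply, smul_eq_mul] at this
        rw [hr v₀, hr v] at this
        apply mul_left_cancel₀ hm
        linarith
      have h3 : r v₀ ∣ x v₀ := by
        have hdvd : r v₀ ∣ Finset.univ.gcd (fun v => x v₀ * r v) :=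
          Finset.dvd_gcd (fun v _ => ⟨x v, (h2 v).symm⟩)
        rw [Finset.gcd_mul_left, hgcd, mul_one] at hdvd
        exact (dvd_normalize_iff).mp hdvd
      rw [AddSubgroup.mem_comap]
      obtain ⟨t, ht⟩ := h3
      exact AddSubgroup.mem_zmultiples_iff.mpr ⟨t, by simp [evalHom_apply, ht, mul_comm]⟩
  · intro x hx
    rw [AddSubgroup.mem_comap, AddSubgroup.mem_zmultiples_iff] at hx
    obtain ⟨t, ht⟩ := hx
    rw [AddSubgroup.mem_sup]
    refine ⟨x - t • r, ?_, t • r, ?_, by abel⟩
    · rw [AddMonoidHom.mem_ker, evalHom_apply]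
      rw [evalHom_apply] at ht
      simp [← ht]
    · rw [AddMonoidHom.mem_ker, αh_apply, Matrix.mulVec_smul, hαr]
      simp

theorem index_sup_ker (hαβ : α *ᵥ β = 0) (hdet : (minorAt α v₀).det ≠ 0)
    (m : ℤ) (r : V → ℤ) (hm : m ≠ 0) (hr : ∀ v, β v = m * r v)
    (hgcd : Finset.univ.gcd r = 1) :
    ((evalHom v₀).ker ⊔ (αh α).ker).index = (r v₀).natAbs := by
  rw [sup_ker_eq α β v₀ hαβ hdet m r hm hr hgcd,
    AddSubgroup.index_comap_of_surjective _ (evalHom_surjective v₀), Int.index_zmultiples]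

theorem sup_kerRes_eq :
    (βh β).ker ⊔ (resHom v₀).ker =
      AddSubgroup.comap (βh β) (AddSubgroup.zmultiples (β v₀)) := by
  apply le_antisymm
  · apply sup_le
    · intro x hx
      rw [AddMonoidHom.mem_ker] at hx
      rw [AddSubgroup.mem_comap, hx]
      exact zero_mem _
    · intro x hx
      rw [AddMonoidHom.mem_ker] at hx
      rw [AddSubgroup.mem_comap, βh_apply, sum_eq_add_sum_ne v₀]
      have : ∀ v : {v // v ≠ v₀}, x v.1 * β v.1 = 0 := by
        intro v
        have := congrFun hx v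
        simp only [resHom, AddMonoidHom.coe_mk, ZeroHom.coe_mk, Pi.zero_apply] at this
        rw [this, zero_mul]
      rw [Finset.sum_eq_zero (fun v _ => this v), add_zero]
      exact AddSubgroup.mem_zmultiples_iff.mpr ⟨x v₀, by simp⟩
  · intro x hx
    rw [AddSubgroup.mem_comap, AddSubgroup.mem_zmultiples_iff] at hx
    obtain ⟨t, ht⟩ := hx
    rw [AddSubgroup.mem_sup]
    refine ⟨x - t • Pi.single v₀ 1, ?_, t • Pi.single v₀ 1, ?_, by abel⟩
    · rw [AddMonoidHom.mem_ker, map_sub, ← ht, map_zsmul, βh_apply]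
      simp [Pi.single_apply]
    · rw [AddMonoidHom.mem_ker]
      funext v
      simp [resHom, v.2]

theorem range_βh (m : ℤ) (r : V → ℤ) (hr : ∀ v, β v = m * r v)
    (hgcd : Finset.univ.gcd r = 1) :
    (βh β).range = AddSubgroup.zmultiples m := by
  apply le_antisymm
  · rintro _ ⟨x, rfl⟩
    rw [βh_apply, AddSubgroup.mem_zmultiples_iff]
    refine ⟨∑ v, x v * r v, ?_⟩
    rw [smul_eq_mul, Finset.sum_mul]
    apply Finset.sum_congr rfl
    intro v _
    rw [hr v]; ring
  · rw [AddSubgroup.zmultiples_le]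
    obtain ⟨g, hg⟩ := Finset.gcd_eq_sum_mul Finset.univ r
    rw [hgcd] at hg
    refine ⟨fun v => g v, ?_⟩
    rw [βh_apply]
    calc ∑ v, g v * β v = m * ∑ v, r v * g v := by
          rw [Finset.mul_sum]
          apply Finset.sum_congr rfl
          intro v _
          rw [hr v]; ring
      _ = m := by rw [← hg, mul_one]

theorem index_sup_kerRes (m : ℤ) (r : V → ℤ) (hm : m ≠ 0) (hr : ∀ v, β v = m * r v)
    (hgcd : Finset.univ.gcd r = 1) :
    ((βh β).ker ⊔ (resHom v₀).ker).index = (r v₀).natAbs := by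
  rw [sup_kerRes_eq, AddSubgroup.index_comap, range_βh β m r hr hgcd]
  have h1 : (AddSubgroup.zmultiples (β v₀)).relIndex (AddSubgroup.zmultiples m) *
      (AddSubgroup.zmultiples m).index = (AddSubgroup.zmultiples (β v₀)).index := by
    apply AddSubgroup.relIndex_mul_index
    rw [AddSubgroup.zmultiples_le, AddSubgroup.mem_zmultiples_iff]
    exact ⟨r v₀, by rw [hr v₀, smul_eq_mul, mul_comm]⟩
  rw [Int.index_zmultiples, Int.index_zmultiples] at h1
  have hm' : m.natAbs ≠ 0 := Int.natAbs_ne_zero.mpr hm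
  apply Nat.eq_of_mul_eq_mul_right (Nat.pos_of_ne_zero hm')
  rw [h1, hr v₀, Int.natAbs_mul, mul_comm]

theorem range_le_ker (hβα : β ᵥ* α = 0) : (αh α).range ≤ (βh β).ker := by
  rintro _ ⟨x, rfl⟩
  rw [AddMonoidHom.mem_ker, βh_apply, αh_apply]
  have : ∑ v, (α *ᵥ x) v * β v = β ⬝ᵥ (α *ᵥ x) := by
    simp only [dotProduct]
    apply Finset.sum_congr rfl
    intro v _
    ring
  rw [this, Matrix.dotProduct_mulVec, hβα, zero_dotProduct]

theorem kerRes_inf_ker (hβ0 : β v₀ ≠ 0) : (resHom v₀).ker ⊓ (βh β).ker = ⊥ := by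
  rw [eq_bot_iff]
  intro x hx
  rw [AddSubgroup.mem_inf, AddMonoidHom.mem_ker, AddMonoidHom.mem_ker] at hx
  obtain ⟨h1, h2⟩ := hx
  have hne : ∀ v : {v // v ≠ v₀}, x v.1 = 0 := fun v => congrFun h1 v
  rw [βh_apply, sum_eq_add_sum_ne v₀, Finset.sum_eq_zero (fun v _ => by rw [hne v, zero_mul]),
    add_zero] at h2
  have h0 : x v₀ = 0 := by
    rcases mul_eq_zero.mp h2 with h | h
    · exact h
    · exact absurd h hβ0
  rw [AddSubgroup.mem_bot]
  funext v
  by_cases hv : v = v₀
  · rw [hv]; exact h0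
  · exact hne ⟨v, hv⟩

theorem map_map_eq_range :
    (((evalHom v₀).ker.map (αh α)).map (resHom v₀)) =
      (LinearMap.range (Matrix.mulVecLin (minorAt α v₀))).toAddSubgroup := by
  ext y
  constructor
  · rintro ⟨_, ⟨x, hx, rfl⟩, rfl⟩
    refine ⟨resHom v₀ x, ?_⟩
    funext v
    exact minor_mulVec_res α v₀ x hx v
  · rintro ⟨z, rfl⟩
    refine ⟨α *ᵥ extZero v₀ z, ⟨extZero v₀ z, ?_, rfl⟩, ?_⟩
    · exact extZero_apply_self v₀ z
    · funext v
      have h := minor_mulVec_res α v₀ (extZero v₀ z) (extZero_apply_self v₀ z) v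
      have hz : resHom v₀ (extZero v₀ z) = z := by
        funext w; exact extZero_apply_ne v₀ z w
      rw [hz] at h
      exact h.symm

/-- **Index formula**: the order of `ker β / im α` times `r_{v₀}²` is the principal minor. -/
theorem relIndex_mul_sq (hβ0 : β v₀ ≠ 0) (hαβ : α *ᵥ β = 0) (hβα : β ᵥ* α = 0)
    (hdet : (minorAt α v₀).det ≠ 0)
    (m : ℤ) (r : V → ℤ) (hm : m ≠ 0) (hr : ∀ v, β v = m * r v)
    (hgcd : Finset.univ.gcd r = 1) :
    (αh α).range.relIndex (βh β).ker * (r v₀).natAbs ^ 2 = (minorAt α v₀).det.natAbs := by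
  set I := (αh α).range with hI
  set K := (βh β).ker with hK
  set H₀ := (evalHom v₀).ker.map (αh α) with hH₀
  have hIK : I ≤ K := range_le_ker α β hβα
  have hH₀I : H₀ ≤ I := AddSubgroup.map_le_range _ _
  -- Step 1
  have s1 : H₀.relIndex I = (r v₀).natAbs := by
    rw [hH₀, hI, AddMonoidHom.range_eq_map, AddSubgroup.relIndex_map_map, top_sup_eq,
      AddSubgroup.relIndex_top_right]
    exact index_sup_ker α β v₀ hαβ hdet m r hm hr hgcd
  -- Step 2
  have s2 : H₀.relIndex I * I.relIndex K = H₀.relIndex K :=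
    AddSubgroup.relIndex_mul_relIndex _ _ _ hH₀I hIK
  -- Step 3
  have s3 : (H₀.map (resHom v₀)).relIndex (K.map (resHom v₀)) = H₀.relIndex K := by
    rw [← AddSubgroup.relIndex_comap, AddSubgroup.comap_map_eq, ← AddSubgroup.inf_relIndex_right,
      sup_inf_assoc_of_le _ (hH₀I.trans hIK), kerRes_inf_ker β v₀ hβ0, sup_bot_eq]
  -- Step 4
  have s4 : (H₀.map (resHom v₀)).relIndex (K.map (resHom v₀)) * (K.map (resHom v₀)).index =
      (H₀.map (resHom v₀)).index :=
    AddSubgroup.relIndex_mul_index (AddSubgroup.map_mono (hH₀I.trans hIK))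
  have s5 : (K.map (resHom v₀)).index = (r v₀).natAbs := by
    rw [AddSubgroup.index_map, AddMonoidHom.range_eq_top_of_surjective _ (resHom_surjective v₀),
      AddSubgroup.index_top, mul_one]
    exact index_sup_kerRes β v₀ m r hm hr hgcd
  have s6 : (H₀.map (resHom v₀)).index = (minorAt α v₀).det.natAbs := by
    rw [hH₀, map_map_eq_range, index_range_mulVecLin _ hdet]
  rw [← s6, ← s4, s3, ← s2, s1, s5]
  ring

end PartB

end Helper91.MatTree
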