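import Groth.Prelude.Def_W4c5modbuncurvesppStab
import Mathlib

open PhiStab LabGraph

universe u

namespace Helper91.PhiStabLib

variable {V E : Type u} [Fintype V] [Fintype E] [DecidableEq V] [DecidableEq E]

/-- The cut edges of `S`. -/
def bd (ends : E → V × V) (S : Finset V) : Finset E :=
  Finset.univ.filter (fun e : E =>
    ((ends e).1 ∈ S ∧ (ends e).2 ∉ S) ∨ ((ends e).1 ∉ S ∧ (ends e).2 ∈ S))

theorem cut_eq (ends : E → V × V) (S : Finset V) : LabGraph.cut ends S = (bd ends S).card := rfl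

/-- No edge joins `S₁` and `S₂`. -/
def Sep (ends : E → V × V) (S₁ S₂ : Finset V) : Prop :=
  ∀ e : E, ¬ ((ends e).1 ∈ S₁ ∧ (ends e).2 ∈ S₂) ∧ ¬ ((ends e).1 ∈ S₂ ∧ (ends e).2 ∈ S₁)

theorem inner_union {ends : E → V × V} {S₁ S₂ : Finset V} (h : Sep ends S₁ S₂) :
    PhiStab.inner ends (S₁ ∪ S₂) = PhiStab.inner ends S₁ ∪ PhiStab.inner ends S₂ := by
  ext e
  simp only [PhiStab.inner, Finset.mem_filter, Finset.mem_univ, true_and, Finset.mem_union]
  have := h e
  tauto

theorem disjoint_inner {ends : E → V × V} {S₁ S₂ : Finset V} (hd : Disjoint S₁ S₂) :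
    Disjoint (PhiStab.inner ends S₁) (PhiStab.inner ends S₂) := by
  rw [Finset.disjoint_left]
  intro e h1 h2
  simp only [PhiStab.inner, Finset.mem_filter, Finset.mem_univ, true_and] at h1 h2
  exact Finset.disjoint_left.mp hd h1.1 h2.1

theorem bd_union {ends : E → V × V} {S₁ S₂ : Finset V} (hd : Disjoint S₁ S₂)
    (h : Sep ends S₁ S₂) : bd ends (S₁ ∪ S₂) = bd ends S₁ ∪ bd ends S₂ := by
  ext e
  simp only [bd, Finset.mem_filter, Finset.mem_univ, true_and, Finset.mem_union]
  have := h e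
  have h1 := @Finset.disjoint_left _ S₁ S₂
  have ha : (ends e).1 ∈ S₁ → (ends e).1 ∉ S₂ := fun x => Finset.disjoint_left.mp hd x
  have hb : (ends e).2 ∈ S₁ → (ends e).2 ∉ S₂ := fun x => Finset.disjoint_left.mp hd x
  tauto

theorem disjoint_bd {ends : E → V × V} {S₁ S₂ : Finset V} (hd : Disjoint S₁ S₂)
    (h : Sep ends S₁ S₂) : Disjoint (bd ends S₁) (bd ends S₂) := by
  rw [Finset.disjoint_left]
  intro e h1 h2
  simp only [bd, Finset.mem_filter, Finset.mem_univ, true_and] at h1 h2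
  have := h e
  have ha : (ends e).1 ∈ S₁ → (ends e).1 ∉ S₂ := fun x => Finset.disjoint_left.mp hd x
  have hb : (ends e).2 ∈ S₁ → (ends e).2 ∉ S₂ := fun x => Finset.disjoint_left.mp hd x
  tauto

theorem bd_compl (ends : E → V × V) (S : Finset V) : bd ends Sᶜ = bd ends S := by
  ext e
  simp only [bd, Finset.mem_filter, Finset.mem_univ, true_and, Finset.mem_compl, not_not]
  tauto

theorem card_inter_union (N A B : Finset E) (h : Disjoint A B) :
    (N ∩ (A ∪ B)).card = (N ∩ A).card + (N ∩ B).card := by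
  rw [Finset.inter_union_distrib_left, Finset.card_union_of_disjoint]
  exact Finset.disjoint_of_subset_left Finset.inter_subset_right
    (Finset.disjoint_of_subset_right Finset.inter_subset_right h)

theorem card_partition (ends : E → V × V) (N : Finset E) (S : Finset V) :
    N.card = (N ∩ PhiStab.inner ends S).card + (N ∩ PhiStab.inner ends Sᶜ).card + (N ∩ bd ends S).card := by
  have h1 : ∀ A : Finset E, (N ∩ A).card = ∑ e ∈ N, if e ∈ A then 1 else 0 := by
    intro A
    rw [Finset.sum_boole, Finset.filter_mem_eq_inter]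
    simp
  rw [h1, h1, h1, ← Finset.sum_add_distrib, ← Finset.sum_add_distrib, Finset.card_eq_sum_ones]
  apply Finset.sum_congr rfl
  intro e _
  simp only [PhiStab.inner, bd, Finset.mem_filter, Finset.mem_univ, true_and, Finset.mem_compl]
  by_cases ha : (ends e).1 ∈ S <;> by_cases hb : (ends e).2 ∈ S <;> simp [ha, hb]

variable (ends : E → V × V) (φ : V → ℝ) (m : V → ℤ) (N : Finset E)

/-- The slack in the stability inequality. -/
noncomputable def beta (S : Finset V) : ℝ :=
  (degOn ends m N S : ℝ) - (∑ v ∈ S, φ v) + (LabGraph.cut ends S : ℝ) / 2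

noncomputable def kappa (S : Finset V) : ℝ :=
  (LabGraph.cut ends S : ℝ) - ((N ∩ bd ends S).card : ℝ)

theorem beta_union {S₁ S₂ : Finset V} (hd : Disjoint S₁ S₂) (h : Sep ends S₁ S₂) :
    beta ends φ m N (S₁ ∪ S₂) = beta ends φ m N S₁ + beta ends φ m N S₂ := by
  simp only [beta, degOn, cut_eq]
  rw [inner_union h, bd_union hd h, card_inter_union N _ _ (disjoint_inner hd),
    Finset.card_union_of_disjoint (disjoint_bd hd h), Finset.sum_union hd, Finset.sum_union hd]
  push_cast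
  ring

theorem kappa_union {S₁ S₂ : Finset V} (hd : Disjoint S₁ S₂) (h : Sep ends S₁ S₂) :
    kappa ends N (S₁ ∪ S₂) = kappa ends N S₁ + kappa ends N S₂ := by
  simp only [kappa, cut_eq]
  rw [bd_union hd h, card_inter_union N _ _ (disjoint_bd hd h),
    Finset.card_union_of_disjoint (disjoint_bd hd h)]
  push_cast
  ring

theorem beta_add_compl (hdeg : (∑ v : V, φ v) = (totDeg m N : ℝ)) (S : Finset V) :
    beta ends φ m N S + beta ends φ m N Sᶜ = kappa ends N S := by
  simp only [beta, kappa, degOn, cut_eq, bd_compl]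
  have h1 := card_partition ends N S
  have h2 : (∑ v ∈ S, φ v) + ∑ v ∈ Sᶜ, φ v = ∑ v : V, φ v := Finset.sum_add_sum_compl S φ
  have h3 : (∑ v ∈ S, m v) + ∑ v ∈ Sᶜ, m v = ∑ v : V, m v := Finset.sum_add_sum_compl S m
  have h4 : ((∑ v : V, m v : ℤ) : ℝ) + (N.card : ℝ) = ∑ v : V, φ v := by
    rw [hdeg, totDeg]; push_cast; ring
  have h1' : (N.card : ℝ) = ((N ∩ PhiStab.inner ends S).card : ℝ) + ((N ∩ PhiStab.inner ends Sᶜ).card : ℝ) +
      ((N ∩ bd ends S).card : ℝ) := by exact_mod_cast h1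
  have h3' : ((∑ v ∈ S, m v : ℤ) : ℝ) + ((∑ v ∈ Sᶜ, m v : ℤ) : ℝ) = ((∑ v : V, m v : ℤ) : ℝ) := by
    exact_mod_cast h3
  push_cast at h3' h4 ⊢
  linarith

end Helper91.PhiStabLib
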