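import Groth.Prelude.Def_W4c5modbuncurvesppStab
import Mathlib
import Groth.Agent.Lib.Helper91.PhiStabBeta

open PhiStab LabGraph

universe u

namespace Helper91.PhiStabLib

variable {V E : Type u} [Fintype V] [Fintype E] [DecidableEq V] [DecidableEq E]

/-- Adjacency inside the vertex set `S`. -/
def adjIn (ends : E → V × V) (S : Finset V) (a b : V) : Prop :=
  a ∈ S ∧ b ∈ S ∧ LabGraph.Adj ends a b

theorem adj_symm {ends : E → V × V} {a b : V} (h : LabGraph.Adj ends a b) :
    LabGraph.Adj ends b a := by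
  obtain ⟨e, he⟩ := h
  exact ⟨e, he.symm⟩

theorem adjIn_symm {ends : E → V × V} {S : Finset V} {a b : V} (h : adjIn ends S a b) :
    adjIn ends S b a :=
  ⟨h.2.1, h.1, adj_symm h.2.2⟩

theorem rtg_symm {ends : E → V × V} {S : Finset V} {a b : V}
    (h : Relation.ReflTransGen (adjIn ends S) a b) : Relation.ReflTransGen (adjIn ends S) b a := by
  induction h with
  | refl => exact Relation.ReflTransGen.refl
  | tail _ hbc ih => exact Relation.ReflTransGen.head (adjIn_symm hbc) ih

theorem rtg_map {α β : Type*} {r : α → α → Prop} {p : β → β → Prop} (f : α → β)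
    (h : ∀ a b, r a b → p (f a) (f b)) {a b : α} (hab : Relation.ReflTransGen r a b) :
    Relation.ReflTransGen p (f a) (f b) := by
  induction hab with
  | refl => exact Relation.ReflTransGen.refl
  | tail _ hbc ih => exact ih.tail (h _ _ hbc)

theorem adjIn_mono {ends : E → V × V} {S T : Finset V} (h : S ⊆ T) {a b : V}
    (hab : adjIn ends S a b) : adjIn ends T a b :=
  ⟨h hab.1, h hab.2.1, hab.2.2⟩

/-- `S` induces a connected subgraph (vertex-level formulation). -/
def conn (ends : E → V × V) (S : Finset V) : Prop :=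
  S.Nonempty ∧ ∀ v ∈ S, ∀ w ∈ S, Relation.ReflTransGen (adjIn ends S) v w

theorem adj_indEnds_iff (ends : E → V × V) (S : Finset V) (a b : {v : V // v ∈ S}) :
    LabGraph.Adj (indEnds ends S) a b ↔ LabGraph.Adj ends a.1 b.1 := by
  constructor
  · rintro ⟨e, he | he⟩
    · refine ⟨e.1, Or.inl ?_⟩
      have h1 := congrArg (fun p => (p.1.1, p.2.1)) he
      simpa [indEnds] using h1
    · refine ⟨e.1, Or.inr ?_⟩
      have h1 := congrArg (fun p => (p.1.1, p.2.1)) he
      simpa [indEnds] using h1
  · rintro ⟨e, he | he⟩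
    · have hmem : e ∈ PhiStab.inner ends S := by
        simp only [PhiStab.inner, Finset.mem_filter, Finset.mem_univ, true_and, he]
        exact ⟨a.2, b.2⟩
      refine ⟨⟨e, hmem⟩, Or.inl ?_⟩
      apply Prod.ext <;> apply Subtype.ext <;> simp [indEnds, he]
    · have hmem : e ∈ PhiStab.inner ends S := by
        simp only [PhiStab.inner, Finset.mem_filter, Finset.mem_univ, true_and, he]
        exact ⟨b.2, a.2⟩
      refine ⟨⟨e, hmem⟩, Or.inr ?_⟩
      apply Prod.ext <;> apply Subtype.ext <;> simp [indEnds, he]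

theorem connected_indEnds_iff (ends : E → V × V) (S : Finset V) :
    LabGraph.Connected (indEnds ends S) ↔ conn ends S := by
  constructor
  · rintro ⟨⟨⟨v, hv⟩⟩, h⟩
    refine ⟨⟨v, hv⟩, fun a ha b hb => ?_⟩
    have := h ⟨a, ha⟩ ⟨b, hb⟩
    exact rtg_map (p := adjIn ends S) Subtype.val
      (fun x y hxy => ⟨x.2, y.2, (adj_indEnds_iff ends S x y).mp hxy⟩) this
  · rintro ⟨⟨v, hv⟩, h⟩
    refine ⟨⟨⟨v, hv⟩⟩, fun a b => ?_⟩
    have hab := h a.1 a.2 b.1 b.2
    have key : ∀ w : V, Relation.ReflTransGen (adjIn ends S) a.1 w → ∀ hw : w ∈ S,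
        Relation.ReflTransGen (LabGraph.Adj (indEnds ends S)) a ⟨w, hw⟩ := by
      intro w hw
      induction hw with
      | refl => intro _; exact Relation.ReflTransGen.refl
      | tail _ hbc ih =>
        intro hc
        exact Relation.ReflTransGen.tail (ih hbc.1)
          ((adj_indEnds_iff ends S ⟨_, hbc.1⟩ ⟨_, hc⟩).mpr hbc.2.2)
    exact key b.1 hab b.2

theorem isElementary_iff (ends : E → V × V) (S : Finset V) :
    IsElementary ends S ↔ conn ends S ∧ conn ends Sᶜ := by
  rw [IsElementary, connected_indEnds_iff, connected_indEnds_iff]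

theorem exists_split (ends : E → V × V) (S : Finset V) (hne : S.Nonempty)
    (hnc : ¬ conn ends S) :
    ∃ S₁ S₂ : Finset V, S₁ ∪ S₂ = S ∧ Disjoint S₁ S₂ ∧ S₁.Nonempty ∧ S₂.Nonempty ∧
      Sep ends S₁ S₂ := by
  classical
  obtain ⟨v₀, hv₀⟩ := hne
  refine ⟨S.filter (fun v => Relation.ReflTransGen (adjIn ends S) v₀ v),
    S.filter (fun v => ¬ Relation.ReflTransGen (adjIn ends S) v₀ v),
    Finset.filter_union_filter_not_eq _ S, Finset.disjoint_filter_filter_not _ _ _,
    ⟨v₀, Finset.mem_filter.mpr ⟨hv₀, Relation.ReflTransGen.refl⟩⟩, ?_, ?_⟩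
  · by_contra hemp
    rw [Finset.not_nonempty_iff_eq_empty] at hemp
    apply hnc
    have hall : ∀ v ∈ S, Relation.ReflTransGen (adjIn ends S) v₀ v := by
      intro v hv
      by_contra hv'
      have : v ∈ S.filter (fun v => ¬ Relation.ReflTransGen (adjIn ends S) v₀ v) :=
        Finset.mem_filter.mpr ⟨hv, hv'⟩
      rw [hemp] at this
      exact absurd this (Finset.notMem_empty v)
    refine ⟨⟨v₀, hv₀⟩, fun v hv w hw => ?_⟩
    exact (rtg_symm (hall v hv)).trans (hall w hw)
  · intro e
    constructor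
    · rintro ⟨h1, h2⟩
      rw [Finset.mem_filter] at h1 h2
      apply h2.2
      exact Relation.ReflTransGen.tail h1.2 ⟨h1.1, h2.1, e, Or.inl rfl⟩
    · rintro ⟨h1, h2⟩
      rw [Finset.mem_filter] at h1 h2
      apply h1.2
      exact Relation.ReflTransGen.tail h2.2 ⟨h2.1, h1.1, e, Or.inr rfl⟩

theorem conn_union (ends : E → V × V) (hconn : LabGraph.Connected ends) {S T₁ T₂ : Finset V}
    (hS : conn ends S) (hT : Sᶜ = T₁ ∪ T₂) (hsep : Sep ends T₁ T₂) : conn ends (S ∪ T₂) := by
  obtain ⟨⟨s₀, hs₀⟩, hSc⟩ := hS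
  have hcover : ∀ v : V, v ∈ S ∨ v ∈ T₁ ∨ v ∈ T₂ := by
    intro v
    by_cases hv : v ∈ S
    · exact Or.inl hv
    · right
      have : v ∈ Sᶜ := Finset.mem_compl.mpr hv
      rw [hT, Finset.mem_union] at this
      exact this
  have key : ∀ v : V, Relation.ReflTransGen (LabGraph.Adj ends) v s₀ → v ∈ S ∪ T₂ →
      ∃ s ∈ S, Relation.ReflTransGen (adjIn ends (S ∪ T₂)) v s := by
    intro v hv
    induction hv using Relation.ReflTransGen.head_induction_on with
    | refl => intro _; exact ⟨s₀, hs₀, Relation.ReflTransGen.refl⟩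
    | head hab hcb ih =>
      rename_i a b
      intro ha
      by_cases haS : a ∈ S
      · exact ⟨a, haS, Relation.ReflTransGen.refl⟩
      · have haT : a ∈ T₂ := by
          rcases Finset.mem_union.mp ha with h | h
          · exact absurd h haS
          · exact h
        have hb : b ∈ S ∪ T₂ := by
          rcases hcover b with h | h | h
          · exact Finset.mem_union_left _ h
          · exfalso
            obtain ⟨e, he | he⟩ := hab
            · have := (hsep e).2
              rw [he] at this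
              exact this ⟨haT, h⟩
            · have := (hsep e).1
              rw [he] at this
              exact this ⟨h, haT⟩
          · exact Finset.mem_union_right _ h
        obtain ⟨s, hs, hbs⟩ := ih hb
        exact ⟨s, hs, Relation.ReflTransGen.head ⟨ha, hb, hab⟩ hbs⟩
  refine ⟨⟨s₀, Finset.mem_union_left _ hs₀⟩, fun v hv w hw => ?_⟩
  obtain ⟨s, hs, hvs⟩ := key v (hconn.2 v s₀) hv
  obtain ⟨s', hs', hws'⟩ := key w (hconn.2 w s₀) hw
  have hss' : Relation.ReflTransGen (adjIn ends (S ∪ T₂)) s s' :=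
    rtg_map (p := adjIn ends (S ∪ T₂)) id (fun a b h => adjIn_mono Finset.subset_union_left h)
      (hSc s hs s' hs')
  exact (hvs.trans hss').trans (rtg_symm hws')

end Helper91.PhiStabLib
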