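import Groth.Prelude.Def_W4c5modbuncurvesppStab
import Mathlib
import Groth.Agent.Lib.Helper91.PhiStabGraph

open PhiStab LabGraph

universe u

namespace Helper91.PhiStabLib

variable {V E : Type u} [Fintype V] [Fintype E] [DecidableEq V] [DecidableEq E]

variable (ends : E → V × V) (φ : V → ℝ) (m : V → ℤ) (N : Finset E)

/-- Core induction: a property of reals closed under addition that holds for the slack of all
elementary sets holds for the slack of all nonempty proper sets. -/
theorem beta_core (hconn : LabGraph.Connected ends)
    (hdeg : (∑ v : V, φ v) = (totDeg m N : ℝ)) (Q : ℝ → Prop)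
    (hQ : ∀ a b, Q a → Q b → Q (a + b))
    (hel : ∀ S : Finset V, IsElementary ends S → Q (beta ends φ m N S)) :
    ∀ S : Finset V, S.Nonempty → S ≠ Finset.univ → Q (beta ends φ m N S) := by
  -- Step 2: connected S
  have step2 : ∀ n : ℕ, ∀ S : Finset V, Sᶜ.card = n → S.Nonempty → S ≠ Finset.univ →
      conn ends S → Q (beta ends φ m N S) := by
    intro n
    induction n using Nat.strong_induction_on with
    | _ n ih =>
      intro S hn hne hnu hc
      by_cases hcc : conn ends Sᶜ
      · exact hel S ((isElementary_iff ends S).mpr ⟨hc, hcc⟩)
      · have hcne : Sᶜ.Nonempty := by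
          rw [Finset.nonempty_iff_ne_empty]
          intro h0
          apply hnu
          rw [← Finset.compl_eq_empty_iff]; exact h0
        obtain ⟨T₁, T₂, hT, hd, h1, h2, hsep⟩ := exists_split ends Sᶜ hcne hcc
        have hsep' : Sep ends T₂ T₁ := fun e => ⟨(hsep e).2, (hsep e).1⟩
        have hT' : Sᶜ = T₂ ∪ T₁ := by rw [Finset.union_comm]; exact hT.symm
        -- formula
        have e1 := beta_add_compl ends φ m N hdeg Sᶜ
        rw [compl_compl] at e1
        have e2 := beta_union ends φ m N hd hsep
        have e3 := kappa_union ends N hd hsep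
        have e4 := beta_add_compl ends φ m N hdeg T₁
        have e5 := beta_add_compl ends φ m N hdeg T₂
        rw [hT] at e2 e3
        have hform : beta ends φ m N S = beta ends φ m N T₁ᶜ + beta ends φ m N T₂ᶜ := by
          linarith
        rw [hform]
        have hT1c : T₁ᶜ = S ∪ T₂ := by
          ext v
          have hv : v ∈ Sᶜ ↔ v ∈ T₁ ∪ T₂ := by rw [hT]
          have hdv : v ∈ T₁ → v ∉ T₂ := fun h => Finset.disjoint_left.mp hd h
          simp only [Finset.mem_compl, Finset.mem_union] at hv ⊢
          tauto
        have hT2c : T₂ᶜ = S ∪ T₁ := by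
          ext v
          have hv : v ∈ Sᶜ ↔ v ∈ T₁ ∪ T₂ := by rw [hT]
          have hdv : v ∈ T₁ → v ∉ T₂ := fun h => Finset.disjoint_left.mp hd h
          simp only [Finset.mem_compl, Finset.mem_union] at hv ⊢
          tauto
        have hcard : T₁.card + T₂.card = n := by
          rw [← hn, ← hT, Finset.card_union_of_disjoint hd]
        have hc1 : 0 < T₁.card := Finset.card_pos.mpr h1
        have hc2 : 0 < T₂.card := Finset.card_pos.mpr h2
        apply hQ
        · apply ih T₁.card (by omega) T₁ᶜ (by rw [compl_compl])
          · rw [hT1c]; exact hne.mono Finset.subset_union_left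
          · intro h; rw [← Finset.compl_eq_empty_iff, compl_compl] at h
            exact Finset.nonempty_iff_ne_empty.mp h1 h
          · rw [hT1c]; exact conn_union ends hconn hc hT.symm hsep
        · apply ih T₂.card (by omega) T₂ᶜ (by rw [compl_compl])
          · rw [hT2c]; exact hne.mono Finset.subset_union_left
          · intro h; rw [← Finset.compl_eq_empty_iff, compl_compl] at h
            exact Finset.nonempty_iff_ne_empty.mp h2 h
          · rw [hT2c]; exact conn_union ends hconn hc hT' hsep'
  -- Step 1: all S
  have step1 : ∀ n : ℕ, ∀ S : Finset V, S.card = n → S.Nonempty → S ≠ Finset.univ →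
      Q (beta ends φ m N S) := by
    intro n
    induction n using Nat.strong_induction_on with
    | _ n ih =>
      intro S hn hne hnu
      by_cases hc : conn ends S
      · exact step2 _ S rfl hne hnu hc
      · obtain ⟨S₁, S₂, hS, hd, h1, h2, hsep⟩ := exists_split ends S hne hc
        have hcard : S₁.card + S₂.card = n := by
          rw [← hn, ← hS, Finset.card_union_of_disjoint hd]
        have hc1 : 0 < S₁.card := Finset.card_pos.mpr h1
        have hc2 : 0 < S₂.card := Finset.card_pos.mpr h2
        have hsub1 : S₁ ⊆ S := by rw [← hS]; exact Finset.subset_union_left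
        have hsub2 : S₂ ⊆ S := by rw [← hS]; exact Finset.subset_union_right
        rw [← hS, beta_union ends φ m N hd hsep]
        apply hQ
        · apply ih S₁.card (by omega) S₁ rfl h1
          intro h; apply hnu; rw [h] at hsub1; exact Finset.univ_subset_iff.mp hsub1
        · apply ih S₂.card (by omega) S₂ rfl h2
          intro h; apply hnu; rw [h] at hsub2; exact Finset.univ_subset_iff.mp hsub2
  intro S hne hnu
  exact step1 _ S rfl hne hnu

theorem isElementary_nonempty_ne_univ {S : Finset V} (h : IsElementary ends S) :
    S.Nonempty ∧ S ≠ Finset.univ := by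
  rw [isElementary_iff] at h
  refine ⟨h.1.1, ?_⟩
  intro hS
  have := h.2.1
  rw [hS, Finset.compl_univ] at this
  exact Finset.not_nonempty_empty this

theorem main18374 (hconn : LabGraph.Connected ends)
    (hdeg : (∑ v : V, φ v) = (totDeg m N : ℝ)) :
    (IsSemistable ends φ m N ↔
      ∀ S : Finset V, IsElementary ends S →
        (∑ v ∈ S, φ v) - (LabGraph.cut ends S : ℝ) / 2 ≤ (degOn ends m N S : ℝ)) ∧
    (IsStable ends φ m N ↔
      ∀ S : Finset V, IsElementary ends S →
        (∑ v ∈ S, φ v) - (LabGraph.cut ends S : ℝ) / 2 < (degOn ends m N S : ℝ)) := by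
  constructor
  · constructor
    · intro h S hS
      obtain ⟨h1, h2⟩ := isElementary_nonempty_ne_univ ends hS
      exact h S h1 h2
    · intro h S hne hnu
      have := beta_core ends φ m N hconn hdeg (fun x => 0 ≤ x) (fun a b ha hb => add_nonneg ha hb)
        (fun S hS => by have := h S hS; simp only [beta]; linarith) S hne hnu
      simp only [beta] at this
      linarith
  · constructor
    · intro h S hS
      obtain ⟨h1, h2⟩ := isElementary_nonempty_ne_univ ends hS
      exact h S h1 h2
    · intro h S hne hnu
      have := beta_core ends φ m N hconn hdeg (fun x => 0 < x) (fun a b ha hb => add_pos ha hb)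
        (fun S hS => by have := h S hS; simp only [beta]; linarith) S hne hnu
      simp only [beta] at this
      linarith

end Helper91.PhiStabLib
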