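import Groth.Prelude.Def_W4c5modbuncurvesppStab
import Mathlib
import Groth.Agent.Lib.Helper87.LabGraphCycle1

open PhiStab LabGraph Groth.Agent.Lib.Helper87

universe u

namespace Helper91.TreeLib

variable {V E : Type u} [Fintype V] [Fintype E] [DecidableEq V] [DecidableEq E]

/-- In a forest, the boundary map with coefficients in a field has trivial kernel. -/
theorem eq_zero_of_bdK_eq_zero (K : Type*) [Field K] (ends : E → V × V)
    (hF : DualGr.IsForest ends) (γ : E → K) (hγ : ∀ v, bdK K ends γ v = 0) : γ = 0 := by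
  classical
  by_contra hne
  have hleaf := no_leaf_of_cycle K ends γ hγ
  have hS : (Finset.univ.filter (fun e => γ e ≠ 0)).Nonempty := by
    obtain ⟨e, he⟩ := Function.ne_iff.mp hne
    exact ⟨e, by simpa using he⟩
  obtain ⟨C, _, hC⟩ := exists_isCircuit_subset ends _ hS hleaf
  exact hF C hC

theorem bdK_single (K : Type*) [CommRing K] (ends : E → V × V) (e : E) (c : K) (v : V) :
    bdK K ends (Pi.single e c) v =
      (if (ends e).2 = v then c else 0) - (if (ends e).1 = v then c else 0) := by
  unfold bdK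
  rw [Finset.sum_eq_single e]
  · simp
  · intro e' _ hne
    simp [hne]
  · intro h; exact absurd (Finset.mem_univ e) h

theorem bdK_add (K : Type*) [CommRing K] (ends : E → V × V) (γ γ' : E → K) (v : V) :
    bdK K ends (γ + γ') v = bdK K ends γ v + bdK K ends γ' v := by
  have := congrFun ((bdKLin K ends).map_add γ γ') v
  exact this

theorem bdK_smul (K : Type*) [CommRing K] (ends : E → V × V) (c : K) (γ : E → K) (v : V) :
    bdK K ends (c • γ) v = c * bdK K ends γ v := by
  have := congrFun ((bdKLin K ends).map_smul c γ) v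
  exact this

theorem bdK_sub (K : Type*) [CommRing K] (ends : E → V × V) (γ γ' : E → K) (v : V) :
    bdK K ends (γ - γ') v = bdK K ends γ v - bdK K ends γ' v := by
  have := congrFun ((bdKLin K ends).map_sub γ γ') v
  exact this

/-- Adjacency through an edge satisfying `P`. -/
def adjP (ends : E → V × V) (P : E → Prop) (x y : V) : Prop :=
  ∃ e, P e ∧ (ends e = (x, y) ∨ ends e = (y, x))

/-- A chain of `P`-edges from `u` to `w` gives an edge vector supported on `P` with boundary
`δ_w - δ_u`. -/
theorem exists_chain_vector (K : Type*) [CommRing K] (ends : E → V × V) (P : E → Prop) {u w : V}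
    (h : Relation.ReflTransGen (adjP ends P) u w) :
    ∃ γ : E → K, (∀ e, ¬ P e → γ e = 0) ∧
      ∀ v, bdK K ends γ v = (if w = v then 1 else 0) - (if u = v then 1 else 0) := by
  induction h with
  | refl =>
    refine ⟨0, fun _ _ => rfl, fun v => ?_⟩
    have := congrFun ((bdKLin K ends).map_zero) v
    rw [sub_self]; exact this
  | tail _ hbc ih =>
    rename_i b c
    obtain ⟨γ, hγ0, hγ⟩ := ih
    obtain ⟨e, hPe, he | he⟩ := hbc
    · refine ⟨γ + Pi.single e 1, ?_, ?_⟩
      · intro e' he'
        have hne : e' ≠ e := by rintro rfl; exact he' hPe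
        simp [hγ0 e' he', hne]
      · intro v
        rw [bdK_add, hγ, bdK_single, he]
        ring
    · refine ⟨γ - Pi.single e 1, ?_, ?_⟩
      · intro e' he'
        have hne : e' ≠ e := by rintro rfl; exact he' hPe
        simp [hγ0 e' he', hne]
      · intro v
        rw [bdK_sub, hγ, bdK_single, he]
        ring

theorem rtg_map' {α β : Type*} {r : α → α → Prop} {p : β → β → Prop} (f : α → β)
    (h : ∀ a b, r a b → p (f a) (f b)) {a b : α} (hab : Relation.ReflTransGen r a b) :
    Relation.ReflTransGen p (f a) (f b) := by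
  induction hab with
  | refl => exact Relation.ReflTransGen.refl
  | tail _ hbc ih => exact ih.tail (h _ _ hbc)

theorem adj_spanEnds_iff (ends : E → V × V) (F : Finset E) (x y : V) :
    LabGraph.Adj (spanEnds ends F) x y ↔ adjP ends (· ∈ F) x y := by
  constructor
  · rintro ⟨e, he⟩
    exact ⟨e.1, e.2, he⟩
  · rintro ⟨e, heF, he⟩
    exact ⟨⟨e, heF⟩, he⟩

theorem mem_side_iff (ends : E → V × V) (e : E) (v : V) :
    v ∈ side ends e ↔
      Relation.ReflTransGen (adjP ends (· ∈ Finset.univ.erase e)) (ends e).1 v := by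
  classical
  simp only [side, Finset.mem_filter, Finset.mem_univ, true_and]
  constructor
  · intro h
    exact rtg_map' id (fun a b hab => (adj_spanEnds_iff ends _ a b).mp hab) h
  · intro h
    exact rtg_map' id (fun a b hab => (adj_spanEnds_iff ends _ a b).mpr hab) h

theorem fst_mem_side (ends : E → V × V) (e : E) : (ends e).1 ∈ side ends e :=
  (mem_side_iff ends e _).mpr Relation.ReflTransGen.refl

/-- In a forest, the second endpoint of `e` is not on the side of the first endpoint. -/
theorem snd_not_mem_side (ends : E → V × V) (hF : DualGr.IsForest ends) (e : E) :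
    (ends e).2 ∉ side ends e := by
  intro hmem
  rw [mem_side_iff] at hmem
  obtain ⟨γ, hγ0, hγ⟩ := exists_chain_vector ℝ ends _ hmem
  have hcyc : ∀ v, bdK ℝ ends (γ - Pi.single e 1) v = 0 := by
    intro v
    rw [bdK_sub, hγ, bdK_single]
    ring
  have h0 := eq_zero_of_bdK_eq_zero ℝ ends hF _ hcyc
  have he := congrFun h0 e
  have hγe : γ e = 0 := hγ0 e (by simp)
  simp [hγe] at he

/-- Any edge other than `e` has both or neither endpoint on the side of `e`. -/
theorem side_closed (ends : E → V × V) (e e' : E) (hne : e' ≠ e) :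
    (ends e').1 ∈ side ends e ↔ (ends e').2 ∈ side ends e := by
  rw [mem_side_iff, mem_side_iff]
  have hmem : e' ∈ Finset.univ.erase e := Finset.mem_erase.mpr ⟨hne, Finset.mem_univ _⟩
  constructor
  · intro h
    exact h.tail ⟨e', hmem, Or.inl rfl⟩
  · intro h
    exact h.tail ⟨e', hmem, Or.inr rfl⟩

/-- The cut lemma: the total boundary over the side of `e` is minus the value at `e`. -/
theorem sum_side_bdK (ends : E → V × V) (hF : DualGr.IsForest ends) (e : E) (γ : E → ℝ) :
    ∑ v ∈ side ends e, bdK ℝ ends γ v = - γ e := by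
  unfold bdK
  rw [Finset.sum_comm]
  rw [Finset.sum_eq_single e]
  · rw [Finset.sum_sub_distrib, Finset.sum_ite_eq, Finset.sum_ite_eq]
    simp [fst_mem_side, snd_not_mem_side ends hF e]
  · intro e' _ hne
    rw [Finset.sum_sub_distrib, Finset.sum_ite_eq, Finset.sum_ite_eq]
    by_cases h : (ends e').1 ∈ side ends e
    · simp [h, (side_closed ends e e' hne).mp h]
    · have h2 : (ends e').2 ∉ side ends e := fun h' => h ((side_closed ends e e' hne).mpr h')
      simp [h, h2]
  · intro h; exact absurd (Finset.mem_univ e) h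

/-- In a connected graph every vertex vector of total zero is a boundary. -/
theorem exists_bdK_eq (ends : E → V × V) (hc : LabGraph.Connected ends) (ψ : V → ℝ)
    (hψ : ∑ v, ψ v = 0) : ∃ γ : E → ℝ, ∀ v, bdK ℝ ends γ v = ψ v := by
  classical
  obtain ⟨⟨v₀⟩, hconn⟩ := hc
  have hch : ∀ w : V, ∃ γ : E → ℝ, ∀ v, bdK ℝ ends γ v =
      (if w = v then 1 else 0) - (if v₀ = v then 1 else 0) := by
    intro w
    have h := hconn v₀ w
    have h' : Relation.ReflTransGen (adjP ends (fun _ => True)) v₀ w :=
      rtg_map' id (fun a b ⟨e, he⟩ => ⟨e, trivial, he⟩) h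
    obtain ⟨γ, _, hγ⟩ := exists_chain_vector ℝ ends _ h'
    exact ⟨γ, hγ⟩
  choose Γ hΓ using hch
  refine ⟨∑ w, ψ w • Γ w, fun v => ?_⟩
  have h1 : bdK ℝ ends (∑ w, ψ w • Γ w) v = ∑ w, ψ w * bdK ℝ ends (Γ w) v := by
    have := congrFun (map_sum (bdKLin ℝ ends) (fun w => ψ w • Γ w) Finset.univ) v
    rw [Finset.sum_apply] at this
    refine this.trans ?_
    apply Finset.sum_congr rfl
    intro w _
    exact bdK_smul ℝ ends (ψ w) (Γ w) v
  rw [h1]
  simp only [hΓ, mul_sub, Finset.sum_sub_distrib, mul_ite, mul_one, mul_zero]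
  rw [Finset.sum_ite_eq' Finset.univ v ψ]
  simp only [Finset.mem_univ, if_true]
  by_cases h : v₀ = v <;> simp [h, hψ]

theorem main18382 (ends : E → V × V) (hT : DualGr.IsTree ends) (c : E → ℝ) (c₀ : ℝ) :
    ∃! φ : V → ℝ, (∀ e : E, (∑ v ∈ side ends e, φ v) = c e) ∧ (∑ v : V, φ v) = c₀ := by
  classical
  obtain ⟨hconn, hF⟩ := hT
  obtain ⟨⟨v₀⟩, _⟩ := id hconn
  -- existence
  set γ : E → ℝ := fun e => - c e + (if v₀ ∈ side ends e then c₀ else 0) with hγ
  set φ : V → ℝ := fun v => bdK ℝ ends γ v + (if v₀ = v then c₀ else 0) with hφ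
  refine ⟨φ, ⟨fun e => ?_, ?_⟩, ?_⟩
  · simp only [hφ]
    rw [Finset.sum_add_distrib, sum_side_bdK ends hF e γ, Finset.sum_ite_eq]
    simp only [hγ]
    ring
  · simp only [hφ]
    rw [Finset.sum_add_distrib, sum_bdK, Finset.sum_ite_eq]
    simp
  · -- uniqueness
    rintro φ' ⟨h1, h2⟩
    have hφ1 : ∀ e : E, (∑ v ∈ side ends e, φ v) = c e := by
      intro e
      simp only [hφ]
      rw [Finset.sum_add_distrib, sum_side_bdK ends hF e γ, Finset.sum_ite_eq]
      simp only [hγ]
      ring
    have hφ2 : (∑ v : V, φ v) = c₀ := by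
      simp only [hφ]
      rw [Finset.sum_add_distrib, sum_bdK, Finset.sum_ite_eq]
      simp
    set ψ : V → ℝ := fun v => φ' v - φ v with hψ
    have hψ0 : ∑ v, ψ v = 0 := by
      simp only [hψ]
      rw [Finset.sum_sub_distrib, h2, hφ2, sub_self]
    obtain ⟨δ, hδ⟩ := exists_bdK_eq ends hconn ψ hψ0
    have hδ0 : δ = 0 := by
      funext e
      have := sum_side_bdK ends hF e δ
      simp only [hδ, hψ] at this
      rw [Finset.sum_sub_distrib, h1, hφ1, sub_self] at this
      simp only [Pi.zero_apply]
      linarith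
    funext v
    have := hδ v
    rw [hδ0] at this
    have h0 : bdK ℝ ends (0 : E → ℝ) v = 0 := congrFun ((bdKLin ℝ ends).map_zero) v
    rw [h0] at this
    simp only [hψ] at this
    linarith

end Helper91.TreeLib
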