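import Groth.Prelude.Def_W4c5modbuncurvesppStab
import Mathlib
import Groth.Agent.Lib.Helper91.TreeLib
import Groth.Agent.Lib.Helper91.PhiStabMain

open PhiStab LabGraph Groth.Agent.Lib.Helper87 Helper91.TreeLib Helper91.PhiStabLib

universe u

namespace Helper91.TreeLib

variable {V E : Type u} [Fintype V] [Fintype E] [DecidableEq V] [DecidableEq E]

/-- The cut lemma over any commutative ring. -/
theorem sum_side_bdK' (K : Type*) [CommRing K] (ends : E → V × V) (hF : DualGr.IsForest ends)
    (e : E) (γ : E → K) : ∑ v ∈ side ends e, bdK K ends γ v = - γ e := by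
  unfold bdK
  rw [Finset.sum_comm]
  rw [Finset.sum_eq_single e]
  · rw [Finset.sum_sub_distrib, Finset.sum_ite_eq, Finset.sum_ite_eq]
    simp [fst_mem_side, snd_not_mem_side ends hF e]
  · intro e' _ hne
    rw [Finset.sum_sub_distrib, Finset.sum_ite_eq, Finset.sum_ite_eq]
    by_cases h : (ends e').1 ∈ side ends e
    · simp [h, (side_closed ends e e' hne).mp h]
    · have h2 : (ends e').2 ∉ side ends e := fun h' => h ((side_closed ends e e' hne).mpr h')
      simp [h, h2]
  · intro h; exact absurd (Finset.mem_univ e) h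

theorem adjP_symm {ends : E → V × V} {P : E → Prop} {a b : V} (h : adjP ends P a b) :
    adjP ends P b a := by
  obtain ⟨e, hP, he⟩ := h
  exact ⟨e, hP, he.symm⟩

theorem rtg_symm' {α : Type*} {r : α → α → Prop} (hr : ∀ a b, r a b → r b a) {a b : α}
    (h : Relation.ReflTransGen r a b) : Relation.ReflTransGen r b a := by
  induction h with
  | refl => exact Relation.ReflTransGen.refl
  | tail _ hbc ih => exact Relation.ReflTransGen.head (hr _ _ hbc) ih

/-- The cut of the side of an edge in a forest is `1`. -/
theorem cut_side (ends : E → V × V) (hF : DualGr.IsForest ends) (e : E) :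
    LabGraph.cut ends (side ends e) = 1 := by
  unfold LabGraph.cut
  rw [Finset.card_eq_one]
  refine ⟨e, ?_⟩
  ext e'
  simp only [Finset.mem_filter, Finset.mem_univ, true_and, Finset.mem_singleton]
  constructor
  · intro h
    by_contra hne
    have := side_closed ends e e' hne
    tauto
  · rintro rfl
    exact Or.inl ⟨fst_mem_side ends e', snd_not_mem_side ends hF e'⟩

theorem side_nonempty (ends : E → V × V) (e : E) : (side ends e).Nonempty :=
  ⟨_, fst_mem_side ends e⟩

theorem side_ne_univ (ends : E → V × V) (hF : DualGr.IsForest ends) (e : E) :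
    side ends e ≠ Finset.univ := by
  intro h
  exact snd_not_mem_side ends hF e (h ▸ Finset.mem_univ _)

theorem exists_crossing {α : Type*} {r : α → α → Prop} (S : Set α) {s s' : α}
    (h : Relation.ReflTransGen r s s') (hs : s ∈ S) (hs' : s' ∉ S) :
    ∃ x y, r x y ∧ x ∈ S ∧ y ∉ S := by
  induction h with
  | refl => exact absurd hs hs'
  | @tail b c _ hbc ih =>
    by_cases hb : b ∈ S
    · exact ⟨b, c, hbc, hb, hs'⟩
    · exact ih hb

/-- An elementary set of a forest containing the first but not the second endpoint of `e` is the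
side of `e`. -/
theorem eq_side_of_conn (ends : E → V × V) (hF : DualGr.IsForest ends) {S : Finset V}
    (hS : conn ends S) (hSc : conn ends Sᶜ) (e : E) (ha : (ends e).1 ∈ S) (hb : (ends e).2 ∉ S) :
    S = side ends e := by
  have key : ∀ (R : Finset V) (x : V), x ∈ R → ((ends e).1 ∉ R ∨ (ends e).2 ∉ R) → ∀ v,
      Relation.ReflTransGen (adjIn ends R) x v →
      Relation.ReflTransGen (adjP ends (· ∈ Finset.univ.erase e)) x v := by
    intro R x _ hR v hv
    refine rtg_map' id (fun a b hab => ?_) hv
    obtain ⟨haR, hbR, e', he'⟩ := hab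
    refine ⟨e', Finset.mem_erase.mpr ⟨?_, Finset.mem_univ _⟩, he'⟩
    rintro rfl
    rcases he' with he' | he'
    · rw [he'] at hR; simp only at hR; tauto
    · rw [he'] at hR; simp only at hR; tauto
  ext v
  constructor
  · intro hv
    rw [mem_side_iff]
    exact key S _ ha (Or.inr hb) v (hS.2 _ ha v hv)
  · intro hv
    by_contra hvS
    have hvc : v ∈ Sᶜ := Finset.mem_compl.mpr hvS
    have hbc : (ends e).2 ∈ Sᶜ := Finset.mem_compl.mpr hb
    have h1 := key Sᶜ _ hbc (Or.inl (by simpa using ha)) v (hSc.2 _ hbc v hvc)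
    rw [mem_side_iff] at hv
    have h2 := hv.trans (rtg_symm' (fun a b => adjP_symm) h1)
    exact snd_not_mem_side ends hF e ((mem_side_iff ends e _).mpr h2)

/-- Elementary sets of a tree are sides of edges or their complements. -/
theorem exists_eq_side_of_isElementary (ends : E → V × V) (hT : DualGr.IsTree ends)
    {S : Finset V} (hS : IsElementary ends S) :
    ∃ e : E, S = side ends e ∨ Sᶜ = side ends e := by
  obtain ⟨hconn, hF⟩ := hT
  rw [isElementary_iff] at hS
  obtain ⟨h1, h2⟩ := hS
  obtain ⟨s, hs⟩ := h1.1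
  obtain ⟨s', hs'⟩ := h2.1
  obtain ⟨x, y, ⟨e, he⟩, hx, hy⟩ := exists_crossing (S : Set V) (hconn.2 s s') hs
    (by simpa using hs')
  refine ⟨e, ?_⟩
  rcases he with he | he
  · left
    apply eq_side_of_conn ends hF h1 h2 e
    · rw [he]; exact hx
    · rw [he]; exact hy
  · right
    apply eq_side_of_conn ends hF h2 (by rw [compl_compl]; exact h1) e
    · rw [he]; simpa using hy
    · rw [he]; simpa using hx

end Helper91.TreeLib
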