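import Groth.Prelude.Def_W4c5modbuncurvesppStab
import Mathlib
import Groth.Agent.Lib.Helper91.TreeLib2

open PhiStab LabGraph Groth.Agent.Lib.Helper87 Helper91.TreeLib Helper91.PhiStabLib

universe u

namespace Helper91.TreeLib

variable {V E : Type u} [Fintype V] [Fintype E] [DecidableEq V] [DecidableEq E]

/-- The cut condition. -/
def cutCond (ends : E → V × V) (S : Finset V) (e : E) : Prop :=
  ((ends e).1 ∈ S ∧ (ends e).2 ∉ S) ∨ ((ends e).1 ∉ S ∧ (ends e).2 ∈ S)

instance (ends : E → V × V) (S : Finset V) : DecidablePred (cutCond ends S) := fun e => by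
  unfold cutCond; infer_instance

theorem cut_spanEnds (ends : E → V × V) (T : Finset E) (S : Finset V) :
    LabGraph.cut (spanEnds ends T) S = ∑ e ∈ T, if cutCond ends S e then 1 else 0 := by
  unfold LabGraph.cut
  rw [Finset.card_filter]
  rw [← Finset.sum_coe_sort T (fun e => if cutCond ends S e then 1 else 0)]
  rfl

theorem cut_eq_sum (ends : E → V × V) (S : Finset V) :
    LabGraph.cut ends S = ∑ e : E, if cutCond ends S e then 1 else 0 := by
  unfold LabGraph.cut
  rw [Finset.card_filter]
  rfl

theorem card_inter_inner (ends : E → V × V) (N : Finset E) (S : Finset V) :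
    (N ∩ PhiStab.inner ends S).card =
      ∑ e ∈ N, if ((ends e).1 ∈ S ∧ (ends e).2 ∈ S) then 1 else 0 := by
  have : N ∩ PhiStab.inner ends S = N.filter (fun e => (ends e).1 ∈ S ∧ (ends e).2 ∈ S) := by
    ext e
    simp [PhiStab.inner]
  rw [this, Finset.card_filter]

theorem sum_endCount_on (ends : E → V × V) (N : Finset E) (S : Finset V) :
    ∑ v ∈ S, endCount ends N v =
      ∑ e ∈ N, ((if (ends e).1 ∈ S then 1 else 0) + (if (ends e).2 ∈ S then 1 else 0)) := by
  unfold endCount
  rw [Finset.sum_comm]
  apply Finset.sum_congr rfl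
  intro e _
  rw [Finset.sum_add_distrib, Finset.sum_ite_eq, Finset.sum_ite_eq]

/-- The counting identity behind the transfer to the tree. -/
theorem transfer_nat (ends : E → V × V) (T : Finset E) (S : Finset V) :
    2 * (Tᶜ ∩ PhiStab.inner ends S).card + LabGraph.cut ends S =
      ∑ v ∈ S, endCount ends Tᶜ v + LabGraph.cut (spanEnds ends T) S := by
  rw [card_inter_inner, cut_eq_sum, cut_spanEnds, sum_endCount_on,
    ← Finset.sum_add_sum_compl T (fun e => if cutCond ends S e then 1 else 0), Finset.mul_sum]
  have : ∀ e ∈ Tᶜ, 2 * (if ((ends e).1 ∈ S ∧ (ends e).2 ∈ S) then 1 else 0) +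
      (if cutCond ends S e then 1 else 0) =
      ((if (ends e).1 ∈ S then 1 else 0) + (if (ends e).2 ∈ S then 1 else 0)) := by
    intro e _
    unfold cutCond
    by_cases ha : (ends e).1 ∈ S <;> by_cases hb : (ends e).2 ∈ S <;> simp [ha, hb]
  rw [← Finset.sum_congr rfl this, Finset.sum_add_distrib]
  ring

/-- The shifted stability parameter on the tree. -/
noncomputable def phiT (ends : E → V × V) (T : Finset E) (φ : V → ℝ) (v : V) : ℝ :=
  φ v - (endCount ends Tᶜ v : ℝ) / 2

theorem beta_transfer (ends : E → V × V) (T : Finset E) (φ : V → ℝ) (m : V → ℤ)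
    (S : Finset V) :
    beta ends φ m Tᶜ S = beta (spanEnds ends T) (phiT ends T φ) m ∅ S := by
  have h := transfer_nat ends T S
  have h' : (2 : ℝ) * ((Tᶜ ∩ PhiStab.inner ends S).card : ℝ) + (LabGraph.cut ends S : ℝ) =
      (∑ v ∈ S, (endCount ends Tᶜ v : ℝ)) + (LabGraph.cut (spanEnds ends T) S : ℝ) := by
    exact_mod_cast h
  simp only [beta, degOn, phiT, Finset.empty_inter, Finset.card_empty, Finset.sum_sub_distrib,
    ← Finset.sum_div]
  push_cast
  linarith

theorem isSemistable_transfer (ends : E → V × V) (T : Finset E) (φ : V → ℝ) (m : V → ℤ) :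
    IsSemistable ends φ m Tᶜ ↔ IsSemistable (spanEnds ends T) (phiT ends T φ) m ∅ := by
  constructor
  · intro h S h1 h2
    have := h S h1 h2
    have e := beta_transfer ends T φ m S
    simp only [beta] at e
    linarith
  · intro h S h1 h2
    have := h S h1 h2
    have e := beta_transfer ends T φ m S
    simp only [beta] at e
    linarith

theorem isStable_transfer (ends : E → V × V) (T : Finset E) (φ : V → ℝ) (m : V → ℤ) :
    IsStable ends φ m Tᶜ ↔ IsStable (spanEnds ends T) (phiT ends T φ) m ∅ := by
  constructor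
  · intro h S h1 h2
    have := h S h1 h2
    have e := beta_transfer ends T φ m S
    simp only [beta] at e
    linarith
  · intro h S h1 h2
    have := h S h1 h2
    have e := beta_transfer ends T φ m S
    simp only [beta] at e
    linarith

theorem sum_phiT (ends : E → V × V) (T : Finset E) (φ : V → ℝ) :
    ∑ v, phiT ends T φ v = (∑ v, φ v) - (Tᶜ.card : ℝ) := by
  simp only [phiT, Finset.sum_sub_distrib, ← Finset.sum_div]
  have := sum_endCount ends Tᶜ
  have h' : (∑ v, (endCount ends Tᶜ v : ℝ)) = 2 * (Tᶜ.card : ℝ) := by exact_mod_cast this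
  rw [h']
  ring

end Helper91.TreeLib
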