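import Groth.Prelude.Def_W4c5modbuncurvesppStab
import Mathlib
import Groth.Agent.Lib.Helper91.TreeTransfer

open PhiStab LabGraph Groth.Agent.Lib.Helper87 Helper91.TreeLib Helper91.PhiStabLib

universe u

namespace Helper91.TreeLib

variable {V E : Type u} [Fintype V] [Fintype E] [DecidableEq V] [DecidableEq E]

theorem cut_compl (ends : E → V × V) (S : Finset V) :
    LabGraph.cut ends Sᶜ = LabGraph.cut ends S := by
  rw [cut_eq, cut_eq, bd_compl]

/-- Integer solution of the side-sum system on a tree. -/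
theorem exists_int_solution (ends : E → V × V) (hT : DualGr.IsTree ends) (k : E → ℤ) (b' : ℤ) :
    ∃ m : V → ℤ, (∀ e, ∑ v ∈ side ends e, m v = k e) ∧ ∑ v, m v = b' := by
  classical
  obtain ⟨hconn, hF⟩ := hT
  obtain ⟨⟨v₀⟩, _⟩ := id hconn
  set γ : E → ℤ := fun e => - k e + (if v₀ ∈ side ends e then b' else 0) with hγ
  refine ⟨fun v => bdK ℤ ends γ v + (if v₀ = v then b' else 0), fun e => ?_, ?_⟩
  · rw [Finset.sum_add_distrib, sum_side_bdK' ℤ ends hF e γ, Finset.sum_ite_eq]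
    simp only [hγ]
    ring
  · rw [Finset.sum_add_distrib, sum_bdK, Finset.sum_ite_eq]
    simp

/-- Stability on a tree (with `N = ∅`) pins the side sums to an open unit interval. -/
theorem side_sum_bounds (ends : E → V × V) (hT : DualGr.IsTree ends) (φ : V → ℝ) (m : V → ℤ)
    (hdeg : ∑ v, φ v = ((∑ v, m v : ℤ) : ℝ)) (hst : IsStable ends φ m ∅) (e : E) :
    (∑ v ∈ side ends e, φ v) - 1 / 2 < ((∑ v ∈ side ends e, m v : ℤ) : ℝ) ∧
      ((∑ v ∈ side ends e, m v : ℤ) : ℝ) < (∑ v ∈ side ends e, φ v) + 1 / 2 := by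
  obtain ⟨hconn, hF⟩ := hT
  have h1 := hst (side ends e) (side_nonempty ends e) (side_ne_univ ends hF e)
  have hcne : (side ends e)ᶜ.Nonempty := ⟨_, Finset.mem_compl.mpr (snd_not_mem_side ends hF e)⟩
  have hcnu : (side ends e)ᶜ ≠ Finset.univ := by
    intro h
    have := fst_mem_side ends e
    have h' : (ends e).1 ∈ (side ends e)ᶜ := h ▸ Finset.mem_univ _
    exact (Finset.mem_compl.mp h') this
  have h2 := hst (side ends e)ᶜ hcne hcnu
  rw [cut_compl, cut_side ends hF e] at h2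
  rw [cut_side ends hF e] at h1
  simp only [degOn, Finset.empty_inter, Finset.card_empty, Nat.cast_zero, add_zero,
    Nat.cast_one, Int.cast_add, Int.cast_zero] at h1 h2
  have hs1 : (∑ v ∈ side ends e, φ v) + ∑ v ∈ (side ends e)ᶜ, φ v = ∑ v, φ v :=
    Finset.sum_add_sum_compl _ _
  have hs2 : (∑ v ∈ side ends e, m v) + ∑ v ∈ (side ends e)ᶜ, m v = ∑ v, m v :=
    Finset.sum_add_sum_compl _ _
  have hs2' : ((∑ v ∈ side ends e, m v : ℤ) : ℝ) + ((∑ v ∈ (side ends e)ᶜ, m v : ℤ) : ℝ) =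
      ((∑ v, m v : ℤ) : ℝ) := by exact_mod_cast hs2
  constructor
  · linarith
  · linarith

theorem main18375 (ends : E → V × V) (T : Finset E)
    (hT : DualGr.IsTree (spanEnds ends T)) (b : ℤ) (φ : V → ℝ) (hφ : (∑ v : V, φ v) = (b : ℝ))
    (hnd : Nondegenerate ends φ) :
    ∃! m : V → ℤ, totDeg m Tᶜ = b ∧ IsStable ends φ m Tᶜ := by
  classical
  have hconn := hT.1
  have hF := hT.2
  set φ' := phiT ends T φ with hφ'
  set b' : ℤ := b - (Tᶜ.card : ℤ) with hb'
  have hsumφ' : ∑ v, φ' v = (b' : ℝ) := by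
    rw [hφ', sum_phiT, hφ, hb']; push_cast; ring
  -- existence
  obtain ⟨m, hm1, hm2⟩ := exists_int_solution (spanEnds ends T) hT
    (fun e => ⌈(∑ v ∈ side (spanEnds ends T) e, φ' v) - 1 / 2⌉) b'
  have htot : totDeg m Tᶜ = b := by
    rw [totDeg, hm2, hb']; ring
  have hdegT : (∑ v, φ' v) = (totDeg (E := {e // e ∈ T}) m ∅ : ℝ) := by
    rw [hsumφ', totDeg, hm2]; simp
  have hsemiT : IsSemistable (spanEnds ends T) φ' m ∅ := by
    rw [(main18374 (spanEnds ends T) φ' m ∅ hconn hdegT).1]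
    intro S hS
    obtain ⟨e, he | he⟩ := exists_eq_side_of_isElementary (spanEnds ends T) hT hS
    · rw [he, cut_side _ hF e]
      simp only [degOn, Finset.empty_inter, Finset.card_empty, Nat.cast_zero, add_zero, hm1 e,
        Nat.cast_one]
      exact Int.le_ceil _
    · have hc : LabGraph.cut (spanEnds ends T) S = 1 := by
        rw [← cut_compl, he, cut_side _ hF e]
      rw [hc]
      simp only [degOn, Finset.empty_inter, Finset.card_empty, Nat.cast_zero, add_zero,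
        Nat.cast_one]
      have hs1 : (∑ v ∈ S, φ' v) + ∑ v ∈ Sᶜ, φ' v = ∑ v, φ' v := Finset.sum_add_sum_compl _ _
      have hs2 : (∑ v ∈ S, m v) + ∑ v ∈ Sᶜ, m v = ∑ v, m v := Finset.sum_add_sum_compl _ _
      rw [he, hm1 e, hm2] at hs2
      rw [he, hsumφ'] at hs1
      have hlt := Int.ceil_lt_add_one ((∑ v ∈ side (spanEnds ends T) e, φ' v) - 1 / 2)
      have hs2' : ((∑ v ∈ S, m v : ℤ) : ℝ) +
          ((⌈(∑ v ∈ side (spanEnds ends T) e, φ' v) - 1 / 2⌉ : ℤ) : ℝ) = (b' : ℝ) := by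
        exact_mod_cast hs2
      linarith
  have hsemi : IsSemistable ends φ m Tᶜ := (isSemistable_transfer ends T φ m).mpr hsemiT
  have hstab : IsStable ends φ m Tᶜ := hnd m Tᶜ (by rw [hφ, htot]) hsemi
  refine ⟨m, ⟨htot, hstab⟩, ?_⟩
  -- uniqueness
  rintro m' ⟨htot', hstab'⟩
  have hm2' : ∑ v, m' v = b' := by
    rw [totDeg] at htot'
    rw [hb']; linarith
  have hstT : IsStable (spanEnds ends T) φ' m ∅ := (isStable_transfer ends T φ m).mp hstab
  have hstT' : IsStable (spanEnds ends T) φ' m' ∅ := (isStable_transfer ends T φ m').mp hstab'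
  have hside : ∀ e, ∑ v ∈ side (spanEnds ends T) e, m' v = ∑ v ∈ side (spanEnds ends T) e, m v := by
    intro e
    have h1 := side_sum_bounds (spanEnds ends T) hT φ' m (by rw [hsumφ', hm2]) hstT e
    have h2 := side_sum_bounds (spanEnds ends T) hT φ' m' (by rw [hsumφ', hm2']) hstT' e
    have hlt : ((∑ v ∈ side (spanEnds ends T) e, m' v : ℤ) : ℝ) -
        ((∑ v ∈ side (spanEnds ends T) e, m v : ℤ) : ℝ) < 1 := by linarith [h1.1, h2.2]
    have hgt : (-1 : ℝ) < ((∑ v ∈ side (spanEnds ends T) e, m' v : ℤ) : ℝ) -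
        ((∑ v ∈ side (spanEnds ends T) e, m v : ℤ) : ℝ) := by linarith [h1.2, h2.1]
    have hlt' : (∑ v ∈ side (spanEnds ends T) e, m' v) - (∑ v ∈ side (spanEnds ends T) e, m v) < 1 := by
      exact_mod_cast hlt
    have hgt' : -1 < (∑ v ∈ side (spanEnds ends T) e, m' v) - (∑ v ∈ side (spanEnds ends T) e, m v) := by
      exact_mod_cast hgt
    omega
  obtain ⟨ψ, _, huniq⟩ := main18382 (spanEnds ends T) hT
    (fun e => ((∑ v ∈ side (spanEnds ends T) e, m v : ℤ) : ℝ)) (b' : ℝ)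
  have e1 : (fun v => (m v : ℝ)) = ψ := by
    apply huniq
    refine ⟨fun e => ?_, ?_⟩
    · push_cast; rfl
    · rw [← hm2]; push_cast; rfl
  have e2 : (fun v => (m' v : ℝ)) = ψ := by
    apply huniq
    refine ⟨fun e => ?_, ?_⟩
    · rw [← hside e]; push_cast; rfl
    · rw [← hm2']; push_cast; rfl
  funext v
  have := congrFun (e2.trans e1.symm) v
  exact_mod_cast this

end Helper91.TreeLib
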