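import Groth.Prelude.Def_W4c5modbuncurvesppStab
import Mathlib
import Groth.Agent.Lib.Helper91.TreeStable

open PhiStab LabGraph Groth.Agent.Lib.Helper87 Helper91.TreeLib Helper91.PhiStabLib

universe u

namespace Helper91.TreeLib

variable {V E : Type u} [Fintype V] [Fintype E] [DecidableEq V] [DecidableEq E]

/-- Edge-level acyclicity of an edge set (mod 2 cycles supported on `F` vanish). -/
def Acyc (ends : E → V × V) (F : Finset E) : Prop :=
  ∀ γ : E → ZMod 2, (∀ e, e ∉ F → γ e = 0) → (∀ v, bdK (ZMod 2) ends γ v = 0) → γ = 0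

/-- Reachability through edges of `F`. -/
def Reach (ends : E → V × V) (F : Finset E) (v w : V) : Prop :=
  Relation.ReflTransGen (adjP ends (· ∈ F)) v w

theorem Reach.symm {ends : E → V × V} {F : Finset E} {v w : V} (h : Reach ends F v w) :
    Reach ends F w v :=
  rtg_symm' (fun _ _ => adjP_symm) h

theorem Reach.mono {ends : E → V × V} {F F' : Finset E} (hFF' : F ⊆ F') {v w : V}
    (h : Reach ends F v w) : Reach ends F' v w :=
  rtg_map' id (fun _ _ ⟨e, he, h⟩ => ⟨e, hFF' he, h⟩) h

theorem bdK_spanEnds (K : Type*) [CommRing K] (ends : E → V × V) (F : Finset E)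
    (f : {e // e ∈ F} → K) (v : V) :
    bdK K (spanEnds ends F) f v =
      bdK K ends (fun e => if h : e ∈ F then f ⟨e, h⟩ else 0) v := by
  unfold bdK
  symm
  rw [← Finset.sum_subset (Finset.subset_univ F)]
  · rw [← Finset.sum_coe_sort F]
    apply Finset.sum_congr rfl
    intro e _
    have hfe : (if h : (e : E) ∈ F then f ⟨e, h⟩ else 0) = f e := by simp [e.2]
    simp only [spanEnds, hfe]
    by_cases h1 : (ends ↑e).2 = v <;> by_cases h2 : (ends ↑e).1 = v <;> simp [h1, h2]
  · intro e _ he
    simp [he]

theorem acyc_empty (ends : E → V × V) : Acyc ends ∅ := by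
  intro γ h _
  funext e
  exact h e (Finset.notMem_empty e)

/-- Bridge: edge-level acyclicity gives a forest in the sense of the prelude. -/
theorem isForest_of_acyc (ends : E → V × V) (F : Finset E) (h : Acyc ends F) :
    DualGr.IsForest (spanEnds ends F) := by
  classical
  intro C hC
  obtain ⟨hne, heven, _⟩ := hC
  set f' : {e // e ∈ F} → ZMod 2 := fun e => if e ∈ C then 1 else 0 with hf'
  have hfilter : Finset.univ.filter (fun e => f' e ≠ 0) = C := by
    ext e
    simp [hf']
  have hbd : ∀ v, bdK (ZMod 2) (spanEnds ends F) f' v = 0 := by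
    intro v
    rw [← endCount_cast_zmod_two (spanEnds ends F) f' v, hfilter]
    exact (ZMod.natCast_eq_zero_iff_even).mpr (heven v)
  have h0 := h (fun e => if h : e ∈ F then f' ⟨e, h⟩ else 0)
    (fun e he => by simp [he]) (fun v => by rw [← bdK_spanEnds]; exact hbd v)
  obtain ⟨e, he⟩ := hne
  have := congrFun h0 e.1
  simp [e.2, hf', he] at this

theorem connected_spanEnds (ends : E → V × V) (F : Finset E) (hV : Nonempty V)
    (h : ∀ v w, Reach ends F v w) : LabGraph.Connected (spanEnds ends F) :=
  ⟨hV, fun v w => rtg_map' id (fun a b hab => (adj_spanEnds_iff ends F a b).mpr hab) (h v w)⟩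

/-- General cut formula. -/
theorem sum_bdK_on (K : Type*) [CommRing K] (ends : E → V × V) (A : Finset V) (γ : E → K) :
    ∑ v ∈ A, bdK K ends γ v =
      ∑ e, ((if (ends e).2 ∈ A then γ e else 0) - (if (ends e).1 ∈ A then γ e else 0)) := by
  unfold bdK
  rw [Finset.sum_comm]
  apply Finset.sum_congr rfl
  intro e _
  rw [Finset.sum_sub_distrib, Finset.sum_ite_eq, Finset.sum_ite_eq]

/-- Adding an edge joining two different components keeps acyclicity. -/
theorem acyc_insert (ends : E → V × V) (F : Finset E) (hF : Acyc ends F) (e : E)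
    (hnr : ¬ Reach ends F (ends e).1 (ends e).2) : Acyc ends (insert e F) := by
  classical
  intro γ hsupp hcyc
  set A : Finset V := Finset.univ.filter (fun v => Reach ends F (ends e).1 v) with hA
  have hclosed : ∀ e' ∈ F, ((ends e').1 ∈ A ↔ (ends e').2 ∈ A) := by
    intro e' he'
    simp only [hA, Finset.mem_filter, Finset.mem_univ, true_and]
    constructor
    · intro h; exact h.tail ⟨e', he', Or.inl rfl⟩
    · intro h; exact h.tail ⟨e', he', Or.inr rfl⟩
  have haA : (ends e).1 ∈ A := by
    simp only [hA, Finset.mem_filter, Finset.mem_univ, true_and]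
    exact Relation.ReflTransGen.refl
  have hbA : (ends e).2 ∉ A := by
    simp only [hA, Finset.mem_filter, Finset.mem_univ, true_and]
    exact hnr
  have hsum : ∑ v ∈ A, bdK (ZMod 2) ends γ v = - γ e := by
    rw [sum_bdK_on, Finset.sum_eq_single e]
    · simp [haA, hbA]
    · intro e' _ hne
      by_cases he'F : e' ∈ F
      · by_cases h1 : (ends e').1 ∈ A
        · simp [h1, (hclosed e' he'F).mp h1]
        · have h2 : (ends e').2 ∉ A := fun h' => h1 ((hclosed e' he'F).mpr h')
          simp [h1, h2]
      · have : γ e' = 0 := hsupp e' (by simp [hne, he'F])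
        simp [this]
    · intro h; exact absurd (Finset.mem_univ e) h
  have hγe : γ e = 0 := by
    have : ∑ v ∈ A, bdK (ZMod 2) ends γ v = 0 := Finset.sum_eq_zero (fun v _ => hcyc v)
    rw [this] at hsum
    exact neg_eq_zero.mp hsum.symm
  apply hF γ _ hcyc
  intro e' he'
  by_cases hee : e' = e
  · rw [hee]; exact hγe
  · exact hsupp e' (by simp [hee, he'])

end Helper91.TreeLib
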