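import Groth.Prelude.Def_W4c5modbuncurvesppStab
import Mathlib
import Groth.Agent.Lib.Helper91.TreeAcyc

open PhiStab LabGraph Groth.Agent.Lib.Helper87 Helper91.TreeLib Helper91.PhiStabLib

universe u

namespace Helper91.TreeLib

variable {V E : Type u} [Fintype V] [Fintype E] [DecidableEq V] [DecidableEq E]

/-- Converse bridge: a forest in the sense of the prelude is edge-level acyclic. -/
theorem acyc_of_isForest (ends : E → V × V) (F : Finset E)
    (h : DualGr.IsForest (spanEnds ends F)) : Acyc ends F := by
  classical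
  intro γ hsupp hcyc
  have hext : (fun e => if h : e ∈ F then (fun e' : {e // e ∈ F} => γ e'.1) ⟨e, h⟩ else 0) = γ := by
    funext e
    by_cases he : e ∈ F
    · simp [he]
    · simp [he, hsupp e he]
  have h0 := eq_zero_of_bdK_eq_zero (ZMod 2) (spanEnds ends F) h (fun e' => γ e'.1) (fun v => by
    rw [bdK_spanEnds, hext]; exact hcyc v)
  funext e
  by_cases he : e ∈ F
  · exact congrFun h0 ⟨e, he⟩
  · exact hsupp e he

/-- The indicator of an even edge set is a mod 2 cycle. -/
theorem bdK_indicator_of_even (ends : E → V × V) (C : Finset E)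
    (heven : ∀ v, Even (endCount ends C v)) (v : V) :
    bdK (ZMod 2) ends (fun e => if e ∈ C then 1 else 0) v = 0 := by
  classical
  have hfilter : Finset.univ.filter (fun e => (fun e => if e ∈ C then (1 : ZMod 2) else 0) e ≠ 0) = C := by
    ext e
    simp
  rw [← endCount_cast_zmod_two ends _ v, hfilter]
  exact (ZMod.natCast_eq_zero_iff_even).mpr (heven v)

/-- An acyclic edge set contains no circuit. -/
theorem not_subset_of_acyc (ends : E → V × V) (F : Finset E) (hF : Acyc ends F)
    (C : Finset E) (hC : IsCircuit ends C) : ¬ C ⊆ F := by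
  classical
  intro hCF
  obtain ⟨⟨e, he⟩, heven, _⟩ := hC
  have h0 := hF (fun e => if e ∈ C then 1 else 0) (fun e' he' => by
    have : e' ∉ C := fun h => he' (hCF h)
    simp [this]) (bdK_indicator_of_even ends C heven)
  have := congrFun h0 e
  simp [he] at this

/-- A circuit minus an edge is acyclic. -/
theorem acyc_erase_of_isCircuit (ends : E → V × V) (C : Finset E) (hC : IsCircuit ends C)
    (e₀ : E) (he₀ : e₀ ∈ C) : Acyc ends (C.erase e₀) := by
  classical
  intro γ hsupp hcyc
  by_contra hne
  set C' := Finset.univ.filter (fun e => γ e ≠ 0) with hC'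
  have hC'ne : C'.Nonempty := by
    obtain ⟨e, he⟩ := Function.ne_iff.mp hne
    exact ⟨e, by simpa [hC'] using he⟩
  have hsub : C' ⊆ C.erase e₀ := by
    intro e he
    by_contra hnot
    simp only [hC', Finset.mem_filter, Finset.mem_univ, true_and] at he
    exact he (hsupp e hnot)
  have hss : C' ⊂ C := by
    refine Finset.ssubset_of_subset_of_ssubset hsub (Finset.erase_ssubset he₀)
  obtain ⟨v, hv⟩ := hC.2.2 C' hss hC'ne
  apply hv
  rw [← ZMod.natCast_eq_zero_iff_even, hC', endCount_cast_zmod_two]
  exact hcyc v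

/-- In a connected graph every acyclic edge set extends to a spanning tree. -/
theorem exists_spanning_tree_superset (ends : E → V × V) (hconn : LabGraph.Connected ends)
    (F₀ : Finset E) (hF₀ : Acyc ends F₀) :
    ∃ T : Finset E, F₀ ⊆ T ∧ Acyc ends T ∧ DualGr.IsTree (spanEnds ends T) := by
  classical
  set 𝓕 : Finset (Finset E) :=
    Finset.univ.filter (fun F => Acyc ends F ∧ F₀ ⊆ F) with h𝓕
  have hne : 𝓕.Nonempty := ⟨F₀, by simp [h𝓕, hF₀]⟩
  obtain ⟨F, hFmem, hFmax⟩ := 𝓕.exists_maximal hne
  simp only [h𝓕, Finset.mem_filter, Finset.mem_univ, true_and] at hFmem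
  obtain ⟨hFac, hFsub⟩ := hFmem
  have hins : ∀ e, e ∉ F → ¬ Reach ends F (ends e).1 (ends e).2 → False := by
    intro e heF hnr
    have hmem : insert e F ∈ 𝓕 := by
      simp only [h𝓕, Finset.mem_filter, Finset.mem_univ, true_and]
      exact ⟨acyc_insert ends F hFac e hnr, hFsub.trans (Finset.subset_insert e F)⟩
    exact heF (hFmax hmem (Finset.subset_insert e F) (Finset.mem_insert_self e F))
  have hall : ∀ x y, Reach ends F x y := by
    intro x y
    by_contra hnot
    obtain ⟨z, z', ⟨e', he'⟩, hxz, hxz'⟩ :=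
      exists_crossing {z | Reach ends F x z} (hconn.2 x y) Relation.ReflTransGen.refl hnot
    have hzz' : ¬ Reach ends F z z' := fun h => hxz' (Relation.ReflTransGen.trans hxz h)
    have he'F : e' ∉ F := by
      intro h
      exact hzz' (Relation.ReflTransGen.single ⟨e', h, he'⟩)
    have hnr : ¬ Reach ends F (ends e').1 (ends e').2 := by
      intro hr
      rcases he' with h | h
      · rw [h] at hr; exact hzz' hr
      · rw [h] at hr; exact hzz' hr.symm
    exact hins e' he'F hnr
  exact ⟨F, hFsub, hFac, connected_spanEnds ends F hconn.1 hall, isForest_of_acyc ends F hFac⟩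

/-- Reachability in a connected sub-multigraph. -/
theorem reach_of_connected_spanEnds (ends : E → V × V) (F : Finset E)
    (h : LabGraph.Connected (spanEnds ends F)) (v w : V) : Reach ends F v w :=
  rtg_map' id (fun a b hab => (adj_spanEnds_iff ends F a b).mp hab) (h.2 v w)

theorem main14804 (ends : E → V × V) (hG : LabGraph.Connected ends) (v : V) :
    (∃ C : Finset E, LabGraph.IsCircuit ends C ∧ LabGraph.endCount ends C v ≠ 0) ↔
      ∃ T : Finset E, DualGr.IsTree (spanEnds ends T) ∧
        ∃ e : E, e ∉ T ∧ ((ends e).1 = v ∨ (ends e).2 = v) := by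
  classical
  constructor
  · rintro ⟨C, hC, hv⟩
    have hex : ∃ e₀ ∈ C, (ends e₀).1 = v ∨ (ends e₀).2 = v := by
      by_contra hnot
      push Not at hnot
      apply hv
      unfold endCount
      apply Finset.sum_eq_zero
      intro e he
      obtain ⟨h1, h2⟩ := hnot e he
      simp [h1, h2]
    obtain ⟨e₀, he₀C, he₀v⟩ := hex
    obtain ⟨T, hsub, hTac, hT⟩ :=
      exists_spanning_tree_superset ends hG (C.erase e₀) (acyc_erase_of_isCircuit ends C hC e₀ he₀C)
    refine ⟨T, hT, e₀, ?_, he₀v⟩
    intro he₀T
    apply not_subset_of_acyc ends T hTac C hC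
    intro e he
    by_cases hee : e = e₀
    · rw [hee]; exact he₀T
    · exact hsub (Finset.mem_erase.mpr ⟨hee, he⟩)
  · rintro ⟨T, hT, e, heT, hev⟩
    have hTac : Acyc ends T := acyc_of_isForest ends T hT.2
    have hreach := reach_of_connected_spanEnds ends T hT.1 (ends e).1 (ends e).2
    obtain ⟨γ, hγ0, hγ⟩ := exists_chain_vector (ZMod 2) ends (· ∈ T) hreach
    set γ' : E → ZMod 2 := γ + Pi.single e 1 with hγ'
    have hcyc : ∀ w, bdK (ZMod 2) ends γ' w = 0 := by
      intro w
      rw [hγ', bdK_add, hγ, bdK_single]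
      have h2 : ∀ x : ZMod 2, x + x = 0 := by decide
      have := h2 ((if (ends e).2 = w then 1 else 0) - (if (ends e).1 = w then 1 else 0))
      exact this
    have hγ'e : γ' e ≠ 0 := by
      simp [hγ', hγ0 e heT]
    have hS : (Finset.univ.filter (fun e => γ' e ≠ 0)).Nonempty := ⟨e, by simpa using hγ'e⟩
    obtain ⟨C, hCS, hC⟩ := exists_isCircuit_subset ends _ hS (no_leaf_of_cycle (ZMod 2) ends γ' hcyc)
    refine ⟨C, hC, ?_⟩
    have heC : e ∈ C := by
      by_contra heC
      apply not_subset_of_acyc ends T hTac C hC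
      intro e' he'
      have h1 := hCS he'
      simp only [Finset.mem_filter, Finset.mem_univ, true_and] at h1
      by_contra he'T
      apply h1
      have hne : e' ≠ e := by rintro rfl; exact heC he'
      simp [hγ', hγ0 e' he'T, hne]
    intro h0
    unfold endCount at h0
    rw [Finset.sum_eq_zero_iff] at h0
    have := h0 e heC
    rcases hev with h | h <;> simp [h] at this

end Helper91.TreeLib
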