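import Groth.Prelude.Def_W4c5modbuncurvesppStab
import Mathlib
import Groth.Agent.Lib.Helper91.TreeCircuit
import Groth.Agent.Lib.Helper91.CauchyBinetFinset
import Groth.Agent.Lib.Helper91.LatticeIndex

/-!
# The weighted matrix-tree theorem for finite multigraphs
-/

open PhiStab LabGraph Groth.Agent.Lib.Helper87 Helper91.TreeLib Matrix

universe u

namespace Helper91.MatTree

variable {V E : Type u} [Fintype V] [Fintype E] [DecidableEq V] [DecidableEq E]

/-- Reduced incidence matrix (row `v₀` removed). -/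
def incRed (ends : E → V × V) (v₀ : V) : Matrix {v // v ≠ v₀} E ℤ :=
  fun v e => (if (ends e).2 = v.1 then 1 else 0) - (if (ends e).1 = v.1 then 1 else 0)

theorem incRed_mulVec (ends : E → V × V) (v₀ : V) (γ : E → ℤ) (v : {v // v ≠ v₀}) :
    (incRed ends v₀ *ᵥ γ) v = bdK ℤ ends γ v.1 := by
  simp only [Matrix.mulVec, dotProduct, incRed, bdK]
  apply Finset.sum_congr rfl
  intro e _
  split_ifs <;> ring

theorem eq_zero_of_bdK_int (ends : E → V × V) (hF : DualGr.IsForest ends) (γ : E → ℤ)
    (hγ : ∀ v, bdK ℤ ends γ v = 0) : γ = 0 := by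
  classical
  by_contra hne
  have hleaf := no_leaf_of_cycle ℤ ends γ hγ
  have hS : (Finset.univ.filter (fun e => γ e ≠ 0)).Nonempty := by
    obtain ⟨e, he⟩ := Function.ne_iff.mp hne
    exact ⟨e, by simpa using he⟩
  obtain ⟨C, _, hC⟩ := exists_isCircuit_subset ends _ hS hleaf
  exact hF C hC

theorem incRed_injective (ends : E → V × V) (v₀ : V) (hF : DualGr.IsForest ends) (γ : E → ℤ)
    (h : incRed ends v₀ *ᵥ γ = 0) : γ = 0 := by
  apply eq_zero_of_bdK_int ends hF
  have hne : ∀ v : {v // v ≠ v₀}, bdK ℤ ends γ v.1 = 0 := fun v => by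
    rw [← incRed_mulVec]; exact congrFun h v
  intro v
  by_cases hv : v = v₀
  · have hs := sum_bdK ℤ ends γ
    rw [sum_eq_add_sum_ne v₀, Finset.sum_eq_zero (fun v _ => hne v), add_zero] at hs
    rw [hv]; exact hs
  · exact hne ⟨v, hv⟩

theorem exists_rightInv (ends : E → V × V) (v₀ : V) (hc : LabGraph.Connected ends) :
    ∃ R : Matrix E {v // v ≠ v₀} ℤ, incRed ends v₀ * R = 1 := by
  have hγ : ∀ v : {v // v ≠ v₀}, ∃ γ : E → ℤ, ∀ u, bdK ℤ ends γ u =
      (if v.1 = u then 1 else 0) - (if v₀ = u then 1 else 0) := by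
    intro v
    have hr : Relation.ReflTransGen (adjP ends (fun _ => True)) v₀ v.1 :=
      rtg_map' id (fun a b ⟨e, he⟩ => ⟨e, trivial, he⟩) (hc.2 v₀ v.1)
    obtain ⟨γ, _, hγ⟩ := exists_chain_vector ℤ ends (fun _ => True) hr
    exact ⟨γ, hγ⟩
  choose γ hγ using hγ
  refine ⟨Matrix.of fun e v => γ v e, ?_⟩
  ext u v
  have h1 : (incRed ends v₀ * (Matrix.of fun e v => γ v e : Matrix E {v // v ≠ v₀} ℤ)) u v =
      (incRed ends v₀ *ᵥ γ v) u := rfl
  rw [h1, incRed_mulVec, hγ, Matrix.one_apply]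
  have h0 : v₀ ≠ u.1 := fun h => u.2 h.symm
  by_cases huv : u = v
  · subst huv; simp [h0]
  · have : v.1 ≠ u.1 := fun h => huv (Subtype.ext h.symm)
    simp [h0, this, huv]

theorem exists_leftNull (ends : E → V × V) (v₀ : V) (hnc : ¬ LabGraph.Connected ends) :
    ∃ y : {v // v ≠ v₀} → ℤ, y ≠ 0 ∧ y ᵥ* incRed ends v₀ = 0 := by
  classical
  have hsymm : ∀ a b, Adj ends a b → Adj ends b a := fun a b ⟨e, he⟩ => ⟨e, he.symm⟩
  have h1 : ∃ v w, ¬ Relation.ReflTransGen (Adj ends) v w := by
    by_contra h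
    push Not at h
    exact hnc ⟨⟨v₀⟩, h⟩
  obtain ⟨v, w, hvw⟩ := h1
  have h2 : ∃ u, ¬ Relation.ReflTransGen (Adj ends) u v₀ := by
    by_contra h
    push Not at h
    exact hvw ((h v).trans (rtg_symm' hsymm (h w)))
  obtain ⟨u, hu⟩ := h2
  set S : V → Prop := fun x => Relation.ReflTransGen (Adj ends) u x with hS
  have hclosed : ∀ e, S (ends e).1 ↔ S (ends e).2 := fun e =>
    ⟨fun h => h.tail ⟨e, Or.inl rfl⟩, fun h => h.tail ⟨e, Or.inr rfl⟩⟩
  have hu0 : u ≠ v₀ := by
    rintro rfl
    exact hu Relation.ReflTransGen.refl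
  have hSu : S u := Relation.ReflTransGen.refl
  refine ⟨fun x => if S x.1 then 1 else 0, ?_, ?_⟩
  · intro h
    have := congrFun h ⟨u, hu0⟩
    simp [hSu] at this
  · funext e
    simp only [Matrix.vecMul, dotProduct, incRed, Pi.zero_apply]
    have key := sum_eq_add_sum_ne v₀ (fun x => (if S x then (1 : ℤ) else 0) *
      ((if (ends e).2 = x then 1 else 0) - (if (ends e).1 = x then 1 else 0)))
    have hS0 : ¬ S v₀ := hu
    simp only [hS0, if_false, zero_mul, zero_add] at key
    rw [← key]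
    simp only [mul_sub, Finset.sum_sub_distrib, mul_ite, mul_one, mul_zero, Finset.sum_ite_eq,
      Finset.mem_univ, if_true]
    by_cases h1 : S (ends e).1
    · simp [h1, (hclosed e).mp h1]
    · have h2 : ¬ S (ends e).2 := fun h => h1 ((hclosed e).mpr h)
      simp [h1, h2]

theorem exists_rightNull (ends : E → V × V) (v₀ : V) (hnf : ¬ DualGr.IsForest ends) :
    ∃ γ : E → ℤ, γ ≠ 0 ∧ incRed ends v₀ *ᵥ γ = 0 := by
  unfold DualGr.IsForest at hnf
  push Not at hnf
  obtain ⟨C, hC⟩ := hnf
  obtain ⟨f, hf0, _, hfbd⟩ := exists_cycle_of_no_leaf ℤ ends C hC.1 (fun v h => by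
    have := hC.2.1 v
    rw [h] at this
    exact (by decide : ¬ Even 1) this)
  exact ⟨f, hf0, by funext v; rw [incRed_mulVec, hfbd]; rfl⟩

theorem det_sq_of_isTree (ends : E → V × V) (v₀ : V) (φ : {v // v ≠ v₀} ≃ E)
    (hT : DualGr.IsTree ends) : ((incRed ends v₀).submatrix id φ).det ^ 2 = 1 := by
  obtain ⟨R, hR⟩ := exists_rightInv ends v₀ hT.1
  have h1 : (incRed ends v₀).submatrix id φ * R.submatrix φ id = 1 := by
    rw [Matrix.submatrix_mul_equiv, hR, Matrix.submatrix_id_id]
  have h2 : ((incRed ends v₀).submatrix id φ).det * (R.submatrix φ id).det = 1 := by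
    rw [← Matrix.det_mul, h1, Matrix.det_one]
  have h3 : IsUnit ((incRed ends v₀).submatrix id φ).det := IsUnit.of_mul_eq_one _ h2
  rcases Int.isUnit_iff.mp h3 with h | h <;> rw [h] <;> norm_num

theorem det_eq_zero_of_not_isTree (ends : E → V × V) (v₀ : V) (φ : {v // v ≠ v₀} ≃ E)
    (hT : ¬ DualGr.IsTree ends) : ((incRed ends v₀).submatrix id φ).det = 0 := by
  unfold DualGr.IsTree at hT
  rw [not_and_or] at hT
  rcases hT with h | h
  · obtain ⟨y, hy0, hy⟩ := exists_leftNull ends v₀ h
    apply Matrix.exists_vecMul_eq_zero_iff.mp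
    refine ⟨y, hy0, ?_⟩
    funext j
    have := congrFun hy (φ j)
    simpa [Matrix.vecMul, dotProduct] using this
  · obtain ⟨γ, hγ0, hγ⟩ := exists_rightNull ends v₀ h
    apply Matrix.exists_mulVec_eq_zero_iff.mp
    refine ⟨γ ∘ φ, ?_, ?_⟩
    · intro h0
      apply hγ0
      funext e
      have := congrFun h0 (φ.symm e)
      simpa using this
    · rw [Matrix.submatrix_mulVec_equiv]
      have : (γ ∘ φ) ∘ φ.symm = γ := by
        funext e; simp
      rw [this, hγ]
      rfl

theorem card_eq_of_isTree (ends : E → V × V) (v₀ : V) (hT : DualGr.IsTree ends) :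
    Fintype.card E = Fintype.card {v // v ≠ v₀} := by
  obtain ⟨R, hR⟩ := exists_rightInv ends v₀ hT.1
  have hR' : R * incRed ends v₀ = 1 := by
    apply Matrix.mulVec_injective
    funext x
    rw [Matrix.one_mulVec]
    have h0 : incRed ends v₀ *ᵥ ((R * incRed ends v₀) *ᵥ x - x) = 0 := by
      rw [Matrix.mulVec_sub, Matrix.mulVec_mulVec, ← Matrix.mul_assoc, hR, Matrix.one_mul,
        sub_self]
    exact sub_eq_zero.mp (incRed_injective ends v₀ hT.2 _ h0)
  have e := Matrix.toLin'OfInv hR hR'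
  have h := e.finrank_eq
  rw [Module.finrank_fintype_fun_eq_card, Module.finrank_fintype_fun_eq_card] at h
  exact h.symm

/-- The reduced weighted Laplacian. -/
def lapRed (ends : E → V × V) (w : E → ℤ) (v₀ : V) : Matrix {v // v ≠ v₀} {v // v ≠ v₀} ℤ :=
  incRed ends v₀ * (Matrix.diagonal w * (incRed ends v₀)ᵀ)

/-- **Weighted matrix-tree theorem** for finite multigraphs. -/
theorem det_lapRed (ends : E → V × V) (w : E → ℤ) (v₀ : V)
    [DecidablePred fun T : Finset E => DualGr.IsTree (spanEnds ends T)] :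
    (lapRed ends w v₀).det =
      ∑ T ∈ Finset.univ.filter (fun T : Finset E => DualGr.IsTree (spanEnds ends T)),
        ∏ e ∈ T, w e := by
  classical
  unfold lapRed
  rw [cauchy_binet_finset]
  have hterm : ∀ T ∈ (Finset.univ : Finset (Finset E)).filter
      (fun T => T.card = Fintype.card {v // v ≠ v₀}),
      (((incRed ends v₀).submatrix id (Subtype.val : {e // e ∈ T} → E)) *
        ((Matrix.diagonal w * (incRed ends v₀)ᵀ).submatrix
          (Subtype.val : {e // e ∈ T} → E) id)).det =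
      if DualGr.IsTree (spanEnds ends T) then ∏ e ∈ T, w e else 0 := by
    intro T hT
    have hcard : Fintype.card {v // v ≠ v₀} = Fintype.card {e // e ∈ T} := by
      rw [Fintype.card_coe, (Finset.mem_filter.mp hT).2]
    let φ := Fintype.equivOfCardEq hcard
    have hA : (incRed ends v₀).submatrix id (Subtype.val : {e // e ∈ T} → E) =
        incRed (spanEnds ends T) v₀ := rfl
    have hB : (Matrix.diagonal w * (incRed ends v₀)ᵀ).submatrix
        (Subtype.val : {e // e ∈ T} → E) id =
        Matrix.diagonal (fun e : {e // e ∈ T} => w e.1) * (incRed (spanEnds ends T) v₀)ᵀ := by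
      ext e v
      simp only [Matrix.submatrix_apply, Matrix.diagonal_mul, id_eq, Matrix.transpose_apply]
      rfl
    rw [hA, hB]
    set N := incRed (spanEnds ends T) v₀ with hNdef
    set w' : {e // e ∈ T} → ℤ := fun e => w e.1 with hw'
    have hN : N * (Matrix.diagonal w' * Nᵀ) =
        N.submatrix id φ * (Matrix.diagonal (w' ∘ φ) * (N.submatrix id φ)ᵀ) := by
      symm
      rw [show (N.submatrix id φ)ᵀ = Nᵀ.submatrix φ id from rfl,
        ← Matrix.submatrix_diagonal_equiv, Matrix.submatrix_mul_equiv, Matrix.submatrix_mul_equiv,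
        Matrix.submatrix_id_id]
    have hprod : ∏ i, (w' ∘ φ) i = ∏ e ∈ T, w e := by
      simp only [Function.comp_apply]
      rw [Equiv.prod_comp φ w', hw', Finset.prod_coe_sort T w]
    rw [hN, Matrix.det_mul, Matrix.det_mul, Matrix.det_diagonal, Matrix.det_transpose, hprod]
    by_cases hTree : DualGr.IsTree (spanEnds ends T)
    · rw [if_pos hTree]
      have := det_sq_of_isTree (spanEnds ends T) v₀ φ hTree
      calc (N.submatrix id φ).det * ((∏ e ∈ T, w e) * (N.submatrix id φ).det)
          = (N.submatrix id φ).det ^ 2 * ∏ e ∈ T, w e := by ring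
        _ = ∏ e ∈ T, w e := by rw [this, one_mul]
    · rw [if_neg hTree, det_eq_zero_of_not_isTree (spanEnds ends T) v₀ φ hTree, zero_mul]
  rw [Finset.sum_congr rfl hterm, ← Finset.sum_filter, Finset.filter_filter]
  apply Finset.sum_congr _ (fun _ _ => rfl)
  ext T
  simp only [Finset.mem_filter, Finset.mem_univ, true_and]
  constructor
  · exact fun h => h.2
  · intro h
    refine ⟨?_, h⟩
    have := card_eq_of_isTree (spanEnds ends T) v₀ h
    rw [Fintype.card_coe] at this
    exact this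

end Helper91.MatTree
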