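import Groth.Prelude.Def_W4c2conddiscmodels
import Groth.Prelude.Def_W4c5modbuncurvesppStab
import Mathlib
import Groth.Agent.Lib.Helper91.MatrixTree

/-!
# Order of the component group via spanning trees
-/

open PhiStab LabGraph Groth.Agent.Lib.Helper87 Helper91.TreeLib Matrix

universe u

namespace Helper91.MatTree

variable {V E : Type u} [Fintype V] [Fintype E] [DecidableEq V] [DecidableEq E]

theorem edgeMult_comm (ends : E → V × V) (v w : V) : edgeMult ends v w = edgeMult ends w v := by
  unfold edgeMult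
  congr 1
  ext e
  simp only [Finset.mem_filter, Finset.mem_univ, true_and]
  exact or_comm

theorem edgeMult_eq_sum (ends : E → V × V) (v w : V) :
    (edgeMult ends v w : ℤ) = ∑ e, if (ends e = (v, w) ∨ ends e = (w, v)) then 1 else 0 := by
  unfold edgeMult
  rw [Finset.card_filter]
  push_cast
  rfl

/-- The off-diagonal sum. -/
def offSum (ends : E → V × V) (β : V → ℤ) (v : V) : ℤ :=
  ∑ u ∈ Finset.univ.erase v, β u * (edgeMult ends v u : ℤ)

theorem mfMatrix_diag (ends : E → V × V) (β : V → ℤ) (hβ : IsMultFn ends β) (v : V) :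
    β v * mfMatrix ends β v v = - offSum ends β v := by
  have h := (hβ v).2
  simp only [mfMatrix, if_true]
  exact Int.mul_ediv_cancel' ((dvd_neg).mpr h)

theorem mfMatrix_off (ends : E → V × V) (β : V → ℤ) {v w : V} (h : v ≠ w) :
    mfMatrix ends β v w = (edgeMult ends v w : ℤ) := by
  simp [mfMatrix, h]

theorem mfMatrix_symm (ends : E → V × V) (β : V → ℤ) (v w : V) :
    mfMatrix ends β v w = mfMatrix ends β w v := by
  by_cases h : v = w
  · rw [h]
  · rw [mfMatrix_off ends β h, mfMatrix_off ends β (Ne.symm h), edgeMult_comm]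

theorem mfMatrix_mulVec (ends : E → V × V) (β : V → ℤ) (hβ : IsMultFn ends β) :
    mfMatrix ends β *ᵥ β = 0 := by
  funext v
  simp only [Matrix.mulVec, dotProduct, Pi.zero_apply]
  rw [← Finset.add_sum_erase Finset.univ _ (Finset.mem_univ v)]
  have h1 : ∑ u ∈ Finset.univ.erase v, mfMatrix ends β v u * β u = offSum ends β v := by
    unfold offSum
    apply Finset.sum_congr rfl
    intro u hu
    rw [mfMatrix_off ends β (Finset.ne_of_mem_erase hu).symm, mul_comm]
  rw [h1, mul_comm, mfMatrix_diag ends β hβ v]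
  ring

theorem mfMatrix_vecMul (ends : E → V × V) (β : V → ℤ) (hβ : IsMultFn ends β) :
    β ᵥ* mfMatrix ends β = 0 := by
  have h := mfMatrix_mulVec ends β hβ
  funext v
  have hv := congrFun h v
  simp only [Matrix.mulVec, dotProduct, Pi.zero_apply] at hv
  simp only [Matrix.vecMul, dotProduct, Pi.zero_apply]
  rw [← hv]
  apply Finset.sum_congr rfl
  intro u _
  rw [mfMatrix_symm ends β u v, mul_comm]

/-- The edge weights `β(a) β(b)`. -/
def wt (ends : E → V × V) (β : V → ℤ) (e : E) : ℤ := β (ends e).1 * β (ends e).2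

theorem lapRed_apply (ends : E → V × V) (w : E → ℤ) (v₀ : V) (u v : {v // v ≠ v₀}) :
    lapRed ends w v₀ u v = ∑ e, incRed ends v₀ u e * (w e * incRed ends v₀ v e) := by
  rw [lapRed, Matrix.mul_apply]
  apply Finset.sum_congr rfl
  intro e _
  rw [Matrix.diagonal_mul, Matrix.transpose_apply]

theorem lapRed_off (ends : E → V × V) (β : V → ℤ) (v₀ : V) (u v : {v // v ≠ v₀})
    (huv : u.1 ≠ v.1) :
    lapRed ends (wt ends β) v₀ u v = -(β u.1 * mfMatrix ends β u.1 v.1 * β v.1) := by
  rw [lapRed_apply, mfMatrix_off ends β huv, edgeMult_eq_sum, Finset.mul_sum, Finset.sum_mul,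
    ← Finset.sum_neg_distrib]
  apply Finset.sum_congr rfl
  intro e _
  simp only [incRed, wt]
  rcases h : ends e with ⟨a, b⟩
  simp only [Prod.mk.injEq]
  by_cases h1 : a = u.1 <;> by_cases h2 : b = u.1 <;> by_cases h3 : a = v.1 <;>
    by_cases h4 : b = v.1 <;> simp_all <;> ring

theorem lapRed_diag (ends : E → V × V) (β : V → ℤ) (hβ : IsMultFn ends β) (v₀ : V)
    (u : {v // v ≠ v₀}) :
    lapRed ends (wt ends β) v₀ u u = -(β u.1 * mfMatrix ends β u.1 u.1 * β u.1) := by
  have h1 : -(β u.1 * mfMatrix ends β u.1 u.1 * β u.1) = β u.1 * offSum ends β u.1 := by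
    rw [mfMatrix_diag ends β hβ u.1]; ring
  rw [h1, lapRed_apply, offSum]
  have h2 : ∑ x ∈ Finset.univ.erase u.1, β x * (edgeMult ends u.1 x : ℤ) =
      ∑ e, ∑ x ∈ Finset.univ.erase u.1,
        β x * (if (ends e = (u.1, x) ∨ ends e = (x, u.1)) then 1 else 0) := by
    rw [Finset.sum_comm]
    apply Finset.sum_congr rfl
    intro x _
    rw [edgeMult_eq_sum, Finset.mul_sum]
  rw [h2, Finset.mul_sum]
  apply Finset.sum_congr rfl
  intro e _
  simp only [incRed, wt]
  rcases h : ends e with ⟨a, b⟩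
  simp only [Prod.mk.injEq]
  by_cases ha : a = u.1 <;> by_cases hb : b = u.1
  · -- loop
    rw [Finset.sum_eq_zero]
    · simp [ha, hb]
    · intro x hx
      have hxu : x ≠ u.1 := Finset.ne_of_mem_erase hx
      have : ¬ ((a = u.1 ∧ b = x) ∨ (a = x ∧ b = u.1)) := by
        rintro (⟨_, h'⟩ | ⟨h', _⟩)
        · exact hxu (h' ▸ hb)
        · exact hxu (h' ▸ ha)
      simp [this]
  · rw [Finset.sum_eq_single b]
    · simp [ha, hb]
      try ring
    · intro x _ hxb
      have : ¬ ((a = u.1 ∧ b = x) ∨ (a = x ∧ b = u.1)) := by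
        rintro (⟨_, h'⟩ | ⟨_, h'⟩)
        · exact hxb h'.symm
        · exact hb h'
      simp [this]
    · intro hnot
      exact absurd (Finset.mem_erase.mpr ⟨hb, Finset.mem_univ _⟩) hnot
  · rw [Finset.sum_eq_single a]
    · simp [ha, hb]
      try ring
    · intro x _ hxa
      have : ¬ ((a = u.1 ∧ b = x) ∨ (a = x ∧ b = u.1)) := by
        rintro (⟨h', _⟩ | ⟨h', _⟩)
        · exact ha h'
        · exact hxa h'.symm
      simp [this]
    · intro hnot
      exact absurd (Finset.mem_erase.mpr ⟨ha, Finset.mem_univ _⟩) hnot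
  · rw [Finset.sum_eq_zero]
    · simp [ha, hb]
    · intro x _
      have : ¬ ((a = u.1 ∧ b = x) ∨ (a = x ∧ b = u.1)) := by
        rintro (⟨h', _⟩ | ⟨_, h'⟩)
        · exact ha h'
        · exact hb h'
      simp [this]

theorem lapRed_eq (ends : E → V × V) (β : V → ℤ) (hβ : IsMultFn ends β) (v₀ : V) :
    lapRed ends (wt ends β) v₀ =
      -(Matrix.diagonal (fun v : {v // v ≠ v₀} => β v.1) * minorAt (mfMatrix ends β) v₀ *
        Matrix.diagonal (fun v : {v // v ≠ v₀} => β v.1)) := by
  ext u v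
  rw [Matrix.neg_apply, Matrix.mul_diagonal, Matrix.diagonal_mul]
  change lapRed ends (wt ends β) v₀ u v = -(β u.1 * mfMatrix ends β u.1 v.1 * β v.1)
  by_cases huv : u = v
  · subst huv
    exact lapRed_diag ends β hβ v₀ u
  · exact lapRed_off ends β v₀ u v (fun h => huv (Subtype.ext h))

theorem det_lapRed_eq (ends : E → V × V) (β : V → ℤ) (hβ : IsMultFn ends β) (v₀ : V) :
    (lapRed ends (wt ends β) v₀).det =
      (-1) ^ Fintype.card {v // v ≠ v₀} *
        ((∏ v : {v // v ≠ v₀}, β v.1) ^ 2 * (minorAt (mfMatrix ends β) v₀).det) := by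
  rw [lapRed_eq ends β hβ v₀, Matrix.det_neg, Matrix.det_mul, Matrix.det_mul, Matrix.det_diagonal]
  ring

theorem prod_wt (ends : E → V × V) (β : V → ℤ) (T : Finset E) :
    ∏ e ∈ T, wt ends β e = ∏ v, β v ^ endCount ends T v := by
  unfold endCount wt
  simp_rw [← Finset.prod_pow_eq_pow_sum]
  rw [Finset.prod_comm]
  apply Finset.prod_congr rfl
  intro e _
  simp_rw [pow_add]
  rw [Finset.prod_mul_distrib, Finset.prod_pow_boole, Finset.prod_pow_boole]
  simp

theorem no_loop_of_acyc (ends : E → V × V) (T : Finset E) (hT : Acyc ends T) (e : E) (he : e ∈ T) :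
    (ends e).1 ≠ (ends e).2 := by
  intro hloop
  have h0 := hT (Pi.single e 1) (fun e' he' => by
    have : e' ≠ e := by rintro rfl; exact he' he
    simp [this]) (fun v => by
    rw [bdK_single, hloop, sub_self])
  have := congrFun h0 e
  simp at this

theorem no_parallel_of_acyc (ends : E → V × V) (T : Finset E) (hT : Acyc ends T) (e e' : E)
    (he : e ∈ T) (he' : e' ∈ T)
    (hpar : ends e' = ends e ∨ ends e' = ((ends e).2, (ends e).1)) : e = e' := by
  by_contra hne
  have h2 : ∀ x : ZMod 2, x + x = 0 := by decide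
  have h0 := hT (Pi.single e 1 + Pi.single e' 1) (fun e'' he'' => by
    have h1 : e'' ≠ e := by rintro rfl; exact he'' he
    have h2 : e'' ≠ e' := by rintro rfl; exact he'' he'
    simp [h1, h2]) (fun v => by
    rw [bdK_add, bdK_single, bdK_single]
    rcases hpar with h | h
    · rw [h]; exact h2 _
    · rw [h]
      ring)
  have := congrFun h0 e
  simp [hne] at this

theorem endCount_eq_nbrCount (ends : E → V × V) (T : Finset E) (hT : Acyc ends T) (v : V) :
    endCount ends T v = nbrCount ends T v := by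
  classical
  have h1 : endCount ends T v =
      (T.filter (fun e => (ends e).1 = v ∨ (ends e).2 = v)).card := by
    unfold endCount
    rw [Finset.card_filter]
    apply Finset.sum_congr rfl
    intro e he
    have hl := no_loop_of_acyc ends T hT e he
    by_cases ha : (ends e).1 = v <;> by_cases hb : (ends e).2 = v
    · exact absurd (ha.trans hb.symm) hl
    · simp [ha, hb]
    · simp [ha, hb]
    · simp [ha, hb]
  rw [h1]
  unfold nbrCount
  apply Finset.card_bij (fun e _ => if (ends e).1 = v then (ends e).2 else (ends e).1)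
  · intro e he
    simp only [Finset.mem_filter, Finset.mem_univ, true_and] at he ⊢
    obtain ⟨heT, hev⟩ := he
    have hl := no_loop_of_acyc ends T hT e heT
    by_cases ha : (ends e).1 = v
    · rw [if_pos ha]
      refine ⟨fun h => hl (ha.trans h.symm), e, heT, Or.inl ?_⟩
      rw [← ha]
    · rw [if_neg ha]
      have hb : (ends e).2 = v := hev.resolve_left ha
      refine ⟨ha, e, heT, Or.inr ?_⟩
      rw [← hb]
  · intro e he e' he' hoth
    simp only [Finset.mem_filter] at he he'
    obtain ⟨heT, hev⟩ := he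
    obtain ⟨heT', hev'⟩ := he'
    have hl := no_loop_of_acyc ends T hT e heT
    have hl' := no_loop_of_acyc ends T hT e' heT'
    apply no_parallel_of_acyc ends T hT e e' heT heT'
    by_cases ha : (ends e).1 = v <;> by_cases ha' : (ends e').1 = v
    · rw [if_pos ha, if_pos ha'] at hoth
      left
      exact Prod.ext (ha'.trans ha.symm) hoth.symm
    · rw [if_pos ha, if_neg ha'] at hoth
      have hb' : (ends e').2 = v := hev'.resolve_left ha'
      right
      exact Prod.ext hoth.symm (hb'.trans ha.symm)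
    · rw [if_neg ha, if_pos ha'] at hoth
      have hb : (ends e).2 = v := hev.resolve_left ha
      right
      exact Prod.ext (ha'.trans hb.symm) hoth.symm
    · rw [if_neg ha, if_neg ha'] at hoth
      have hb : (ends e).2 = v := hev.resolve_left ha
      have hb' : (ends e').2 = v := hev'.resolve_left ha'
      left
      exact Prod.ext hoth.symm (hb'.trans hb.symm)
  · intro w hw
    simp only [Finset.mem_filter, Finset.mem_univ, true_and] at hw
    obtain ⟨hwv, e, heT, he⟩ := hw
    refine ⟨e, ?_, ?_⟩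
    · simp only [Finset.mem_filter]
      refine ⟨heT, ?_⟩
      rcases he with h | h
      · left; rw [h]
      · right; rw [h]
    · rcases he with h | h
      · simp [h]
      · simp [h, hwv]

theorem prod_eq_mul_prod_ne (v₀ : V) (f : V → ℚ) :
    ∏ v, f v = f v₀ * ∏ v : {v // v ≠ v₀}, f v.1 := by
  rw [← Finset.mul_prod_erase Finset.univ f (Finset.mem_univ v₀)]
  congr 1
  rw [← Finset.prod_subtype]
  intro x
  simp [Finset.mem_erase]

theorem main14803 (ends : E → V × V) (β : V → ℤ) (hβ : IsMultFn ends β)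
    (hG : LabGraph.Connected ends)
    [DecidablePred fun T : Finset E => IsSpanningTree ends T] :
    (Nat.card (CompGrp ends β) : ℚ) =
      ((Finset.univ.gcd β : ℤ) : ℚ) ^ 2 *
        ∑ T ∈ Finset.univ.powerset.filter (fun T : Finset E => IsSpanningTree ends T),
          ∏ v : V, ((β v : ℚ) ^ ((nbrCount ends T v : ℤ) - 2)) := by
  classical
  obtain ⟨v₀⟩ := hG.1
  obtain ⟨r, hr', hgcd⟩ := Finset.extract_gcd β
    (⟨v₀, Finset.mem_univ v₀⟩ : (Finset.univ : Finset V).Nonempty)
  set m : ℤ := Finset.univ.gcd β with hm_def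
  have hr : ∀ v, β v = m * r v := fun v => hr' v (Finset.mem_univ v)
  have hβpos : ∀ v, 0 < β v := fun v => (hβ v).1
  have hm : m ≠ 0 := by
    intro h
    have := (Finset.gcd_eq_zero_iff.mp h) v₀ (Finset.mem_univ _)
    exact (hβpos v₀).ne' this
  set α := mfMatrix ends β with hα
  set S : ℤ := ∑ T ∈ Finset.univ.filter (fun T : Finset E => DualGr.IsTree (spanEnds ends T)),
    ∏ e ∈ T, wt ends β e with hS
  have hdetL : (lapRed ends (wt ends β) v₀).det = S := det_lapRed ends (wt ends β) v₀
  have hwpos : ∀ T : Finset E, 0 < ∏ e ∈ T, wt ends β e := fun T =>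
    Finset.prod_pos (fun e _ => mul_pos (hβpos _) (hβpos _))
  have hSpos : 0 < S := by
    obtain ⟨T, _, _, hT⟩ := exists_spanning_tree_superset ends hG ∅ (acyc_empty ends)
    exact Finset.sum_pos' (fun T _ => (hwpos T).le) ⟨T, by simp [hT], hwpos T⟩
  set P₀ : ℤ := ∏ v : {v // v ≠ v₀}, β v.1 with hP₀
  have hP₀pos : 0 < P₀ := Finset.prod_pos (fun v _ => hβpos _)
  have hdet_rel := det_lapRed_eq ends β hβ v₀
  have hdet0 : (minorAt α v₀).det ≠ 0 := by
    intro h0
    rw [hdetL, h0] at hdet_rel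
    simp at hdet_rel
    exact hSpos.ne' hdet_rel
  have hB := relIndex_mul_sq α β v₀ (hβpos v₀).ne' (mfMatrix_mulVec ends β hβ)
    (mfMatrix_vecMul ends β hβ) hdet0 m r hm hr hgcd
  have hcard : Nat.card (CompGrp ends β) = (αh α).range.relIndex (βh β).ker := by
    rw [AddSubgroup.relIndex, AddSubgroup.index_eq_card]
    rfl
  have hnat : S.natAbs = P₀.natAbs ^ 2 * (minorAt α v₀).det.natAbs := by
    rw [← hdetL, hdet_rel, Int.natAbs_mul, Int.natAbs_mul, Int.natAbs_pow, Int.natAbs_pow]
    simp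
    rfl
  have hZ : S = P₀ ^ 2 * ((Nat.card (CompGrp ends β) : ℤ) * (r v₀) ^ 2) := by
    calc S = ((S.natAbs : ℕ) : ℤ) := (Int.natAbs_of_nonneg hSpos.le).symm
      _ = ((P₀.natAbs ^ 2 * (Nat.card (CompGrp ends β) * (r v₀).natAbs ^ 2) : ℕ) : ℤ) := by
          rw [hnat, ← hB, hcard]
      _ = P₀ ^ 2 * ((Nat.card (CompGrp ends β) : ℤ) * (r v₀) ^ 2) := by
          push_cast
          rw [sq_abs, sq_abs]
  -- rewrite the right-hand side
  have hfilter : Finset.univ.powerset.filter (fun T : Finset E => IsSpanningTree ends T) =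
      Finset.univ.filter (fun T : Finset E => DualGr.IsTree (spanEnds ends T)) := by
    rw [Finset.powerset_univ]
    ext T
    simp only [Finset.mem_filter, Finset.mem_univ, true_and]
    rfl
  have hβQ : ∀ v, (β v : ℚ) ≠ 0 := fun v => by exact_mod_cast (hβpos v).ne'
  have hterm : ∀ T ∈ Finset.univ.filter (fun T : Finset E => DualGr.IsTree (spanEnds ends T)),
      ∏ v : V, ((β v : ℚ) ^ ((nbrCount ends T v : ℤ) - 2)) =
        ((∏ e ∈ T, wt ends β e : ℤ) : ℚ) / (∏ v, (β v : ℚ)) ^ 2 := by
    intro T hT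
    have hTac : Acyc ends T := acyc_of_isForest ends T (Finset.mem_filter.mp hT).2.2
    rw [prod_wt, ← Finset.prod_pow, Int.cast_prod, ← Finset.prod_div_distrib]
    apply Finset.prod_congr rfl
    intro v _
    rw [zpow_sub₀ (hβQ v), endCount_eq_nbrCount ends T hTac v]
    push_cast
    rfl
  rw [hfilter, Finset.sum_congr rfl hterm, ← Finset.sum_div, ← Int.cast_sum, ← hS, hZ,
    prod_eq_mul_prod_ne v₀ (fun v => (β v : ℚ))]
  have hP₀Q : (P₀ : ℚ) = ∏ v : {v // v ≠ v₀}, (β v.1 : ℚ) := by
    rw [hP₀]; push_cast; rfl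
  rw [← hP₀Q, hr v₀]
  have h1 : (P₀ : ℚ) ≠ 0 := by exact_mod_cast hP₀pos.ne'
  have h2 : (m : ℚ) ≠ 0 := by exact_mod_cast hm
  have h3 : (r v₀ : ℚ) ≠ 0 := by
    have := hβpos v₀
    rw [hr v₀] at this
    intro h0
    have h0' : r v₀ = 0 := by exact_mod_cast h0
    rw [h0', mul_zero] at this
    exact lt_irrefl _ this
  push_cast
  field_simp

end Helper91.MatTree
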