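import Groth.Agent.Lib.Helper91.DPUniv
import Mathlib.RingTheory.DividedPowers.SubDPIdeal
import Mathlib.RingTheory.MvPolynomial.Basic

/-!
# The divided power envelope (helper91)
-/

namespace Helper91.DPGen

open DividedPowerAlgebra TensorProduct

section Envelope

variable {A : Type*} [CommRing A] {I : Ideal A} (γ : DividedPowers I)
  {B : Type*} [CommRing B] [Algebra A B] (J : Ideal B)
  {R : Type*} [CommRing R] [Algebra A R]
  (γR : DividedPowers (I.map (algebraMap A R))) (hγR : γ.IsDPMorphism γR (algebraMap A R))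
  (ev : R →ₐ[A] B) (s : B → R) (hs : ∀ b, ev (s b) = b)
  {P : Type*} [CommRing P] [Algebra R P] (x : ↥J → ℕ → P)
  (hx0 : ∀ l, x l 0 = 1)
  (hxmul : ∀ l n m, x l n * x l m = ((n + m).choose n : P) * x l (n + m))
  (b : Module.Basis (↥J →₀ ℕ) R P) (hb : ∀ e : ↥J →₀ ℕ, b e = e.prod (fun l k => x l k))
  (δ : DividedPowers ((I.map (algebraMap A R)).map (algebraMap R P) ⊔ Pplus x))
  (hδ : γR.IsDPMorphism δ (algebraMap R P))
  (hδx : ∀ (l : ↥J) (n : ℕ), δ.dpow n (x l 1) = x l n)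

/-- The relations. -/
def Rel : Set P :=
  (algebraMap R P) '' (RingHom.ker ev : Set R) ∪
    {y | ∃ j : ↥J, y = x j 1 - algebraMap R P (s (j : B))}

/-- The smallest ideal containing the relations whose intersection with the dp ideal is a
sub-dp-ideal. -/
def aa : Ideal P :=
  sInf {𝔟 : Ideal P | Rel J ev s x ⊆ 𝔟 ∧
    δ.IsSubDPIdeal (𝔟 ⊓ ((I.map (algebraMap A R)).map (algebraMap R P) ⊔ Pplus x))}

theorem rel_le_aa : Rel J ev s x ⊆ aa J ev s x δ := by
  intro y hy
  unfold aa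
  rw [SetLike.mem_coe, Ideal.mem_sInf]
  intro 𝔟 h𝔟
  exact h𝔟.1 hy

theorem aa_le {𝔟 : Ideal P} (h1 : Rel J ev s x ⊆ 𝔟)
    (h2 : δ.IsSubDPIdeal (𝔟 ⊓ ((I.map (algebraMap A R)).map (algebraMap R P) ⊔ Pplus x))) :
    aa J ev s x δ ≤ 𝔟 := sInf_le ⟨h1, h2⟩

theorem aa_isSubDPIdeal :
    δ.IsSubDPIdeal (aa J ev s x δ ⊓ ((I.map (algebraMap A R)).map (algebraMap R P) ⊔ Pplus x)) where
  isSubideal := inf_le_right
  dpow_mem n hn j hj := by
    refine ⟨?_, δ.dpow_mem hn hj.2⟩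
    unfold aa
    rw [SetLike.mem_coe, Ideal.mem_sInf]
    intro 𝔟 h𝔟
    have : j ∈ 𝔟 ⊓ ((I.map (algebraMap A R)).map (algebraMap R P) ⊔ Pplus x) :=
      ⟨aa_le J ev s x δ h𝔟.1 h𝔟.2 hj.1, hj.2⟩
    exact (h𝔟.2.dpow_mem n hn this).1

/-- The envelope. -/
abbrev Env : Type _ := P ⧸ aa J ev s x δ

theorem ker_le : RingHom.ker ev.toRingHom ≤
    RingHom.ker ((Ideal.Quotient.mk (aa J ev s x δ)).comp (algebraMap R P)) := by
  intro r hr
  rw [RingHom.mem_ker, RingHom.comp_apply, Ideal.Quotient.eq_zero_iff_mem]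
  exact rel_le_aa J ev s x δ (Or.inl ⟨r, hr, rfl⟩)

/-- The structure map `B → D`. -/
noncomputable def toD : B →+* Env J ev s x δ :=
  RingHom.liftOfRightInverse ev.toRingHom s hs
    ⟨(Ideal.Quotient.mk (aa J ev s x δ)).comp (algebraMap R P), ker_le J ev s x δ⟩

theorem toD_ev (r : R) :
    toD J ev s hs x δ (ev r) = Ideal.Quotient.mk (aa J ev s x δ) (algebraMap R P r) :=
  RingHom.liftOfRightInverse_comp_apply ev.toRingHom s hs
    ⟨(Ideal.Quotient.mk (aa J ev s x δ)).comp (algebraMap R P), ker_le J ev s x δ⟩ r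

theorem toD_apply (b' : B) :
    toD J ev s hs x δ b' = Ideal.Quotient.mk (aa J ev s x δ) (algebraMap R P (s b')) := by
  rw [← toD_ev, hs]

theorem toD_mem (j : ↥J) :
    toD J ev s hs x δ (j : B) = Ideal.Quotient.mk (aa J ev s x δ) (x j 1) := by
  rw [toD_apply]
  symm
  rw [Ideal.Quotient.eq]
  exact rel_le_aa J ev s x δ (Or.inr ⟨j, rfl⟩)

/-- The dp ideal of the envelope. -/
abbrev JD : Ideal (Env J ev s x δ) :=
  ((I.map (algebraMap A R)).map (algebraMap R P) ⊔ Pplus x).map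
    (Ideal.Quotient.mk (aa J ev s x δ))

/-- The dp structure of the envelope. -/
noncomputable def γD : DividedPowers (JD J ev s x δ) :=
  DividedPowers.Quotient.dividedPowers δ (aa_isSubDPIdeal J ev s x δ)

theorem γD_mk {p : P} (hp : p ∈ (I.map (algebraMap A R)).map (algebraMap R P) ⊔ Pplus x) (n : ℕ) :
    (γD J ev s x δ).dpow n (Ideal.Quotient.mk (aa J ev s x δ) p) =
      Ideal.Quotient.mk (aa J ev s x δ) (δ.dpow n p) :=
  DividedPowers.Quotient.dpow_apply δ (aa_isSubDPIdeal J ev s x δ) hp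

theorem mk_isDPMorphism :
    δ.IsDPMorphism (γD J ev s x δ) (Ideal.Quotient.mk (aa J ev s x δ)) :=
  DividedPowers.Quotient.isDPMorphism δ (aa_isSubDPIdeal J ev s x δ)

theorem J_le : J.map (toD J ev s hs x δ) ≤ JD J ev s x δ := by
  rw [Ideal.map_le_iff_le_comap]
  intro j hj
  rw [Ideal.mem_comap]
  have := toD_mem J ev s hs x δ ⟨j, hj⟩
  rw [Subtype.coe_mk] at this
  rw [this]
  exact Ideal.mem_map_of_mem _ (Ideal.mem_sup_right (gen_mem x _ one_ne_zero))

include hγR hδ in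
theorem toD_isDPMorphism :
    γ.IsDPMorphism (γD J ev s x δ) ((toD J ev s hs x δ).comp (algebraMap A B)) := by
  have e : (toD J ev s hs x δ).comp (algebraMap A B) =
      (Ideal.Quotient.mk (aa J ev s x δ)).comp ((algebraMap R P).comp (algebraMap A R)) := by
    ext a
    rw [RingHom.comp_apply, RingHom.comp_apply, RingHom.comp_apply, ← ev.commutes, toD_ev]
  rw [e]
  exact (mk_isDPMorphism J ev s x δ).comp (γD J ev s x δ) (hδ.comp δ hγR)

section UP

variable {C : Type*} [CommRing C] [Algebra A C] {K : Ideal C} (ε : DividedPowers K)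
  (hε : γ.IsDPMorphism ε (algebraMap A C)) (ψ : B →ₐ[A] C) (hψ : J.map ψ ≤ K)

/-- The `R`-algebra structure on `C`. -/
@[reducible] noncomputable def algRC : Algebra R C := ((ψ.comp ev).toRingHom).toAlgebra

theorem algRC_apply (r : R) : @algebraMap R C _ _ (algRC ev ψ) r = ψ (ev r) := rfl

include hγR hε in
theorem hεR : @DividedPowers.IsDPMorphism R C _ _ _ _ γR ε (@algebraMap R C _ _ (algRC ev ψ)) := by
  let _ := algRC ev ψ
  refine DividedPowers.IsDPMorphism.on_span γR ε (S := (algebraMap A R) '' (I : Set A)) rfl ?_ ?_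
  · rintro _ ⟨a, ha, rfl⟩
    rw [algRC_apply, AlgHom.commutes, AlgHom.commutes]
    exact hε.ideal_comp (Ideal.mem_map_of_mem _ ha)
  · rintro n _ ⟨a, ha, rfl⟩
    rw [hγR.dpow_comp a ha, algRC_apply, algRC_apply, AlgHom.commutes, AlgHom.commutes,
      AlgHom.commutes, AlgHom.commutes, hε.dpow_comp a ha]

include hψ in
theorem hkψ (j : ↥J) : ψ (j : B) ∈ K := hψ (Ideal.mem_map_of_mem _ j.2)

include hγR hδ hδx hε hψ hx0 hxmul hb hs in
theorem env_univ :
    ∃! χ : Env J ev s x δ →+* C, χ.comp (toD J ev s hs x δ) = ψ ∧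
      (γD J ev s x δ).IsDPMorphism ε χ := by
  let _ := algRC ev ψ
  obtain ⟨φ, ⟨hφ1, hφ2⟩, hφu⟩ := univ γR x hx0 hxmul b hb δ hδ hδx ε (hεR γ γR hγR ev ε hε ψ)
    (fun j : ↥J => ψ (j : B)) (hkψ J ψ hψ)
  have hle : aa J ev s x δ ≤ RingHom.ker φ.toRingHom := by
    apply aa_le
    · rintro y (⟨r, hr, rfl⟩ | ⟨j, rfl⟩)
      · rw [SetLike.mem_coe, RingHom.mem_ker]
        change φ (algebraMap R P r) = 0
        rw [AlgHom.commutes, algRC_apply]
        rw [SetLike.mem_coe, RingHom.mem_ker] at hr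
        rw [hr, map_zero]
      · rw [SetLike.mem_coe, RingHom.mem_ker]
        change φ (x j 1 - algebraMap R P (s (j : B))) = 0
        rw [map_sub, hφ1, AlgHom.commutes, algRC_apply, hs, sub_self]
    · exact DividedPowers.isSubDPIdeal_ker δ ε hφ2
  have hχ : ∀ p : P, p ∈ aa J ev s x δ → φ.toRingHom p = 0 := fun p hp => hle hp
  refine ⟨Ideal.Quotient.lift (aa J ev s x δ) φ.toRingHom hχ, ⟨?_, ?_, ?_⟩, ?_⟩
  · ext b'
    rw [RingHom.comp_apply, toD_apply, Ideal.Quotient.lift_mk]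
    change φ (algebraMap R P (s b')) = ψ b'
    rw [AlgHom.commutes, algRC_apply, hs]
  · rw [Ideal.map_map, Ideal.map_le_iff_le_comap]
    intro p hp
    rw [Ideal.mem_comap, RingHom.comp_apply, Ideal.Quotient.lift_mk]
    exact hφ2.ideal_comp (Ideal.mem_map_of_mem _ hp)
  · intro n y hy
    obtain ⟨p, hp, rfl⟩ := (Ideal.mem_map_iff_of_surjective _ Ideal.Quotient.mk_surjective).mp hy
    rw [γD_mk J ev s x δ hp, Ideal.Quotient.lift_mk, Ideal.Quotient.lift_mk]
    exact hφ2.dpow_comp p hp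
  · rintro χ' ⟨h1, h2⟩
    have h1' : ∀ b' : B, χ' (toD J ev s hs x δ b') = ψ b' := fun b' => RingHom.congr_fun h1 b'
    have hcomm : ∀ r : R, χ' (Ideal.Quotient.mk (aa J ev s x δ) (algebraMap R P r)) =
        algebraMap R C r := by
      intro r
      rw [← toD_ev J ev s hs x δ r, algRC_apply, h1']
    let φ' : P →ₐ[R] C :=
      { toRingHom := χ'.comp (Ideal.Quotient.mk (aa J ev s x δ))
        commutes' := hcomm }
    have hφ' : φ' = φ := by
      apply hφu
      refine ⟨fun j => ?_, ?_⟩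
      · change χ' (Ideal.Quotient.mk (aa J ev s x δ) (x j 1)) = ψ (j : B)
        rw [← toD_mem J ev s hs x δ j, h1']
      · exact h2.comp ε (mk_isDPMorphism J ev s x δ)
    apply Ideal.Quotient.ringHom_ext
    ext p
    rw [RingHom.comp_apply, RingHom.comp_apply, Ideal.Quotient.lift_mk, ← hφ']
    rfl

end UP

end Envelope

section Main

universe u

theorem env_main {A B : Type u} [CommRing A] [CommRing B] [Algebra A B] {I : Ideal A}
    (γ : DividedPowers I) (J : Ideal B)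
    {R : Type u} [CommRing R] [Algebra A R]
    (γR : DividedPowers (I.map (algebraMap A R))) (hγR : γ.IsDPMorphism γR (algebraMap A R))
    (ev : R →ₐ[A] B) (s : B → R) (hs : ∀ b, ev (s b) = b)
    {P : Type u} [CommRing P] [Algebra R P] (x : ↥J → ℕ → P)
    (hx0 : ∀ l, x l 0 = 1)
    (hxmul : ∀ l n m, x l n * x l m = ((n + m).choose n : P) * x l (n + m))
    (b : Module.Basis (↥J →₀ ℕ) R P) (hb : ∀ e : ↥J →₀ ℕ, b e = e.prod (fun l k => x l k))
    (δ : DividedPowers ((I.map (algebraMap A R)).map (algebraMap R P) ⊔ Pplus x))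
    (hδ : γR.IsDPMorphism δ (algebraMap R P))
    (hδx : ∀ (l : ↥J) (n : ℕ), δ.dpow n (x l 1) = x l n) :
    ∃ (D : Type u) (_ : CommRing D) (_ : Algebra B D) (JD : Ideal D) (γD : DividedPowers JD),
      J.map (algebraMap B D) ≤ JD ∧
      γ.IsDPMorphism γD ((algebraMap B D).comp (algebraMap A B)) ∧
      ∀ (C : Type u) [CommRing C] [Algebra A C] (K : Ideal C) (δ : DividedPowers K),
        γ.IsDPMorphism δ (algebraMap A C) →
        ∀ ψ : B →ₐ[A] C, J.map ψ ≤ K →
          ∃! χ : D →+* C, χ.comp (algebraMap B D) = ψ ∧ γD.IsDPMorphism δ χ := by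
  refine ⟨Env J ev s x δ, inferInstance, (toD J ev s hs x δ).toAlgebra, JD J ev s x δ,
    γD J ev s x δ, ?_, ?_, ?_⟩
  · exact J_le J ev s hs x δ
  · exact toD_isDPMorphism γ J γR hγR ev s hs x δ hδ
  · intro C _ _ K ε hε ψ hψ
    exact env_univ γ J γR hγR ev s hs x hx0 hxmul b hb δ hδ hδx ε hε ψ hψ

theorem main2194 {A B : Type u} [CommRing A] [CommRing B] [Algebra A B] {I : Ideal A}
    (γ : DividedPowers I) (J : Ideal B) :
    ∃ (D : Type u) (_ : CommRing D) (_ : Algebra B D) (JD : Ideal D) (γD : DividedPowers JD),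
      J.map (algebraMap B D) ≤ JD ∧
      γ.IsDPMorphism γD ((algebraMap B D).comp (algebraMap A B)) ∧
      ∀ (C : Type u) [CommRing C] [Algebra A C] (K : Ideal C) (δ : DividedPowers K),
        γ.IsDPMorphism δ (algebraMap A C) →
        ∀ ψ : B →ₐ[A] C, J.map ψ ≤ K →
          ∃! χ : D →+* C, χ.comp (algebraMap B D) = ψ ∧ γD.IsDPMorphism δ χ := by
  obtain ⟨γR, hγR⟩ := exists_extension γ (MvPolynomial.basisMonomials B A)
  have hs : ∀ b' : B, (MvPolynomial.aeval (R := A) (id : B → B)) (MvPolynomial.X b') = b' :=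
    fun b' => by rw [MvPolynomial.aeval_X]; rfl
  obtain ⟨δplus, hδplus, -⟩ := main18420 (xx (MvPolynomial B A) ↥J) (xx_zero _ _) (xx_mul _ _)
    (basisDD (MvPolynomial B A) ↥J) (basisDD_apply _ _)
  obtain ⟨δ, ⟨hδ, hδ2⟩, -⟩ := main18421 γR (xx (MvPolynomial B A) ↥J) (xx_zero _ _) (xx_mul _ _)
    (basisDD (MvPolynomial B A) ↥J) (basisDD_apply _ _) δplus
  have hδx : ∀ (l : ↥J) (n : ℕ), δ.dpow n (xx (MvPolynomial B A) ↥J l 1) =
      xx (MvPolynomial B A) ↥J l n := by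
    intro l n
    rw [hδ2 n _ (gen_mem _ l one_ne_zero)]
    exact hδplus l n
  exact env_main γ J γR hγR (MvPolynomial.aeval (R := A) (id : B → B)) MvPolynomial.X hs
    (xx (MvPolynomial B A) ↥J) (xx_zero _ _) (xx_mul _ _) (basisDD (MvPolynomial B A) ↥J)
    (basisDD_apply _ _) δ hδ hδx

end Main

end Helper91.DPGen
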