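import Groth.Agent.Lib.Helper91.DPPoly

/-!
# Extension of divided powers to a free algebra (helper91)
-/

namespace Helper91.DPGen

open PowerSeries

local notation "AD" => Finset.HasAntidiagonal.antidiagonal

section Ext

variable {R : Type*} [CommRing R] {I : Ideal R} (γ : DividedPowers I)
  {P : Type*} [CommRing P] [Algebra R P] {κ : Type*} (b : Module.Basis κ R P)

/-- The exponential of `a ∈ I`, pushed to `P`. -/
noncomputable def EI (a : R) : PowerSeries P := PowerSeries.map (algebraMap R P) (γ.exp a)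

theorem coeff_EI (a : R) (n : ℕ) : coeff n (EI γ (P := P) a) = algebraMap R P (γ.dpow n a) := by
  simp [EI, DividedPowers.exp]

theorem isExp_EI {a : R} (ha : a ∈ I) : IsExp (EI γ (P := P) a) := by
  refine ⟨by rw [coeff_EI, γ.dpow_zero ha, map_one], fun i j => ?_⟩
  rw [coeff_EI, coeff_EI, coeff_EI, ← map_mul, γ.mul_dpow ha, map_mul, map_natCast]

theorem EI_add {a a' : R} (ha : a ∈ I) (ha' : a' ∈ I) :
    EI γ (P := P) (a + a') = EI γ a * EI γ a' := by
  unfold EI; rw [γ.exp_add ha ha', map_mul]

theorem EI_zero : EI γ (P := P) 0 = 1 := by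
  ext n
  rw [coeff_EI, coeff_one]
  by_cases hn : n = 0
  · subst hn; simp [γ.dpow_zero I.zero_mem]
  · simp [hn, γ.dpow_eval_zero hn]

theorem EI_smul (r : R) {a : R} (ha : a ∈ I) :
    EI γ (P := P) (r * a) = PowerSeries.rescale (algebraMap R P r) (EI γ a) := by
  ext n
  rw [coeff_rescale, coeff_EI, coeff_EI, γ.dpow_mul ha, map_mul, map_pow]

/-- `(a_e)_e ↦ Σ a_e b_e`. -/
noncomputable def ev : (κ →₀ ↥I) →ₗ[R] P :=
  b.repr.symm.toLinearMap ∘ₗ Finsupp.mapRange.linearMap (Submodule.subtype I)

theorem ev_apply (l : κ →₀ ↥I) : ev b l = l.sum (fun e a => (a : R) • b e) := by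
  unfold ev
  rw [LinearMap.comp_apply, LinearEquiv.coe_coe, Module.Basis.repr_symm_apply,
    Finsupp.linearCombination_apply, Finsupp.mapRange.linearMap_apply,
    Finsupp.sum_mapRange_index (by intros; simp)]
  rfl

theorem ev_injective : Function.Injective (ev (I := I) b) := by
  unfold ev
  rw [LinearMap.coe_comp]
  refine b.repr.symm.injective.comp ?_
  exact Finsupp.mapRange_injective _ (by simp) Subtype.val_injective

theorem ev_single (e : κ) (a : ↥I) : ev b (Finsupp.single e a) = (a : R) • b e := by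
  rw [ev_apply, Finsupp.sum_single_index (by simp)]

theorem ev_mem (l : κ →₀ ↥I) : ev b l ∈ I.map (algebraMap R P) := by
  rw [ev_apply]
  refine Ideal.sum_mem _ (fun e _ => ?_)
  beta_reduce
  rw [Algebra.smul_def]
  exact Ideal.mul_mem_right _ _ (Ideal.mem_map_of_mem _ (l e).2)

theorem smul_mem_range {a : R} (ha : a ∈ I) (q : P) : a • q ∈ LinearMap.range (ev (I := I) b) := by
  refine ⟨(b.repr q).mapRange (fun r => (⟨a * r, I.mul_mem_right r ha⟩ : ↥I)) (by simp), ?_⟩
  unfold ev
  rw [LinearMap.comp_apply, LinearEquiv.coe_coe]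
  apply b.repr.injective
  rw [LinearEquiv.apply_symm_apply, map_smul]
  ext e
  simp

theorem range_ev : ∀ y : P, y ∈ I.map (algebraMap R P) ↔ y ∈ LinearMap.range (ev (I := I) b) := by
  intro y
  constructor
  · intro hy
    unfold Ideal.map at hy
    refine Submodule.span_induction (p := fun y _ => y ∈ LinearMap.range (ev (I := I) b))
      ?_ ?_ ?_ ?_ hy
    · rintro _ ⟨a, ha, rfl⟩
      rw [Algebra.algebraMap_eq_smul_one]
      exact smul_mem_range b ha 1
    · exact Submodule.zero_mem _
    · intro y y' _ _ h h'; exact Submodule.add_mem _ h h'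
    · rintro p y _ ⟨l, rfl⟩
      rw [smul_eq_mul, ev_apply, Finsupp.sum, Finset.mul_sum]
      refine Submodule.sum_mem _ (fun e _ => ?_)
      rw [mul_smul_comm]
      exact smul_mem_range b (l e).2 _
  · rintro ⟨l, rfl⟩
    exact ev_mem b l

/-- The `I`-coordinates of an element of `I P`. -/
noncomputable def lI (y : P) : κ →₀ ↥I := by
  classical exact if h : y ∈ LinearMap.range (ev (I := I) b) then Classical.choose h else 0

theorem ev_lI {y : P} (hy : y ∈ I.map (algebraMap R P)) : ev b (lI (I := I) b y) = y := by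
  have h := (range_ev b y).mp hy
  unfold lI
  rw [dif_pos h]
  exact Classical.choose_spec h

theorem lI_ev (l : κ →₀ ↥I) : lI b (ev b l) = l :=
  ev_injective b (ev_lI b (ev_mem b l))

theorem lI_zero : lI (I := I) b (0 : P) = 0 := by
  have := lI_ev (I := I) b 0
  rwa [map_zero] at this

theorem lI_add {y y' : P} (hy : y ∈ I.map (algebraMap R P)) (hy' : y' ∈ I.map (algebraMap R P)) :
    lI (I := I) b (y + y') = lI b y + lI b y' := by
  apply ev_injective b
  rw [map_add, ev_lI b hy, ev_lI b hy', ev_lI b (Ideal.add_mem _ hy hy')]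

/-- `exp(a b_e t)`. -/
noncomputable def GI (e : κ) (a : ↥I) : PowerSeries P := PowerSeries.rescale (b e) (EI γ (a : R))

theorem GI_zero (e : κ) : GI γ b e 0 = 1 := by
  unfold GI
  rw [Submodule.coe_zero, EI_zero, map_one]

theorem GI_add (e : κ) (a a' : ↥I) : GI γ b e (a + a') = GI γ b e a * GI γ b e a' := by
  unfold GI
  rw [Submodule.coe_add, EI_add γ a.2 a'.2, map_mul]

/-- The exponential of a coordinate vector. -/
noncomputable def EL (l : κ →₀ ↥I) : PowerSeries P := l.prod (GI γ b)

theorem EL_add (l l' : κ →₀ ↥I) : EL γ b (l + l') = EL γ b l * EL γ b l' := by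
  classical
  unfold EL
  exact Finsupp.prod_add_index' (GI_zero γ b) (GI_add γ b)

theorem EL_zero : EL γ b (0 : κ →₀ ↥I) = 1 := Finsupp.prod_zero_index

theorem EL_single (e : κ) (a : ↥I) : EL γ b (Finsupp.single e a) = GI γ b e a := by
  unfold EL; rw [Finsupp.prod_single_index (GI_zero γ b e)]

/-- Key formula: the exponential of `a • p`. -/
theorem EL_smul {a : R} (ha : a ∈ I) (p : P) :
    EL γ b (lI b (a • p)) = PowerSeries.rescale p (EI γ a) := by
  have hexp := isExp_EI γ (P := P) ha
  have hmem : ∀ q : P, a • q ∈ I.map (algebraMap R P) := fun q =>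
    (range_ev b _).mpr (smul_mem_range b ha q)
  have key : ∀ m : κ →₀ R, EL γ b (lI b (a • b.repr.symm m)) =
      PowerSeries.rescale (b.repr.symm m) (EI γ a) := by
    intro m
    induction m using Finsupp.induction_linear with
    | zero =>
      rw [map_zero, smul_zero, hexp.rescale_zero]
      have : lI (I := I) b (0 : P) = 0 := by
        have := lI_ev (I := I) b 0
        rwa [map_zero] at this
      rw [this, EL_zero]
    | add m m' hm hm' =>
      rw [map_add, smul_add, lI_add b (hmem _) (hmem _), EL_add, hm, hm', hexp.rescale_add]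
    | single f r =>
      have e1 : b.repr.symm (Finsupp.single f r) = r • b f := by
        rw [← Finsupp.smul_single_one, map_smul, Module.Basis.repr_symm_single_one]
      have e2 : a • (r • b f) = ev b (Finsupp.single f (⟨r * a, I.mul_mem_left r ha⟩ : ↥I)) := by
        rw [ev_single, smul_smul, mul_comm]
      rw [e1, e2, lI_ev, EL_single]
      unfold GI
      rw [EI_smul γ r ha, rescale_rescale, Algebra.smul_def]
  have := key (b.repr p)
  rwa [b.repr.symm_apply_apply] at this

/-- The candidate extension. -/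
noncomputable def dI (n : ℕ) (y : P) : P := by
  classical exact if y ∈ I.map (algebraMap R P) then coeff n (EL γ b (lI b y)) else 0

theorem dI_of_mem {y : P} (hy : y ∈ I.map (algebraMap R P)) (n : ℕ) :
    dI γ b n y = coeff n (EL γ b (lI b y)) := by
  unfold dI; rw [if_pos hy]

/-- Power series with constant term `1` and higher coefficients in `I P`. -/
def SSI (I : Ideal R) (P : Type*) [CommRing P] [Algebra R P] : Submonoid (PowerSeries P) where
  carrier := {G | coeff 0 G = 1 ∧ ∀ k, k ≠ 0 → coeff k G ∈ I.map (algebraMap R P)}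
  one_mem' := ⟨by simp, fun k hk => by simp [coeff_one, hk]⟩
  mul_mem' := by
    rintro G G' ⟨h0, h1⟩ ⟨h0', h1'⟩
    refine ⟨by simp [coeff_mul, h0, h0'], fun k hk => ?_⟩
    rw [coeff_mul]
    refine Ideal.sum_mem _ (fun p hp => ?_)
    rw [Finset.HasAntidiagonal.mem_antidiagonal] at hp
    by_cases h : p.1 = 0
    · exact Ideal.mul_mem_left _ _ (h1' p.2 (by omega))
    · exact Ideal.mul_mem_right _ _ (h1 p.1 h)

theorem GI_mem (e : κ) (a : ↥I) : GI γ b e a ∈ SSI I P := by
  refine ⟨?_, fun k hk => ?_⟩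
  · unfold GI; rw [coeff_rescale, coeff_EI, γ.dpow_zero a.2]; simp
  · unfold GI; rw [coeff_rescale, coeff_EI]
    exact Ideal.mul_mem_left _ _ (Ideal.mem_map_of_mem _ (γ.dpow_mem hk a.2))

theorem EL_mem (l : κ →₀ ↥I) : EL γ b l ∈ SSI I P := by
  unfold EL Finsupp.prod
  exact Submonoid.prod_mem _ (fun e _ => GI_mem γ b e _)

theorem coeff_one_EL (l : κ →₀ ↥I) : coeff 1 (EL γ b l) = ev b l := by
  unfold EL Finsupp.prod
  rw [(coeff_one_prod _ _ (fun e _ => (GI_mem γ b e _).1)).2, ev_apply]
  unfold Finsupp.sum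
  apply Finset.sum_congr rfl
  intro e _
  unfold GI
  rw [coeff_rescale, coeff_EI, γ.dpow_one (l e).2, pow_one]
  beta_reduce
  rw [Algebra.smul_def, mul_comm]

theorem EL_mul {y : P} (hy : y ∈ I.map (algebraMap R P)) (c : P) :
    EL γ b (lI b (c * y)) = PowerSeries.rescale c (EL γ b (lI b y)) := by
  have hy' := ev_lI b hy
  rw [← hy']
  generalize lI b y = l
  induction l using Finsupp.induction_linear with
  | zero => rw [map_zero, mul_zero, lI_zero, EL_zero, map_one]
  | add l l' hl hl' =>
    rw [lI_ev, EL_add, map_mul, map_add, mul_add, lI_add b (Ideal.mul_mem_left _ _ (ev_mem b l))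
      (Ideal.mul_mem_left _ _ (ev_mem b l')), EL_add, hl, hl', lI_ev, lI_ev]
  | single e a =>
    rw [lI_ev, ev_single, EL_single, mul_smul_comm, EL_smul γ b a.2]
    unfold GI
    rw [rescale_rescale, mul_comm]

theorem preDP_dI : PreDP (I.map (algebraMap R P)) (dI γ b) where
  null n y hy := by unfold dI; rw [if_neg hy]
  zero y hy := by rw [dI_of_mem γ b hy]; exact (EL_mem γ b _).1
  one y hy := by rw [dI_of_mem γ b hy, coeff_one_EL, ev_lI b hy]
  mem n y hn hy := by rw [dI_of_mem γ b hy]; exact (EL_mem γ b _).2 n hn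
  add n y y' hy hy' := by
    rw [dI_of_mem γ b (Ideal.add_mem _ hy hy'), lI_add b hy hy', EL_add, coeff_mul]
    apply Finset.sum_congr rfl
    intro k _
    rw [dI_of_mem γ b hy, dI_of_mem γ b hy']
  mul n c y hy := by
    rw [dI_of_mem γ b (Ideal.mul_mem_left _ c hy), EL_mul γ b hy, coeff_rescale, dI_of_mem γ b hy]

theorem dI_algebraMap {a : R} (ha : a ∈ I) (n : ℕ) :
    dI γ b n (algebraMap R P a) = algebraMap R P (γ.dpow n a) := by
  rw [dI_of_mem γ b (Ideal.mem_map_of_mem _ ha), Algebra.algebraMap_eq_smul_one, EL_smul γ b ha,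
    rescale_one, RingHom.id_apply, coeff_EI]

include b in
/-- Divided powers extend to a free algebra. -/
theorem exists_extension :
    ∃ γ' : DividedPowers (I.map (algebraMap R P)), γ.IsDPMorphism γ' (algebraMap R P) := by
  have hP := preDP_dI γ b
  obtain ⟨γ', hγ'⟩ := main2192 (I := I.map (algebraMap R P)) ((algebraMap R P) '' (I : Set R)) rfl hP
    (by
      rintro _ ⟨a, ha, rfl⟩ m n
      rw [dI_algebraMap γ b ha, dI_algebraMap γ b ha, dI_algebraMap γ b ha, ← map_mul,
        γ.mul_dpow ha, map_mul, map_natCast])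
    (by
      rintro _ ⟨a, ha, rfl⟩ m n hn
      rw [dI_algebraMap γ b ha, dI_algebraMap γ b (γ.dpow_mem hn ha), dI_algebraMap γ b ha,
        γ.dpow_comp hn ha, map_mul, map_natCast])
  refine ⟨γ', le_rfl, fun {n} a ha => ?_⟩
  rw [hγ', dI_algebraMap γ b ha]

end Ext

end Helper91.DPGen
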