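import Groth.Agent.Lib.Helper91.DPGen

/-!
# Divided powers on a sum of two ideals (helper91)
-/

namespace Helper91.DPSup

open Helper91.DPGen

local notation "AD" => Finset.HasAntidiagonal.antidiagonal

variable {A : Type*} [CommRing A] {I J : Ideal A} (γ : DividedPowers I) (δ : DividedPowers J)

theorem exp_zero' : γ.exp 0 = 1 := by
  ext n
  simp only [DividedPowers.exp, PowerSeries.coeff_mk, PowerSeries.coeff_one]
  split_ifs with h
  · subst h; exact γ.dpow_zero I.zero_mem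
  · exact γ.dpow_eval_zero h

theorem exp_mul' (c : A) {a : A} (ha : a ∈ I) :
    γ.exp (c * a) = PowerSeries.rescale c (γ.exp a) := by
  ext n
  simp only [DividedPowers.exp, PowerSeries.coeff_mk, PowerSeries.coeff_rescale]
  exact γ.dpow_mul ha

section

variable (hγδ : ∀ (n : ℕ) (x : A), x ∈ I ⊓ J → γ.dpow n x = δ.dpow n x)

include hγδ in
theorem exp_eq_of_mem_inf {c : A} (hc : c ∈ I ⊓ J) : γ.exp c = δ.exp c := by
  ext n
  simp only [DividedPowers.exp, PowerSeries.coeff_mk]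
  exact hγδ n c hc

include hγδ in
theorem welldef {a a' b b' : A} (ha : a ∈ I) (ha' : a' ∈ I) (hb : b ∈ J) (hb' : b' ∈ J)
    (h : a + b = a' + b') : γ.exp a * δ.exp b = γ.exp a' * δ.exp b' := by
  have hcI : a - a' ∈ I := I.sub_mem ha ha'
  have hcJ : a - a' ∈ J := by
    have : a - a' = b' - b := by linear_combination h
    rw [this]; exact J.sub_mem hb' hb
  have e1 : γ.exp a = γ.exp a' * γ.exp (a - a') := by
    rw [← γ.exp_add ha' hcI]; congr 1; ring
  have e2 : δ.exp b' = δ.exp b * δ.exp (a - a') := by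
    rw [← δ.exp_add hb hcJ]; congr 1; linear_combination (-1 : A) * h
  rw [e1, e2, exp_eq_of_mem_inf γ δ hγδ ⟨hcI, hcJ⟩]; ring

open Classical in
/-- The exponential series of an element of `I ⊔ J`. -/
noncomputable def E (z : A) : PowerSeries A :=
  if h : z ∈ I ⊔ J then
    γ.exp (Classical.choose (Submodule.mem_sup.mp h)) *
      δ.exp (Classical.choose (Classical.choose_spec (Submodule.mem_sup.mp h)).2)
  else 0

include hγδ in
theorem E_eq {a b : A} (ha : a ∈ I) (hb : b ∈ J) : E γ δ (a + b) = γ.exp a * δ.exp b := by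
  have h : a + b ∈ I ⊔ J := Submodule.add_mem_sup ha hb
  unfold E
  rw [dif_pos h]
  have s1 := Classical.choose_spec (Submodule.mem_sup.mp h)
  have s2 := Classical.choose_spec s1.2
  exact welldef γ δ hγδ s1.1 ha s2.1 hb s2.2

theorem E_of_notMem {z : A} (h : z ∉ I ⊔ J) : E γ δ z = 0 := by
  unfold E; rw [dif_neg h]

/-- The candidate divided powers on `I ⊔ J`. -/
noncomputable def ε (n : ℕ) (z : A) : A := PowerSeries.coeff n (E γ δ z)

include hγδ in
theorem ε_left {a : A} (ha : a ∈ I) (n : ℕ) : ε γ δ n a = γ.dpow n a := by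
  have := E_eq γ δ hγδ ha J.zero_mem
  rw [add_zero, exp_zero', mul_one] at this
  unfold ε
  rw [this]; simp [DividedPowers.exp]

include hγδ in
theorem ε_right {b : A} (hb : b ∈ J) (n : ℕ) : ε γ δ n b = δ.dpow n b := by
  have := E_eq γ δ hγδ I.zero_mem hb
  rw [zero_add, exp_zero', one_mul] at this
  unfold ε
  rw [this]; simp [DividedPowers.exp]

include hγδ in
theorem preDP : PreDP (I ⊔ J) (ε γ δ) where
  null n x hx := by unfold ε; rw [E_of_notMem γ δ hx]; simp
  zero x hx := by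
    obtain ⟨a, ha, b, hb, rfl⟩ := Submodule.mem_sup.mp hx
    unfold ε
    rw [E_eq γ δ hγδ ha hb, PowerSeries.coeff_mul]
    simp [DividedPowers.exp, γ.dpow_zero ha, δ.dpow_zero hb]
  one x hx := by
    obtain ⟨a, ha, b, hb, rfl⟩ := Submodule.mem_sup.mp hx
    unfold ε
    rw [E_eq γ δ hγδ ha hb, PowerSeries.coeff_mul]
    rw [Finset.Nat.antidiagonal_succ]
    simp [DividedPowers.exp, γ.dpow_zero ha, δ.dpow_zero hb, γ.dpow_one ha, δ.dpow_one hb,
      add_comm]
  mem n x hn hx := by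
    obtain ⟨a, ha, b, hb, rfl⟩ := Submodule.mem_sup.mp hx
    unfold ε
    rw [E_eq γ δ hγδ ha hb, PowerSeries.coeff_mul]
    refine Ideal.sum_mem _ (fun k hk => ?_)
    rw [Finset.HasAntidiagonal.mem_antidiagonal] at hk
    simp only [DividedPowers.exp, PowerSeries.coeff_mk]
    by_cases h1 : k.1 = 0
    · have h2 : k.2 ≠ 0 := by omega
      exact Ideal.mul_mem_left _ _ (Ideal.mem_sup_right (δ.dpow_mem h2 hb))
    · exact Ideal.mul_mem_right _ _ (Ideal.mem_sup_left (γ.dpow_mem h1 ha))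
  add n x y hx hy := by
    obtain ⟨a, ha, b, hb, rfl⟩ := Submodule.mem_sup.mp hx
    obtain ⟨a', ha', b', hb', rfl⟩ := Submodule.mem_sup.mp hy
    have e : E γ δ (a + b + (a' + b')) = E γ δ (a + b) * E γ δ (a' + b') := by
      have : a + b + (a' + b') = (a + a') + (b + b') := by ring
      rw [this, E_eq γ δ hγδ (I.add_mem ha ha') (J.add_mem hb hb'), E_eq γ δ hγδ ha hb,
        E_eq γ δ hγδ ha' hb', γ.exp_add ha ha', δ.exp_add hb hb']
      ring
    unfold ε
    rw [e, PowerSeries.coeff_mul]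
  mul n c x hx := by
    obtain ⟨a, ha, b, hb, rfl⟩ := Submodule.mem_sup.mp hx
    have e : E γ δ (c * (a + b)) = PowerSeries.rescale c (E γ δ (a + b)) := by
      rw [mul_add, E_eq γ δ hγδ (I.mul_mem_left c ha) (J.mul_mem_left c hb), E_eq γ δ hγδ ha hb,
        exp_mul' γ c ha, exp_mul' δ c hb, map_mul]
    unfold ε
    rw [e, PowerSeries.coeff_rescale]

include hγδ in
theorem main2191 :
    ∃! ε' : DividedPowers (I ⊔ J),
      (∀ (n : ℕ) (x : A), x ∈ I → ε'.dpow n x = γ.dpow n x) ∧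
        (∀ (n : ℕ) (x : A), x ∈ J → ε'.dpow n x = δ.dpow n x) := by
  have hS : Ideal.span ((I : Set A) ∪ (J : Set A)) = I ⊔ J := by
    rw [Ideal.span_union, Ideal.span_eq, Ideal.span_eq]
  have hP := preDP γ δ hγδ
  obtain ⟨ε', hε'⟩ := main2192 ((I : Set A) ∪ (J : Set A)) hS hP
    (by
      rintro x (hx | hx) m n
      · rw [ε_left γ δ hγδ hx, ε_left γ δ hγδ hx, ε_left γ δ hγδ hx]; exact γ.mul_dpow hx
      · rw [ε_right γ δ hγδ hx, ε_right γ δ hγδ hx, ε_right γ δ hγδ hx]; exact δ.mul_dpow hx)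
    (by
      rintro x (hx | hx) m n hn
      · rw [ε_left γ δ hγδ hx, ε_left γ δ hγδ (γ.dpow_mem hn hx), ε_left γ δ hγδ hx]
        exact γ.dpow_comp hn hx
      · rw [ε_right γ δ hγδ hx, ε_right γ δ hγδ (δ.dpow_mem hn hx), ε_right γ δ hγδ hx]
        exact δ.dpow_comp hn hx)
  refine ⟨ε', ⟨fun n x hx => by rw [hε']; exact ε_left γ δ hγδ hx n,
    fun n x hx => by rw [hε']; exact ε_right γ δ hγδ hx n⟩, ?_⟩
  rintro ε'' ⟨h1, h2⟩
  apply DividedPowers.dpow_eq_from_gens ε' ε'' hS.symm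
  rintro n x (hx | hx)
  · rw [hε', ε_left γ δ hγδ hx, h1 n x hx]
  · rw [hε', ε_right γ δ hγδ hx, h2 n x hx]

end

end Helper91.DPSup
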