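import Groth.Agent.Lib.Helper91.DPExt
import Groth.Agent.Lib.Helper91.DPSup

/-!
# Divided powers on `I P + P₊` for a divided power polynomial algebra (helper91)
-/

namespace Helper91.DPGen

open PowerSeries

local notation "AD" => Finset.HasAntidiagonal.antidiagonal

section Main

variable {R : Type*} [CommRing R] {I : Ideal R} (γ : DividedPowers I) {Λ : Type*}
  {P : Type*} [CommRing P] [Algebra R P] (x : Λ → ℕ → P)
  (hx0 : ∀ l, x l 0 = 1)
  (hxmul : ∀ l n m, x l n * x l m = ((n + m).choose n : P) * x l (n + m))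
  (b : Module.Basis (Λ →₀ ℕ) R P) (hb : ∀ e : Λ →₀ ℕ, b e = e.prod (fun l k => x l k))
  (δplus : DividedPowers (Pplus x))
  (γbar : DividedPowers (I.map (algebraMap R P)))
  (hγbar : γ.IsDPMorphism γbar (algebraMap R P))

include hb in
theorem basis_mem_Pplus {e : Λ →₀ ℕ} (he : e ≠ 0) : b e ∈ Pplus x := by
  obtain ⟨i, hi⟩ : ∃ i, e i ≠ 0 := by
    by_contra h
    push Not at h
    exact he (Finsupp.ext h)
  classical
  have hi' : i ∈ e.support := Finsupp.mem_support_iff.mpr hi
  rw [hb]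
  unfold Finsupp.prod
  rw [← Finset.mul_prod_erase _ _ hi']
  exact Ideal.mul_mem_right _ _ (Ideal.subset_span ⟨i, e i, Nat.one_le_iff_ne_zero.mpr hi, rfl⟩)

theorem repr_ev (l : (Λ →₀ ℕ) →₀ ↥I) (e : Λ →₀ ℕ) : b.repr (ev b l) e = (l e : R) := by
  unfold ev
  rw [LinearMap.comp_apply, LinearEquiv.coe_coe, LinearEquiv.apply_symm_apply,
    Finsupp.mapRange.linearMap_apply, Finsupp.mapRange_apply]
  rfl

include hb hγbar in
theorem agree_aux (l : (Λ →₀ ℕ) →₀ ↥I) :
    ev b (l.erase 0) ∈ Pplus x ∧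
      ∀ n, γbar.dpow n (ev b (l.erase 0)) = δplus.dpow n (ev b (l.erase 0)) := by
  classical
  have hzero : ∀ n, γbar.dpow n (0 : P) = δplus.dpow n (0 : P) := by
    intro n
    by_cases hn : n = 0
    · subst hn; rw [γbar.dpow_zero (Ideal.zero_mem _), δplus.dpow_zero (Ideal.zero_mem _)]
    · rw [γbar.dpow_eval_zero hn, δplus.dpow_eval_zero hn]
  induction l using Finsupp.induction_linear with
  | zero =>
    rw [Finsupp.erase_zero, map_zero]
    exact ⟨Ideal.zero_mem _, hzero⟩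
  | add l l' hl hl' =>
    rw [Finsupp.erase_add, map_add]
    refine ⟨Ideal.add_mem _ hl.1 hl'.1, fun n => ?_⟩
    rw [γbar.dpow_add (ev_mem b _) (ev_mem b _), δplus.dpow_add hl.1 hl'.1]
    apply Finset.sum_congr rfl
    intro k _
    rw [hl.2, hl'.2]
  | single e a =>
    by_cases he : e = 0
    · subst he
      rw [Finsupp.erase_single, map_zero]
      exact ⟨Ideal.zero_mem _, hzero⟩
    · rw [Finsupp.erase_single_ne (Ne.symm he), ev_single, Algebra.smul_def]
      have hbe : b e ∈ Pplus x := basis_mem_Pplus x b hb he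
      have ha : algebraMap R P (a : R) ∈ I.map (algebraMap R P) := Ideal.mem_map_of_mem _ a.2
      refine ⟨Ideal.mul_mem_left _ _ hbe, fun n => ?_⟩
      rw [γbar.dpow_mul_right ha, δplus.dpow_mul hbe, hγbar.dpow_comp _ a.2,
        ← δplus.factorial_mul_dpow_eq_pow hbe, ← map_pow, ← γ.factorial_mul_dpow_eq_pow a.2,
        map_mul, map_natCast]
      ring

include hx0 hxmul hb hγbar in
theorem agree (n : ℕ) (y : P) (hy : y ∈ I.map (algebraMap R P) ⊓ Pplus x) :
    γbar.dpow n y = δplus.dpow n y := by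
  classical
  have h1 := ev_lI b hy.1
  have h0 : (lI (I := I) b y) 0 = 0 := by
    apply Subtype.ext
    rw [← repr_ev b, h1, π₀_of_mem x hx0 hxmul b hb hy.2]
    rfl
  have h2 : (lI (I := I) b y).erase 0 = lI b y := by
    ext e
    by_cases he : e = 0
    · subst he; rw [Finsupp.erase_same, h0]
    · rw [Finsupp.erase_ne he]
  have := (agree_aux γ x b hb δplus γbar hγbar (lI b y)).2 n
  rwa [h2, h1] at this

include hx0 hxmul hb in
theorem main18421 :
    ∃! δ : DividedPowers (I.map (algebraMap R P) ⊔ Pplus x),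
      γ.IsDPMorphism δ (algebraMap R P) ∧
        ∀ (n : ℕ) (y : P), y ∈ Pplus x → δ.dpow n y = δplus.dpow n y := by
  obtain ⟨γbar, hγbar⟩ := exists_extension γ b
  obtain ⟨ε, ⟨hε1, hε2⟩, hεu⟩ := Helper91.DPSup.main2191 γbar δplus
    (fun n y hy => agree γ x hx0 hxmul b hb δplus γbar hγbar n y hy)
  refine ⟨ε, ⟨⟨?_, ?_⟩, hε2⟩, ?_⟩
  · exact le_sup_left
  · intro n a ha
    rw [hε1 n _ (Ideal.mem_map_of_mem _ ha), hγbar.dpow_comp a ha]
  · rintro δ' ⟨hδ1, hδ2⟩
    apply hεu
    refine ⟨fun n y hy => ?_, hδ2⟩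
    have hmor : γbar.IsDPMorphism δ' (RingHom.id P) := by
      refine DividedPowers.IsDPMorphism.on_span γbar δ'
        (S := (algebraMap R P) '' (I : Set R)) rfl ?_ ?_
      · rintro _ ⟨a, ha, rfl⟩
        exact Ideal.mem_sup_left (Ideal.mem_map_of_mem _ ha)
      · rintro n _ ⟨a, ha, rfl⟩
        rw [RingHom.id_apply, RingHom.id_apply, hγbar.dpow_comp a ha, hδ1.dpow_comp a ha]
    have := hmor.dpow_comp (n := n) y hy
    simpa using this

end Main

end Helper91.DPGen
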