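import Groth.Agent.Lib.Helper91.DPExt
import Mathlib.RingTheory.Flat.EquationalCriterion

/-!
# Extension of divided powers along a flat ring map (helper91)
-/

namespace Helper91.DPGen

open PowerSeries

local notation "AD" => Finset.HasAntidiagonal.antidiagonal

section Flat

variable {A : Type*} [CommRing A] {I : Ideal A} (γ : DividedPowers I)
  {B : Type*} [CommRing B] [Algebra A B]

theorem IsExp.rescale_sum {F : PowerSeries B} (h : IsExp F) {κ : Type*} (s : Finset κ) (c : κ → B) :
    PowerSeries.rescale (∑ j ∈ s, c j) F = ∏ j ∈ s, PowerSeries.rescale (c j) F := by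
  classical
  induction s using Finset.induction_on with
  | empty => rw [Finset.sum_empty, Finset.prod_empty, h.rescale_zero]
  | insert a s ha ih => rw [Finset.sum_insert ha, Finset.prod_insert ha, h.rescale_add, ih]

theorem EI_sum {κ : Type*} (s : Finset κ) (c : κ → A) (hc : ∀ j ∈ s, c j ∈ I) :
    EI γ (P := B) (∑ j ∈ s, c j) = ∏ j ∈ s, EI γ (c j) := by
  classical
  induction s using Finset.induction_on with
  | empty => rw [Finset.sum_empty, Finset.prod_empty, EI_zero]
  | insert a s ha ih =>
    rw [Finset.sum_insert ha, Finset.prod_insert ha,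
      EI_add γ (hc a (Finset.mem_insert_self a s))
        (Ideal.sum_mem _ (fun j hj => hc j (Finset.mem_insert_of_mem hj))),
      ih (fun j hj => hc j (Finset.mem_insert_of_mem hj))]

/-- `(a_b)_b ↦ Σ a_b b`. -/
noncomputable def evF : (B →₀ ↥I) →ₗ[A] B :=
  (Finsupp.linearCombination A (id : B → B)) ∘ₗ Finsupp.mapRange.linearMap (Submodule.subtype I)

theorem evF_apply (l : B →₀ ↥I) : evF l = l.sum (fun b a => (a : A) • b) := by
  unfold evF
  rw [LinearMap.comp_apply, Finsupp.linearCombination_apply, Finsupp.mapRange.linearMap_apply,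
    Finsupp.sum_mapRange_index (by intros; simp)]
  rfl

theorem evF_single (b : B) (a : ↥I) : evF (Finsupp.single b a) = (a : A) • b := by
  rw [evF_apply, Finsupp.sum_single_index (by simp)]

theorem evF_mapDomain (c : B) (l : B →₀ ↥I) :
    evF (l.mapDomain (fun b => c * b)) = c * evF l := by
  induction l using Finsupp.induction_linear with
  | zero => simp
  | add l l' hl hl' => rw [Finsupp.mapDomain_add, map_add, map_add, hl, hl', mul_add]
  | single b a => rw [Finsupp.mapDomain_single, evF_single, evF_single, mul_smul_comm]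

theorem evF_mem (l : B →₀ ↥I) : evF l ∈ I.map (algebraMap A B) := by
  rw [evF_apply]
  refine Ideal.sum_mem _ (fun e _ => ?_)
  beta_reduce
  rw [Algebra.smul_def]
  exact Ideal.mul_mem_right _ _ (Ideal.mem_map_of_mem _ (l e).2)

theorem range_evF : ∀ y : B, y ∈ I.map (algebraMap A B) ↔ y ∈ LinearMap.range (evF (I := I) (B := B)) := by
  intro y
  constructor
  · intro hy
    unfold Ideal.map at hy
    refine Submodule.span_induction (p := fun y _ => y ∈ LinearMap.range (evF (I := I) (B := B)))
      ?_ ?_ ?_ ?_ hy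
    · rintro _ ⟨a, ha, rfl⟩
      refine ⟨Finsupp.single 1 ⟨a, ha⟩, ?_⟩
      rw [evF_single, Algebra.algebraMap_eq_smul_one]
    · exact Submodule.zero_mem _
    · intro y y' _ _ h h'; exact Submodule.add_mem _ h h'
    · rintro p y _ ⟨l, rfl⟩
      exact ⟨l.mapDomain (fun b => p * b), by rw [evF_mapDomain, smul_eq_mul]⟩
  · rintro ⟨l, rfl⟩
    exact evF_mem l

/-- A chosen representation of an element of `I B`. -/
noncomputable def lF (y : B) : B →₀ ↥I := by
  classical exact if h : y ∈ LinearMap.range (evF (I := I) (B := B)) then Classical.choose h else 0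

theorem evF_lF {y : B} (hy : y ∈ I.map (algebraMap A B)) : evF (lF (I := I) y) = y := by
  have h := (range_evF y).mp hy
  unfold lF
  rw [dif_pos h]
  exact Classical.choose_spec h

/-- `exp(a b t)`. -/
noncomputable def GF (b : B) (a : ↥I) : PowerSeries B := PowerSeries.rescale b (EI γ (a : A))

theorem GF_zero (b : B) : GF γ b 0 = 1 := by
  unfold GF
  rw [Submodule.coe_zero, EI_zero, map_one]

theorem GF_add (b : B) (a a' : ↥I) : GF γ b (a + a') = GF γ b a * GF γ b a' := by
  unfold GF
  rw [Submodule.coe_add, EI_add γ a.2 a'.2, map_mul]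

/-- The exponential of a representation. -/
noncomputable def EF (l : B →₀ ↥I) : PowerSeries B := l.prod (GF γ)

theorem EF_add (l l' : B →₀ ↥I) : EF γ (l + l') = EF γ l * EF γ l' := by
  classical
  unfold EF
  exact Finsupp.prod_add_index' (GF_zero γ) (GF_add γ)

theorem EF_zero : EF γ (0 : B →₀ ↥I) = 1 := Finsupp.prod_zero_index

theorem EF_single (b : B) (a : ↥I) : EF γ (Finsupp.single b a) = GF γ b a := by
  unfold EF; rw [Finsupp.prod_single_index (GF_zero γ b)]

theorem EF_mapDomain (c : B) (l : B →₀ ↥I) :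
    EF γ (l.mapDomain (fun b => c * b)) = PowerSeries.rescale c (EF γ l) := by
  induction l using Finsupp.induction_linear with
  | zero => rw [Finsupp.mapDomain_zero, EF_zero, map_one]
  | add l l' hl hl' => rw [Finsupp.mapDomain_add, EF_add, EF_add, hl, hl', map_mul]
  | single b a =>
    rw [Finsupp.mapDomain_single, EF_single, EF_single]
    unfold GF
    rw [rescale_rescale, mul_comm]

theorem GF_mem (b : B) (a : ↥I) : GF γ b a ∈ SSI I B := by
  refine ⟨?_, fun k hk => ?_⟩
  · unfold GF; rw [coeff_rescale, coeff_EI, γ.dpow_zero a.2]; simp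
  · unfold GF; rw [coeff_rescale, coeff_EI]
    exact Ideal.mul_mem_left _ _ (Ideal.mem_map_of_mem _ (γ.dpow_mem hk a.2))

theorem EF_mem (l : B →₀ ↥I) : EF γ l ∈ SSI I B := by
  unfold EF Finsupp.prod
  exact Submonoid.prod_mem _ (fun e _ => GF_mem γ e _)

theorem coeff_one_EF (l : B →₀ ↥I) : coeff 1 (EF γ l) = evF l := by
  unfold EF Finsupp.prod
  rw [(coeff_one_prod _ _ (fun e _ => (GF_mem γ e _).1)).2, evF_apply]
  unfold Finsupp.sum
  apply Finset.sum_congr rfl
  intro e _
  unfold GF
  rw [coeff_rescale, coeff_EI, γ.dpow_one (l e).2, pow_one]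
  beta_reduce
  rw [Algebra.smul_def, mul_comm]

/-- Key: by flatness, the exponential of a representation of `0` is `1`. -/
theorem EF_eq_one_of_evF_eq_zero [Module.Flat A B] (l : B →₀ ↥I) (hl : evF l = 0) :
    EF γ l = 1 := by
  classical
  have h0 : ∑ i : ↥l.support, ((l i : ↥I) : A) • (i : B) = 0 := by
    rw [evF_apply] at hl
    rw [← hl]
    unfold Finsupp.sum
    exact Finset.sum_coe_sort l.support (fun b => ((l b : ↥I) : A) • b)
  obtain ⟨k, a, y, hx, hf⟩ := Module.Flat.isTrivialRelation_of_sum_smul_eq_zero (R := A) (M := B)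
    (f := fun i : ↥l.support => ((l i : ↥I) : A)) (x := fun i : ↥l.support => (i : B)) h0
  beta_reduce at hx hf
  have h1 : EF γ l = ∏ i : ↥l.support, GF γ (i : B) (l i) := by
    unfold EF Finsupp.prod
    exact (Finset.prod_coe_sort l.support (fun b => GF γ b (l b))).symm
  rw [h1]
  have h2 : ∀ i : ↥l.support, GF γ (i : B) (l i) =
      ∏ j : Fin k, PowerSeries.rescale (y j) (EI γ (a i j * ((l i : ↥I) : A))) := by
    intro i
    unfold GF
    have e : PowerSeries.rescale (i : B) (EI γ ((l i : ↥I) : A)) =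
        PowerSeries.rescale (∑ j, a i j • y j) (EI γ ((l i : ↥I) : A)) :=
      congrArg (fun c => PowerSeries.rescale c (EI γ ((l i : ↥I) : A))) (hx i)
    rw [e, (isExp_EI γ (l i).2).rescale_sum]
    apply Finset.prod_congr rfl
    intro j _
    rw [EI_smul γ _ (l i).2, rescale_rescale, Algebra.smul_def]
  rw [Finset.prod_congr rfl (fun i _ => h2 i), Finset.prod_comm]
  apply Finset.prod_eq_one
  intro j _
  rw [← map_prod, ← EI_sum γ Finset.univ (fun i : ↥l.support => a i j * ((l i : ↥I) : A))
    (fun i _ => I.mul_mem_left _ (l i).2)]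
  have : ∑ i : ↥l.support, a i j * ((l i : ↥I) : A) = 0 := by
    rw [← hf j]
    apply Finset.sum_congr rfl
    intro i _
    rw [mul_comm]
  rw [this, EI_zero, map_one]

theorem EF_neg_mul (l : B →₀ ↥I) : EF γ (-l) * EF γ l = 1 := by
  rw [← EF_add, neg_add_cancel, EF_zero]

theorem EF_congr [Module.Flat A B] {l l' : B →₀ ↥I} (h : evF l = evF l') : EF γ l = EF γ l' := by
  have h1 : evF (l - l') = 0 := by rw [map_sub, h, sub_self]
  have h2 := EF_eq_one_of_evF_eq_zero γ _ h1
  have h3 : l = (l - l') + l' := by abel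
  rw [h3, EF_add, h2, one_mul]

/-- The candidate extension. -/
noncomputable def dF (n : ℕ) (y : B) : B := by
  classical exact if y ∈ I.map (algebraMap A B) then coeff n (EF γ (lF y)) else 0

theorem dF_of_mem {y : B} (hy : y ∈ I.map (algebraMap A B)) (n : ℕ) :
    dF γ n y = coeff n (EF γ (lF y)) := by
  unfold dF; rw [if_pos hy]

theorem preDP_dF [Module.Flat A B] : PreDP (I.map (algebraMap A B)) (dF γ (B := B)) where
  null n y hy := by unfold dF; rw [if_neg hy]
  zero y hy := by rw [dF_of_mem γ hy]; exact (EF_mem γ _).1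
  one y hy := by rw [dF_of_mem γ hy, coeff_one_EF, evF_lF hy]
  mem n y hn hy := by rw [dF_of_mem γ hy]; exact (EF_mem γ _).2 n hn
  add n y y' hy hy' := by
    have e : EF γ (lF (I := I) (y + y')) = EF γ (lF y + lF y') := by
      apply EF_congr
      rw [map_add, evF_lF hy, evF_lF hy', evF_lF (Ideal.add_mem _ hy hy')]
    rw [dF_of_mem γ (Ideal.add_mem _ hy hy'), e, EF_add, coeff_mul]
    apply Finset.sum_congr rfl
    intro k _
    rw [dF_of_mem γ hy, dF_of_mem γ hy']
  mul n c y hy := by
    have e : EF γ (lF (I := I) (c * y)) = EF γ ((lF y).mapDomain (fun b => c * b)) := by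
      apply EF_congr
      rw [evF_mapDomain, evF_lF hy, evF_lF (Ideal.mul_mem_left _ c hy)]
    rw [dF_of_mem γ (Ideal.mul_mem_left _ c hy), e, EF_mapDomain, coeff_rescale, dF_of_mem γ hy]

theorem dF_algebraMap [Module.Flat A B] {a : A} (ha : a ∈ I) (n : ℕ) :
    dF γ n (algebraMap A B a) = algebraMap A B (γ.dpow n a) := by
  have e : EF γ (lF (I := I) (algebraMap A B a)) = EF γ (Finsupp.single (1 : B) ⟨a, ha⟩) := by
    apply EF_congr
    rw [evF_lF (Ideal.mem_map_of_mem _ ha), evF_single, Algebra.algebraMap_eq_smul_one]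
  rw [dF_of_mem γ (Ideal.mem_map_of_mem _ ha), e, EF_single]
  unfold GF
  rw [rescale_one, RingHom.id_apply, coeff_EI]

/-- Divided powers extend along flat ring maps. -/
theorem exists_extension_of_flat [Module.Flat A B] :
    ∃ γ' : DividedPowers (I.map (algebraMap A B)), γ.IsDPMorphism γ' (algebraMap A B) := by
  have hP := preDP_dF γ (B := B)
  obtain ⟨γ', hγ'⟩ := main2192 (I := I.map (algebraMap A B)) ((algebraMap A B) '' (I : Set A)) rfl hP
    (by
      rintro _ ⟨a, ha, rfl⟩ m n
      rw [dF_algebraMap γ ha, dF_algebraMap γ ha, dF_algebraMap γ ha, ← map_mul,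
        γ.mul_dpow ha, map_mul, map_natCast])
    (by
      rintro _ ⟨a, ha, rfl⟩ m n hn
      rw [dF_algebraMap γ ha, dF_algebraMap γ (γ.dpow_mem hn ha), dF_algebraMap γ ha,
        γ.dpow_comp hn ha, map_mul, map_natCast])
  refine ⟨γ', le_rfl, fun {n} a ha => ?_⟩
  rw [hγ', dF_algebraMap γ ha]

/-- Uniqueness of the extension. -/
theorem extension_unique (δ δ' : DividedPowers (I.map (algebraMap A B)))
    (h : γ.IsDPMorphism δ (algebraMap A B)) (h' : γ.IsDPMorphism δ' (algebraMap A B)) : δ = δ' := by
  apply DividedPowers.dpow_eq_from_gens δ' δ (S := (algebraMap A B) '' (I : Set A)) rfl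
  rintro n _ ⟨a, ha, rfl⟩
  rw [h.dpow_comp a ha, h'.dpow_comp a ha]

theorem main2193 :
    (∀ δ δ' : DividedPowers (I.map (algebraMap A B)),
        γ.IsDPMorphism δ (algebraMap A B) → γ.IsDPMorphism δ' (algebraMap A B) → δ = δ') ∧
      (Module.Flat A B →
        ∃ δ : DividedPowers (I.map (algebraMap A B)), γ.IsDPMorphism δ (algebraMap A B)) :=
  ⟨extension_unique γ, fun _ => exists_extension_of_flat γ⟩

end Flat

end Helper91.DPGen
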