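import Groth.Agent.Lib.Helper91.DPGen

/-!
# The divided power structure on the augmentation ideal of `Γ_ℤ(ℤ^ι)` (helper91)
-/

namespace Helper91.DPGen

open DividedPowerAlgebra

local notation "AD" => Finset.HasAntidiagonal.antidiagonal

variable {ι : Type*}

theorem δ_of_notMem {g : DividedPowerAlgebra ℤ (ι →₀ ℤ)} (hg : g ∉ J ι) (n : ℕ) : δ n g = 0 := by
  unfold δ; rw [dif_neg hg]

theorem δ_zero {g : DividedPowerAlgebra ℤ (ι →₀ ℤ)} (hg : g ∈ J ι) : δ 0 g = 1 :=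
  δ_eq_of hg 0 1 (by rw [map_one, (δQ ι).dpow_zero Submodule.mem_top])

theorem δ_one {g : DividedPowerAlgebra ℤ (ι →₀ ℤ)} (hg : g ∈ J ι) : δ 1 g = g :=
  δ_eq_of hg 1 g (by rw [(δQ ι).dpow_one Submodule.mem_top])

theorem δ_add {g g' : DividedPowerAlgebra ℤ (ι →₀ ℤ)} (hg : g ∈ J ι) (hg' : g' ∈ J ι) (n : ℕ) :
    δ n (g + g') = ∑ k ∈ AD n, δ k.1 g * δ k.2 g' := by
  apply δ_eq_of ((J ι).add_mem hg hg')
  rw [map_sum, map_add, (δQ ι).dpow_add Submodule.mem_top Submodule.mem_top]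
  apply Finset.sum_congr rfl
  intro k _
  rw [map_mul, ψ_δ hg, ψ_δ hg']

theorem δ_mul (a : DividedPowerAlgebra ℤ (ι →₀ ℤ)) {g : DividedPowerAlgebra ℤ (ι →₀ ℤ)}
    (hg : g ∈ J ι) (n : ℕ) : δ n (a * g) = a ^ n * δ n g := by
  apply δ_eq_of ((J ι).mul_mem_left a hg)
  rw [map_mul, map_mul, map_pow, ψ_δ hg, (δQ ι).dpow_mul Submodule.mem_top]

theorem δ_dp (i : ι) {k : ℕ} (hk : k ≠ 0) (n : ℕ) :
    δ n (dp ℤ k (Finsupp.single i (1 : ℤ))) =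
      (Nat.uniformBell n k : DividedPowerAlgebra ℤ (ι →₀ ℤ)) *
        dp ℤ (n * k) (Finsupp.single i (1 : ℤ)) := by
  apply δ_eq_of (Ideal.subset_span ⟨i, k, hk, rfl⟩)
  rw [map_mul, map_natCast, ψ_dp, ψ_dp, (δQ ι).dpow_comp hk Submodule.mem_top]

theorem δ_mem {g : DividedPowerAlgebra ℤ (ι →₀ ℤ)} (hg : g ∈ J ι) {n : ℕ} (hn : n ≠ 0) :
    δ n g ∈ J ι := by
  suffices H : g ∈ J ι ∧ ∀ n : ℕ, n ≠ 0 → δ n g ∈ J ι from H.2 n hn
  clear hn n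
  refine Submodule.span_induction
    (p := fun g _ => g ∈ J ι ∧ ∀ n : ℕ, n ≠ 0 → δ n g ∈ J ι) ?_ ?_ ?_ ?_ hg
  · rintro g ⟨i, k, hk, rfl⟩
    refine ⟨Ideal.subset_span ⟨i, k, hk, rfl⟩, fun n hn => ?_⟩
    rw [δ_dp i hk]
    exact Ideal.mul_mem_left _ _ (Ideal.subset_span ⟨i, n * k, Nat.mul_ne_zero hn hk, rfl⟩)
  · refine ⟨(J ι).zero_mem, fun n hn => ?_⟩
    have : δ n (0 : DividedPowerAlgebra ℤ (ι →₀ ℤ)) = 0 := by
      apply δ_eq_of (J ι).zero_mem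
      rw [map_zero, (δQ ι).dpow_eval_zero hn]
    rw [this]; exact (J ι).zero_mem
  · rintro g g' _ _ ⟨hgJ, hg⟩ ⟨hgJ', hg'⟩
    refine ⟨(J ι).add_mem hgJ hgJ', fun n hn => ?_⟩
    rw [δ_add hgJ hgJ']
    refine Ideal.sum_mem _ (fun k hk => ?_)
    rw [Finset.HasAntidiagonal.mem_antidiagonal] at hk
    by_cases h1 : k.1 = 0
    · exact Ideal.mul_mem_left _ _ (hg' k.2 (by omega))
    · exact Ideal.mul_mem_right _ _ (hg k.1 h1)
  · rintro a g _ ⟨hgJ, hg⟩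
    refine ⟨(J ι).smul_mem a hgJ, fun n hn => ?_⟩
    rw [smul_eq_mul, δ_mul a hgJ]
    exact Ideal.mul_mem_left _ _ (hg n hn)

/-- The divided power structure on the augmentation ideal of `Γ_ℤ(ℤ^ι)`. -/
noncomputable def dpΓ (ι : Type*) : DividedPowers (J ι) where
  dpow := δ
  dpow_null {n g} hg := δ_of_notMem hg n
  dpow_zero {g} hg := δ_zero hg
  dpow_one {g} hg := δ_one hg
  dpow_mem {n g} hn hg := δ_mem hg hn
  dpow_add {n g g'} hg hg' := δ_add hg hg' n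
  dpow_mul {n a g} hg := δ_mul a hg n
  mul_dpow {m n g} hg := by
    apply ψ_injective
    rw [map_mul, map_mul, map_natCast, ψ_δ hg, ψ_δ hg, ψ_δ hg,
      (δQ ι).mul_dpow Submodule.mem_top]
  dpow_comp {m n g} hn hg := by
    apply ψ_injective
    rw [map_mul, map_natCast, ψ_δ (δ_mem hg hn), ψ_δ hg, ψ_δ hg,
      (δQ ι).dpow_comp hn Submodule.mem_top]

@[simp] theorem dpΓ_dpow (n : ℕ) (g : DividedPowerAlgebra ℤ (ι →₀ ℤ)) : (dpΓ ι).dpow n g = δ n g := rfl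

end Helper91.DPGen
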