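import Mathlib.RingTheory.DividedPowerAlgebra.Init
import Mathlib.RingTheory.DividedPowers.RatAlgebra
import Mathlib.RingTheory.DividedPowers.DPMorphism
import Mathlib.Data.Nat.Choose.Vandermonde
import Mathlib.Algebra.MvPolynomial.Basic
import Mathlib.LinearAlgebra.Finsupp.VectorSpace
import Mathlib.LinearAlgebra.Finsupp.LinearCombination
import Mathlib.Tactic

/-!
# Divided powers from generators (helper91)

`PreDP I d`: the axioms of a divided power structure except the product rule and the composition rule.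
-/

namespace Helper91.DPGen

open Finset (sum_congr)

local notation "AD" => Finset.HasAntidiagonal.antidiagonal

structure PreDP {A : Type*} [CommRing A] (I : Ideal A) (d : ℕ → A → A) : Prop where
  null : ∀ (n : ℕ) (x : A), x ∉ I → d n x = 0
  zero : ∀ x ∈ I, d 0 x = 1
  one : ∀ x ∈ I, d 1 x = x
  mem : ∀ (n : ℕ) (x : A), n ≠ 0 → x ∈ I → d n x ∈ I
  add : ∀ (n : ℕ) (x y : A), x ∈ I → y ∈ I →
      d n (x + y) = (AD n).sum fun k => d k.1 x * d k.2 y
  mul : ∀ (n : ℕ) (a x : A), x ∈ I → d n (a * x) = a ^ n * d n x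

section Basic

variable {A : Type*} [CommRing A] {I : Ideal A} {d : ℕ → A → A}

/-- The product rule at `w`. -/
def Mul2 (d : ℕ → A → A) (w : A) : Prop :=
  ∀ m n : ℕ, d m w * d n w = ((m + n).choose m : A) * d (m + n) w

/-- The composition rule at `w`. -/
def Comp5 (d : ℕ → A → A) (w : A) : Prop :=
  ∀ m n : ℕ, n ≠ 0 → d m (d n w) = (Nat.uniformBell m n : A) * d (m * n) w

theorem PreDP.eval_zero (h : PreDP I d) {n : ℕ} (hn : n ≠ 0) : d n 0 = 0 := by
  have := h.mul n 0 0 I.zero_mem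
  rw [zero_mul, zero_pow hn, zero_mul] at this
  exact this

theorem PreDP.zero_zero (h : PreDP I d) : d 0 0 = 1 := h.zero 0 I.zero_mem

/-- Reindexing an antidiagonal sum whose terms vanish outside a translate. -/
theorem sum_antidiagonal_shift {M : Type*} [AddCommMonoid M] (m n : ℕ) (p : ℕ × ℕ)
    (hp : p ∈ AD m) (G : ℕ × ℕ → M)
    (hG : ∀ r : ℕ × ℕ, ¬ (p.1 ≤ r.1 ∧ p.2 ≤ r.2) → G r = 0) :
    ∑ r ∈ AD (m + n), G r = ∑ q ∈ AD n, G (p + q) := by
  rw [Finset.HasAntidiagonal.mem_antidiagonal] at hp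
  have e : ∑ q ∈ AD n, G (p + q) =
      ∑ r ∈ (AD n).map (addLeftEmbedding p), G r := by
    rw [Finset.sum_map]; rfl
  rw [e]
  symm
  apply Finset.sum_subset
  · intro r hr
    rw [Finset.mem_map] at hr
    obtain ⟨q, hq, rfl⟩ := hr
    rw [Finset.HasAntidiagonal.mem_antidiagonal] at hq ⊢
    simp only [addLeftEmbedding_apply, Prod.fst_add, Prod.snd_add]
    omega
  · intro r hr hr'
    apply hG
    rintro ⟨h1, h2⟩
    apply hr'
    rw [Finset.mem_map]
    rw [Finset.HasAntidiagonal.mem_antidiagonal] at hr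
    refine ⟨(r.1 - p.1, r.2 - p.2), ?_, ?_⟩
    · rw [Finset.HasAntidiagonal.mem_antidiagonal]; simp only; omega
    · simp only [addLeftEmbedding_apply]
      ext <;> simp <;> omega

theorem mul2_add (h : PreDP I d) {x y : A} (hx : x ∈ I) (hy : y ∈ I)
    (h2x : Mul2 d x) (h2y : Mul2 d y) : Mul2 d (x + y) := by
  intro m n
  rw [h.add m x y hx hy, h.add n x y hx hy, h.add (m + n) x y hx hy, Finset.sum_mul_sum,
    Finset.mul_sum]
  -- rewrite the right-hand side with Vandermonde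
  have eR : ∀ r ∈ AD (m + n),
      ((m + n).choose m : A) * (d r.1 x * d r.2 y) =
        ∑ p ∈ AD m,
          ((r.1.choose p.1 : A) * (r.2.choose p.2 : A)) * (d r.1 x * d r.2 y) := by
    intro r hr
    rw [Finset.HasAntidiagonal.mem_antidiagonal] at hr
    rw [← Finset.sum_mul, ← hr, Nat.add_choose_eq]
    push_cast
    rfl
  rw [Finset.sum_congr rfl eR]
  conv_rhs => rw [Finset.sum_comm]
  apply Finset.sum_congr rfl
  intro p hp
  rw [sum_antidiagonal_shift m n p hp]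
  · apply Finset.sum_congr rfl
    intro q _
    simp only [Prod.fst_add, Prod.snd_add]
    rw [mul_mul_mul_comm, h2x, h2y]
    ring
  · intro r hr
    have : r.1 < p.1 ∨ r.2 < p.2 := by omega
    rcases this with h1 | h1
    · rw [Nat.choose_eq_zero_of_lt h1]; simp
    · rw [Nat.choose_eq_zero_of_lt h1]; simp

theorem mul2_smul (h : PreDP I d) {x : A} (hx : x ∈ I) (a : A) (h2x : Mul2 d x) :
    Mul2 d (a * x) := by
  intro m n
  rw [h.mul m a x hx, h.mul n a x hx, h.mul (m + n) a x hx, mul_mul_mul_comm, h2x m n, pow_add]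
  ring

theorem mul2_zero (h : PreDP I d) : Mul2 d (0 : A) := by
  have := mul2_smul h I.zero_mem 0 (x := 0)
  intro m n
  by_cases hm : m = 0
  · subst hm; simp [h.zero_zero]
  · rw [h.eval_zero hm, h.eval_zero (n := m + n) (by omega)]; simp

/-- The product rule propagates from generators to the ideal. -/
theorem mul2_of_span (h : PreDP I d) (S : Set A) (hS : Ideal.span S = I)
    (hgen : ∀ x ∈ S, Mul2 d x) : ∀ x ∈ I, Mul2 d x := by
  intro x hx
  have key : x ∈ I ∧ Mul2 d x := by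
    rw [← hS] at hx
    refine Submodule.span_induction (p := fun z _ => z ∈ I ∧ Mul2 d z) ?_ ?_ ?_ ?_ hx
    · intro z hz
      exact ⟨hS ▸ Ideal.subset_span hz, hgen z hz⟩
    · exact ⟨I.zero_mem, mul2_zero h⟩
    · intro z w _ _ hz hw
      exact ⟨I.add_mem hz.1 hw.1, mul2_add h hz.1 hw.1 hz.2 hw.2⟩
    · intro a z _ hz
      exact ⟨I.mul_mem_left a hz.1, mul2_smul h hz.1 a hz.2⟩
  exact key.2

end Basic


section Universal

open DividedPowerAlgebra

variable {ι : Type*}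

/-- The divided power structure `x ↦ x ^ n / n!` on the unit ideal of `ℚ[X_i]`. -/
noncomputable def δQ (ι : Type*) : DividedPowers (⊤ : Ideal (MvPolynomial ι ℚ)) := by
  classical exact DividedPowers.RatAlgebra.dividedPowers ⊤

theorem δQ_apply (n : ℕ) (q : MvPolynomial ι ℚ) :
    (δQ ι).dpow n q = (Ring.inverse (n.factorial : ℚ)) • q ^ n :=
  DividedPowers.RatAlgebra.dpow_eq_inv_fact_smul ⊤ (δQ ι) Submodule.mem_top

/-- `m ↦ Σ m_i X_i`. -/
noncomputable def ell (ι : Type*) : (ι →₀ ℤ) →ₗ[ℤ] MvPolynomial ι ℚ :=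
  Finsupp.linearCombination ℤ (fun i => (MvPolynomial.X i : MvPolynomial ι ℚ))

@[simp] theorem ell_single (i : ι) : ell ι (Finsupp.single i 1) = MvPolynomial.X i := by
  simp [ell]

/-- The comparison map `Γ_ℤ(ℤ^ι) → ℚ[X_i]`. -/
noncomputable def ψ (ι : Type*) : DividedPowerAlgebra ℤ (ι →₀ ℤ) →ₐ[ℤ] MvPolynomial ι ℚ :=
  DividedPowerAlgebra.lift (δQ ι) (ell ι) (fun _ => Submodule.mem_top)

theorem ψ_dp (n : ℕ) (m : ι →₀ ℤ) : ψ ι (dp ℤ n m) = (δQ ι).dpow n (ell ι m) :=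
  lift_apply_dp _ _ _ _

/-- The monomial basis elements of `Γ_ℤ(ℤ^ι)`. -/
noncomputable def bb (n : ι →₀ ℕ) : DividedPowerAlgebra ℤ (ι →₀ ℤ) :=
  n.prod fun i k => dp ℤ k (Finsupp.single i (1 : ℤ))

/-- The coefficient `1 / n!`. -/
noncomputable def cc (n : ι →₀ ℕ) : ℚ := n.prod fun _ k => ((k.factorial : ℚ))⁻¹

theorem cc_ne_zero (n : ι →₀ ℕ) : cc n ≠ 0 := by
  unfold cc Finsupp.prod
  apply Finset.prod_ne_zero_iff.mpr
  intro i _
  exact inv_ne_zero (Nat.cast_ne_zero.mpr (Nat.factorial_ne_zero _))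

theorem ψ_bb (n : ι →₀ ℕ) : ψ ι (bb n) = MvPolynomial.monomial n (cc n) := by
  classical
  unfold bb
  rw [map_finsuppProd]
  have e : ∀ i k, ψ ι (dp ℤ k (Finsupp.single i (1 : ℤ))) =
      MvPolynomial.C ((k.factorial : ℚ))⁻¹ * MvPolynomial.X i ^ k := by
    intro i k
    rw [ψ_dp, ell_single, δQ_apply, Ring.inverse_eq_inv', MvPolynomial.smul_eq_C_mul]
  simp only [e]
  rw [Finsupp.prod_mul, MvPolynomial.monomial_eq, cc, map_finsuppProd]

theorem span_bb : Submodule.span ℤ (Set.range (bb : (ι →₀ ℕ) → _)) = ⊤ := by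
  have h1 : Submodule.span ℤ (Set.range fun i : ι => Finsupp.single i (1 : ℤ)) = ⊤ := by
    have := (Finsupp.basisSingleOne (R := ℤ) (ι := ι)).span_eq
    rwa [Finsupp.coe_basisSingleOne] at this
  exact submodule_span_prod_dp_eq_top h1

theorem ψ_injective : Function.Injective (ψ ι) := by
  classical
  rw [injective_iff_map_eq_zero]
  intro g hg
  have hg' : g ∈ Submodule.span ℤ (Set.range (bb : (ι →₀ ℕ) → _)) := by
    rw [span_bb]; trivial
  obtain ⟨c, rfl⟩ := Finsupp.mem_span_range_iff_exists_finsupp.mp hg'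
  have hc : ∀ n, c n = 0 := by
    intro n
    have h1 := congrArg (MvPolynomial.coeff n) hg
    rw [map_finsuppSum] at h1
    simp only [map_zsmul, ψ_bb, MvPolynomial.coeff_zero] at h1
    unfold Finsupp.sum at h1
    rw [MvPolynomial.coeff_sum] at h1
    simp only [MvPolynomial.coeff_smul, MvPolynomial.coeff_monomial] at h1
    rw [Finset.sum_eq_single n] at h1
    · simp only [if_true, zsmul_eq_mul] at h1
      rcases mul_eq_zero.mp h1 with h2 | h2
      · exact_mod_cast h2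
      · exact absurd h2 (cc_ne_zero n)
    · intro b _ hb
      rw [if_neg hb, smul_zero]
    · intro hn
      rw [Finsupp.notMem_support_iff.mp hn, zero_smul]
  have : c = 0 := Finsupp.ext hc
  rw [this, Finsupp.sum_zero_index]

/-- Generators of the augmentation ideal. -/
def gens (ι : Type*) : Set (DividedPowerAlgebra ℤ (ι →₀ ℤ)) :=
  {g | ∃ (i : ι) (k : ℕ), k ≠ 0 ∧ g = dp ℤ k (Finsupp.single i (1 : ℤ))}

/-- The augmentation ideal. -/
noncomputable def J (ι : Type*) : Ideal (DividedPowerAlgebra ℤ (ι →₀ ℤ)) := Ideal.span (gens ι)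

theorem stable : ∀ g ∈ J ι, ∀ n : ℕ, (δQ ι).dpow n (ψ ι g) ∈ (ψ ι).range := by
  intro g hg
  refine Submodule.span_induction (p := fun g _ => ∀ n : ℕ, (δQ ι).dpow n (ψ ι g) ∈ (ψ ι).range)
    ?_ ?_ ?_ ?_ hg
  · rintro g ⟨i, k, hk, rfl⟩ n
    rw [ψ_dp, (δQ ι).dpow_comp hk Submodule.mem_top]
    refine (AlgHom.mem_range (ψ ι)).mpr ⟨(Nat.uniformBell n k : DividedPowerAlgebra ℤ (ι →₀ ℤ)) *
      dp ℤ (n * k) (Finsupp.single i (1 : ℤ)), ?_⟩
    rw [map_mul, map_natCast, ψ_dp]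
  · intro n
    rw [map_zero]
    by_cases hn : n = 0
    · subst hn
      rw [(δQ ι).dpow_zero Submodule.mem_top]
      exact Subalgebra.one_mem _
    · rw [(δQ ι).dpow_eval_zero hn]
      exact Subalgebra.zero_mem _
  · intro g g' _ _ hg hg' n
    rw [map_add, (δQ ι).dpow_add Submodule.mem_top Submodule.mem_top]
    exact Subalgebra.sum_mem _ (fun k _ => Subalgebra.mul_mem _ (hg k.1) (hg' k.2))
  · intro a g _ hg n
    rw [smul_eq_mul, map_mul, (δQ ι).dpow_mul Submodule.mem_top]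
    exact Subalgebra.mul_mem _ (Subalgebra.pow_mem _ (AlgHom.mem_range_self (ψ ι) a) n) (hg n)

open Classical in
/-- The divided powers on the augmentation ideal of `Γ_ℤ(ℤ^ι)` (junk outside). -/
noncomputable def δ (n : ℕ) (g : DividedPowerAlgebra ℤ (ι →₀ ℤ)) :
    DividedPowerAlgebra ℤ (ι →₀ ℤ) :=
  if h : g ∈ J ι then Classical.choose (stable g h n) else 0

theorem ψ_δ {g : DividedPowerAlgebra ℤ (ι →₀ ℤ)} (hg : g ∈ J ι) (n : ℕ) :
    ψ ι (δ n g) = (δQ ι).dpow n (ψ ι g) := by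
  unfold δ
  rw [dif_pos hg]
  exact Classical.choose_spec (stable g hg n)

theorem δ_eq_of {g : DividedPowerAlgebra ℤ (ι →₀ ℤ)} (hg : g ∈ J ι) (n : ℕ)
    (g' : DividedPowerAlgebra ℤ (ι →₀ ℤ)) (h : ψ ι g' = (δQ ι).dpow n (ψ ι g)) :
    δ n g = g' :=
  ψ_injective (by rw [ψ_δ hg, h])


section ToA

variable {A : Type*} [CommRing A] {I : Ideal A} {d : ℕ → A → A}

/-- `m ↦ Σ m_i x_i`. -/
noncomputable def lam (x : ι → A) : (ι →₀ ℤ) →ₗ[ℤ] A := Finsupp.linearCombination ℤ x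

@[simp] theorem lam_single (x : ι → A) (i : ι) : lam x (Finsupp.single i 1) = x i := by
  simp [lam]

theorem lam_mem {x : ι → A} (hx : ∀ i, x i ∈ I) (m : ι →₀ ℤ) : lam x m ∈ I := by
  unfold lam
  rw [Finsupp.linearCombination_apply]
  refine Submodule.sum_mem _ (fun i _ => ?_)
  exact zsmul_mem (hx i) _

/-- The ring map `Γ_ℤ(ℤ^ι) → A` attached to elements `x i ∈ I`. -/
noncomputable def φ (h : PreDP I d) (h2 : ∀ x ∈ I, Mul2 d x) (x : ι → A) (hx : ∀ i, x i ∈ I) :
    DividedPowerAlgebra ℤ (ι →₀ ℤ) →ₐ[ℤ] A :=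
  lift' (f := fun nm => d nm.1 (lam x nm.2))
    (fun m => h.zero _ (lam_mem hx m))
    (fun n r m => by
      simp only [map_smul]
      rw [zsmul_eq_mul, h.mul n _ _ (lam_mem hx m), zsmul_eq_mul, Int.cast_pow])
    (fun n p m => by
      simp only
      rw [h2 _ (lam_mem hx m) n p, nsmul_eq_mul])
    (fun n u v => by
      simp only [map_add]
      rw [h.add n _ _ (lam_mem hx u) (lam_mem hx v)])

theorem φ_dp (h : PreDP I d) (h2 : ∀ x ∈ I, Mul2 d x) (x : ι → A) (hx : ∀ i, x i ∈ I)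
    (n : ℕ) (m : ι →₀ ℤ) : φ h h2 x hx (dp ℤ n m) = d n (lam x m) := by
  unfold φ
  rw [lift'_apply_dp]

theorem compat (h : PreDP I d) (h2 : ∀ x ∈ I, Mul2 d x) (x : ι → A) (hx : ∀ i, x i ∈ I)
    (h5 : ∀ i, Comp5 d (x i)) :
    ∀ g ∈ J ι, φ h h2 x hx g ∈ I ∧ ∀ m : ℕ, φ h h2 x hx (δ m g) = d m (φ h h2 x hx g) := by
  intro g hg
  refine Submodule.span_induction
    (p := fun g _ => g ∈ J ι ∧ φ h h2 x hx g ∈ I ∧
      ∀ m : ℕ, φ h h2 x hx (δ m g) = d m (φ h h2 x hx g)) ?_ ?_ ?_ ?_ hg |>.2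
  · rintro g ⟨i, k, hk, rfl⟩
    have hgJ : dp ℤ k (Finsupp.single i (1 : ℤ)) ∈ J ι := Ideal.subset_span ⟨i, k, hk, rfl⟩
    refine ⟨hgJ, ?_, fun m => ?_⟩
    · rw [φ_dp, lam_single]; exact h.mem k _ hk (hx i)
    · have e : δ m (dp ℤ k (Finsupp.single i (1 : ℤ))) =
          (Nat.uniformBell m k : DividedPowerAlgebra ℤ (ι →₀ ℤ)) *
            dp ℤ (m * k) (Finsupp.single i (1 : ℤ)) := by
        apply δ_eq_of hgJ
        rw [map_mul, map_natCast, ψ_dp, ψ_dp, (δQ ι).dpow_comp hk Submodule.mem_top]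
      rw [e, map_mul, map_natCast, φ_dp, φ_dp, lam_single, h5 i m k hk]
  · refine ⟨(J ι).zero_mem, by rw [map_zero]; exact I.zero_mem, fun m => ?_⟩
    by_cases hm : m = 0
    · subst hm
      have e : δ 0 (0 : DividedPowerAlgebra ℤ (ι →₀ ℤ)) = 1 := by
        apply δ_eq_of (J ι).zero_mem
        rw [map_one, map_zero, (δQ ι).dpow_zero Submodule.mem_top]
      rw [e, map_one, map_zero, h.zero_zero]
    · have e : δ m (0 : DividedPowerAlgebra ℤ (ι →₀ ℤ)) = 0 := by
        apply δ_eq_of (J ι).zero_mem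
        rw [map_zero, (δQ ι).dpow_eval_zero hm]
      rw [e, map_zero, h.eval_zero hm]
  · rintro g g' _ _ ⟨hgJ, hgI, hg⟩ ⟨hgJ', hgI', hg'⟩
    refine ⟨(J ι).add_mem hgJ hgJ', by rw [map_add]; exact I.add_mem hgI hgI', fun m => ?_⟩
    have e : δ m (g + g') = ∑ k ∈ AD m, δ k.1 g * δ k.2 g' := by
      apply δ_eq_of ((J ι).add_mem hgJ hgJ')
      rw [map_sum, map_add, (δQ ι).dpow_add Submodule.mem_top Submodule.mem_top]
      apply Finset.sum_congr rfl
      intro k _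
      rw [map_mul, ψ_δ hgJ, ψ_δ hgJ']
    rw [e, map_sum, map_add, h.add m _ _ hgI hgI']
    apply Finset.sum_congr rfl
    intro k _
    rw [map_mul, hg, hg']
  · rintro a g _ ⟨hgJ, hgI, hg⟩
    have haJ : a • g ∈ J ι := (J ι).smul_mem a hgJ
    refine ⟨haJ, by rw [smul_eq_mul, map_mul]; exact I.mul_mem_left _ hgI, fun m => ?_⟩
    have e : δ m (a • g) = a ^ m * δ m g := by
      apply δ_eq_of haJ
      rw [smul_eq_mul, map_mul, map_mul, map_pow, ψ_δ hgJ, (δQ ι).dpow_mul Submodule.mem_top]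
    rw [e, smul_eq_mul, map_mul, map_mul, map_pow, hg, h.mul m _ _ hgI]

end ToA

section Two

variable {A : Type*} [CommRing A] {I : Ideal A} {d : ℕ → A → A}

theorem dp_add_mem_J (n : ℕ) (hn : n ≠ 0) :
    dp ℤ n (Finsupp.single (0 : Fin 2) (1 : ℤ) + Finsupp.single (1 : Fin 2) (1 : ℤ)) ∈ J (Fin 2) := by
  rw [dp_add]
  refine Ideal.sum_mem _ (fun k hk => ?_)
  rw [Finset.HasAntidiagonal.mem_antidiagonal] at hk
  by_cases h1 : k.1 = 0
  · have h2 : k.2 ≠ 0 := by omega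
    exact Ideal.mul_mem_left _ _ (Ideal.subset_span ⟨1, k.2, h2, rfl⟩)
  · exact Ideal.mul_mem_right _ _ (Ideal.subset_span ⟨0, k.1, h1, rfl⟩)

theorem comp5_add (h : PreDP I d) (h2 : ∀ x ∈ I, Mul2 d x) {x y : A} (hx : x ∈ I) (hy : y ∈ I)
    (h5x : Comp5 d x) (h5y : Comp5 d y) : Comp5 d (x + y) := by
  intro m n hn
  set xs : Fin 2 → A := ![x, y] with hxs
  have hxs' : ∀ i, xs i ∈ I := by
    intro i; fin_cases i
    · exact hx
    · exact hy
  have h5 : ∀ i, Comp5 d (xs i) := by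
    intro i; fin_cases i
    · exact h5x
    · exact h5y
  set w : Fin 2 →₀ ℤ := Finsupp.single (0 : Fin 2) (1 : ℤ) + Finsupp.single (1 : Fin 2) (1 : ℤ)
    with hw
  have hlam : lam xs w = x + y := by
    rw [hw, map_add, lam_single, lam_single]; simp [hxs]
  have hJ := dp_add_mem_J n hn
  have key := (compat h h2 xs hxs' h5 _ hJ).2 m
  have e : δ m (dp ℤ n w) =
      (Nat.uniformBell m n : DividedPowerAlgebra ℤ (Fin 2 →₀ ℤ)) * dp ℤ (m * n) w := by
    apply δ_eq_of hJ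
    rw [map_mul, map_natCast, ψ_dp, ψ_dp, (δQ (Fin 2)).dpow_comp hn Submodule.mem_top]
  rw [e, map_mul, map_natCast, φ_dp, φ_dp, hlam] at key
  exact key.symm

theorem comp5_smul (h : PreDP I d) {x : A} (hx : x ∈ I) (a : A) (h5x : Comp5 d x) :
    Comp5 d (a * x) := by
  intro m n hn
  rw [h.mul n a x hx, h.mul m _ _ (h.mem n x hn hx), h5x m n hn, h.mul (m * n) a x hx, ← pow_mul,
    mul_comm n m]
  ring

theorem comp5_zero (h : PreDP I d) : Comp5 d (0 : A) := by
  intro m n hn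
  rw [h.eval_zero hn]
  by_cases hm : m = 0
  · subst hm
    rw [h.zero_zero, Nat.uniformBell_zero_left, zero_mul, h.zero_zero]; simp
  · rw [h.eval_zero hm, h.eval_zero (Nat.mul_ne_zero hm hn), mul_zero]

theorem comp5_of_span (h : PreDP I d) (h2 : ∀ x ∈ I, Mul2 d x) (S : Set A)
    (hS : Ideal.span S = I) (hgen : ∀ x ∈ S, Comp5 d x) : ∀ x ∈ I, Comp5 d x := by
  intro x hx
  have key : x ∈ I ∧ Comp5 d x := by
    rw [← hS] at hx
    refine Submodule.span_induction (p := fun z _ => z ∈ I ∧ Comp5 d z) ?_ ?_ ?_ ?_ hx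
    · intro z hz
      exact ⟨hS ▸ Ideal.subset_span hz, hgen z hz⟩
    · exact ⟨I.zero_mem, comp5_zero h⟩
    · intro z w _ _ hz hw
      exact ⟨I.add_mem hz.1 hw.1, comp5_add h h2 hz.1 hw.1 hz.2 hw.2⟩
    · intro a z _ hz
      exact ⟨I.mul_mem_left a hz.1, comp5_smul h hz.1 a hz.2⟩
  exact key.2

/-- Divided powers from generators. -/
theorem main2192 (S : Set A) (hS : Ideal.span S = I) (h : PreDP I d)
    (hgen2 : ∀ x ∈ S, Mul2 d x) (hgen5 : ∀ x ∈ S, Comp5 d x) :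
    ∃ γ : DividedPowers I, γ.dpow = d := by
  have h2 := mul2_of_span h S hS hgen2
  have h5 := comp5_of_span h h2 S hS hgen5
  exact ⟨{ dpow := d
           dpow_null := fun {n x} hx => h.null n x hx
           dpow_zero := fun {x} hx => h.zero x hx
           dpow_one := fun {x} hx => h.one x hx
           dpow_mem := fun {n x} hn hx => h.mem n x hn hx
           dpow_add := fun {n x y} hx hy => h.add n x y hx hy
           dpow_mul := fun {n a x} hx => h.mul n a x hx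
           mul_dpow := fun {m n x} hx => h2 x hx m n
           dpow_comp := fun {m n x} hn hx => h5 x hx m n hn }, rfl⟩

end Two

end Universal

end Helper91.DPGen
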