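import Groth.Agent.Lib.Helper91.DPTheta

/-!
# Divided powers on the augmentation ideal of an abstract divided power polynomial algebra (helper91)
-/

namespace Helper91.DPGen

open DividedPowerAlgebra PowerSeries

local notation "AD" => Finset.HasAntidiagonal.antidiagonal

section Exponential

variable {P : Type*} [CommRing P]

/-- Exponential power series: `F_0 = 1`, `F_i F_j = C(i+j,i) F_{i+j}`. -/
structure IsExp (F : PowerSeries P) : Prop where
  zero : coeff 0 F = 1
  mul : ∀ i j : ℕ, coeff i F * coeff j F = ((i + j).choose i : P) * coeff (i + j) F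

theorem IsExp.one : IsExp (1 : PowerSeries P) := by
  refine ⟨by simp, fun i j => ?_⟩
  simp only [coeff_one]
  by_cases hi : i = 0
  · subst hi; simp
  · have : i + j ≠ 0 := by omega
    simp [hi, this]

theorem IsExp.resc {F : PowerSeries P} (h : IsExp F) (a : P) : IsExp (PowerSeries.rescale a F) := by
  refine ⟨by simp [coeff_rescale, h.1], fun i j => ?_⟩
  simp only [coeff_rescale]
  rw [mul_mul_mul_comm, h.2 i j, pow_add]; ring

theorem IsExp.rescale_add {F : PowerSeries P} (h : IsExp F) (a a' : P) :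
    PowerSeries.rescale (a + a') F = PowerSeries.rescale a F * PowerSeries.rescale a' F := by
  ext n
  rw [coeff_rescale, coeff_mul, (Commute.all a a').add_pow', Finset.sum_mul]
  apply Finset.sum_congr rfl
  intro p hp
  rw [Finset.HasAntidiagonal.mem_antidiagonal] at hp
  rw [coeff_rescale, coeff_rescale, mul_mul_mul_comm, h.2 p.1 p.2, hp, nsmul_eq_mul]
  ring

theorem IsExp.rescale_zero {F : PowerSeries P} (h : IsExp F) : PowerSeries.rescale 0 F = 1 := by
  ext n
  rw [coeff_rescale, coeff_one]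
  by_cases hn : n = 0
  · subst hn; simp [h.1]
  · simp [hn]

end Exponential

section Poly

variable {ι : Type*} {R : Type*} [CommRing R] {P : Type*} [CommRing P] [Algebra R P]
  (x : ι → ℕ → P) (hx0 : ∀ i, x i 0 = 1)
  (hxmul : ∀ i n m, x i n * x i m = ((n + m).choose n : P) * x i (n + m))
  (b : Module.Basis (ι →₀ ℕ) R P) (hb : ∀ e : ι →₀ ℕ, b e = e.prod (fun i k => x i k))

/-- The augmentation ideal. -/
def Pplus : Ideal P := Ideal.span {y : P | ∃ (i : ι) (n : ℕ), 1 ≤ n ∧ y = x i n}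

theorem bb_mem_J {e : ι →₀ ℕ} (he : e ≠ 0) : bb e ∈ J ι := by
  obtain ⟨i, hi⟩ : ∃ i, e i ≠ 0 := by
    by_contra h
    push Not at h
    exact he (Finsupp.ext h)
  classical
  have hi' : i ∈ e.support := Finsupp.mem_support_iff.mpr hi
  unfold bb Finsupp.prod
  rw [← Finset.mul_prod_erase _ _ hi']
  exact Ideal.mul_mem_right _ _ (Ideal.subset_span ⟨i, e i, hi, rfl⟩)

theorem θ_J_le {g : DividedPowerAlgebra ℤ (ι →₀ ℤ)} (hg : g ∈ J ι) :
    θ x hx0 hxmul g ∈ Pplus x := by
  have : Ideal.map (θ x hx0 hxmul) (J ι) ≤ Pplus x := by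
    unfold J
    rw [Ideal.map_span, Ideal.span_le]
    rintro _ ⟨g, ⟨i, k, hk, rfl⟩, rfl⟩
    rw [θ_dp]
    exact Ideal.subset_span ⟨i, k, Nat.one_le_iff_ne_zero.mpr hk, rfl⟩
  exact this (Ideal.mem_map_of_mem _ hg)

open Classical in
/-- The exponential series of the monomial `b e`. -/
noncomputable def Fe (e : ι →₀ ℕ) : PowerSeries P :=
  if e = 0 then 1 else PowerSeries.map (θ x hx0 hxmul) ((dpΓ ι).exp (bb e))

theorem coeff_Fe {e : ι →₀ ℕ} (he : e ≠ 0) (k : ℕ) :
    coeff k (Fe x hx0 hxmul e) = θ x hx0 hxmul (δ k (bb e)) := by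
  unfold Fe
  rw [if_neg he, coeff_map]
  simp [DividedPowers.exp]

theorem isExp_Fe (e : ι →₀ ℕ) : IsExp (Fe x hx0 hxmul e) := by
  by_cases he : e = 0
  · unfold Fe; rw [if_pos he]; exact IsExp.one
  · refine ⟨?_, fun i j => ?_⟩
    · rw [coeff_Fe x hx0 hxmul he, δ_zero (bb_mem_J he), map_one]
    · rw [coeff_Fe x hx0 hxmul he, coeff_Fe x hx0 hxmul he, coeff_Fe x hx0 hxmul he, ← map_mul,
        ← dpΓ_dpow, ← dpΓ_dpow, (dpΓ ι).mul_dpow (bb_mem_J he), map_mul, map_natCast]
      rfl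

/-- `c ↦ exp(c b_e t)`. -/
noncomputable def Ge (e : ι →₀ ℕ) (c : R) : PowerSeries P :=
  rescale (algebraMap R P c) (Fe x hx0 hxmul e)

theorem Ge_zero (e : ι →₀ ℕ) : Ge x hx0 hxmul e (0 : R) = 1 := by
  unfold Ge; rw [map_zero]; exact (isExp_Fe x hx0 hxmul e).rescale_zero

theorem Ge_add (e : ι →₀ ℕ) (c c' : R) :
    Ge x hx0 hxmul e (c + c') = Ge x hx0 hxmul e c * Ge x hx0 hxmul e c' := by
  unfold Ge; rw [map_add]; exact (isExp_Fe x hx0 hxmul e).rescale_add _ _

theorem isExp_Ge (e : ι →₀ ℕ) (c : R) : IsExp (Ge x hx0 hxmul e c) :=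
  (isExp_Fe x hx0 hxmul e).resc _

/-- The exponential series of an element of `P`. -/
noncomputable def Ex (y : P) : PowerSeries P :=
  (b.repr y).prod (fun e c => Ge x hx0 hxmul e c)

theorem Ex_zero : Ex x hx0 hxmul b 0 = 1 := by
  unfold Ex; rw [map_zero, Finsupp.prod_zero_index]

theorem Ex_add (y y' : P) :
    Ex x hx0 hxmul b (y + y') = Ex x hx0 hxmul b y * Ex x hx0 hxmul b y' := by
  classical
  unfold Ex
  rw [map_add]
  exact Finsupp.prod_add_index' (fun e => Ge_zero x hx0 hxmul e) (fun e => Ge_add x hx0 hxmul e)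

theorem Ex_smul_basis (c : R) (e : ι →₀ ℕ) :
    Ex x hx0 hxmul b (c • b e) = Ge x hx0 hxmul e c := by
  unfold Ex
  rw [map_smul, Module.Basis.repr_self, Finsupp.smul_single, smul_eq_mul, mul_one,
    Finsupp.prod_single_index (Ge_zero x hx0 hxmul e)]

/-- The candidate divided powers on `P`. -/
noncomputable def dP (n : ℕ) (y : P) : P := by
  classical exact if y ∈ Pplus x then coeff n (Ex x hx0 hxmul b y) else 0

theorem dP_of_mem {y : P} (hy : y ∈ Pplus x) (n : ℕ) :
    dP x hx0 hxmul b n y = coeff n (Ex x hx0 hxmul b y) := by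
  unfold dP; rw [if_pos hy]


section Axioms

include hx0 hxmul hb

omit hxmul in
theorem b_single (i : ι) (n : ℕ) : b (Finsupp.single i n) = x i n := by
  rw [hb, Finsupp.prod_single_index (hx0 i)]

omit hx0 hxmul in
theorem b_eq_mon (e : ι →₀ ℕ) : b e = mon x e := hb e

theorem b_mul [DecidableEq ι] (f e : ι →₀ ℕ) : b f * b e = (KK f e : P) * b (f + e) := by
  rw [hb, hb, hb]; exact mon_mul x hx0 hxmul f e

/-- The constant-term functional. -/
noncomputable def π₀ : P →ₗ[R] R := (Finsupp.lapply 0) ∘ₗ b.repr.toLinearMap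

omit hx0 hxmul hb in
theorem π₀_basis (e : ι →₀ ℕ) (he : e ≠ 0) : π₀ b (b e) = 0 := by
  simp [π₀, he]

theorem π₀_mul_basis {e : ι →₀ ℕ} (he : e ≠ 0) (a : P) : π₀ b (a * b e) = 0 := by
  classical
  have key : (π₀ b) ∘ₗ (LinearMap.mulRight R (b e)) = 0 := by
    apply b.ext
    intro f
    simp only [LinearMap.comp_apply, LinearMap.mulRight_apply, LinearMap.zero_apply]
    rw [b_mul x hx0 hxmul b hb, ← nsmul_eq_mul, map_nsmul, π₀_basis b (f + e), smul_zero]
    intro h
    exact he (by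
      ext i
      have := DFunLike.congr_fun h i
      simp only [Finsupp.add_apply, Finsupp.zero_apply] at this
      simp only [Finsupp.zero_apply]
      omega)
  exact LinearMap.congr_fun key a

theorem π₀_of_mem {y : P} (hy : y ∈ Pplus x) : b.repr y 0 = 0 := by
  have key : ∀ a : P, π₀ b (a * y) = 0 := by
    refine Submodule.span_induction (p := fun y _ => ∀ a : P, π₀ b (a * y) = 0) ?_ ?_ ?_ ?_ hy
    · rintro y ⟨i, n, hn, rfl⟩ a
      rw [← b_single x hx0 b hb i n]
      apply π₀_mul_basis x hx0 hxmul b hb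
      intro h
      have := DFunLike.congr_fun h i
      simp at this
      omega
    · intro a; rw [mul_zero, map_zero]
    · intro y y' _ _ h h' a; rw [mul_add, map_add, h, h', add_zero]
    · intro a' y _ h a; rw [smul_eq_mul, ← mul_assoc]; exact h _
  have := key 1
  rw [one_mul] at this
  exact this

/-- Power series with constant term `1` and higher coefficients in `P₊`. -/
def SS : Submonoid (PowerSeries P) where
  carrier := {G | coeff 0 G = 1 ∧ ∀ k, k ≠ 0 → coeff k G ∈ Pplus x}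
  one_mem' := ⟨by simp, fun k hk => by simp [coeff_one, hk]⟩
  mul_mem' := by
    rintro G G' ⟨h0, h1⟩ ⟨h0', h1'⟩
    refine ⟨by simp [coeff_mul, h0, h0'], fun k hk => ?_⟩
    rw [coeff_mul]
    refine Ideal.sum_mem _ (fun p hp => ?_)
    rw [Finset.HasAntidiagonal.mem_antidiagonal] at hp
    by_cases h : p.1 = 0
    · exact Ideal.mul_mem_left _ _ (h1' p.2 (by omega))
    · exact Ideal.mul_mem_right _ _ (h1 p.1 h)

omit hb in
theorem Ge_mem_SS (e : ι →₀ ℕ) (c : R) : Ge x hx0 hxmul e c ∈ SS x := by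
  refine ⟨(isExp_Ge x hx0 hxmul e c).zero, fun k hk => ?_⟩
  by_cases he : e = 0
  · unfold Ge Fe
    rw [if_pos he, coeff_rescale, coeff_one, if_neg hk, mul_zero]
    exact (Pplus x).zero_mem
  · unfold Ge
    rw [coeff_rescale, coeff_Fe x hx0 hxmul he]
    exact Ideal.mul_mem_left _ _ (θ_J_le x hx0 hxmul (δ_mem (bb_mem_J he) hk))

omit hb in
theorem Ex_mem_SS (y : P) : Ex x hx0 hxmul b y ∈ SS x := by
  unfold Ex Finsupp.prod
  exact Submonoid.prod_mem _ (fun e _ => Ge_mem_SS x hx0 hxmul e _)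

omit hx0 hxmul hb in
theorem coeff_one_prod {α : Type*} (s : Finset α) (G : α → PowerSeries P)
    (h : ∀ e ∈ s, coeff 0 (G e) = 1) :
    coeff 0 (∏ e ∈ s, G e) = 1 ∧ coeff 1 (∏ e ∈ s, G e) = ∑ e ∈ s, coeff 1 (G e) := by
  classical
  induction s using Finset.induction_on with
  | empty => simp
  | insert a s ha ih =>
    have ih' := ih (fun e he => h e (Finset.mem_insert_of_mem he))
    have h0 := h a (Finset.mem_insert_self a s)
    rw [Finset.prod_insert ha, Finset.sum_insert ha]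
    refine ⟨by simp [coeff_mul, h0, ih'.1], ?_⟩
    rw [coeff_mul, Finset.Nat.antidiagonal_succ]
    simp [h0, ih'.1, ih'.2, add_comm]

theorem coeff_one_Ge {e : ι →₀ ℕ} (he : e ≠ 0) (c : R) :
    coeff 1 (Ge x hx0 hxmul e c) = c • b e := by
  unfold Ge
  rw [coeff_rescale, coeff_Fe x hx0 hxmul he, δ_one (bb_mem_J he), θ_bb, pow_one, Algebra.smul_def,
    hb]
  rfl

theorem coeff_one_Ex {y : P} (hy : y ∈ Pplus x) : coeff 1 (Ex x hx0 hxmul b y) = y := by
  have h0 := π₀_of_mem x hx0 hxmul b hb hy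
  unfold Ex Finsupp.prod
  rw [(coeff_one_prod _ _ (fun e _ => (isExp_Ge x hx0 hxmul e _).zero)).2]
  conv_rhs => rw [← b.linearCombination_repr y, Finsupp.linearCombination_apply]
  unfold Finsupp.sum
  apply Finset.sum_congr rfl
  intro e he
  apply coeff_one_Ge x hx0 hxmul b hb
  rintro rfl
  exact (Finsupp.mem_support_iff.mp he) h0

/-- Monomial times monomial. -/
theorem Ex_mul_mono [DecidableEq ι] (r c : R) (f : ι →₀ ℕ) {e : ι →₀ ℕ} (he : e ≠ 0) :
    Ex x hx0 hxmul b ((r • b f) * (c • b e)) =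
      PowerSeries.rescale (r • b f) (Ex x hx0 hxmul b (c • b e)) := by
  have hfe : f + e ≠ 0 := by
    intro h
    apply he
    ext i
    have := DFunLike.congr_fun h i
    simp only [Finsupp.add_apply, Finsupp.zero_apply] at this
    simp only [Finsupp.zero_apply]
    omega
  have e1 : (r • b f) * (c • b e) = (r * c * (KK f e : R)) • b (f + e) := by
    rw [smul_mul_smul_comm, b_mul x hx0 hxmul b hb, ← nsmul_eq_mul, ← Nat.cast_smul_eq_nsmul R,
      smul_smul]
  rw [e1, Ex_smul_basis, Ex_smul_basis]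
  ext n
  unfold Ge
  rw [coeff_rescale, coeff_rescale, coeff_rescale, coeff_Fe x hx0 hxmul hfe,
    coeff_Fe x hx0 hxmul he]
  have e2 : ((KK f e : DividedPowerAlgebra ℤ (ι →₀ ℤ))) ^ n * δ n (bb (f + e)) =
      bb f ^ n * δ n (bb e) := by
    rw [← δ_mul _ (bb_mem_J hfe), ← bb_mul, δ_mul _ (bb_mem_J he)]
  have e3 := congrArg (θ x hx0 hxmul) e2
  rw [map_mul, map_mul, map_pow, map_pow, map_natCast, θ_bb, ← b_eq_mon x b hb] at e3
  rw [map_mul, map_mul, map_natCast, mul_pow, mul_pow, mul_assoc, mul_assoc, e3, Algebra.smul_def]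
  ring

theorem Ex_mul {y : P} (hy : y ∈ Pplus x) (a : P) :
    Ex x hx0 hxmul b (a * y) = PowerSeries.rescale a (Ex x hx0 hxmul b y) := by
  classical
  have h0 := π₀_of_mem x hx0 hxmul b hb hy
  -- reduce to `y` given by its coordinates
  have hy' : y = b.repr.symm (b.repr y) := (b.repr.symm_apply_apply y).symm
  rw [hy']
  generalize b.repr y = l at h0
  revert a
  induction l using Finsupp.induction with
  | zero =>
    intro a
    simp [Ex_zero]
  | single_add e c l hel hc ih =>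
    intro a
    have he : e ≠ 0 := by
      rintro rfl
      rw [Finsupp.add_apply, Finsupp.single_eq_same, Finsupp.notMem_support_iff.mp hel,
        add_zero] at h0
      exact hc h0
    have hl0 : l 0 = 0 := by
      rw [Finsupp.add_apply, Finsupp.single_eq_of_ne (Ne.symm he), zero_add] at h0
      exact h0
    rw [map_add, mul_add, Ex_add, Ex_add, map_mul, ih hl0 a]
    congr 1
    -- the monomial case, by linearity in `a`
    have hsingle : b.repr.symm (Finsupp.single e c) = c • b e := by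
      rw [← Finsupp.smul_single_one, map_smul, Module.Basis.repr_symm_single_one]
    rw [hsingle]
    have hexp : IsExp (Ex x hx0 hxmul b (c • b e)) := by
      rw [Ex_smul_basis]; exact isExp_Ge x hx0 hxmul e c
    have hlin : ∀ m : (ι →₀ ℕ) →₀ R, Ex x hx0 hxmul b ((b.repr.symm m) * (c • b e)) =
        PowerSeries.rescale (b.repr.symm m) (Ex x hx0 hxmul b (c • b e)) := by
      intro m
      induction m using Finsupp.induction_linear with
      | zero => rw [map_zero, zero_mul, Ex_zero, hexp.rescale_zero]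
      | add m m' hm hm' =>
        rw [map_add, add_mul, Ex_add, hm, hm', hexp.rescale_add]
      | single f r =>
        have : b.repr.symm (Finsupp.single f r) = r • b f := by
          rw [← Finsupp.smul_single_one, map_smul, Module.Basis.repr_symm_single_one]
        rw [this]
        exact Ex_mul_mono x hx0 hxmul b hb r c f he
    have := hlin (b.repr a)
    rwa [b.repr.symm_apply_apply] at this


theorem preDP_dP : PreDP (Pplus x) (dP x hx0 hxmul b) where
  null n y hy := by unfold dP; rw [if_neg hy]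
  zero y hy := by rw [dP_of_mem x hx0 hxmul b hy]; exact (Ex_mem_SS x hx0 hxmul b y).1
  one y hy := by rw [dP_of_mem x hx0 hxmul b hy]; exact coeff_one_Ex x hx0 hxmul b hb hy
  mem n y hn hy := by
    rw [dP_of_mem x hx0 hxmul b hy]; exact (Ex_mem_SS x hx0 hxmul b y).2 n hn
  add n y y' hy hy' := by
    rw [dP_of_mem x hx0 hxmul b ((Pplus x).add_mem hy hy'), Ex_add, coeff_mul]
    apply Finset.sum_congr rfl
    intro k _
    rw [dP_of_mem x hx0 hxmul b hy, dP_of_mem x hx0 hxmul b hy']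
  mul n a y hy := by
    rw [dP_of_mem x hx0 hxmul b ((Pplus x).mul_mem_left a hy), Ex_mul x hx0 hxmul b hb hy,
      coeff_rescale, dP_of_mem x hx0 hxmul b hy]

omit hx0 hxmul hb in
theorem gen_mem (i : ι) {n : ℕ} (hn : n ≠ 0) : x i n ∈ Pplus x :=
  Ideal.subset_span ⟨i, n, Nat.one_le_iff_ne_zero.mpr hn, rfl⟩

omit hx0 hxmul hb in
theorem bb_single (i : ι) (k : ℕ) :
    (bb (Finsupp.single i k) : DividedPowerAlgebra ℤ (ι →₀ ℤ)) =
      dp ℤ k (Finsupp.single i (1 : ℤ)) := by
  unfold bb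
  rw [Finsupp.prod_single_index]
  exact dp_zero

theorem Ex_gen (i : ι) (n : ℕ) :
    Ex x hx0 hxmul b (x i n) = Fe x hx0 hxmul (Finsupp.single i n) := by
  rw [← b_single x hx0 b hb i n, ← one_smul R (b (Finsupp.single i n)), Ex_smul_basis]
  unfold Ge
  rw [map_one, rescale_one, RingHom.id_apply]

theorem dP_gen (i : ι) {n : ℕ} (hn : n ≠ 0) (k : ℕ) :
    dP x hx0 hxmul b k (x i n) = (Nat.uniformBell k n : P) * x i (k * n) := by
  have hne : Finsupp.single i n ≠ 0 := by
    intro h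
    have := DFunLike.congr_fun h i
    simp at this
    exact hn this
  rw [dP_of_mem x hx0 hxmul b (gen_mem x i hn), Ex_gen x hx0 hxmul b hb, coeff_Fe x hx0 hxmul hne,
    bb_single, δ_dp i hn, map_mul, map_natCast, θ_dp]

theorem mul2_gen (i : ι) {n : ℕ} (hn : n ≠ 0) : Mul2 (dP x hx0 hxmul b) (x i n) := by
  intro m k
  rw [dP_of_mem x hx0 hxmul b (gen_mem x i hn), dP_of_mem x hx0 hxmul b (gen_mem x i hn),
    dP_of_mem x hx0 hxmul b (gen_mem x i hn), Ex_gen x hx0 hxmul b hb]
  exact (isExp_Fe x hx0 hxmul _).mul m k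

theorem comp5_gen (i : ι) {n : ℕ} (hn : n ≠ 0) : Comp5 (dP x hx0 hxmul b) (x i n) := by
  intro m k hk
  have hP := preDP_dP x hx0 hxmul b hb
  have hkn : k * n ≠ 0 := Nat.mul_ne_zero hk hn
  rw [dP_gen x hx0 hxmul b hb i hn k, hP.mul m _ _ (gen_mem x i hkn),
    dP_gen x hx0 hxmul b hb i hkn m, dP_gen x hx0 hxmul b hb i hn (m * k)]
  -- the integer identity, imported from `Γ`
  have hg : dp ℤ n (Finsupp.single i (1 : ℤ)) ∈ J ι := Ideal.subset_span ⟨i, n, hn, rfl⟩
  have hg' : dp ℤ (k * n) (Finsupp.single i (1 : ℤ)) ∈ J ι :=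
    Ideal.subset_span ⟨i, k * n, hkn, rfl⟩
  have e1 := (dpΓ ι).dpow_comp (m := m) hk hg
  simp only [dpΓ_dpow] at e1
  rw [δ_dp i hn k, δ_mul _ hg', δ_dp i hkn m, δ_dp i hn (m * k)] at e1
  have e2 := congrArg (θ x hx0 hxmul) e1
  simp only [map_mul, map_pow, map_natCast, θ_dp] at e2
  rw [mul_assoc] at e2 ⊢
  exact e2

/-- Existence and uniqueness of the divided power structure on `P₊`. -/
theorem main18420 :
    ∃! γ : DividedPowers (Ideal.span {y : P | ∃ (i : ι) (n : ℕ), 1 ≤ n ∧ y = x i n}),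
      ∀ (i : ι) (n : ℕ), γ.dpow n (x i 1) = x i n := by
  have hP := preDP_dP x hx0 hxmul b hb
  obtain ⟨γ, hγ⟩ := main2192 (I := Pplus x) {y : P | ∃ (i : ι) (n : ℕ), 1 ≤ n ∧ y = x i n} rfl hP
    (by
      rintro y ⟨i, n, hn, rfl⟩
      exact mul2_gen x hx0 hxmul b hb i (by omega))
    (by
      rintro y ⟨i, n, hn, rfl⟩
      exact comp5_gen x hx0 hxmul b hb i (by omega))
  have key : ∀ (γ' : DividedPowers (Pplus x)), (∀ (i : ι) (n : ℕ), γ'.dpow n (x i 1) = x i n) →
      ∀ (i : ι) (k : ℕ), k ≠ 0 → ∀ m : ℕ, γ'.dpow m (x i k) =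
        (Nat.uniformBell m k : P) * x i (m * k) := by
    intro γ' h' i k hk m
    rw [← h' i k, γ'.dpow_comp hk (gen_mem x i one_ne_zero), h' i (m * k)]
  have h1 : ∀ (i : ι) (n : ℕ), γ.dpow n (x i 1) = x i n := by
    intro i n
    rw [hγ, dP_gen x hx0 hxmul b hb i one_ne_zero n, Nat.uniformBell_one_right, Nat.cast_one,
      one_mul, mul_one]
  refine ⟨γ, h1, ?_⟩
  intro γ' h'
  apply DividedPowers.dpow_eq_from_gens γ γ' (S := {y : P | ∃ (i : ι) (n : ℕ), 1 ≤ n ∧ y = x i n}) rfl
  rintro m y ⟨i, n, hn, rfl⟩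
  rw [key γ h1 i n (by omega) m, key γ' h' i n (by omega) m]

end Axioms

end Poly

end Helper91.DPGen
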