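import Groth.Agent.Lib.Helper91.DPExt2
import Mathlib.RingTheory.TensorProduct.Free

/-!
# Universal property of the divided power polynomial algebra, and a model (helper91)
-/

namespace Helper91.DPGen

open DividedPowerAlgebra TensorProduct

section Univ

variable {R : Type*} [CommRing R] {I : Ideal R} (γ : DividedPowers I) {Λ : Type*}
  {P : Type*} [CommRing P] [Algebra R P] (x : Λ → ℕ → P)
  (hx0 : ∀ l, x l 0 = 1)
  (hxmul : ∀ l n m, x l n * x l m = ((n + m).choose n : P) * x l (n + m))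
  (b : Module.Basis (Λ →₀ ℕ) R P) (hb : ∀ e : Λ →₀ ℕ, b e = e.prod (fun l k => x l k))
  (δ : DividedPowers (I.map (algebraMap R P) ⊔ Pplus x))
  (hδ : γ.IsDPMorphism δ (algebraMap R P))
  (hδx : ∀ (l : Λ) (n : ℕ), δ.dpow n (x l 1) = x l n)
  {C : Type*} [CommRing C] [Algebra R C] {K : Ideal C} (ε : DividedPowers K)
  (hε : γ.IsDPMorphism ε (algebraMap R C)) (k : Λ → C) (hk : ∀ l, k l ∈ K)

/-- The divided powers of the target elements. -/
def yy (l : Λ) (n : ℕ) : C := ε.dpow n (k l)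

include hk in
theorem yy_zero (l : Λ) : yy ε k l 0 = 1 := ε.dpow_zero (hk l)

include hk in
theorem yy_mul (l : Λ) (n m : ℕ) :
    yy ε k l n * yy ε k l m = ((n + m).choose n : C) * yy ε k l (n + m) := ε.mul_dpow (hk l)

/-- The linear map `P → C`. -/
noncomputable def φL : P →ₗ[R] C := b.constr R (mon (yy ε k))

theorem φL_basis (e : Λ →₀ ℕ) : φL b ε k (b e) = mon (yy ε k) e := by
  rw [φL, Module.Basis.constr_basis]

include hx0 hxmul hb hk in
theorem φL_mul (p p' : P) : φL b ε k (p * p') = φL b ε k p * φL b ε k p' := by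
  classical
  have key : (LinearMap.mul R P).compr₂ (φL b ε k) =
      (LinearMap.mul R C).compl₁₂ (φL b ε k) (φL b ε k) := by
    apply b.ext
    intro n
    apply b.ext
    intro n'
    simp only [LinearMap.compr₂_apply, LinearMap.mul_apply', LinearMap.compl₁₂_apply]
    rw [b_mul x hx0 hxmul b hb, φL_basis, φL_basis, mon_mul _ (yy_zero ε k hk) (yy_mul ε k hk),
      ← nsmul_eq_mul, map_nsmul, φL_basis, nsmul_eq_mul]
  have := LinearMap.congr_fun₂ key p p'
  simpa using this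

include hb in
theorem basis_zero : b 0 = 1 := by rw [hb]; simp

/-- The algebra map `P → C`. -/
noncomputable def φA : P →ₐ[R] C :=
  AlgHom.ofLinearMap (φL b ε k)
    (by rw [← basis_zero x b hb, φL_basis]; simp [mon])
    (φL_mul x hx0 hxmul b hb ε k hk)

include hk in
theorem φA_gen (l : Λ) (n : ℕ) : φA x hx0 hxmul b hb ε k hk (x l n) = ε.dpow n (k l) := by
  rw [← b_single x hx0 b hb l n]
  change φL b ε k _ = _
  rw [φL_basis]
  unfold mon
  rw [Finsupp.prod_single_index (yy_zero ε k hk l)]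
  rfl

theorem J_eq_span : I.map (algebraMap R P) ⊔ Pplus x =
    Ideal.span ((algebraMap R P) '' (I : Set R) ∪ {y : P | ∃ (l : Λ) (n : ℕ), 1 ≤ n ∧ y = x l n}) := by
  rw [Ideal.span_union]; rfl

include hδx in
theorem δ_gen (l : Λ) {n : ℕ} (hn : n ≠ 0) (m : ℕ) :
    δ.dpow m (x l n) = (Nat.uniformBell m n : P) * x l (m * n) := by
  have h1 : x l 1 ∈ I.map (algebraMap R P) ⊔ Pplus x :=
    Ideal.mem_sup_right (gen_mem x l one_ne_zero)
  rw [← hδx l n, δ.dpow_comp hn h1, hδx l (m * n)]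

include hδ hδx hε in
theorem φA_isDPMorphism : δ.IsDPMorphism ε (φA x hx0 hxmul b hb ε k hk).toRingHom := by
  refine DividedPowers.IsDPMorphism.on_span δ ε (J_eq_span x) ?_ ?_
  · rintro s (⟨a, ha, rfl⟩ | ⟨l, n, hn, rfl⟩)
    · change φA x hx0 hxmul b hb ε k hk (algebraMap R P a) ∈ K
      rw [AlgHom.commutes]
      exact hε.ideal_comp (Ideal.mem_map_of_mem _ ha)
    · change φA x hx0 hxmul b hb ε k hk (x l n) ∈ K
      rw [φA_gen]
      exact ε.dpow_mem (by omega) (hk l)
  · rintro m s (⟨a, ha, rfl⟩ | ⟨l, n, hn, rfl⟩)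
    · change φA x hx0 hxmul b hb ε k hk (δ.dpow m (algebraMap R P a)) =
        ε.dpow m (φA x hx0 hxmul b hb ε k hk (algebraMap R P a))
      rw [hδ.dpow_comp a ha, AlgHom.commutes, AlgHom.commutes, hε.dpow_comp a ha]
    · change φA x hx0 hxmul b hb ε k hk (δ.dpow m (x l n)) =
        ε.dpow m (φA x hx0 hxmul b hb ε k hk (x l n))
      have hn' : n ≠ 0 := by omega
      rw [δ_gen x δ hδx l hn', map_mul, map_natCast, φA_gen, φA_gen, ε.dpow_comp hn' (hk l)]

include hx0 hxmul hb hδ hδx hε hk in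
/-- The universal property. -/
theorem univ :
    ∃! φ : P →ₐ[R] C, (∀ l, φ (x l 1) = k l) ∧ δ.IsDPMorphism ε φ.toRingHom := by
  refine ⟨φA x hx0 hxmul b hb ε k hk, ⟨fun l => ?_, φA_isDPMorphism γ x hx0 hxmul b hb δ hδ hδx ε hε k hk⟩, ?_⟩
  · rw [φA_gen, ε.dpow_one (hk l)]
  · rintro φ' ⟨h1, h2⟩
    have hgen : ∀ l n, φ' (x l n) = ε.dpow n (k l) := by
      intro l n
      have h3 : x l 1 ∈ I.map (algebraMap R P) ⊔ Pplus x :=
        Ideal.mem_sup_right (gen_mem x l one_ne_zero)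
      have := h2.dpow_comp (n := n) (x l 1) h3
      rw [hδx] at this
      change ε.dpow n (φ' (x l 1)) = φ' (x l n) at this
      rw [← this, h1]
    apply AlgHom.toLinearMap_injective
    apply b.ext
    intro e
    change φ' (b e) = φA x hx0 hxmul b hb ε k hk (b e)
    rw [hb, map_finsuppProd, map_finsuppProd]
    apply Finsupp.prod_congr
    intro l _
    rw [hgen, φA_gen]

end Univ

section Model

variable (A : Type*) [CommRing A] (ι : Type*)

/-- The model of the divided power polynomial algebra over `A`. -/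
abbrev DD : Type _ := A ⊗[ℤ] DividedPowerAlgebra ℤ (ι →₀ ℤ)

/-- The generators of the model. -/
noncomputable def xx (i : ι) (n : ℕ) : DD A ι := (1 : A) ⊗ₜ[ℤ] dp ℤ n (Finsupp.single i (1 : ℤ))

theorem xx_zero (i : ι) : xx A ι i 0 = 1 := by
  unfold xx; rw [dp_zero]; rfl

theorem xx_mul (i : ι) (n m : ℕ) :
    xx A ι i n * xx A ι i m = ((n + m).choose n : DD A ι) * xx A ι i (n + m) := by
  unfold xx
  rw [Algebra.TensorProduct.tmul_mul_tmul, one_mul, dp_mul, ← nsmul_eq_mul,
    TensorProduct.tmul_smul]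

/-- The basis of the model. -/
noncomputable def basisDD : Module.Basis (ι →₀ ℕ) A (DD A ι) :=
  Algebra.TensorProduct.basis A (basisΓ ι)

theorem basisDD_apply (e : ι →₀ ℕ) : basisDD A ι e = e.prod (fun i k => xx A ι i k) := by
  unfold basisDD
  rw [Algebra.TensorProduct.basis_apply, basisΓ_apply]
  unfold bb xx
  have := map_finsuppProd (Algebra.TensorProduct.includeRight (R := ℤ) (A := A)
    (B := DividedPowerAlgebra ℤ (ι →₀ ℤ))) e (fun i k => dp ℤ k (Finsupp.single i (1 : ℤ)))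
  simpa using this

end Model

end Helper91.DPGen

namespace Helper91.DPGen

universe u

theorem main2213 {A : Type u} [CommRing A] {I : Ideal A} (γ : DividedPowers I) (t : ℕ) :
    ∃ (D : Type u) (_ : CommRing D) (_ : Algebra A D) (J : Ideal D) (δ : DividedPowers J)
      (x : Fin t → D), (∀ i, x i ∈ J) ∧ γ.IsDPMorphism δ (algebraMap A D) ∧
      ∀ (C : Type u) [CommRing C] [Algebra A C] (K : Ideal C) (ε : DividedPowers K),
        γ.IsDPMorphism ε (algebraMap A C) → ∀ k : Fin t → C, (∀ i, k i ∈ K) →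
          ∃! φ : D →ₐ[A] C, (∀ i, φ (x i) = k i) ∧ δ.IsDPMorphism ε φ.toRingHom := by
  obtain ⟨δplus, hδplus, -⟩ := main18420 (xx A (Fin t)) (xx_zero A (Fin t)) (xx_mul A (Fin t))
    (basisDD A (Fin t)) (basisDD_apply A (Fin t))
  obtain ⟨δ, ⟨hδ, hδ2⟩, -⟩ := main18421 γ (xx A (Fin t)) (xx_zero A (Fin t)) (xx_mul A (Fin t))
    (basisDD A (Fin t)) (basisDD_apply A (Fin t)) δplus
  have hδx : ∀ (l : Fin t) (n : ℕ), δ.dpow n (xx A (Fin t) l 1) = xx A (Fin t) l n := by
    intro l n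
    rw [hδ2 n _ (gen_mem _ l one_ne_zero)]
    exact hδplus l n
  refine ⟨DD A (Fin t), inferInstance, inferInstance, _, δ, fun i => xx A (Fin t) i 1,
    fun i => Ideal.mem_sup_right (gen_mem _ i one_ne_zero), hδ, ?_⟩
  intro C _ _ K ε hε k hk
  exact univ γ (xx A (Fin t)) (xx_zero A (Fin t)) (xx_mul A (Fin t))
    (basisDD A (Fin t)) (basisDD_apply A (Fin t)) δ hδ hδx ε hε k hk

end Helper91.DPGen
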