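import Groth.Agent.Lib.Helper91.DPPrimeG
import Groth.Agent.Lib.Helper91.DPUniv

/-!
# A divided power structure is determined by (and can be built from) its `p`-th power
over a `ℤ_(p)`-algebra (helper91)
-/

namespace Helper91.DPPrime

open Helper91.DPGen

local notation "AD" => Finset.HasAntidiagonal.antidiagonal

section Hom

variable {R : Type*} [CommRing R] {Λ : Type*}
  {P : Type*} [CommRing P] [Algebra R P] (x : Λ → ℕ → P)
  (hx0 : ∀ l, x l 0 = 1)
  (hxmul : ∀ l n m, x l n * x l m = ((n + m).choose n : P) * x l (n + m))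
  (b : Module.Basis (Λ →₀ ℕ) R P) (hb : ∀ e : Λ →₀ ℕ, b e = e.prod (fun l k => x l k))
  {C : Type*} [CommRing C] [Algebra R C] (y : Λ → ℕ → C) (hy0 : ∀ l, y l 0 = 1)
  (hymul : ∀ l n m, y l n * y l m = ((n + m).choose n : C) * y l (n + m))

/-- The linear map `P → C` sending monomials in `x` to monomials in `y`. -/
noncomputable def ψL : P →ₗ[R] C := b.constr R (mon y)

theorem ψL_basis (e : Λ →₀ ℕ) : ψL b y (b e) = mon y e := by
  rw [ψL, Module.Basis.constr_basis]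

include hx0 hxmul hb hy0 hymul in
theorem ψL_mul (q q' : P) : ψL b y (q * q') = ψL b y q * ψL b y q' := by
  classical
  have key : (LinearMap.mul R P).compr₂ (ψL b y) =
      (LinearMap.mul R C).compl₁₂ (ψL b y) (ψL b y) := by
    apply b.ext
    intro n
    apply b.ext
    intro n'
    simp only [LinearMap.compr₂_apply, LinearMap.mul_apply', LinearMap.compl₁₂_apply]
    rw [b_mul x hx0 hxmul b hb, ψL_basis, ψL_basis, mon_mul _ hy0 hymul,
      ← nsmul_eq_mul, map_nsmul, ψL_basis, nsmul_eq_mul]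
  have := LinearMap.congr_fun₂ key q q'
  simpa using this

/-- The algebra map `P → C` with `x l n ↦ y l n`. -/
noncomputable def ψA : P →ₐ[R] C :=
  AlgHom.ofLinearMap (ψL b y)
    (by rw [← basis_zero x b hb, ψL_basis]; simp [mon])
    (ψL_mul x hx0 hxmul b hb y hy0 hymul)

theorem ψA_gen (l : Λ) (n : ℕ) : ψA x hx0 hxmul b hb y hy0 hymul (x l n) = y l n := by
  rw [← b_single x hx0 b hb l n]
  change ψL b y _ = _
  rw [ψL_basis]
  unfold mon
  rw [Finsupp.prod_single_index (hy0 l)]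

end Hom

section Main

variable {A : Type*} [CommRing A] {p : ℕ} (hp : p.Prime)
  (hA : ∀ n : ℕ, ¬ p ∣ n → IsUnit (n : A)) {I : Ideal A} (d : A → A)
  (hdI : ∀ x ∈ I, d x ∈ I) (h1 : ∀ x ∈ I, (p.factorial : A) * d x = x ^ p)
  (h2 : ∀ (a x : A), x ∈ I → d (a * x) = a ^ p * d x)
  (h3 : ∀ x ∈ I, ∀ y ∈ I, d (x + y) = d x + d y +
      ((AD p).filter fun k => 0 < k.1 ∧ 0 < k.2).sum
        fun k => Ring.inverse ((k.1.factorial * k.2.factorial : ℕ) : A) * x ^ k.1 * y ^ k.2)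

/-- The iterates of `d`. -/
def aa (x : A) : ℕ → A := fun k => d^[k] x

theorem aa_zero (x : A) : aa d x 0 = x := rfl

theorem aa_succ (x : A) (k : ℕ) : aa d x (k + 1) = d (aa d x k) := by
  unfold aa; rw [Function.iterate_succ_apply']

include hdI in
theorem aa_mem {x : A} (hx : x ∈ I) (k : ℕ) : aa d x k ∈ I := by
  induction k with
  | zero => exact hx
  | succ k ih => rw [aa_succ]; exact hdI _ ih

include hdI h1 in
theorem aa_rel {x : A} (hx : x ∈ I) (k : ℕ) :
    aa d x k ^ p = (p.factorial : A) * aa d x (k + 1) := by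
  rw [aa_succ, h1 _ (aa_mem d hdI hx k)]

include hp h2 in
theorem d_zero : d 0 = 0 := by
  have := h2 0 0 I.zero_mem
  rw [mul_zero, zero_pow hp.ne_zero, zero_mul] at this
  exact this

variable {Λ : Type*} {P : Type*} [CommRing P] [Algebra A P] (x : Λ → ℕ → P)
  (hx0 : ∀ l, x l 0 = 1)
  (hxmul : ∀ l n m, x l n * x l m = ((n + m).choose n : P) * x l (n + m))
  (b : Module.Basis (Λ →₀ ℕ) A P) (hb : ∀ e : Λ →₀ ℕ, b e = e.prod (fun l k => x l k))
  (δplus : DividedPowers (Pplus x))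
  (hδplus : ∀ (l : Λ) (n : ℕ), δplus.dpow n (x l 1) = x l n)
  (z : Λ → A) (hz : ∀ l, z l ∈ I)

include hA in
theorem unitsP (n : ℕ) (hn : ¬ p ∣ n) : IsUnit (n : P) := by
  have := (hA n hn).map (algebraMap A P)
  rwa [map_natCast] at this

/-- The comparison map. -/
noncomputable def Φ : P →ₐ[A] A :=
  ψA x hx0 hxmul b hb (fun l n => g p n (aa d (z l))) (fun _ => g_zero _ _)
    (fun l n m => g_mul' hp hA _ (aa_rel d hdI h1 (hz l)) n m)

theorem Φ_gen (l : Λ) (n : ℕ) :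
    Φ hp hA d hdI h1 x hx0 hxmul b hb z hz (x l n) = g p n (aa d (z l)) :=
  ψA_gen x hx0 hxmul b hb _ _ _ l n

theorem Φ_gen_one (l : Λ) : Φ hp hA d hdI h1 x hx0 hxmul b hb z hz (x l 1) = z l := by
  rw [Φ_gen, g_one hp.two_le, aa_zero]

/-- The iterated `p`-th divided powers of the variables. -/
noncomputable def YY (l : Λ) (k : ℕ) : P := (δplus.dpow p)^[k] (x l 1)

include hp in
theorem YY_mem (l : Λ) (k : ℕ) : YY x δplus (p := p) l k ∈ Pplus x :=
  iterate_mem hp δplus k (gen_mem x l one_ne_zero)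

include hp hA hδplus in
theorem x_eq_g (l : Λ) (n : ℕ) : x l n = g p n (YY x δplus (p := p) l) := by
  rw [← hδplus l n, dpow_eq_g hp δplus (unitsP hA) n (gen_mem x l one_ne_zero)]
  rfl

include hδplus in
theorem Φ_YY (l : Λ) (k : ℕ) :
    Φ hp hA d hdI h1 x hx0 hxmul b hb z hz (YY x δplus (p := p) l k) = aa d (z l) k := by
  have hκP : IsUnit ((κ p k : ℕ) : P) := unitsP hA _ (not_dvd_κ hp k)
  have hκA : IsUnit ((κ p k : ℕ) : A) := hA _ (not_dvd_κ hp k)
  have e1 : x l (p ^ k) = Ring.inverse ((κ p k : ℕ) : P) * YY x δplus (p := p) l k := by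
    rw [x_eq_g hp hA x δplus hδplus l (p ^ k), g_pow hp]
  have e2 : YY x δplus (p := p) l k = ((κ p k : ℕ) : P) * x l (p ^ k) := by
    rw [e1, ← mul_assoc, Ring.mul_inverse_cancel _ hκP, one_mul]
  rw [e2, map_mul, map_natCast, Φ_gen, g_pow hp, ← mul_assoc, Ring.mul_inverse_cancel _ hκA,
    one_mul]

include hp hA hδplus in
theorem Pplus_le_span : Pplus x ≤ Ideal.span (Set.range fun lk : Λ × ℕ => YY x δplus (p := p) lk.1 lk.2) := by
  unfold Pplus
  rw [Ideal.span_le]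
  rintro _ ⟨l, n, hn, rfl⟩
  rw [x_eq_g hp hA x δplus hδplus l n]
  exact g_mem hp _ n _ (fun k => Ideal.subset_span ⟨(l, k), rfl⟩) (by omega)

include hp hA in
theorem Φ_dpow_small {w : P} (hw : w ∈ Pplus x) {i : ℕ} (hi : i < p) :
    Φ hp hA d hdI h1 x hx0 hxmul b hb z hz (δplus.dpow i w) =
      Ring.inverse ((i.factorial : ℕ) : A) * (Φ hp hA d hdI h1 x hx0 hxmul b hb z hz w) ^ i := by
  have hu : IsUnit ((i.factorial : ℕ) : A) := hA _ (by
    rw [Nat.Prime.dvd_factorial hp]; omega)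
  have e := congrArg (Φ hp hA d hdI h1 x hx0 hxmul b hb z hz) (δplus.factorial_mul_dpow_eq_pow hw (n := i))
  rw [map_mul, map_natCast, map_pow] at e
  rw [← e, ← mul_assoc, Ring.inverse_mul_cancel _ hu, one_mul]

include hδplus h2 h3 in
theorem key : ∀ w ∈ Pplus x, Φ hp hA d hdI h1 x hx0 hxmul b hb z hz w ∈ I ∧
    Φ hp hA d hdI h1 x hx0 hxmul b hb z hz (δplus.dpow p w) =
      d (Φ hp hA d hdI h1 x hx0 hxmul b hb z hz w) := by
  intro w hw
  have hw' := Pplus_le_span hp hA x δplus hδplus hw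
  have hp0 : p ≠ 0 := hp.ne_zero
  suffices h : w ∈ Pplus x ∧ Φ hp hA d hdI h1 x hx0 hxmul b hb z hz w ∈ I ∧
      Φ hp hA d hdI h1 x hx0 hxmul b hb z hz (δplus.dpow p w) =
        d (Φ hp hA d hdI h1 x hx0 hxmul b hb z hz w) from h.2
  refine Submodule.span_induction (p := fun w _ => w ∈ Pplus x ∧
      Φ hp hA d hdI h1 x hx0 hxmul b hb z hz w ∈ I ∧
      Φ hp hA d hdI h1 x hx0 hxmul b hb z hz (δplus.dpow p w) =
        d (Φ hp hA d hdI h1 x hx0 hxmul b hb z hz w)) ?_ ?_ ?_ ?_ hw'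
  · rintro _ ⟨⟨l, k⟩, rfl⟩
    refine ⟨YY_mem hp x δplus l k, ?_, ?_⟩
    · rw [Φ_YY hp hA d hdI h1 x hx0 hxmul b hb δplus hδplus z hz]
      exact aa_mem d hdI (hz l) k
    · have e : δplus.dpow p (YY x δplus (p := p) l k) = YY x δplus (p := p) l (k + 1) := by
        unfold YY; rw [Function.iterate_succ_apply']
      beta_reduce
      rw [e, Φ_YY hp hA d hdI h1 x hx0 hxmul b hb δplus hδplus z hz,
        Φ_YY hp hA d hdI h1 x hx0 hxmul b hb δplus hδplus z hz, aa_succ]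
  · refine ⟨Ideal.zero_mem _, by rw [map_zero]; exact I.zero_mem, ?_⟩
    rw [δplus.dpow_eval_zero hp0, map_zero, d_zero hp d h2]
  · rintro w w' _ _ ⟨hw1, hw2, hw3⟩ ⟨hw1', hw2', hw3'⟩
    refine ⟨Ideal.add_mem _ hw1 hw1', by rw [map_add]; exact I.add_mem hw2 hw2', ?_⟩
    rw [δplus.dpow_add hw1 hw1', map_sum, map_add, h3 _ hw2 _ hw2']
    rw [← Finset.sum_filter_add_sum_filter_not (AD p) (fun k => 0 < k.1 ∧ 0 < k.2)]
    have hrest : (AD p).filter (fun k => ¬ (0 < k.1 ∧ 0 < k.2)) = {(0, p), (p, 0)} := by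
      ext ⟨i, j⟩
      simp only [Finset.mem_filter, Finset.HasAntidiagonal.mem_antidiagonal, Finset.mem_insert,
        Finset.mem_singleton, Prod.mk.injEq]
      omega
    have hne : ((0, p) : ℕ × ℕ) ≠ (p, 0) := by
      intro h; exact hp0 (Prod.mk.inj h).1.symm
    rw [hrest, Finset.sum_pair hne]
    simp only [map_mul]
    rw [δplus.dpow_zero hw1, δplus.dpow_zero hw1', map_one, one_mul, mul_one, hw3, hw3']
    have hsum : ∑ k ∈ (AD p).filter (fun k => 0 < k.1 ∧ 0 < k.2),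
        Φ hp hA d hdI h1 x hx0 hxmul b hb z hz (δplus.dpow k.1 w) *
          Φ hp hA d hdI h1 x hx0 hxmul b hb z hz (δplus.dpow k.2 w') =
        ∑ k ∈ (AD p).filter (fun k => 0 < k.1 ∧ 0 < k.2),
          Ring.inverse ((k.1.factorial * k.2.factorial : ℕ) : A) *
            Φ hp hA d hdI h1 x hx0 hxmul b hb z hz w ^ k.1 *
            Φ hp hA d hdI h1 x hx0 hxmul b hb z hz w' ^ k.2 := by
      apply Finset.sum_congr rfl
      intro k hk
      rw [Finset.mem_filter, Finset.HasAntidiagonal.mem_antidiagonal] at hk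
      rw [Φ_dpow_small hp hA d hdI h1 x hx0 hxmul b hb δplus z hz hw1 (by omega : k.1 < p),
        Φ_dpow_small hp hA d hdI h1 x hx0 hxmul b hb δplus z hz hw1' (by omega : k.2 < p),
        Nat.cast_mul, Ring.mul_inverse_rev]
      ring
    rw [hsum]
    ring
  · rintro c w _ ⟨hw1, hw2, hw3⟩
    rw [smul_eq_mul]
    refine ⟨Ideal.mul_mem_left _ _ hw1, by rw [map_mul]; exact I.mul_mem_left _ hw2, ?_⟩
    rw [δplus.dpow_mul hw1, map_mul, map_pow, hw3, map_mul, h2 _ _ hw2]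

include hδplus h2 h3 in
theorem Φ_iterate {w : P} (hw : w ∈ Pplus x) (k : ℕ) :
    Φ hp hA d hdI h1 x hx0 hxmul b hb z hz ((δplus.dpow p)^[k] w) =
      aa d (Φ hp hA d hdI h1 x hx0 hxmul b hb z hz w) k := by
  induction k with
  | zero => rfl
  | succ k ih =>
    rw [Function.iterate_succ_apply',
      (key hp hA d hdI h1 h2 h3 x hx0 hxmul b hb δplus hδplus z hz _
        (iterate_mem hp δplus k hw)).2, ih, aa_succ]

include hδplus h2 h3 in
theorem Φ_dpow {w : P} (hw : w ∈ Pplus x) (n : ℕ) :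
    Φ hp hA d hdI h1 x hx0 hxmul b hb z hz (δplus.dpow n w) =
      g p n (aa d (Φ hp hA d hdI h1 x hx0 hxmul b hb z hz w)) := by
  rw [dpow_eq_g hp δplus (unitsP hA) n hw]
  have := map_g hp (unitsP hA (P := P)) (Φ hp hA d hdI h1 x hx0 hxmul b hb z hz).toRingHom n
    (fun k => (δplus.dpow p)^[k] w)
  change Φ hp hA d hdI h1 x hx0 hxmul b hb z hz _ = _ at this
  rw [this]
  congr 1
  funext k
  exact Φ_iterate hp hA d hdI h1 h2 h3 x hx0 hxmul b hb δplus hδplus z hz hw k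

include hp hA hx0 hxmul hb hδplus h2 h3 hdI h1 hz in
theorem T_add (l₁ l₂ : Λ) (n : ℕ) :
    g p n (aa d (z l₁ + z l₂)) =
      ∑ k ∈ AD n, g p k.1 (aa d (z l₁)) * g p k.2 (aa d (z l₂)) := by
  have hw1 : x l₁ 1 ∈ Pplus x := gen_mem x l₁ one_ne_zero
  have hw2 : x l₂ 1 ∈ Pplus x := gen_mem x l₂ one_ne_zero
  have h := Φ_dpow hp hA d hdI h1 h2 h3 x hx0 hxmul b hb δplus hδplus z hz
    (Ideal.add_mem _ hw1 hw2) n
  rw [map_add, Φ_gen_one, Φ_gen_one, δplus.dpow_add hw1 hw2, map_sum] at h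
  rw [← h]
  apply Finset.sum_congr rfl
  intro k _
  rw [map_mul, hδplus, hδplus, Φ_gen, Φ_gen]

include hp hA hx0 hxmul hb hδplus h2 h3 hdI h1 hz in
theorem T_mul (l : Λ) (a : A) (n : ℕ) :
    g p n (aa d (a * z l)) = a ^ n * g p n (aa d (z l)) := by
  have hw1 : x l 1 ∈ Pplus x := gen_mem x l one_ne_zero
  have h := Φ_dpow hp hA d hdI h1 h2 h3 x hx0 hxmul b hb δplus hδplus z hz
    (Ideal.mul_mem_left _ (algebraMap A P a) hw1) n
  rw [map_mul, Φ_gen_one, AlgHom.commutes, δplus.dpow_mul hw1, map_mul, map_pow, AlgHom.commutes,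
    hδplus, Φ_gen] at h
  exact h.symm

include hp hA hx0 hxmul hb hδplus h2 h3 hdI h1 hz in
theorem T_comp (l : Λ) (m : ℕ) {n : ℕ} (hn : n ≠ 0) :
    g p m (aa d (g p n (aa d (z l)))) =
      (Nat.uniformBell m n : A) * g p (m * n) (aa d (z l)) := by
  have hw1 : x l 1 ∈ Pplus x := gen_mem x l one_ne_zero
  have h := Φ_dpow hp hA d hdI h1 h2 h3 x hx0 hxmul b hb δplus hδplus z hz
    (gen_mem x l hn) m
  rw [Φ_gen] at h
  rw [← h, ← hδplus l n, δplus.dpow_comp hn hw1, map_mul, map_natCast, hδplus, Φ_gen]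

end Main

section Final

variable {A : Type*} [CommRing A] {p : ℕ} (hp : p.Prime)
  (hA : ∀ n : ℕ, ¬ p ∣ n → IsUnit (n : A)) {I : Ideal A} (d : A → A)
  (hdI : ∀ x ∈ I, d x ∈ I) (h1 : ∀ x ∈ I, (p.factorial : A) * d x = x ^ p)
  (h2 : ∀ (a x : A), x ∈ I → d (a * x) = a ^ p * d x)
  (h3 : ∀ x ∈ I, ∀ y ∈ I, d (x + y) = d x + d y +
      ((AD p).filter fun k => 0 < k.1 ∧ 0 < k.2).sum
        fun k => Ring.inverse ((k.1.factorial * k.2.factorial : ℕ) : A) * x ^ k.1 * y ^ k.2)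

include hp hA hdI h1 h2 h3 in
theorem exists_dp : ∃ γ : DividedPowers I, ∀ (n : ℕ), ∀ x ∈ I, γ.dpow n x = g p n (aa d x) := by
  classical
  obtain ⟨δplus, hδplus, -⟩ := main18420 (xx A Bool) (xx_zero A Bool) (xx_mul A Bool)
    (basisDD A Bool) (basisDD_apply A Bool)
  have Tadd : ∀ x ∈ I, ∀ y ∈ I, ∀ n, g p n (aa d (x + y)) =
      ∑ k ∈ AD n, g p k.1 (aa d x) * g p k.2 (aa d y) := by
    intro x hx y hy n
    exact T_add hp hA d hdI h1 h2 h3 (xx A Bool) (xx_zero A Bool) (xx_mul A Bool)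
      (basisDD A Bool) (basisDD_apply A Bool) δplus hδplus (fun t => bif t then y else x)
      (fun t => by cases t <;> simpa) false true n
  have Tmul : ∀ x ∈ I, ∀ (a : A) n, g p n (aa d (a * x)) = a ^ n * g p n (aa d x) := by
    intro x hx a n
    exact T_mul hp hA d hdI h1 h2 h3 (xx A Bool) (xx_zero A Bool) (xx_mul A Bool)
      (basisDD A Bool) (basisDD_apply A Bool) δplus hδplus (fun _ => x)
      (fun _ => hx) false a n
  have Tcomp : ∀ x ∈ I, ∀ (m : ℕ) {n : ℕ}, n ≠ 0 → g p m (aa d (g p n (aa d x))) =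
      (Nat.uniformBell m n : A) * g p (m * n) (aa d x) := by
    intro x hx m n hn
    exact T_comp hp hA d hdI h1 h2 h3 (xx A Bool) (xx_zero A Bool) (xx_mul A Bool)
      (basisDD A Bool) (basisDD_apply A Bool) δplus hδplus (fun _ => x)
      (fun _ => hx) false m hn
  have hmem : ∀ x ∈ I, ∀ n, n ≠ 0 → g p n (aa d x) ∈ I := fun x hx n hn =>
    g_mem hp I n _ (aa_mem d hdI hx) hn
  refine ⟨{
    dpow := fun n x => if x ∈ I then g p n (aa d x) else 0
    dpow_null := fun hx => if_neg hx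
    dpow_zero := fun hx => by rw [if_pos hx, g_zero]
    dpow_one := fun hx => by rw [if_pos hx, g_one hp.two_le, aa_zero]
    dpow_mem := fun hn hx => by rw [if_pos hx]; exact hmem _ hx _ hn
    dpow_add := fun {n x y} hx hy => by
      rw [if_pos (I.add_mem hx hy), Tadd x hx y hy n]
      apply Finset.sum_congr rfl
      intro k _
      rw [if_pos hx, if_pos hy]
    dpow_mul := fun {n a x} hx => by
      rw [if_pos (I.mul_mem_left a hx), if_pos hx, Tmul x hx a n]
    mul_dpow := fun {m n x} hx => by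
      rw [if_pos hx, if_pos hx, if_pos hx]
      exact g_mul' hp hA _ (aa_rel d hdI h1 hx) m n
    dpow_comp := fun {m n x} hn hx => by
      rw [if_pos hx, if_pos hx, if_pos (hmem x hx n hn), Tcomp x hx m hn] }, ?_⟩
  intro n x hx
  exact if_pos hx

include hp hA hdI h1 h2 h3 in
theorem main2212 : ∃! γ : DividedPowers I, ∀ x ∈ I, γ.dpow p x = d x := by
  obtain ⟨γ, hγ⟩ := exists_dp hp hA d hdI h1 h2 h3
  refine ⟨γ, fun x hx => ?_, ?_⟩
  · rw [hγ p x hx, g_p hp.two_le]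
    exact aa_succ d x 0
  · intro γ' hγ'
    apply DividedPowers.ext
    intro n x hx
    rw [hγ n x hx, dpow_eq_g hp γ' hA n hx]
    congr 1
    funext k
    induction k with
    | zero => rfl
    | succ k ih =>
      rw [Function.iterate_succ_apply', ih, aa_succ, hγ' _ (aa_mem d hdI hx k)]

end Final

end Helper91.DPPrime
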