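import Mathlib.RingTheory.DividedPowers.Basic
import Mathlib.Data.Nat.Choose.Lucas
import Mathlib.Data.Nat.Prime.Factorial
import Mathlib.Combinatorics.Enumerative.Bell
import Mathlib.Tactic

/-!
# Divided powers determined by the `p`-th one: the universal formulas (helper91)
-/

namespace Helper91.DPPrime

open Nat

variable {A : Type*} [CommRing A]

/-- `β q r = (pq+r)! / ((p!)^q q!)`. -/
def β (p q r : ℕ) : ℕ := Nat.uniformBell q p * (r.factorial * (p * q + r).choose r)

theorem β_mul (p q r : ℕ) (hp : p ≠ 0) :
    β p q r * (p.factorial ^ q * q.factorial) = (p * q + r).factorial := by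
  unfold β
  have h1 := Nat.uniformBell_mul_eq q hp
  have h2 := Nat.add_choose_mul_factorial_mul_factorial (p * q) r
  rw [mul_comm q p] at h1
  calc Nat.uniformBell q p * (r.factorial * (p * q + r).choose r) *
        (p.factorial ^ q * q.factorial)
      = (Nat.uniformBell q p * p.factorial ^ q * q.factorial) *
        (r.factorial * (p * q + r).choose r) := by ring
    _ = (p * q).factorial * (r.factorial * (p * q + r).choose r) := by rw [h1]
    _ = (p * q + r).factorial := by rw [← h2]; ring

theorem β_zero_one (p : ℕ) : β p 0 1 = 1 := by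
  simp [β, Nat.uniformBell_zero_left]

theorem β_one_zero (p : ℕ) : β p 1 0 = 1 := by
  simp [β, Nat.uniformBell_one_left]

theorem not_dvd_choose {p : ℕ} (hp : p.Prime) (q r : ℕ) (hr : r < p) :
    ¬ p ∣ (p * q + r).choose r := by
  have : Fact p.Prime := ⟨hp⟩
  intro h
  have h1 := Choose.choose_modEq_choose_mod_mul_choose_div_nat (n := p * q + r) (k := r) (p := p)
  have e1 : (p * q + r) % p = r := by rw [Nat.mul_add_mod, Nat.mod_eq_of_lt hr]
  have e2 : (p * q + r) / p = q := by
    rw [Nat.mul_add_div hp.pos, Nat.div_eq_of_lt hr, add_zero]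
  rw [e1, e2, Nat.mod_eq_of_lt hr, Nat.div_eq_of_lt hr, Nat.choose_self, Nat.choose_zero_right,
    mul_one] at h1
  have h2 : (p * q + r).choose r ≡ 0 [MOD p] := (Nat.modEq_zero_iff_dvd).mpr h
  have h3 : 1 ≡ 0 [MOD p] := h1.symm.trans h2
  have h4 : p ∣ 1 := (Nat.modEq_zero_iff_dvd).mp h3
  exact hp.one_lt.ne' (Nat.dvd_one.mp h4)

theorem not_dvd_uniformBell {p : ℕ} (hp : p.Prime) (q : ℕ) : ¬ p ∣ Nat.uniformBell q p := by
  induction q with
  | zero =>
    rw [Nat.uniformBell_zero_left]
    intro h
    exact hp.one_lt.ne' (Nat.dvd_one.mp h)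
  | succ q ih =>
    rw [Nat.uniformBell_succ_left, hp.dvd_mul]
    push Not
    refine ⟨?_, ih⟩
    have e : q * p + p - 1 = p * q + (p - 1) := by
      have := hp.pos
      rw [mul_comm q p]; omega
    rw [e]
    exact not_dvd_choose hp q (p - 1) (by have := hp.pos; omega)

theorem not_dvd_β {p : ℕ} (hp : p.Prime) (q r : ℕ) (hr : r < p) : ¬ p ∣ β p q r := by
  unfold β
  rw [hp.dvd_mul, hp.dvd_mul, Nat.Prime.dvd_factorial hp]
  push Not
  exact ⟨not_dvd_uniformBell hp q, hr, not_dvd_choose hp q r hr⟩

/-- The universal formula for the `n`-th divided power in terms of the iterated `p`-th ones. -/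
noncomputable def g (p : ℕ) : ℕ → (ℕ → A) → A
  | 0, _ => 1
  | (n + 1), a =>
    if hp : 2 ≤ p then
      Ring.inverse ((β p ((n + 1) / p) ((n + 1) % p) : ℕ) : A) * a 0 ^ ((n + 1) % p) *
        g p ((n + 1) / p) (fun k => a (k + 1))
    else 0
termination_by n => n
decreasing_by exact Nat.div_lt_self (Nat.succ_pos n) hp

theorem g_zero (p : ℕ) (a : ℕ → A) : g p 0 a = 1 := by
  rw [g]

theorem g_pos {p : ℕ} (hp : 2 ≤ p) {n : ℕ} (hn : n ≠ 0) (a : ℕ → A) :
    g p n a = Ring.inverse ((β p (n / p) (n % p) : ℕ) : A) * a 0 ^ (n % p) *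
      g p (n / p) (fun k => a (k + 1)) := by
  cases n with
  | zero => exact absurd rfl hn
  | succ n => rw [g, dif_pos hp]

theorem g_decomp {p : ℕ} (hp : 2 ≤ p) (q r : ℕ) (hr : r < p) (h : p * q + r ≠ 0) (a : ℕ → A) :
    g p (p * q + r) a = Ring.inverse ((β p q r : ℕ) : A) * a 0 ^ r *
      g p q (fun k => a (k + 1)) := by
  have e1 : (p * q + r) % p = r := by rw [Nat.mul_add_mod, Nat.mod_eq_of_lt hr]
  have e2 : (p * q + r) / p = q := by
    rw [Nat.mul_add_div (by omega), Nat.div_eq_of_lt hr, add_zero]
  rw [g_pos hp h, e1, e2]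

theorem g_one {p : ℕ} (hp : 2 ≤ p) (a : ℕ → A) : g p 1 a = a 0 := by
  have := g_decomp hp 0 1 (by omega) (by omega) a
  rw [mul_zero, zero_add] at this
  rw [this, β_zero_one, Nat.cast_one, Ring.inverse_one, g_zero, pow_one, one_mul, mul_one]

theorem g_p {p : ℕ} (hp : 2 ≤ p) (a : ℕ → A) : g p p a = a 1 := by
  have := g_decomp hp 1 0 (by omega) (by omega) a
  rw [mul_one, add_zero] at this
  rw [this, β_one_zero, Nat.cast_one, Ring.inverse_one, pow_zero, one_mul, one_mul, g_one hp]

section Mul

variable {p : ℕ} (hp : p.Prime) (hA : ∀ n : ℕ, ¬ p ∣ n → IsUnit (n : A))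

include hp hA in
theorem isUnit_β (q r : ℕ) (hr : r < p) : IsUnit ((β p q r : ℕ) : A) :=
  hA _ (not_dvd_β hp q r hr)

theorem choose_id1 {p : ℕ} (hp0 : p ≠ 0) (q r q' r' : ℕ) :
    (q + q').choose q * β p (q + q') (r + r') =
      ((p * q + r) + (p * q' + r')).choose (p * q + r) * β p q r * β p q' r' := by
  have hK : 0 < (p.factorial ^ q * q.factorial) * (p.factorial ^ q' * q'.factorial) := by positivity
  apply Nat.eq_of_mul_eq_mul_right hK
  have h1 : (q + q').choose q * q.factorial * q'.factorial = (q + q').factorial := by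
    rw [Nat.choose_symm_add]; exact Nat.add_choose_mul_factorial_mul_factorial q q'
  have h2 := β_mul p (q + q') (r + r') hp0
  have h3 : ((p * q + r) + (p * q' + r')).choose (p * q + r) * (p * q + r).factorial *
      (p * q' + r').factorial = ((p * q + r) + (p * q' + r')).factorial := by
    rw [Nat.choose_symm_add]; exact Nat.add_choose_mul_factorial_mul_factorial _ _
  have h4 := β_mul p q r hp0
  have h5 := β_mul p q' r' hp0
  have e : (p * q + r) + (p * q' + r') = p * (q + q') + (r + r') := by ring
  calc (q + q').choose q * β p (q + q') (r + r') *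
        ((p.factorial ^ q * q.factorial) * (p.factorial ^ q' * q'.factorial))
      = β p (q + q') (r + r') * (p.factorial ^ (q + q') *
          ((q + q').choose q * q.factorial * q'.factorial)) := by rw [pow_add]; ring
    _ = (p * (q + q') + (r + r')).factorial := by rw [h1, h2]
    _ = ((p * q + r) + (p * q' + r')).factorial := by rw [e]
    _ = ((p * q + r) + (p * q' + r')).choose (p * q + r) *
          (β p q r * (p.factorial ^ q * q.factorial)) *
          (β p q' r' * (p.factorial ^ q' * q'.factorial)) := by rw [h4, h5, h3]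
    _ = _ := by ring

theorem choose_id2 {p : ℕ} (hp0 : p ≠ 0) (q r q' r' r'' : ℕ) (hr'' : r + r' = p + r'') :
    p.factorial * (q + q').choose q * (q + q' + 1) * β p (q + q' + 1) r'' =
      ((p * q + r) + (p * q' + r')).choose (p * q + r) * β p q r * β p q' r' := by
  have hK : 0 < (p.factorial ^ q * q.factorial) * (p.factorial ^ q' * q'.factorial) := by positivity
  apply Nat.eq_of_mul_eq_mul_right hK
  have h1 : (q + q').choose q * q.factorial * q'.factorial = (q + q').factorial := by
    rw [Nat.choose_symm_add]; exact Nat.add_choose_mul_factorial_mul_factorial q q'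
  have h2 := β_mul p (q + q' + 1) r'' hp0
  have h3 : ((p * q + r) + (p * q' + r')).choose (p * q + r) * (p * q + r).factorial *
      (p * q' + r').factorial = ((p * q + r) + (p * q' + r')).factorial := by
    rw [Nat.choose_symm_add]; exact Nat.add_choose_mul_factorial_mul_factorial _ _
  have h4 := β_mul p q r hp0
  have h5 := β_mul p q' r' hp0
  have e : (p * q + r) + (p * q' + r') = p * (q + q' + 1) + r'' := by
    have : (p * q + r) + (p * q' + r') = p * (q + q') + (r + r') := by ring
    rw [this, hr'']; ring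
  have h6 : (q + q' + 1).factorial = (q + q' + 1) * (q + q').factorial := Nat.factorial_succ _
  calc p.factorial * (q + q').choose q * (q + q' + 1) * β p (q + q' + 1) r'' *
        ((p.factorial ^ q * q.factorial) * (p.factorial ^ q' * q'.factorial))
      = β p (q + q' + 1) r'' * (p.factorial ^ (q + q' + 1) *
          ((q + q' + 1) * ((q + q').choose q * q.factorial * q'.factorial))) := by
        rw [pow_succ, pow_add]; ring
    _ = (p * (q + q' + 1) + r'').factorial := by rw [h1, ← h6, h2]
    _ = ((p * q + r) + (p * q' + r')).factorial := by rw [e]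
    _ = ((p * q + r) + (p * q' + r')).choose (p * q + r) *
          (β p q r * (p.factorial ^ q * q.factorial)) *
          (β p q' r' * (p.factorial ^ q' * q'.factorial)) := by rw [h4, h5, h3]
    _ = _ := by ring

include hp hA in
theorem g_mul : ∀ (N : ℕ) (a : ℕ → A), (∀ k, a k ^ p = (p.factorial : A) * a (k + 1)) →
    ∀ n m, n + m ≤ N → g p n a * g p m a = ((n + m).choose n : A) * g p (n + m) a := by
  intro N
  induction N with
  | zero =>
    intro a _ n m h
    obtain ⟨rfl, rfl⟩ : n = 0 ∧ m = 0 := by omega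
    simp [g_zero]
  | succ N ih =>
    intro a ha n m h
    by_cases hn : n = 0
    · subst hn; simp [g_zero]
    by_cases hm : m = 0
    · subst hm; simp [g_zero]
    have hp2 : 2 ≤ p := hp.two_le
    have hp0 : p ≠ 0 := hp.ne_zero
    have ha' : ∀ k, (fun k => a (k + 1)) k ^ p =
        (p.factorial : A) * (fun k => a (k + 1)) (k + 1) := fun k => ha (k + 1)
    obtain ⟨q, r, hr, rfl⟩ : ∃ q r, r < p ∧ n = p * q + r :=
      ⟨n / p, n % p, Nat.mod_lt _ hp.pos, (Nat.div_add_mod n p).symm⟩
    obtain ⟨q', r', hr', rfl⟩ : ∃ q r, r < p ∧ m = p * q + r :=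
      ⟨m / p, m % p, Nat.mod_lt _ hp.pos, (Nat.div_add_mod m p).symm⟩
    have b1 : 2 * q ≤ p * q := Nat.mul_le_mul_right q hp2
    have b2 : 2 * q' ≤ p * q' := Nat.mul_le_mul_right q' hp2
    have hu := Ring.inverse_mul_cancel _ (isUnit_β hp hA q r hr)
    have hu' := Ring.inverse_mul_cancel _ (isUnit_β hp hA q' r' hr')
    have IH1 := ih (fun k => a (k + 1)) ha' q q' (by omega)
    rw [g_decomp hp2 q r hr hn a, g_decomp hp2 q' r' hr' hm a]
    by_cases hc : r + r' < p
    · have e : (p * q + r) + (p * q' + r') = p * (q + q') + (r + r') := by ring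
      have hne : p * (q + q') + (r + r') ≠ 0 := by rw [← e]; omega
      have hu'' := Ring.inverse_mul_cancel _ (isUnit_β hp hA (q + q') (r + r') hc)
      have hid := congrArg (Nat.cast (R := A)) (choose_id1 hp0 q r q' r')
      push_cast at hid
      have e1 : Ring.inverse ((β p q r : ℕ) : A) * Ring.inverse ((β p q' r' : ℕ) : A) *
          ((q + q').choose q : A) =
          (((p * q + r) + (p * q' + r')).choose (p * q + r) : A) *
            Ring.inverse ((β p (q + q') (r + r') : ℕ) : A) := by
        calc Ring.inverse ((β p q r : ℕ) : A) * Ring.inverse ((β p q' r' : ℕ) : A) *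
              ((q + q').choose q : A)
            = Ring.inverse ((β p q r : ℕ) : A) * Ring.inverse ((β p q' r' : ℕ) : A) *
              ((q + q').choose q : A) * (Ring.inverse ((β p (q + q') (r + r') : ℕ) : A) *
                ((β p (q + q') (r + r') : ℕ) : A)) := by rw [hu'', mul_one]
          _ = Ring.inverse ((β p q r : ℕ) : A) * Ring.inverse ((β p q' r' : ℕ) : A) *
              (((q + q').choose q : A) * ((β p (q + q') (r + r') : ℕ) : A)) *
                Ring.inverse ((β p (q + q') (r + r') : ℕ) : A) := by ring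
          _ = (((p * q + r) + (p * q' + r')).choose (p * q + r) : A) *
              (Ring.inverse ((β p q r : ℕ) : A) * ((β p q r : ℕ) : A)) *
              (Ring.inverse ((β p q' r' : ℕ) : A) * ((β p q' r' : ℕ) : A)) *
                Ring.inverse ((β p (q + q') (r + r') : ℕ) : A) := by rw [hid]; ring
          _ = _ := by rw [hu, hu']; ring
      have e2 : g p ((p * q + r) + (p * q' + r')) a =
          Ring.inverse ((β p (q + q') (r + r') : ℕ) : A) * a 0 ^ (r + r') *
            g p (q + q') (fun k => a (k + 1)) := by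
        rw [e]; exact g_decomp hp2 (q + q') (r + r') hc hne a
      rw [e2]
      calc Ring.inverse ((β p q r : ℕ) : A) * a 0 ^ r * g p q (fun k => a (k + 1)) *
            (Ring.inverse ((β p q' r' : ℕ) : A) * a 0 ^ r' * g p q' (fun k => a (k + 1)))
          = Ring.inverse ((β p q r : ℕ) : A) * Ring.inverse ((β p q' r' : ℕ) : A) *
            a 0 ^ (r + r') * (g p q (fun k => a (k + 1)) * g p q' (fun k => a (k + 1))) := by
            rw [pow_add]; ring
        _ = (Ring.inverse ((β p q r : ℕ) : A) * Ring.inverse ((β p q' r' : ℕ) : A) *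
            ((q + q').choose q : A)) * a 0 ^ (r + r') * g p (q + q') (fun k => a (k + 1)) := by
            rw [IH1]; ring
        _ = _ := by rw [e1]; ring
    · obtain ⟨r'', hr''⟩ := Nat.exists_eq_add_of_le (not_lt.mp hc)
      have hr''lt : r'' < p := by omega
      have e : (p * q + r) + (p * q' + r') = p * (q + q' + 1) + r'' := by
        have : (p * q + r) + (p * q' + r') = p * (q + q') + (r + r') := by ring
        rw [this, hr'']; ring
      have hne : p * (q + q' + 1) + r'' ≠ 0 := by rw [← e]; omega
      have b3 : 2 * (q + q' + 1) ≤ p * (q + q' + 1) := Nat.mul_le_mul_right _ hp2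
      have IH2 := ih (fun k => a (k + 1)) ha' 1 (q + q') (by omega)
      rw [g_one hp2, Nat.choose_one_right] at IH2
      have hu'' := Ring.inverse_mul_cancel _ (isUnit_β hp hA (q + q' + 1) r'' hr''lt)
      have hid := congrArg (Nat.cast (R := A)) (choose_id2 hp0 q r q' r' r'' hr'')
      push_cast at hid
      have e1 : Ring.inverse ((β p q r : ℕ) : A) * Ring.inverse ((β p q' r' : ℕ) : A) *
          ((p.factorial : A) * ((q + q').choose q : A) * ((q : A) + (q' : A) + 1)) =
          (((p * q + r) + (p * q' + r')).choose (p * q + r) : A) *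
            Ring.inverse ((β p (q + q' + 1) r'' : ℕ) : A) := by
        calc Ring.inverse ((β p q r : ℕ) : A) * Ring.inverse ((β p q' r' : ℕ) : A) *
              ((p.factorial : A) * ((q + q').choose q : A) * ((q : A) + (q' : A) + 1))
            = Ring.inverse ((β p q r : ℕ) : A) * Ring.inverse ((β p q' r' : ℕ) : A) *
              ((p.factorial : A) * ((q + q').choose q : A) * ((q : A) + (q' : A) + 1)) *
              (Ring.inverse ((β p (q + q' + 1) r'' : ℕ) : A) *
                ((β p (q + q' + 1) r'' : ℕ) : A)) := by rw [hu'', mul_one]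
          _ = Ring.inverse ((β p q r : ℕ) : A) * Ring.inverse ((β p q' r' : ℕ) : A) *
              ((p.factorial : A) * ((q + q').choose q : A) * ((q : A) + (q' : A) + 1) *
                ((β p (q + q' + 1) r'' : ℕ) : A)) *
                Ring.inverse ((β p (q + q' + 1) r'' : ℕ) : A) := by ring
          _ = (((p * q + r) + (p * q' + r')).choose (p * q + r) : A) *
              (Ring.inverse ((β p q r : ℕ) : A) * ((β p q r : ℕ) : A)) *
              (Ring.inverse ((β p q' r' : ℕ) : A) * ((β p q' r' : ℕ) : A)) *
                Ring.inverse ((β p (q + q' + 1) r'' : ℕ) : A) := by rw [hid]; ring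
          _ = _ := by rw [hu, hu']; ring
      have e2 : g p ((p * q + r) + (p * q' + r')) a =
          Ring.inverse ((β p (q + q' + 1) r'' : ℕ) : A) * a 0 ^ r'' *
            g p (q + q' + 1) (fun k => a (k + 1)) := by
        rw [e]; exact g_decomp hp2 (q + q' + 1) r'' hr''lt hne a
      have e3 : (1 + (q + q') : ℕ) = q + q' + 1 := by ring
      rw [e3] at IH2
      push_cast at IH2
      rw [e2]
      calc Ring.inverse ((β p q r : ℕ) : A) * a 0 ^ r * g p q (fun k => a (k + 1)) *
            (Ring.inverse ((β p q' r' : ℕ) : A) * a 0 ^ r' * g p q' (fun k => a (k + 1)))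
          = Ring.inverse ((β p q r : ℕ) : A) * Ring.inverse ((β p q' r' : ℕ) : A) *
            (a 0 ^ p * a 0 ^ r'') * (g p q (fun k => a (k + 1)) * g p q' (fun k => a (k + 1))) := by
            rw [← pow_add, ← hr'', pow_add]; ring
        _ = Ring.inverse ((β p q r : ℕ) : A) * Ring.inverse ((β p q' r' : ℕ) : A) *
            ((p.factorial : A) * a 0 ^ r'') * ((q + q').choose q : A) *
              (a 1 * g p (q + q') (fun k => a (k + 1))) := by
            rw [IH1, ha 0]; ring
        _ = (Ring.inverse ((β p q r : ℕ) : A) * Ring.inverse ((β p q' r' : ℕ) : A) *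
            ((p.factorial : A) * ((q + q').choose q : A) * ((q : A) + (q' : A) + 1))) *
              a 0 ^ r'' * g p (q + q' + 1) (fun k => a (k + 1)) := by
            rw [IH2]; ring
        _ = _ := by rw [e1]; ring

include hp hA in
theorem g_mul' (a : ℕ → A) (ha : ∀ k, a k ^ p = (p.factorial : A) * a (k + 1)) (n m : ℕ) :
    g p n a * g p m a = ((n + m).choose n : A) * g p (n + m) a :=
  g_mul hp hA (n + m) a ha n m le_rfl

end Mul


section More

variable {p : ℕ} (hp : p.Prime)

include hp in
/-- `g n a` lies in any ideal containing all `a k`, for `n ≠ 0`. -/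
theorem g_mem (𝔠 : Ideal A) : ∀ (n : ℕ) (a : ℕ → A), (∀ k, a k ∈ 𝔠) → n ≠ 0 → g p n a ∈ 𝔠 := by
  intro n
  induction n using Nat.strong_induction_on with
  | _ n ih =>
    intro a ha hn
    rw [g_pos hp.two_le hn]
    by_cases hr : n % p = 0
    · have hq : n / p ≠ 0 := by
        intro hq
        have := Nat.div_add_mod n p
        rw [hq, hr] at this
        omega
      have hlt : n / p < n := Nat.div_lt_self (Nat.pos_of_ne_zero hn) hp.one_lt
      exact Ideal.mul_mem_left _ _ (ih _ hlt (fun k => a (k + 1)) (fun k => ha (k + 1)) hq)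
    · exact Ideal.mul_mem_right _ _ (Ideal.mul_mem_left _ _ (Ideal.pow_mem_of_mem _ (ha 0) _
        (Nat.pos_of_ne_zero hr)))

theorem map_inverse_natCast {B : Type*} [CommRing B] (f : A →+* B) (n : ℕ) (h : IsUnit (n : A)) :
    f (Ring.inverse (n : A)) = Ring.inverse (n : B) := by
  have h' : IsUnit (n : B) := by
    have := h.map f
    rwa [map_natCast] at this
  have e1 : f (Ring.inverse (n : A)) * (n : B) = 1 := by
    rw [← map_natCast f, ← map_mul, Ring.inverse_mul_cancel _ h, map_one]
  calc f (Ring.inverse (n : A)) = f (Ring.inverse (n : A)) * ((n : B) * Ring.inverse (n : B)) := by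
        rw [Ring.mul_inverse_cancel _ h', mul_one]
    _ = (f (Ring.inverse (n : A)) * (n : B)) * Ring.inverse (n : B) := by ring
    _ = _ := by rw [e1, one_mul]

include hp in
theorem map_g (hA : ∀ n : ℕ, ¬ p ∣ n → IsUnit (n : A)) {B : Type*} [CommRing B] (f : A →+* B) :
    ∀ (n : ℕ) (a : ℕ → A), f (g p n a) = g p n (fun k => f (a k)) := by
  intro n
  induction n using Nat.strong_induction_on with
  | _ n ih =>
    intro a
    by_cases hn : n = 0
    · subst hn; rw [g_zero, g_zero, map_one]
    · have hlt : n / p < n := Nat.div_lt_self (Nat.pos_of_ne_zero hn) hp.one_lt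
      rw [g_pos hp.two_le hn, g_pos hp.two_le hn, map_mul, map_mul, map_pow,
        map_inverse_natCast f _ (isUnit_β hp hA _ _ (Nat.mod_lt _ hp.pos)), ih _ hlt]

/-- The constants `κ_k` with `g (p^k) a = κ_k⁻¹ a_k`. -/
def κ (p : ℕ) : ℕ → ℕ
  | 0 => 1
  | (k + 1) => β p (p ^ k) 0 * κ p k

include hp in
theorem not_dvd_κ (k : ℕ) : ¬ p ∣ κ p k := by
  induction k with
  | zero => intro h; exact hp.one_lt.ne' (Nat.dvd_one.mp h)
  | succ k ih =>
    rw [κ, hp.dvd_mul]
    push Not
    exact ⟨not_dvd_β hp _ _ hp.pos, ih⟩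

include hp in
theorem g_pow (k : ℕ) : ∀ a : ℕ → A, g p (p ^ k) a = Ring.inverse ((κ p k : ℕ) : A) * a k := by
  induction k with
  | zero =>
    intro a
    rw [pow_zero, g_one hp.two_le, κ, Nat.cast_one, Ring.inverse_one, one_mul]
  | succ k ih =>
    intro a
    have h := g_decomp hp.two_le (p ^ k) 0 hp.pos (by
      have : 0 < p ^ k := Nat.pos_of_ne_zero (pow_ne_zero _ hp.ne_zero)
      have := Nat.mul_pos hp.pos this
      omega) a
    rw [add_zero, ← pow_succ'] at h
    rw [h, ih, κ, pow_zero, mul_one, Nat.cast_mul, Ring.mul_inverse_rev]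
    ring

end More

section LemmaG

variable {p : ℕ} (hp : p.Prime) {C : Type*} [CommRing C] {K : Ideal C} (ε : DividedPowers K)
  (hC : ∀ n : ℕ, ¬ p ∣ n → IsUnit (n : C))

include hp in
theorem iterate_mem (k : ℕ) {z : C} (hz : z ∈ K) : (ε.dpow p)^[k] z ∈ K := by
  induction k with
  | zero => exact hz
  | succ k ih =>
    rw [Function.iterate_succ_apply']
    exact ε.dpow_mem hp.ne_zero ih

include hp hC in
/-- In a divided power ring where all primes `≠ p` are invertible, all divided powers are
given by the universal formula in terms of the iterated `p`-th divided powers. -/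
theorem dpow_eq_g : ∀ (n : ℕ) {z : C}, z ∈ K → ε.dpow n z = g p n (fun k => (ε.dpow p)^[k] z) := by
  intro n
  induction n using Nat.strong_induction_on with
  | _ n ih =>
    intro z hz
    by_cases hn : n = 0
    · subst hn; rw [g_zero, ε.dpow_zero hz]
    · obtain ⟨q, r, hr, rfl⟩ : ∃ q r, r < p ∧ n = p * q + r :=
        ⟨n / p, n % p, Nat.mod_lt _ hp.pos, (Nat.div_add_mod n p).symm⟩
      have hlt : q < p * q + r := by
        have := Nat.mul_le_mul_right q hp.two_le
        by_contra h
        have : q = 0 := by omega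
        subst this
        omega
      rw [g_decomp hp.two_le q r hr hn]
      have e1 : (fun k => (ε.dpow p)^[k + 1] z) = (fun k => (ε.dpow p)^[k] (ε.dpow p z)) := by
        funext k; rw [Function.iterate_succ_apply]
      rw [e1, ← ih q hlt (ε.dpow_mem hp.ne_zero hz), ε.dpow_comp hp.ne_zero hz]
      simp only [Function.iterate_zero, id_eq]
      rw [← ε.factorial_mul_dpow_eq_pow hz]
      have e2 : ε.dpow r z * ε.dpow (q * p) z = ((r + q * p).choose r : C) * ε.dpow (r + q * p) z :=
        ε.mul_dpow hz
      have e3 : r + q * p = p * q + r := by ring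
      rw [e3] at e2
      have hu := Ring.inverse_mul_cancel _ (isUnit_β hp hC q r hr)
      calc ε.dpow (p * q + r) z = (Ring.inverse ((β p q r : ℕ) : C) * ((β p q r : ℕ) : C)) *
            ε.dpow (p * q + r) z := by rw [hu, one_mul]
        _ = Ring.inverse ((β p q r : ℕ) : C) * ((Nat.uniformBell q p : C) * (r.factorial : C) *
            (((p * q + r).choose r : C) * ε.dpow (p * q + r) z)) := by
            unfold β; push_cast; ring
        _ = _ := by rw [← e2]; ring

end LemmaG

end Helper91.DPPrime
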