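import Groth.Agent.Lib.Helper91.DPGamma
import Mathlib.LinearAlgebra.Basis.Basic
import Mathlib.LinearAlgebra.BilinearMap

/-!
# The ring map from `Γ_ℤ(ℤ^ι)` to an abstract divided power polynomial algebra (helper91)
-/

namespace Helper91.DPGen

open DividedPowerAlgebra

variable {ι : Type*}

theorem coeff_arg (c : (ι →₀ ℕ) →₀ ℤ) (hg : ψ ι (c.sum fun n z => z • bb n) = 0) : c = 0 := by
  classical
  have hc : ∀ n, c n = 0 := by
    intro n
    have h1 := congrArg (MvPolynomial.coeff n) hg
    rw [map_finsuppSum] at h1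
    simp only [map_zsmul, ψ_bb, MvPolynomial.coeff_zero] at h1
    unfold Finsupp.sum at h1
    rw [MvPolynomial.coeff_sum] at h1
    simp only [MvPolynomial.coeff_smul, MvPolynomial.coeff_monomial] at h1
    rw [Finset.sum_eq_single n] at h1
    · simp only [if_true, zsmul_eq_mul] at h1
      rcases mul_eq_zero.mp h1 with h2 | h2
      · exact_mod_cast h2
      · exact absurd h2 (cc_ne_zero n)
    · intro b _ hb
      rw [if_neg hb, smul_zero]
    · intro hn
      rw [Finsupp.notMem_support_iff.mp hn, zero_smul]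
  exact Finsupp.ext hc

theorem bb_linearIndependent : LinearIndependent ℤ (bb : (ι →₀ ℕ) → DividedPowerAlgebra ℤ (ι →₀ ℤ)) := by
  rw [linearIndependent_iff]
  intro l hl
  apply coeff_arg l
  rw [Finsupp.linearCombination_apply] at hl
  rw [hl, map_zero]

/-- The monomial `ℤ`-basis of `Γ_ℤ(ℤ^ι)`. -/
noncomputable def basisΓ (ι : Type*) : Module.Basis (ι →₀ ℕ) ℤ (DividedPowerAlgebra ℤ (ι →₀ ℤ)) :=
  Module.Basis.mk bb_linearIndependent (by rw [span_bb])

@[simp] theorem basisΓ_apply (n : ι →₀ ℕ) : basisΓ ι n = bb n := by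
  simp [basisΓ]

/-- The structure constants. -/
def KK [DecidableEq ι] (n n' : ι →₀ ℕ) : ℕ :=
  ∏ i ∈ n.support ∪ n'.support, (n i + n' i).choose (n i)

section

variable [DecidableEq ι]

theorem cc_mul (n n' : ι →₀ ℕ) : cc n * cc n' = (KK n n' : ℚ) * cc (n + n') := by
  unfold cc KK
  have hs : (n + n').support ⊆ n.support ∪ n'.support := Finsupp.support_add
  rw [Finsupp.prod_of_support_subset n Finset.subset_union_left _ (by intros; simp),
    Finsupp.prod_of_support_subset n' Finset.subset_union_right _ (by intros; simp),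
    Finsupp.prod_of_support_subset (n + n') hs _ (by intros; simp)]
  push_cast
  rw [← Finset.prod_mul_distrib, ← Finset.prod_mul_distrib]
  apply Finset.prod_congr rfl
  intro i _
  try simp only [Pi.add_apply]
  have h := Nat.add_choose_mul_factorial_mul_factorial (n i) (n' i)
  rw [← Nat.choose_symm_add] at h
  have h' : ((n i + n' i).choose (n i) : ℚ) * (n i).factorial * (n' i).factorial =
      (n i + n' i).factorial := by exact_mod_cast h
  have h1 : ((n i).factorial : ℚ) ≠ 0 := Nat.cast_ne_zero.mpr (Nat.factorial_ne_zero _)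
  have h2 : ((n' i).factorial : ℚ) ≠ 0 := Nat.cast_ne_zero.mpr (Nat.factorial_ne_zero _)
  have h3 : ((n i + n' i).factorial : ℚ) ≠ 0 := Nat.cast_ne_zero.mpr (Nat.factorial_ne_zero _)
  have h4 : (((n i + n' i).choose (n i) : ℕ) : ℚ) ≠ 0 :=
    Nat.cast_ne_zero.mpr (Nat.choose_pos (Nat.le_add_right _ _)).ne'
  rw [← h']
  field_simp

theorem bb_mul (n n' : ι →₀ ℕ) :
    bb n * bb n' = (KK n n' : DividedPowerAlgebra ℤ (ι →₀ ℤ)) * bb (n + n') := by
  apply ψ_injective
  rw [map_mul, map_mul, map_natCast, ψ_bb, ψ_bb, ψ_bb, MvPolynomial.monomial_mul, cc_mul]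
  rw [← MvPolynomial.C_eq_coe_nat, MvPolynomial.C_mul_monomial]

end

section ToP

variable {P : Type*} [CommRing P] (x : ι → ℕ → P) (hx0 : ∀ i, x i 0 = 1)
  (hxmul : ∀ i n m, x i n * x i m = ((n + m).choose n : P) * x i (n + m))

/-- The monomials of `P`. -/
def mon (e : ι →₀ ℕ) : P := e.prod (fun i k => x i k)

include hx0 hxmul in
theorem mon_mul [DecidableEq ι] (n n' : ι →₀ ℕ) :
    mon x n * mon x n' = (KK n n' : P) * mon x (n + n') := by
  unfold mon KK
  have hs : (n + n').support ⊆ n.support ∪ n'.support := Finsupp.support_add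
  rw [Finsupp.prod_of_support_subset n Finset.subset_union_left _ (by intros; exact hx0 _),
    Finsupp.prod_of_support_subset n' Finset.subset_union_right _ (by intros; exact hx0 _),
    Finsupp.prod_of_support_subset (n + n') hs _ (by intros; exact hx0 _)]
  push_cast
  rw [← Finset.prod_mul_distrib, ← Finset.prod_mul_distrib]
  apply Finset.prod_congr rfl
  intro i _
  try simp only [Pi.add_apply]
  exact hxmul i (n i) (n' i)

/-- The `ℤ`-linear map `Γ_ℤ(ℤ^ι) → P` sending monomials to monomials. -/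
noncomputable def θL : DividedPowerAlgebra ℤ (ι →₀ ℤ) →ₗ[ℤ] P :=
  (basisΓ ι).constr ℤ (mon x)

theorem θL_bb (n : ι →₀ ℕ) : θL x (bb n) = mon x n := by
  rw [← basisΓ_apply, θL, Module.Basis.constr_basis]

include hx0 hxmul in
theorem θL_mul (g g' : DividedPowerAlgebra ℤ (ι →₀ ℤ)) : θL x (g * g') = θL x g * θL x g' := by
  classical
  have key : (LinearMap.mul ℤ (DividedPowerAlgebra ℤ (ι →₀ ℤ))).compr₂ (θL x) =
      (LinearMap.mul ℤ P).compl₁₂ (θL x) (θL x) := by
    apply (basisΓ ι).ext
    intro n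
    apply (basisΓ ι).ext
    intro n'
    simp only [basisΓ_apply, LinearMap.compr₂_apply, LinearMap.mul_apply', LinearMap.compl₁₂_apply]
    rw [bb_mul, θL_bb, θL_bb, mon_mul x hx0 hxmul, ← nsmul_eq_mul, map_nsmul, θL_bb, nsmul_eq_mul]
  have := LinearMap.congr_fun₂ key g g'
  simpa using this

/-- The ring map `Γ_ℤ(ℤ^ι) → P`. -/
noncomputable def θ : DividedPowerAlgebra ℤ (ι →₀ ℤ) →+* P where
  toFun := θL x
  map_one' := by
    have : (1 : DividedPowerAlgebra ℤ (ι →₀ ℤ)) = bb 0 := by simp [bb]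
    rw [this, θL_bb]; simp [mon]
  map_mul' := θL_mul x hx0 hxmul
  map_zero' := map_zero _
  map_add' := map_add _

theorem θ_bb (n : ι →₀ ℕ) : θ x hx0 hxmul (bb n) = mon x n := θL_bb x n

theorem θ_dp (i : ι) (k : ℕ) :
    θ x hx0 hxmul (dp ℤ k (Finsupp.single i (1 : ℤ))) = x i k := by
  have : dp ℤ k (Finsupp.single i (1 : ℤ)) = bb (Finsupp.single i k) := by
    unfold bb
    rw [Finsupp.prod_single_index]
    exact dp_zero
  rw [this, θ_bb]
  unfold mon
  rw [Finsupp.prod_single_index (hx0 i)]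

end ToP

end Helper91.DPGen
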