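import Mathlib

/-!
# A diamond lemma for commutative polynomial rings (weight-decreasing rewriting rules)
-/

namespace Helper91.Diamond

open MvPolynomial

variable {σ : Type*} {R : Type*} [CommRing R] {ι : Type*}

/-- weight of a monomial -/
def Φ (wt : σ → ℕ) (c : σ →₀ ℕ) : ℕ := c.sum fun v n => n * wt v

theorem Φ_add (wt : σ → ℕ) (c c' : σ →₀ ℕ) : Φ wt (c + c') = Φ wt c + Φ wt c' := by
  unfold Φ
  rw [Finsupp.sum_add_index']
  · intro v; simp
  · intro v a b; ring

theorem Φ_single (wt : σ → ℕ) (v : σ) (n : ℕ) : Φ wt (Finsupp.single v n) = n * wt v := by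
  unfold Φ
  rw [Finsupp.sum_single_index]; simp

@[simp] theorem Φ_zero (wt : σ → ℕ) : Φ wt (0 : σ →₀ ℕ) = 0 := by
  unfold Φ; simp

/-- a rewriting system -/
structure RS (σ : Type*) (R : Type*) [CommRing R] (ι : Type*) where
  μ : ι → σ →₀ ℕ
  t : ι → MvPolynomial σ R
  wt : σ → ℕ
  dec : ∀ i, ∀ c ∈ (t i).support, Φ wt c < Φ wt (μ i)

variable (S : RS σ R ι)

/-- the relation of a rule -/
noncomputable def RS.f (i : ι) : MvPolynomial σ R := monomial (S.μ i) 1 - S.t i

/-- the ideal of the relations -/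
noncomputable def RS.I : Ideal (MvPolynomial σ R) := Ideal.span (Set.range S.f)

/-- normal monomials -/
def RS.Normal (c : σ →₀ ℕ) : Prop := ∀ i, ¬ S.μ i ≤ c

/-- the span of monomial multiples of relations of weight below `N` -/
noncomputable def RS.Ilt (N : ℕ) : Submodule R (MvPolynomial σ R) :=
  Submodule.span R {g | ∃ u k, Φ S.wt u + Φ S.wt (S.μ k) < N ∧ g = monomial u 1 * S.f k}

/-- the confluence condition on a pair of rules -/
def RS.Confl (r s : ι) : Prop :=
  ∃ L : σ →₀ ℕ, S.μ r ≤ L ∧ S.μ s ≤ L ∧ (∀ c, S.μ r ≤ c → S.μ s ≤ c → L ≤ c) ∧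
    (monomial (L - S.μ r) 1 * S.t r - monomial (L - S.μ s) 1 * S.t s ∈ S.Ilt (Φ S.wt L))

section linear

/-- a linear map vanishing on the monomials of the support vanishes -/
theorem lin_mem_of_support {M : Type*} [AddCommGroup M] [Module R M] (A : MvPolynomial σ R →ₗ[R] M)
    (V : Submodule R M) (q : MvPolynomial σ R)
    (h : ∀ c ∈ q.support, A (monomial c 1) ∈ V) : A q ∈ V := by
  rw [q.as_sum, map_sum]
  apply Submodule.sum_mem
  intro c hc
  have : monomial c (coeff c q) = (coeff c q) • (monomial c 1 : MvPolynomial σ R) := by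
    rw [smul_monomial, smul_eq_mul, mul_one]
  rw [this, map_smul]
  exact V.smul_mem _ (h c hc)

theorem lin_ext_on_support {M : Type*} [AddCommGroup M] [Module R M] (A B : MvPolynomial σ R →ₗ[R] M)
    (q : MvPolynomial σ R)
    (h : ∀ c ∈ q.support, A (monomial c 1) = B (monomial c 1)) : A q = B q := by
  have := lin_mem_of_support (A - B) ⊥ q (by
    intro c hc
    rw [Submodule.mem_bot, LinearMap.sub_apply, h c hc, sub_self])
  rw [Submodule.mem_bot, LinearMap.sub_apply, sub_eq_zero] at this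
  exact this

end linear

/-- linear extension of a function on monomials -/
noncomputable def ext (g : (σ →₀ ℕ) → MvPolynomial σ R) : MvPolynomial σ R →ₗ[R] MvPolynomial σ R :=
  (basisMonomials σ R).constr R g

theorem ext_monomial (g : (σ →₀ ℕ) → MvPolynomial σ R) (c : σ →₀ ℕ) :
    ext g (monomial c 1) = g c := by
  have := (basisMonomials σ R).constr_basis R g c
  rwa [coe_basisMonomials] at this

open Classical in
/-- normal form with fuel -/
noncomputable def RS.nfN : ℕ → (σ →₀ ℕ) → MvPolynomial σ R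
  | 0, c => monomial c 1
  | n + 1, c =>
    if h : ∃ i, S.μ i ≤ c then
      ext (RS.nfN n) (monomial (c - S.μ (Classical.choose h)) 1 * S.t (Classical.choose h))
    else monomial c 1

theorem support_monomial_mul_t [DecidableEq σ] (u : σ →₀ ℕ) (i : ι) (c : σ →₀ ℕ)
    (hc : c ∈ (monomial u (1 : R) * S.t i).support) :
    ∃ c' ∈ (S.t i).support, c = u + c' := by
  have h1 := support_mul (monomial u (1 : R)) (S.t i) hc
  rw [Finset.mem_add] at h1
  obtain ⟨a, ha, b, hb, rfl⟩ := h1
  have := support_monomial_subset ha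
  rw [Finset.mem_singleton] at this
  subst this
  exact ⟨b, hb, rfl⟩

theorem Φ_lt_of_mem_support (u : σ →₀ ℕ) (i : ι) (c : σ →₀ ℕ)
    (hc : c ∈ (monomial u (1 : R) * S.t i).support) :
    Φ S.wt c < Φ S.wt u + Φ S.wt (S.μ i) := by
  classical
  obtain ⟨c', hc', rfl⟩ := support_monomial_mul_t S u i c hc
  rw [Φ_add]
  have := S.dec i c' hc'
  omega

theorem RS.nfN_stable (n : ℕ) : ∀ (n' : ℕ) (c : σ →₀ ℕ), Φ S.wt c < n → Φ S.wt c < n' →
    S.nfN n c = S.nfN n' c := by
  induction n with
  | zero => intro n' c h; omega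
  | succ n ih =>
    intro n' c h h'
    cases n' with
    | zero => omega
    | succ n' =>
      unfold RS.nfN
      by_cases hex : ∃ i, S.μ i ≤ c
      · rw [dif_pos hex, dif_pos hex]
        apply lin_ext_on_support
        intro c' hc'
        rw [ext_monomial, ext_monomial]
        have hlt := Φ_lt_of_mem_support S _ _ c' hc'
        have hle := Classical.choose_spec hex
        have hΦ : Φ S.wt (c - S.μ (Classical.choose hex)) + Φ S.wt (S.μ (Classical.choose hex)) = Φ S.wt c := by
          rw [← Φ_add, tsub_add_cancel_of_le hle]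
        apply ih n' c' <;> omega
      · rw [dif_neg hex, dif_neg hex]

/-- the normal form of a monomial -/
noncomputable def RS.nf (c : σ →₀ ℕ) : MvPolynomial σ R := S.nfN (Φ S.wt c + 1) c

/-- the normal form map -/
noncomputable def RS.NF : MvPolynomial σ R →ₗ[R] MvPolynomial σ R := ext S.nf

theorem RS.NF_monomial (c : σ →₀ ℕ) : S.NF (monomial c 1) = S.nf c := ext_monomial _ _

theorem RS.nf_of_normal (c : σ →₀ ℕ) (hc : S.Normal c) : S.nf c = monomial c 1 := by
  unfold RS.nf RS.nfN
  rw [dif_neg]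
  rintro ⟨i, hi⟩
  exact hc i hi

theorem RS.nf_of_le (c : σ →₀ ℕ) (hex : ∃ i, S.μ i ≤ c) :
    S.nf c = S.NF (monomial (c - S.μ (Classical.choose hex)) 1 * S.t (Classical.choose hex)) := by
  unfold RS.nf RS.nfN
  rw [dif_pos hex]
  apply lin_ext_on_support
  intro c' hc'
  rw [ext_monomial, NF_monomial]
  have hlt := Φ_lt_of_mem_support S _ _ c' hc'
  have hle := Classical.choose_spec hex
  have hΦ : Φ S.wt (c - S.μ (Classical.choose hex)) + Φ S.wt (S.μ (Classical.choose hex)) = Φ S.wt c := by
    rw [← Φ_add, tsub_add_cancel_of_le hle]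
  unfold RS.nf
  apply S.nfN_stable <;> omega


/-- polynomials supported on normal monomials -/
noncomputable def RS.V : Submodule R (MvPolynomial σ R) where
  carrier := {p | ∀ c ∈ p.support, S.Normal c}
  zero_mem' := by intro c hc; simp at hc
  add_mem' := by
    classical
    intro p q hp hq c hc
    rcases Finset.mem_union.mp (support_add hc) with h | h
    · exact hp c h
    · exact hq c h
  smul_mem' := by
    intro r p hp c hc
    exact hp c (support_smul hc)

theorem RS.mem_V (p : MvPolynomial σ R) : p ∈ S.V ↔ ∀ c ∈ p.support, S.Normal c := Iff.rfl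

theorem RS.monomial_mem_V (c : σ →₀ ℕ) (hc : S.Normal c) (r : R) : monomial c r ∈ S.V := by
  intro c' hc'
  have := support_monomial_subset hc'
  rw [Finset.mem_singleton] at this
  rw [this]; exact hc

theorem RS.nf_mem_V : ∀ (N : ℕ) (c : σ →₀ ℕ), Φ S.wt c = N → S.nf c ∈ S.V := by
  intro N
  induction N using Nat.strong_induction_on with
  | _ N ih =>
    intro c hcN
    by_cases hex : ∃ i, S.μ i ≤ c
    · rw [S.nf_of_le c hex]
      apply lin_mem_of_support
      intro c' hc'
      rw [NF_monomial]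
      have hlt := Φ_lt_of_mem_support S _ _ c' hc'
      have hle := Classical.choose_spec hex
      have hΦ : Φ S.wt (c - S.μ (Classical.choose hex)) + Φ S.wt (S.μ (Classical.choose hex)) = Φ S.wt c := by
        rw [← Φ_add, tsub_add_cancel_of_le hle]
      exact ih (Φ S.wt c') (by omega) c' rfl
    · rw [S.nf_of_normal c (fun i hi => hex ⟨i, hi⟩)]
      exact S.monomial_mem_V c (fun i hi => hex ⟨i, hi⟩) 1

theorem RS.f_mem_I (k : ι) : S.f k ∈ S.I := Ideal.subset_span ⟨k, rfl⟩

theorem RS.monomial_sub_nf_mem : ∀ (N : ℕ) (c : σ →₀ ℕ), Φ S.wt c = N →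
    monomial c 1 - S.nf c ∈ S.I := by
  intro N
  induction N using Nat.strong_induction_on with
  | _ N ih =>
    intro c hcN
    by_cases hex : ∃ i, S.μ i ≤ c
    · rw [S.nf_of_le c hex]
      have hle := Classical.choose_spec hex
      set i := Classical.choose hex with hi
      have hΦ : Φ S.wt (c - S.μ i) + Φ S.wt (S.μ i) = Φ S.wt c := by
        rw [← Φ_add, tsub_add_cancel_of_le hle]
      have h1 : (monomial c 1 : MvPolynomial σ R)
          = monomial (c - S.μ i) 1 * S.f i + monomial (c - S.μ i) 1 * S.t i := by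
        rw [RS.f, mul_sub, sub_add_cancel, monomial_mul, one_mul, tsub_add_cancel_of_le hle]
      rw [h1, add_sub_assoc]
      apply S.I.add_mem (S.I.mul_mem_left _ (S.f_mem_I i))
      -- q - NF q ∈ I
      have h2 := lin_mem_of_support (LinearMap.id - S.NF) (S.I.restrictScalars R)
        (monomial (c - S.μ i) 1 * S.t i) (by
          intro c' hc'
          have hlt := Φ_lt_of_mem_support S _ _ c' hc'
          rw [LinearMap.sub_apply, LinearMap.id_apply, NF_monomial]
          exact ih (Φ S.wt c') (by omega) c' rfl)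
      exact h2
    · rw [S.nf_of_normal c (fun i hi => hex ⟨i, hi⟩), sub_self]
      exact zero_mem _

/-- `p - NF p ∈ I` -/
theorem RS.sub_NF_mem (p : MvPolynomial σ R) : p - S.NF p ∈ S.I := by
  have h2 := lin_mem_of_support (LinearMap.id - S.NF) (S.I.restrictScalars R) p (by
    intro c _
    rw [LinearMap.sub_apply, LinearMap.id_apply, NF_monomial]
    exact S.monomial_sub_nf_mem _ c rfl)
  exact h2

theorem RS.NF_mem_V (p : MvPolynomial σ R) : S.NF p ∈ S.V := by
  apply lin_mem_of_support
  intro c _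
  rw [NF_monomial]
  exact S.nf_mem_V _ c rfl

theorem RS.NF_of_mem_V (p : MvPolynomial σ R) (hp : p ∈ S.V) : S.NF p = p := by
  have := lin_ext_on_support S.NF LinearMap.id p (by
    intro c hc
    rw [NF_monomial, LinearMap.id_apply]
    exact S.nf_of_normal c (hp c hc))
  simpa using this

theorem RS.Ilt_mono {N N' : ℕ} (h : N ≤ N') : S.Ilt N ≤ S.Ilt N' := by
  apply Submodule.span_mono
  rintro g ⟨u, k, hlt, rfl⟩
  exact ⟨u, k, by omega, rfl⟩

theorem RS.monomial_mul_mem_Ilt (u' : σ →₀ ℕ) (N : ℕ) (g : MvPolynomial σ R) (hg : g ∈ S.Ilt N) :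
    monomial u' 1 * g ∈ S.Ilt (Φ S.wt u' + N) := by
  have hmap : S.Ilt N ≤ (S.Ilt (Φ S.wt u' + N)).comap
      (LinearMap.mulLeft R (monomial u' (1 : R) : MvPolynomial σ R)) := by
    apply Submodule.span_le.mpr
    rintro g ⟨u, k, hlt, rfl⟩
    rw [SetLike.mem_coe, Submodule.mem_comap, LinearMap.mulLeft_apply]
    rw [← mul_assoc, monomial_mul, one_mul]
    apply Submodule.subset_span
    exact ⟨u' + u, k, by rw [Φ_add]; omega, rfl⟩
  exact hmap hg

/-- the key vanishing -/
theorem RS.NF_kills (hconf : ∀ r s, S.Confl r s) : ∀ (N : ℕ) (u : σ →₀ ℕ) (k : ι),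
    Φ S.wt u + Φ S.wt (S.μ k) = N → S.NF (monomial u 1 * S.f k) = 0 := by
  intro N
  induction N using Nat.strong_induction_on with
  | _ N ih =>
    intro u k hN
    -- NF kills Ilt N
    have hIlt : S.Ilt N ≤ LinearMap.ker S.NF := by
      apply Submodule.span_le.mpr
      rintro g ⟨u', k', hlt, rfl⟩
      exact ih _ hlt u' k' rfl
    set c := u + S.μ k with hc
    have hkc : S.μ k ≤ c := by rw [hc]; exact le_add_self
    have hex : ∃ i, S.μ i ≤ c := ⟨k, hkc⟩
    have hle := Classical.choose_spec hex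
    set i := Classical.choose hex with hi
    have h1 : monomial u 1 * S.f k = monomial c 1 - monomial u 1 * S.t k := by
      rw [RS.f, mul_sub, monomial_mul, one_mul]
    rw [h1, map_sub, NF_monomial, S.nf_of_le c hex, ← map_sub]
    -- the difference lies in Ilt N
    obtain ⟨L, hrL, hsL, hLmin, hS⟩ := hconf i k
    have hLc : L ≤ c := hLmin c hle hkc
    have hΦc : Φ S.wt c = N := by rw [hc, Φ_add]; exact hN
    have hmem := S.monomial_mul_mem_Ilt (c - L) _ _ hS
    have hΦ2 : Φ S.wt (c - L) + Φ S.wt L = N := by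
      rw [← Φ_add, tsub_add_cancel_of_le hLc]; exact hΦc
    rw [hΦ2] at hmem
    have hu : u = c - S.μ k := by rw [hc, add_tsub_cancel_right]
    have h2 : monomial (c - L) 1 * (monomial (L - S.μ i) 1 * S.t i - monomial (L - S.μ k) 1 * S.t k)
        = monomial (c - S.μ i) 1 * S.t i - monomial u 1 * S.t k := by
      rw [mul_sub, ← mul_assoc, ← mul_assoc, monomial_mul, monomial_mul, one_mul,
        tsub_add_tsub_cancel hLc hrL, tsub_add_tsub_cancel hLc hsL, ← hu]
    rw [h2] at hmem
    exact hIlt hmem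


/-- the `R`-span of the monomial multiples of the relations -/
noncomputable def RS.T : Submodule R (MvPolynomial σ R) :=
  Submodule.span R {g | ∃ u k, g = monomial u 1 * S.f k}

theorem RS.monomial_mul_mem_T (w : σ →₀ ℕ) (r : R) (x : MvPolynomial σ R) (hx : x ∈ S.T) :
    monomial w r * x ∈ S.T := by
  have hmap : S.T ≤ S.T.comap (LinearMap.mulLeft R (monomial w r : MvPolynomial σ R)) := by
    apply Submodule.span_le.mpr
    rintro g ⟨u, k, rfl⟩
    rw [SetLike.mem_coe, Submodule.mem_comap, LinearMap.mulLeft_apply]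
    rw [← mul_assoc, monomial_mul, mul_one]
    have : (monomial (w + u) r : MvPolynomial σ R) = r • monomial (w + u) 1 := by
      rw [smul_monomial, smul_eq_mul, mul_one]
    rw [this, smul_mul_assoc]
    apply S.T.smul_mem
    apply Submodule.subset_span
    exact ⟨w + u, k, rfl⟩
  exact hmap hx

theorem RS.mul_mem_T (a x : MvPolynomial σ R) (hx : x ∈ S.T) : a * x ∈ S.T := by
  rw [a.as_sum, Finset.sum_mul]
  apply Submodule.sum_mem
  intro c _
  exact S.monomial_mul_mem_T c _ x hx

theorem RS.I_le_T : S.I.restrictScalars R ≤ S.T := by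
  intro p hp
  have hp' : p ∈ Submodule.span (MvPolynomial σ R) (Set.range S.f) := hp
  induction hp' using Submodule.span_induction with
  | mem x hx =>
    obtain ⟨k, rfl⟩ := hx
    apply Submodule.subset_span
    refine ⟨0, k, ?_⟩
    rw [show (monomial (0 : σ →₀ ℕ) (1 : R)) = 1 from rfl, one_mul]
  | zero => exact zero_mem _
  | add x y _ _ hx hy => exact S.T.add_mem (hx (by assumption)) (hy (by assumption))
  | smul a x _ hx => exact S.mul_mem_T a x (hx (by assumption))

theorem RS.NF_of_mem_I (hconf : ∀ r s, S.Confl r s) (p : MvPolynomial σ R) (hp : p ∈ S.I) :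
    S.NF p = 0 := by
  have hT : S.T ≤ LinearMap.ker S.NF := by
    apply Submodule.span_le.mpr
    rintro g ⟨u, k, rfl⟩
    exact S.NF_kills hconf _ u k rfl
  exact hT (S.I_le_T hp)

/-- **Diamond lemma, independence**: an element of the ideal supported on normal monomials is zero. -/
theorem RS.indep (hconf : ∀ r s, S.Confl r s) (p : MvPolynomial σ R) (hpI : p ∈ S.I)
    (hpV : ∀ c ∈ p.support, S.Normal c) : p = 0 := by
  rw [← S.NF_of_mem_V p hpV]
  exact S.NF_of_mem_I hconf p hpI

/-- **Diamond lemma, spanning**: every polynomial is congruent to a normal one. -/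
theorem RS.spanning (p : MvPolynomial σ R) :
    ∃ q, (∀ c ∈ q.support, S.Normal c) ∧ p - q ∈ S.I :=
  ⟨S.NF p, S.NF_mem_V p, S.sub_NF_mem p⟩

/-! ### Tools for checking confluence -/

theorem RS.mul_f_mem_Ilt (p : MvPolynomial σ R) (k : ι) (N : ℕ)
    (h : ∀ c ∈ p.support, Φ S.wt c + Φ S.wt (S.μ k) < N) : p * S.f k ∈ S.Ilt N := by
  rw [p.as_sum, Finset.sum_mul]
  apply Submodule.sum_mem
  intro c hc
  have : (monomial c (coeff c p) : MvPolynomial σ R) = (coeff c p) • monomial c 1 := by
    rw [smul_monomial, smul_eq_mul, mul_one]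
  rw [this, smul_mul_assoc]
  apply (S.Ilt N).smul_mem
  apply Submodule.subset_span
  exact ⟨c, k, h c hc, rfl⟩

theorem RS.Confl.symm {r s : ι} (h : S.Confl r s) : S.Confl s r := by
  obtain ⟨L, h1, h2, h3, h4⟩ := h
  refine ⟨L, h2, h1, fun c hs hr => h3 c hr hs, ?_⟩
  have := (S.Ilt (Φ S.wt L)).neg_mem h4
  rwa [neg_sub] at this

theorem RS.Confl.of_eq {r s : ι} (hμ : S.μ r = S.μ s) (ht : S.t r = S.t s) : S.Confl r s := by
  refine ⟨S.μ r, le_rfl, hμ ▸ le_rfl, fun c hr _ => hr, ?_⟩
  rw [hμ, ht, sub_self]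
  exact zero_mem _

theorem RS.Confl.of_disjoint {r s : ι} (hd : ∀ v, S.μ r v = 0 ∨ S.μ s v = 0) : S.Confl r s := by
  refine ⟨S.μ r + S.μ s, le_self_add, le_add_self, ?_, ?_⟩
  · intro c hr hs
    rw [Finsupp.le_def] at hr hs ⊢
    intro v
    rw [Finsupp.add_apply]
    rcases hd v with h | h
    · rw [h, zero_add]; exact hs v
    · rw [h, add_zero]; exact hr v
  · rw [add_tsub_cancel_left, add_tsub_cancel_right]
    have h1 : monomial (S.μ s) 1 * S.t r - monomial (S.μ r) 1 * S.t s
        = S.t r * S.f s - S.t s * S.f r := by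
      rw [RS.f, RS.f]; ring
    rw [h1]
    apply (S.Ilt _).sub_mem
    · apply S.mul_f_mem_Ilt
      intro c hc
      have := S.dec r c hc
      rw [Φ_add]; omega
    · apply S.mul_f_mem_Ilt
      intro c hc
      have := S.dec s c hc
      rw [Φ_add]; omega

theorem RS.Confl.congr {r s r' s' : ι} (h : S.Confl r s) (hμr : S.μ r = S.μ r') (htr : S.t r = S.t r')
    (hμs : S.μ s = S.μ s') (hts : S.t s = S.t s') : S.Confl r' s' := by
  unfold RS.Confl at h ⊢
  rw [← hμr, ← htr, ← hμs, ← hts]
  exact h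

/-- overlap with a common part `g` and disjoint remainders `a`, `b` -/
theorem RS.Confl.of_split {r s : ι} (g a b : σ →₀ ℕ) (hr : S.μ r = g + a) (hs : S.μ s = g + b)
    (hd : ∀ v, a v = 0 ∨ b v = 0) (N : ℕ) (hN : Φ S.wt (g + a + b) = N)
    (h : monomial b 1 * S.t r - monomial a 1 * S.t s ∈ S.Ilt N) : S.Confl r s := by
  refine ⟨g + a + b, ?_, ?_, ?_, ?_⟩
  · rw [hr]; exact le_self_add
  · rw [hs, add_assoc, add_comm a b, ← add_assoc]; exact le_self_add
  · intro c hrc hsc
    rw [hr] at hrc
    rw [hs] at hsc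
    rw [Finsupp.le_def] at hrc hsc ⊢
    intro v
    have h1 := hrc v
    have h2 := hsc v
    simp only [Finsupp.add_apply] at h1 h2 ⊢
    rcases hd v with h0 | h0
    · rw [h0, add_zero]; exact h2
    · rw [h0, add_zero]; exact h1
  · have e1 : g + a + b - S.μ r = b := by rw [hr, add_tsub_cancel_left]
    have e2 : g + a + b - S.μ s = a := by
      rw [hs, add_assoc, add_comm a b, ← add_assoc, add_tsub_cancel_left]
    rw [e1, e2, hN]
    exact h

end Helper91.Diamond
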