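import Mathlib

/-!
# Independence of exponentials and a rigidity lemma (helper91)
-/

namespace Helper91.ExpRat

/-- Independence of distinct nonzero exponentials on `v ≥ 1`. -/
theorem indep_finset : ∀ (S : Finset ℂ) (c : ℂ → ℂ), (0 : ℂ) ∉ S →
    (∀ v : ℕ, v ≠ 0 → ∑ β ∈ S, c β * β ^ v = 0) → ∀ β ∈ S, c β = 0 := by
  intro S
  induction S using Finset.induction_on with
  | empty => intro c _ _ β hβ; simp at hβ
  | insert β₀ S hβ₀ ih =>
    intro c h0 h β hβ
    have h0S : (0 : ℂ) ∉ S := fun h' => h0 (Finset.mem_insert_of_mem h')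
    have hβ₀ne : β₀ ≠ 0 := fun h' => h0 (by rw [← h']; exact Finset.mem_insert_self _ _)
    have key : ∀ v : ℕ, v ≠ 0 → ∑ β ∈ S, (c β * (β - β₀)) * β ^ v = 0 := by
      intro v hv
      have e1 := h (v + 1) (Nat.succ_ne_zero v)
      have e2 := h v hv
      rw [Finset.sum_insert hβ₀] at e1 e2
      have : ∑ β ∈ S, (c β * (β - β₀)) * β ^ v =
          ∑ β ∈ S, c β * β ^ (v + 1) - β₀ * ∑ β ∈ S, c β * β ^ v := by
        rw [Finset.mul_sum, ← Finset.sum_sub_distrib]
        apply Finset.sum_congr rfl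
        intro β _
        rw [pow_succ]; ring
      rw [this]
      have e1' : ∑ β ∈ S, c β * β ^ (v + 1) = -(c β₀ * β₀ ^ (v + 1)) := by
        linear_combination e1
      have e2' : ∑ β ∈ S, c β * β ^ v = -(c β₀ * β₀ ^ v) := by linear_combination e2
      rw [e1', e2', pow_succ]; ring
    have hS := ih (fun β => c β * (β - β₀)) h0S key
    have hS' : ∀ β ∈ S, c β = 0 := by
      intro β hβS
      have := hS β hβS
      rcases mul_eq_zero.mp this with h1 | h1
      · exact h1
      · exfalso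
        apply hβ₀
        rw [← sub_eq_zero.mp h1]
        exact hβS
    rcases Finset.mem_insert.mp hβ with rfl | hβS
    · have e := h 1 one_ne_zero
      rw [Finset.sum_insert hβ₀, Finset.sum_eq_zero (fun β hβS => by rw [hS' β hβS, zero_mul]),
        add_zero, pow_one] at e
      exact (mul_eq_zero.mp e).resolve_right hβ₀ne
    · exact hS' β hβS

/-- Finsupp version. -/
theorem indep_finsupp (c : ℂ →₀ ℂ) (h0 : c 0 = 0)
    (h : ∀ v : ℕ, v ≠ 0 → c.sum (fun β a => a * β ^ v) = 0) : c = 0 := by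
  ext β
  by_cases hβ : β ∈ c.support
  · exact indep_finset c.support c (by rw [Finsupp.mem_support_iff]; exact fun h' => h' h0) h β hβ
  · rw [Finsupp.notMem_support_iff.mp hβ]; rfl

section Rigid

variable (q : ℂ) (hq : 1 < ‖q‖) (T : Finset ℂ) (n : ℂ → ℂ) (hT : ∀ α ∈ T, α ≠ 0)
  (D A : Polynomial ℂ) (hD : D ≠ 0)
  (hid : ∀ v : ℕ, v ≠ 0 → (∑ α ∈ T, n α * α ^ v) * D.eval (q ^ v) = A.eval (q ^ v))

/-- The coefficient function. -/
noncomputable def cc : ℂ →₀ ℂ :=
  (∑ α ∈ T, ∑ i ∈ Finset.range (D.natDegree + 1), Finsupp.single (α * q ^ i) (n α * D.coeff i)) -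
    ∑ i ∈ Finset.range (A.natDegree + 1), Finsupp.single (q ^ i) (A.coeff i)

include hid in
theorem cc_sum (v : ℕ) (hv : v ≠ 0) : (cc q T n D A).sum (fun β a => a * β ^ v) = 0 := by
  have hz : ∀ β : ℂ, (fun (β : ℂ) (a : ℂ) => a * β ^ v) β 0 = 0 := by intro β; simp
  have ha : ∀ (β b₁ b₂ : ℂ), (fun (β : ℂ) (a : ℂ) => a * β ^ v) β (b₁ + b₂) =
      (fun (β : ℂ) (a : ℂ) => a * β ^ v) β b₁ + (fun (β : ℂ) (a : ℂ) => a * β ^ v) β b₂ := by
    intro β b₁ b₂; simp only; ring
  unfold cc
  rw [Finsupp.sum_sub_index (by intros; ring)]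
  rw [← Finsupp.sum_finsetSum_index hz ha, ← Finsupp.sum_finsetSum_index hz ha]
  have e1 : ∀ α ∈ T, (∑ i ∈ Finset.range (D.natDegree + 1),
      Finsupp.single (α * q ^ i) (n α * D.coeff i)).sum (fun β a => a * β ^ v) =
      n α * α ^ v * D.eval (q ^ v) := by
    intro α _
    rw [← Finsupp.sum_finsetSum_index hz ha,
      Polynomial.eval_eq_sum_range, Finset.mul_sum]
    apply Finset.sum_congr rfl
    intro i _
    rw [Finsupp.sum_single_index (by ring), mul_pow, ← pow_mul, ← pow_mul, mul_comm i v]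
    ring
  rw [Finset.sum_congr rfl e1, ← Finset.sum_mul, hid v hv, Polynomial.eval_eq_sum_range]
  rw [sub_eq_zero]
  apply Finset.sum_congr rfl
  intro i _
  rw [Finsupp.sum_single_index (by ring), ← pow_mul, ← pow_mul, mul_comm i v]

include hq in
theorem q_ne_zero : q ≠ 0 := by
  intro h
  rw [h, norm_zero] at hq
  linarith

include hq hT in
theorem cc_zero : cc q T n D A 0 = 0 := by
  have hq0 := q_ne_zero q hq
  unfold cc
  rw [Finsupp.sub_apply, Finsupp.finsetSum_apply, Finsupp.finsetSum_apply]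
  rw [Finset.sum_eq_zero, Finset.sum_eq_zero, sub_zero]
  · intro i _
    rw [Finsupp.single_apply, if_neg (pow_ne_zero i hq0)]
  · intro α hα
    rw [Finsupp.finsetSum_apply]
    apply Finset.sum_eq_zero
    intro i _
    rw [Finsupp.single_apply, if_neg (mul_ne_zero (hT α hα) (pow_ne_zero i hq0))]

include hq hT hD hid in
/-- Rigidity: all exponents with non-zero coefficient are powers of `q`. -/
theorem rigid : ∀ α ∈ T, n α ≠ 0 → ∃ a b : ℕ, α * q ^ a = q ^ b := by
  have hq0 := q_ne_zero q hq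
  have hqpos : 0 < ‖q‖ := by linarith
  have hc : cc q T n D A = 0 :=
    indep_finsupp _ (cc_zero q hq T n hT D A) (cc_sum q T n D A hid)
  intro α₀ hα₀ hnα₀
  by_contra hcon
  push Not at hcon
  classical
  set T₀ := T.filter (fun α => n α ≠ 0 ∧ ∃ a b : ℕ, α * q ^ a = α₀ * q ^ b) with hT₀
  have hα₀T₀ : α₀ ∈ T₀ := by
    rw [hT₀, Finset.mem_filter]
    exact ⟨hα₀, hnα₀, 0, 0, rfl⟩
  obtain ⟨αs, hαs, hmax⟩ := Finset.exists_max_image T₀ (fun α => ‖α‖) ⟨α₀, hα₀T₀⟩
  rw [hT₀, Finset.mem_filter] at hαs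
  obtain ⟨hαsT, hnαs, as, bs, habs⟩ := hαs
  have hαs0 : αs ≠ 0 := hT αs hαsT
  set N := D.natDegree with hN
  have hval := DFunLike.congr_fun hc (αs * q ^ N)
  rw [Finsupp.zero_apply] at hval
  unfold cc at hval
  rw [Finsupp.sub_apply, Finsupp.finsetSum_apply, Finsupp.finsetSum_apply] at hval
  -- the `A` part vanishes
  have hA0 : ∑ i ∈ Finset.range (A.natDegree + 1),
      (Finsupp.single (q ^ i) (A.coeff i)) (αs * q ^ N) = 0 := by
    apply Finset.sum_eq_zero
    intro i _
    rw [Finsupp.single_apply, if_neg]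
    intro h
    apply hcon (bs + N) (i + as)
    calc α₀ * q ^ (bs + N) = (α₀ * q ^ bs) * q ^ N := by rw [pow_add]; ring
      _ = (αs * q ^ as) * q ^ N := by rw [habs]
      _ = (αs * q ^ N) * q ^ as := by ring
      _ = q ^ (i + as) := by rw [← h, pow_add]
  -- the `D` part is a single term
  have hD1 : ∑ α ∈ T, (∑ i ∈ Finset.range (N + 1),
      Finsupp.single (α * q ^ i) (n α * D.coeff i)) (αs * q ^ N) = n αs * D.coeff N := by
    rw [Finset.sum_eq_single αs]
    · rw [Finsupp.finsetSum_apply, Finset.sum_eq_single N]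
      · rw [Finsupp.single_apply, if_pos rfl]
      · intro i hi hiN
        rw [Finsupp.single_apply, if_neg]
        intro h
        apply hiN
        have := mul_left_cancel₀ hαs0 h
        exact pow_right_injective₀ hqpos (by linarith [hq]) (by
          have := congrArg norm this
          rwa [norm_pow, norm_pow] at this)
      · intro h; exact absurd (Finset.mem_range.mpr (Nat.lt_succ_self N)) h
    · intro α hαT hne
      rw [Finsupp.finsetSum_apply]
      apply Finset.sum_eq_zero
      intro i hi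
      rw [Finsupp.single_apply]
      split_ifs with h
      · by_cases hnα : n α = 0
        · rw [hnα, zero_mul]
        · exfalso
          have hiN : i ≤ N := Nat.lt_succ_iff.mp (Finset.mem_range.mp hi)
          have hαT₀ : α ∈ T₀ := by
            rw [hT₀, Finset.mem_filter]
            refine ⟨hαT, hnα, i + as, bs + N, ?_⟩
            calc α * q ^ (i + as) = (α * q ^ i) * q ^ as := by rw [pow_add]; ring
              _ = (αs * q ^ N) * q ^ as := by rw [h]
              _ = (αs * q ^ as) * q ^ N := by ring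
              _ = (α₀ * q ^ bs) * q ^ N := by rw [habs]
              _ = α₀ * q ^ (bs + N) := by rw [pow_add]; ring
          have hle := hmax α hαT₀
          have hnorm := congrArg norm h
          rw [norm_mul, norm_mul, norm_pow, norm_pow] at hnorm
          have hαspos : 0 < ‖αs‖ := norm_pos_iff.mpr hαs0
          rcases Nat.lt_or_ge i N with hlt | hge
          · have h1 : ‖q‖ ^ i < ‖q‖ ^ N := pow_lt_pow_right₀ hq hlt
            have hqi : 0 < ‖q‖ ^ i := pow_pos hqpos i
            have : ‖α‖ * ‖q‖ ^ i ≤ ‖αs‖ * ‖q‖ ^ i := mul_le_mul_of_nonneg_right hle hqi.le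
            have : ‖αs‖ * ‖q‖ ^ i < ‖αs‖ * ‖q‖ ^ N := mul_lt_mul_of_pos_left h1 hαspos
            linarith
          · have hiN' : i = N := le_antisymm hiN hge
            subst hiN'
            exact hne (mul_right_cancel₀ (pow_ne_zero _ hq0) h)
      · rfl
    · intro h; exact absurd hαsT h
  rw [hD1, hA0, sub_zero] at hval
  rcases mul_eq_zero.mp hval with h | h
  · exact hnαs h
  · exact hD (Polynomial.leadingCoeff_eq_zero.mp h)

end Rigid

end Helper91.ExpRat
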