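import Groth.Agent.Lib.Helper91.ExpRatRoots
import Groth.Agent.Lib.Helper91.ExpRatIndep

/-!
# Rational exponential sums force Laurent polynomials (helper91)
-/

namespace Helper91.ExpRat

open PowerSeries

theorem eval_of_mul_eq (F : RatFunc ℚ) (D A : Polynomial ℚ)
    (h : F * algebraMap (Polynomial ℚ) (RatFunc ℚ) D = algebraMap (Polynomial ℚ) (RatFunc ℚ) A)
    (x : ℚ) (hx : D.eval x ≠ 0) : F.eval (RingHom.id ℚ) x * D.eval x = A.eval x := by
  have hden : algebraMap (Polynomial ℚ) (RatFunc ℚ) F.denom ≠ 0 :=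
    RatFunc.algebraMap_ne_zero (RatFunc.denom_ne_zero F)
  have h1 : algebraMap (Polynomial ℚ) (RatFunc ℚ) (F.num * D) =
      algebraMap (Polynomial ℚ) (RatFunc ℚ) (A * F.denom) := by
    have hF : F * algebraMap (Polynomial ℚ) (RatFunc ℚ) F.denom =
        algebraMap (Polynomial ℚ) (RatFunc ℚ) F.num := by
      have := RatFunc.num_div_denom F
      rw [div_eq_iff hden] at this
      exact this.symm
    rw [map_mul, map_mul, ← h, ← hF]
    ring
  have h2 : F.num * D = A * F.denom := RatFunc.algebraMap_injective ℚ h1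
  have hdvd : F.denom ∣ D := by
    have : F.denom ∣ F.num * D := ⟨A, by rw [h2]; ring⟩
    exact (RatFunc.isCoprime_num_denom F).symm.dvd_of_dvd_mul_left this
  have hdx : F.denom.eval x ≠ 0 := by
    intro h0
    exact hx (Polynomial.eval_eq_zero_of_dvd_of_eval_eq_zero hdvd h0)
  have h3 := congrArg (Polynomial.eval x) h2
  rw [Polynomial.eval_mul, Polynomial.eval_mul] at h3
  unfold RatFunc.eval
  rw [Polynomial.eval₂_id, Polynomial.eval₂_id, div_mul_eq_mul_div, h3, mul_div_assoc,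
    div_self hdx, mul_one]

theorem closure_struct (q : ℤ) (hq : 1 < q) (F : RatFunc ℚ)
    (hF : F ∈ Subring.closure
      (({RatFunc.X, (RatFunc.X : RatFunc ℚ)⁻¹} : Set (RatFunc ℚ)) ∪
        Set.range fun n : ℕ => ((RatFunc.X : RatFunc ℚ) ^ (n + 1) - 1)⁻¹)) :
    ∃ D A : Polynomial ℚ, (∀ v : ℕ, v ≠ 0 → D.eval ((q : ℚ) ^ v) ≠ 0) ∧
      F * algebraMap (Polynomial ℚ) (RatFunc ℚ) D = algebraMap (Polynomial ℚ) (RatFunc ℚ) A := by
  have hq1 : (1 : ℚ) < (q : ℚ) := by exact_mod_cast hq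
  have hqv : ∀ v : ℕ, v ≠ 0 → (1 : ℚ) < (q : ℚ) ^ v := fun v hv => one_lt_pow₀ hq1 hv
  refine Subring.closure_induction (p := fun F _ => ∃ D A : Polynomial ℚ,
    (∀ v : ℕ, v ≠ 0 → D.eval ((q : ℚ) ^ v) ≠ 0) ∧
      F * algebraMap (Polynomial ℚ) (RatFunc ℚ) D = algebraMap (Polynomial ℚ) (RatFunc ℚ) A)
    ?_ ?_ ?_ ?_ ?_ ?_ hF
  · rintro F (hF | ⟨n, rfl⟩)
    · rcases hF with rfl | hF
      · exact ⟨1, Polynomial.X, fun v _ => by simp, by simp⟩
      · rw [Set.mem_singleton_iff] at hF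
        subst hF
        refine ⟨Polynomial.X, 1, fun v hv => ?_, ?_⟩
        · rw [Polynomial.eval_X]
          exact (lt_trans one_pos (hqv v hv)).ne'
        · rw [RatFunc.algebraMap_X, map_one, inv_mul_cancel₀ RatFunc.X_ne_zero]
    · refine ⟨Polynomial.X ^ (n + 1) - 1, 1, fun v hv => ?_, ?_⟩
      · rw [Polynomial.eval_sub, Polynomial.eval_pow, Polynomial.eval_X, Polynomial.eval_one]
        have : (1 : ℚ) < ((q : ℚ) ^ v) ^ (n + 1) := one_lt_pow₀ (hqv v hv) (Nat.succ_ne_zero n)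
        linarith
      · have e : algebraMap (Polynomial ℚ) (RatFunc ℚ) (Polynomial.X ^ (n + 1) - 1) =
            (RatFunc.X : RatFunc ℚ) ^ (n + 1) - 1 := by
          rw [map_sub, map_pow, RatFunc.algebraMap_X, map_one]
        have hne : (RatFunc.X : RatFunc ℚ) ^ (n + 1) - 1 ≠ 0 := by
          rw [← e]
          apply RatFunc.algebraMap_ne_zero
          intro h0
          have := congrArg (Polynomial.eval (2 : ℚ)) h0
          simp only [Polynomial.eval_sub, Polynomial.eval_pow, Polynomial.eval_X,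
            Polynomial.eval_one, Polynomial.eval_zero] at this
          have h2 : (1 : ℚ) < 2 ^ (n + 1) := one_lt_pow₀ (by norm_num) (Nat.succ_ne_zero n)
          linarith
        rw [e, map_one, inv_mul_cancel₀ hne]
  · exact ⟨1, 0, fun v _ => by simp, by simp⟩
  · exact ⟨1, 1, fun v _ => by simp, by simp⟩
  · rintro F F' _ _ ⟨D, A, hD, h⟩ ⟨D', A', hD', h'⟩
    refine ⟨D * D', A * D' + A' * D, fun v hv => ?_, ?_⟩
    · rw [Polynomial.eval_mul]; exact mul_ne_zero (hD v hv) (hD' v hv)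
    · rw [map_mul, map_add, map_mul, map_mul, ← h, ← h']; ring
  · rintro F _ ⟨D, A, hD, h⟩
    exact ⟨D, -A, hD, by rw [map_neg, ← h]; ring⟩
  · rintro F F' _ _ ⟨D, A, hD, h⟩ ⟨D', A', hD', h'⟩
    refine ⟨D * D', A * A', fun v hv => ?_, ?_⟩
    · rw [Polynomial.eval_mul]; exact mul_ne_zero (hD v hv) (hD' v hv)
    · rw [map_mul, map_mul, ← h, ← h']; ring

theorem reduce_PQ (s : ℕ → ℚ) (P Q : Polynomial ℚ) (hQ : Q ≠ 0)
    (h : Eser s * (Q : ℚ⟦X⟧) = (P : ℚ⟦X⟧)) :
    ∃ P₁ Q₁ : Polynomial ℚ, P₁.eval 0 ≠ 0 ∧ Q₁.eval 0 ≠ 0 ∧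
      Eser s * (Q₁ : ℚ⟦X⟧) = (P₁ : ℚ⟦X⟧) := by
  obtain ⟨Q₁, hQ₁, hnd⟩ := Polynomial.exists_eq_pow_rootMultiplicity_mul_and_not_dvd Q hQ 0
  set m := Q.rootMultiplicity 0 with hm
  rw [Polynomial.C_0, sub_zero] at hQ₁ hnd
  have hQ₁0 : Q₁.eval 0 ≠ 0 := by
    intro h0
    apply hnd
    have : (Polynomial.X - Polynomial.C (0 : ℚ)) ∣ Q₁ := Polynomial.dvd_iff_isRoot.mpr h0
    rwa [Polynomial.C_0, sub_zero] at this
  have hPdvd : Polynomial.X ^ m ∣ P := by
    rw [Polynomial.X_pow_dvd_iff]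
    intro d hd
    rw [← Polynomial.coeff_coe, ← h, hQ₁, Polynomial.coe_mul, Polynomial.coe_pow, Polynomial.coe_X]
    rw [show Eser s * (X ^ m * (Q₁ : ℚ⟦X⟧)) = X ^ m * (Eser s * (Q₁ : ℚ⟦X⟧)) by ring,
      coeff_X_pow_mul', if_neg (by omega)]
  obtain ⟨P₁, hP₁⟩ := hPdvd
  have hX : (X : ℚ⟦X⟧) ^ m ≠ 0 := pow_ne_zero _ X_ne_zero
  have h2 : Eser s * (Q₁ : ℚ⟦X⟧) = (P₁ : ℚ⟦X⟧) := by
    apply mul_left_cancel₀ hX
    rw [show X ^ m * (Eser s * (Q₁ : ℚ⟦X⟧)) = Eser s * (X ^ m * (Q₁ : ℚ⟦X⟧)) by ring]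
    have : (X : ℚ⟦X⟧) ^ m * (Q₁ : ℚ⟦X⟧) = (Q : ℚ⟦X⟧) := by
      rw [hQ₁, Polynomial.coe_mul, Polynomial.coe_pow, Polynomial.coe_X]
    rw [this, h, hP₁, Polynomial.coe_mul, Polynomial.coe_pow, Polynomial.coe_X]
  refine ⟨P₁, Q₁, ?_, hQ₁0, h2⟩
  have h3 := congrArg (coeff 0) h2
  rw [coeff_zero_eq_constantCoeff_apply, map_mul, ← coeff_zero_eq_constantCoeff_apply,
    ← coeff_zero_eq_constantCoeff_apply, coeff_zero_Eser, one_mul, Polynomial.coeff_coe,
    Polynomial.coeff_coe, Polynomial.coeff_zero_eq_eval_zero, Polynomial.coeff_zero_eq_eval_zero]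
    at h3
  rw [← h3]; exact hQ₁0


theorem main14193 (q : ℤ) (hq : 1 < q) (F : RatFunc ℚ)
    (hF : F ∈ Subring.closure
      (({RatFunc.X, (RatFunc.X : RatFunc ℚ)⁻¹} : Set (RatFunc ℚ)) ∪
        Set.range fun n : ℕ => ((RatFunc.X : RatFunc ℚ) ^ (n + 1) - 1)⁻¹))
    (hrat : ∃ P Q : Polynomial ℚ, Q ≠ 0 ∧
      (PowerSeries.exp ℚ).subst
          (PowerSeries.mk fun v : ℕ => if v = 0 then (0 : ℚ)
            else F.eval (RingHom.id ℚ) ((q : ℚ) ^ v) / (v : ℚ))
        * (Q : PowerSeries ℚ) = (P : PowerSeries ℚ)) :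
    ∃ (P : Polynomial ℤ) (a : ℕ),
      F * RatFunc.X ^ a = algebraMap (Polynomial ℚ) (RatFunc ℚ) (P.map (Int.castRingHom ℚ)) := by
  classical
  obtain ⟨D, A, hD, hFD⟩ := closure_struct q hq F hF
  obtain ⟨P, Q, hQ, hPQ⟩ := hrat
  set s : ℕ → ℚ := fun v => F.eval (RingHom.id ℚ) ((q : ℚ) ^ v) with hs
  have hPQ' : Eser s * (Q : ℚ⟦X⟧) = (P : ℚ⟦X⟧) := hPQ
  obtain ⟨P₁, Q₁, hP₁, hQ₁, h1⟩ := reduce_PQ s P Q hQ hPQ'
  have hsv := s_eq_roots s P₁ Q₁ hP₁ hQ₁ h1
  have hinj : Function.Injective (algebraMap ℚ ℂ) := (algebraMap ℚ ℂ).injective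
  have hroot0 : ∀ (R : Polynomial ℚ), R.eval 0 ≠ 0 → ∀ r ∈ (R.map (algebraMap ℚ ℂ)).roots, r ≠ 0 := by
    intro R hR r hr h0
    subst h0
    have := (Polynomial.mem_roots'.mp hr).2
    rw [Polynomial.IsRoot, Polynomial.eval_zero_map] at this
    exact hR (hinj (by rw [this, map_zero]))
  set MQ := (Q₁.map (algebraMap ℚ ℂ)).roots with hMQ
  set MP := (P₁.map (algebraMap ℚ ℂ)).roots with hMP
  have hMQ0 : ∀ r ∈ MQ, r ≠ 0 := hroot0 Q₁ hQ₁
  have hMP0 : ∀ r ∈ MP, r ≠ 0 := hroot0 P₁ hP₁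
  set U := MQ.toFinset ∪ MP.toFinset with hU
  have hU0 : ∀ r ∈ U, r ≠ 0 := by
    intro r hr
    rcases Finset.mem_union.mp hr with h | h
    · exact hMQ0 r (Multiset.mem_toFinset.mp h)
    · exact hMP0 r (Multiset.mem_toFinset.mp h)
  set nZ : ℂ → ℤ := fun r => (MQ.count r : ℤ) - (MP.count r : ℤ) with hnZ
  have hsum : ∀ (M : Multiset ℂ), M.toFinset ⊆ U → ∀ v : ℕ,
      (M.map (fun r => (r⁻¹) ^ v)).sum = ∑ r ∈ U, (M.count r : ℂ) * (r⁻¹) ^ v := by
    intro M hM v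
    rw [Finset.sum_multiset_map_count, Finset.sum_subset hM]
    · apply Finset.sum_congr rfl
      intro r _
      rw [nsmul_eq_mul]
    · intro r _ hr
      rw [Multiset.mem_toFinset] at hr
      rw [Multiset.count_eq_zero_of_notMem hr, zero_smul]
  have hs' : ∀ v : ℕ, v ≠ 0 → (s v : ℂ) = ∑ r ∈ U, (nZ r : ℂ) * (r⁻¹) ^ v := by
    intro v hv
    rw [hsv v hv, hsum MQ Finset.subset_union_left v, hsum MP Finset.subset_union_right v,
      ← Finset.sum_sub_distrib]
    apply Finset.sum_congr rfl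
    intro r _
    rw [hnZ]
    push_cast
    ring
  set T := U.image (fun r => r⁻¹) with hT
  set n : ℂ → ℂ := fun α => (nZ α⁻¹ : ℂ) with hn
  have hTsum : ∀ (g : ℂ → ℂ), ∑ α ∈ T, n α * g α = ∑ r ∈ U, (nZ r : ℂ) * g (r⁻¹) := by
    intro g
    rw [hT, Finset.sum_image (fun x _ y _ h => inv_injective h)]
    apply Finset.sum_congr rfl
    intro r _
    rw [hn]
    simp only [inv_inv]
  have hT0 : ∀ α ∈ T, α ≠ 0 := by
    intro α hα
    rw [hT, Finset.mem_image] at hα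
    obtain ⟨r, hr, rfl⟩ := hα
    exact inv_ne_zero (hU0 r hr)
  set qC : ℂ := ((q : ℤ) : ℂ) with hqC
  have hqCnorm : 1 < ‖qC‖ := by
    rw [hqC, Complex.norm_intCast]
    have : (1 : ℝ) < (q : ℝ) := by exact_mod_cast hq
    rw [abs_of_pos (by linarith)]
    exact this
  have hqC' : ∀ v : ℕ, algebraMap ℚ ℂ ((q : ℚ) ^ v) = qC ^ v := by
    intro v
    rw [hqC, map_pow]
    congr 1
  have hD0 : D ≠ 0 := by
    intro h0
    apply hD 1 one_ne_zero
    rw [h0, Polynomial.eval_zero]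
  have hD0' : D.map (algebraMap ℚ ℂ) ≠ 0 := by
    intro h0
    apply hD0
    exact Polynomial.map_injective _ hinj (by rw [h0, Polynomial.map_zero])
  have hsD : ∀ v : ℕ, v ≠ 0 → s v * D.eval ((q : ℚ) ^ v) = A.eval ((q : ℚ) ^ v) := fun v hv =>
    eval_of_mul_eq F D A hFD _ (hD v hv)
  have hid : ∀ v : ℕ, v ≠ 0 → (∑ α ∈ T, n α * α ^ v) * (D.map (algebraMap ℚ ℂ)).eval (qC ^ v) =
      (A.map (algebraMap ℚ ℂ)).eval (qC ^ v) := by
    intro v hv
    rw [hTsum (fun α => α ^ v), ← hs' v hv, ← hqC' v, Polynomial.eval_map, Polynomial.eval_map,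
      Polynomial.eval₂_at_apply, Polynomial.eval₂_at_apply, ← hsD v hv, map_mul]
    rfl
  have hrig := rigid qC hqCnorm T n hT0 (D.map (algebraMap ℚ ℂ)) (A.map (algebraMap ℚ ℂ)) hD0' hid
  have hqC0 : qC ≠ 0 := q_ne_zero qC hqCnorm
  choose! a b hab using hrig
  set T' := T.filter (fun α => n α ≠ 0) with hT'
  set aout := ∑ α ∈ T', a α with haout
  set L : Polynomial ℤ := ∑ α ∈ T', Polynomial.C (nZ α⁻¹) * Polynomial.X ^ (b α + (aout - a α)) with hL
  refine ⟨L, aout, ?_⟩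
  set Lq := L.map (Int.castRingHom ℚ) with hLq
  -- the polynomial identity
  have hpoly : A * Polynomial.X ^ aout = Lq * D := by
    apply Polynomial.eq_of_infinite_eval_eq
    apply Set.Infinite.mono (s := Set.range (fun v : ℕ => (q : ℚ) ^ (v + 1)))
    · rintro x ⟨v, rfl⟩
      have hv : v + 1 ≠ 0 := Nat.succ_ne_zero v
      rw [Set.mem_ofPred_eq, Polynomial.eval_mul, Polynomial.eval_mul, Polynomial.eval_pow,
        Polynomial.eval_X, ← hsD (v + 1) hv]
      have key : Lq.eval ((q : ℚ) ^ (v + 1)) = s (v + 1) * ((q : ℚ) ^ (v + 1)) ^ aout := by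
        apply hinj
        rw [map_mul, map_pow, hqC', ← Polynomial.eval₂_at_apply, ← Polynomial.eval_map, hqC']
        have e1 : Lq.map (algebraMap ℚ ℂ) = ∑ α ∈ T', Polynomial.C (n α) *
            Polynomial.X ^ (b α + (aout - a α)) := by
          rw [hLq, hL, Polynomial.map_map, Polynomial.map_sum]
          apply Finset.sum_congr rfl
          intro α _
          rw [Polynomial.map_mul, Polynomial.map_pow, Polynomial.map_X, Polynomial.map_C]
          congr 2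
        rw [e1, Polynomial.eval_finsetSum]
        change _ = algebraMap ℚ ℂ (s (v + 1)) * _
        rw [show algebraMap ℚ ℂ (s (v + 1)) = ((s (v + 1) : ℚ) : ℂ) from rfl, hs' (v + 1) hv,
          ← hTsum (fun α => α ^ (v + 1)), Finset.sum_mul]
        rw [← Finset.sum_filter_ne_zero (s := T)]
        have hfil : T.filter (fun α => n α * α ^ (v + 1) * (qC ^ (v + 1)) ^ aout ≠ 0) = T' := by
          rw [hT']
          apply Finset.filter_congr
          intro α hα
          constructor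
          · intro h hn0
            apply h
            rw [hn0, zero_mul, zero_mul]
          · intro h
            exact mul_ne_zero (mul_ne_zero h (pow_ne_zero _ (hT0 α hα)))
              (pow_ne_zero _ (pow_ne_zero _ hqC0))
        rw [hfil]
        apply Finset.sum_congr rfl
        intro α hα
        rw [hT', Finset.mem_filter] at hα
        have hle : a α ≤ aout := by
          rw [haout]
          exact Finset.single_le_sum (f := a) (fun _ _ => Nat.zero_le _)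
            (by rw [hT', Finset.mem_filter]; exact hα)
        have hab' := hab α hα.1 hα.2
        rw [Polynomial.eval_mul, Polynomial.eval_C, Polynomial.eval_pow, Polynomial.eval_X]
        have e2 : α ^ (v + 1) * (qC ^ (v + 1)) ^ aout = (qC ^ (v + 1)) ^ (b α + (aout - a α)) := by
          calc α ^ (v + 1) * (qC ^ (v + 1)) ^ aout
              = α ^ (v + 1) * (qC ^ (v + 1)) ^ (a α + (aout - a α)) := by
                rw [Nat.add_sub_cancel' hle]
            _ = (α * qC ^ a α) ^ (v + 1) * (qC ^ (v + 1)) ^ (aout - a α) := by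
                rw [pow_add, mul_pow, ← pow_mul, ← pow_mul, mul_comm (a α) (v + 1)]; ring
            _ = _ := by
                rw [hab', pow_add (qC ^ (v + 1)) (b α) (aout - a α), ← pow_mul qC (b α) (v + 1),
                  ← pow_mul qC (v + 1) (b α), mul_comm (b α) (v + 1)]
        rw [mul_assoc, e2]
      rw [key]; ring
    · apply Set.infinite_range_of_injective
      intro v w h
      have hq1 : (1 : ℚ) < (q : ℚ) := by exact_mod_cast hq
      have := pow_right_injective₀ (by linarith) hq1.ne' h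
      omega
  have hDne : algebraMap (Polynomial ℚ) (RatFunc ℚ) D ≠ 0 := RatFunc.algebraMap_ne_zero hD0
  apply mul_right_cancel₀ hDne
  rw [← map_mul, ← hpoly, map_mul, map_pow, RatFunc.algebraMap_X, ← hFD]
  ring

end Helper91.ExpRat
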