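import Groth.Agent.Lib.Helper91.ExpRatSeries

/-!
# Logarithmic derivative of a polynomial as a sum over roots (helper91)
-/

namespace Helper91.ExpRat

open PowerSeries

/-- `Σ_{v ≥ 1} (t/r)^v`. -/
noncomputable def ρ (r : ℂ) : ℂ⟦X⟧ := Sser (fun v => (r⁻¹) ^ v)

theorem ρ_mul {r : ℂ} (hr : r ≠ 0) : ρ r * (C r - X) = X := by
  ext n
  rw [mul_sub, map_sub]
  cases n with
  | zero => simp [ρ, Sser]
  | succ n =>
    rw [coeff_succ_mul_X, coeff_mul_C]
    simp only [ρ, Sser, coeff_mk, coeff_X]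
    rw [if_neg (Nat.succ_ne_zero n)]
    cases n with
    | zero => simp [hr]
    | succ n =>
      rw [if_neg (Nat.succ_ne_zero n), if_neg (by omega)]
      rw [pow_succ (r⁻¹) (n + 1), mul_assoc, inv_mul_cancel₀ hr, mul_one, sub_self]

/-- The root-sum series. -/
noncomputable def Rser (M : Multiset ℂ) : ℂ⟦X⟧ := (M.map ρ).sum

theorem coeff_Rser (M : Multiset ℂ) (v : ℕ) :
    coeff v (Rser M) = if v = 0 then 0 else (M.map (fun r => (r⁻¹) ^ v)).sum := by
  unfold Rser
  rw [map_multiset_sum, Multiset.map_map]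
  by_cases hv : v = 0
  · subst hv
    rw [if_pos rfl]
    apply Multiset.sum_eq_zero
    intro x hx
    obtain ⟨r, _, rfl⟩ := Multiset.mem_map.mp hx
    simp [ρ, Sser]
  · rw [if_neg hv]
    congr 1
    apply Multiset.map_congr rfl
    intro r _
    simp [ρ, Sser, hv]

theorem X_mul_derivative_prod (M : Multiset ℂ) (hM : ∀ r ∈ M, r ≠ 0) :
    (X : ℂ⟦X⟧) * ((Polynomial.derivative
        (M.map (fun r => Polynomial.X - Polynomial.C r)).prod : Polynomial ℂ) : ℂ⟦X⟧) =
      -(((M.map (fun r => Polynomial.X - Polynomial.C r)).prod : Polynomial ℂ) : ℂ⟦X⟧) * Rser M := by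
  induction M using Multiset.induction_on with
  | empty => simp [Rser]
  | cons r M ih =>
    have ih' := ih (fun r' hr' => hM r' (Multiset.mem_cons_of_mem hr'))
    have hr : r ≠ 0 := hM r (Multiset.mem_cons_self r M)
    rw [Multiset.map_cons, Multiset.prod_cons, Polynomial.derivative_mul]
    simp only [Polynomial.derivative_sub, Polynomial.derivative_X, Polynomial.derivative_C,
      sub_zero, one_mul]
    rw [Polynomial.coe_add, Polynomial.coe_mul, Polynomial.coe_mul, Polynomial.coe_sub,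
      Polynomial.coe_X, Polynomial.coe_C]
    have e : Rser (r ::ₘ M) = ρ r + Rser M := by
      unfold Rser; rw [Multiset.map_cons, Multiset.sum_cons]
    rw [e]
    have h1 := ρ_mul hr
    set Pi0 : ℂ⟦X⟧ := (((M.map (fun r => Polynomial.X - Polynomial.C r)).prod : Polynomial ℂ) : ℂ⟦X⟧)
    set Pi1 : ℂ⟦X⟧ := ((Polynomial.derivative
        (M.map (fun r => Polynomial.X - Polynomial.C r)).prod : Polynomial ℂ) : ℂ⟦X⟧)
    calc X * (Pi0 + (X - C r) * Pi1) = X * Pi0 + (X - C r) * (X * Pi1) := by ring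
      _ = (ρ r * (C r - X)) * Pi0 + (X - C r) * (-Pi0 * Rser M) := by rw [h1, ih']
      _ = _ := by ring

/-- For a polynomial over `ℂ` with nonzero constant term. -/
theorem X_mul_derivative (P : Polynomial ℂ) (hP : P.eval 0 ≠ 0) :
    (X : ℂ⟦X⟧) * ((Polynomial.derivative P : Polynomial ℂ) : ℂ⟦X⟧) = -(P : ℂ⟦X⟧) * Rser P.roots := by
  have hsplit := IsAlgClosed.splits P
  have hroots : ∀ r ∈ P.roots, r ≠ 0 := by
    intro r hr h0
    subst h0
    exact hP ((Polynomial.mem_roots'.mp hr).2)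
  have h := X_mul_derivative_prod P.roots hroots
  have e := hsplit.eq_prod_roots
  generalize P.roots = M at h e ⊢
  generalize P.leadingCoeff = c at e
  subst e
  rw [Polynomial.derivative_C_mul, Polynomial.coe_mul, Polynomial.coe_mul, Polynomial.coe_C]
  calc X * (C c * ((Polynomial.derivative
        (M.map (fun r => Polynomial.X - Polynomial.C r)).prod : Polynomial ℂ) : ℂ⟦X⟧))
      = C c * (X * ((Polynomial.derivative
        (M.map (fun r => Polynomial.X - Polynomial.C r)).prod : Polynomial ℂ) : ℂ⟦X⟧)) := by ring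
    _ = _ := by rw [h]; ring

theorem map_Sser (s : ℕ → ℚ) :
    PowerSeries.map (algebraMap ℚ ℂ) (Sser s) = Sser (fun v => (s v : ℂ)) := by
  ext n
  simp only [Sser, coeff_map, coeff_mk]
  split_ifs <;> simp

/-- The main consequence: `s_v` is a difference of power sums of inverse roots. -/
theorem s_eq_roots (s : ℕ → ℚ) (P Q : Polynomial ℚ) (hP : P.eval 0 ≠ 0) (hQ : Q.eval 0 ≠ 0)
    (h : Eser s * (Q : ℚ⟦X⟧) = (P : ℚ⟦X⟧)) (v : ℕ) (hv : v ≠ 0) :
    (s v : ℂ) = ((Q.map (algebraMap ℚ ℂ)).roots.map (fun r => (r⁻¹) ^ v)).sum -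
      ((P.map (algebraMap ℚ ℂ)).roots.map (fun r => (r⁻¹) ^ v)).sum := by
  have h1 := congrArg (PowerSeries.map (algebraMap ℚ ℂ)) (Sser_mul s P Q h)
  simp only [map_mul, map_sub, ← Polynomial.polynomial_map_coe, PowerSeries.map_X,
    ← Polynomial.derivative_map, map_Sser] at h1
  set P' := P.map (algebraMap ℚ ℂ) with hP'
  set Q' := Q.map (algebraMap ℚ ℂ) with hQ'
  have hinj : Function.Injective (algebraMap ℚ ℂ) := (algebraMap ℚ ℂ).injective
  have hP0 : P'.eval 0 ≠ 0 := by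
    rw [hP', Polynomial.eval_zero_map]
    exact fun h0 => hP (hinj (by rw [h0, map_zero]))
  have hQ0 : Q'.eval 0 ≠ 0 := by
    rw [hQ', Polynomial.eval_zero_map]
    exact fun h0 => hQ (hinj (by rw [h0, map_zero]))
  have hPne : (P' : ℂ⟦X⟧) ≠ 0 := by
    intro h0
    apply hP0
    have : P' = 0 := Polynomial.coe_injective ℂ (by rw [h0, Polynomial.coe_zero])
    rw [this, Polynomial.eval_zero]
  have hQne : (Q' : ℂ⟦X⟧) ≠ 0 := by
    intro h0
    apply hQ0
    have : Q' = 0 := Polynomial.coe_injective ℂ (by rw [h0, Polynomial.coe_zero])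
    rw [this, Polynomial.eval_zero]
  have e1 := X_mul_derivative P' hP0
  have e2 := X_mul_derivative Q' hQ0
  have key : Sser (fun v => (s v : ℂ)) * ((P' : ℂ⟦X⟧) * (Q' : ℂ⟦X⟧)) =
      (Rser Q'.roots - Rser P'.roots) * ((P' : ℂ⟦X⟧) * (Q' : ℂ⟦X⟧)) := by
    rw [h1]
    calc X * (((Polynomial.derivative P' : Polynomial ℂ) : ℂ⟦X⟧) * (Q' : ℂ⟦X⟧) -
          (P' : ℂ⟦X⟧) * ((Polynomial.derivative Q' : Polynomial ℂ) : ℂ⟦X⟧))
        = (X * ((Polynomial.derivative P' : Polynomial ℂ) : ℂ⟦X⟧)) * (Q' : ℂ⟦X⟧) -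
          (P' : ℂ⟦X⟧) * (X * ((Polynomial.derivative Q' : Polynomial ℂ) : ℂ⟦X⟧)) := by ring
      _ = _ := by rw [e1, e2]; ring
  have key2 := mul_right_cancel₀ (mul_ne_zero hPne hQne) key
  have key3 := congrArg (coeff v) key2
  rw [map_sub, coeff_Rser, coeff_Rser, if_neg hv, if_neg hv] at key3
  rw [← key3]
  simp [Sser, hv]

end Helper91.ExpRat
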