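import Mathlib

/-!
# Rationality of `exp(Σ s_v t^v / v)` forces `s_v` to be a sum of exponentials (helper91)
-/

namespace Helper91.ExpRat

open PowerSeries

/-- The series `Σ_{v ≥ 1} s_v t^v / v`. -/
noncomputable def gser (s : ℕ → ℚ) : ℚ⟦X⟧ :=
  PowerSeries.mk fun v : ℕ => if v = 0 then (0 : ℚ) else s v / (v : ℚ)

/-- The series `Σ_{v ≥ 1} s_v t^v`. -/
noncomputable def Sser {K : Type*} [Field K] (s : ℕ → K) : K⟦X⟧ :=
  PowerSeries.mk fun v : ℕ => if v = 0 then (0 : K) else s v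

theorem hasSubst_gser (s : ℕ → ℚ) : HasSubst (gser s) := by
  apply HasSubst.of_constantCoeff_zero'
  simp [gser]

theorem derivative_gser_mul_X (s : ℕ → ℚ) : d⁄dX ℚ (gser s) * X = Sser s := by
  ext n
  cases n with
  | zero => simp [Sser]
  | succ n =>
    rw [coeff_succ_mul_X, coeff_derivative]
    simp only [gser, Sser, coeff_mk]
    rw [if_neg (Nat.succ_ne_zero n), if_neg (Nat.succ_ne_zero n)]
    have : ((n + 1 : ℕ) : ℚ) ≠ 0 := Nat.cast_ne_zero.mpr (Nat.succ_ne_zero n)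
    push_cast at this ⊢
    field_simp

/-- The exponential series. -/
noncomputable def Eser (s : ℕ → ℚ) : ℚ⟦X⟧ := (PowerSeries.exp ℚ).subst (gser s)

theorem derivative_Eser (s : ℕ → ℚ) : d⁄dX ℚ (Eser s) = Eser s * d⁄dX ℚ (gser s) := by
  unfold Eser
  rw [derivative_subst (hasSubst_gser s), derivative_exp]

theorem coeff_zero_Eser (s : ℕ → ℚ) : coeff 0 (Eser s) = 1 := by
  unfold Eser
  rw [coeff_subst' (hasSubst_gser s), finsum_eq_single _ 0]
  · simp
  · intro n hn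
    have : coeff 0 (gser s) = 0 := by simp [gser]
    rw [coeff_zero_eq_constantCoeff_apply, map_pow, ← coeff_zero_eq_constantCoeff_apply, this,
      zero_pow hn, smul_zero]

/-- Log-derivative of a rational exponential. -/
theorem Sser_mul (s : ℕ → ℚ) (P Q : Polynomial ℚ)
    (h : Eser s * (Q : ℚ⟦X⟧) = (P : ℚ⟦X⟧)) :
    Sser s * ((P : ℚ⟦X⟧) * (Q : ℚ⟦X⟧)) =
      X * (((Polynomial.derivative P : Polynomial ℚ) : ℚ⟦X⟧) * (Q : ℚ⟦X⟧) -
        (P : ℚ⟦X⟧) * ((Polynomial.derivative Q : Polynomial ℚ) : ℚ⟦X⟧)) := by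
  have h1 := congrArg (d⁄dX ℚ) h
  rw [Derivation.leibniz, derivative_Eser, derivative_coe, derivative_coe] at h1
  simp only [smul_eq_mul] at h1
  rw [← derivative_gser_mul_X, ← h1, ← h]
  ring

end Helper91.ExpRat
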