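import Mathlib
import Groth.Agent.Lib.Helper10.Fitting

/-!
# The zeroth Fitting ideal and the annihilator have the same radical
-/

namespace Groth.Agent.Lib.Helper91.FittAnn

open Groth.Agent.Lib.Helper10.Fitting

variable {R : Type*} [CommRing R] {M : Type*} [AddCommGroup M] [Module R M]

theorem exists_pow_mem_fitt_zero_iff [Module.Finite R M] (τ : R) :
    (∃ κ : ℕ, τ ^ κ ∈ Fitt.ideal R M 0) ↔ ∃ m : ℕ, ∀ x : M, τ ^ m • x = 0 := by
  classical
  constructor
  · rintro ⟨κ, hκ⟩
    refine ⟨κ, fun x => ?_⟩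
    exact Module.mem_annihilator.mp (fitt_zero_le_annihilator hκ) x
  · rintro ⟨m, hm⟩
    obtain ⟨n, s, hs⟩ := Module.Finite.exists_fin (R := R) (M := M)
    refine ⟨m * n, ?_⟩
    have h1 := det_mem_fitt s hs 0 (τ ^ m • (1 : Matrix (Fin n) (Fin n) R)) (by
      intro i _
      rw [Finset.sum_eq_single i]
      · simp [hm]
      · intro j _ hj
        simp [Matrix.one_apply_ne' hj]
      · simp)
    rw [Matrix.det_smul, Matrix.det_one, mul_one, Fintype.card_fin, ← pow_mul] at h1
    exact h1

end Groth.Agent.Lib.Helper91.FittAnn
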