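import Mathlib
import Groth.Agent.Lib.Helper91.CIJacobian

/-!
# The closed fibre of a quotient of a completed polynomial ring over `k[[t]]`

Reduction modulo `t`: `B/tB = k[T]/(ā)`; injectivity of the Jacobian map `J`.
-/

universe u

open MvPolynomial

namespace Groth.Agent.Lib.Helper91.FormalFibre

open Groth.Agent.Lib.Helper91.ComplPoly Groth.Agent.Lib.Helper91.FormalOmega

variable {k : Type u} [Field k] {r c : ℕ} {B : Type u} [CommRing B] [Algebra (PowerSeries k) B]
  (ψ : At (PowerSeries.X (R := k)) (Fin r) →ₐ[PowerSeries k] B)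
  (a : Fin c → At (PowerSeries.X (R := k)) (Fin r))

lemma ker_cc : RingHom.ker (PowerSeries.constantCoeff (R := k)) =
    Ideal.span {PowerSeries.X (R := k)} := by
  apply Ideal.ext
  intro φ
  rw [RingHom.mem_ker, Ideal.mem_span_singleton, PowerSeries.X_dvd_iff]

/-- reduction mod `t` of the completed polynomial ring -/
noncomputable abbrev ρ : At (PowerSeries.X (R := k)) (Fin r) →+* MvPolynomial (Fin r) k :=
  rho (σ := Fin r) (PowerSeries.constantCoeff (R := k)) ker_cc

variable (k B) in
/-- the `k`-algebra structure on the closed fibre -/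
@[reducible] noncomputable def algB0 : Algebra k (B ⧸ tB (PowerSeries.X (R := k)) B) :=
  ((Ideal.Quotient.mk (tB (PowerSeries.X (R := k)) B)).comp
    ((algebraMap (PowerSeries k) B).comp (PowerSeries.C (R := k)))).toAlgebra

attribute [local instance] algB0

lemma algebraMap_B0 (x : k) : algebraMap k (B ⧸ tB (PowerSeries.X (R := k)) B) x =
    Ideal.Quotient.mk _ (algebraMap (PowerSeries k) B (PowerSeries.C x)) := rfl

lemma mk_algebraMap (s : PowerSeries k) :
    Ideal.Quotient.mk (tB (PowerSeries.X (R := k)) B) (algebraMap (PowerSeries k) B s) =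
      algebraMap k _ (PowerSeries.constantCoeff s) := by
  rw [algebraMap_B0, eq_comm, ← sub_eq_zero, ← map_sub, ← map_sub, Ideal.Quotient.eq_zero_iff_mem]
  have h1 : PowerSeries.C (PowerSeries.constantCoeff s) - s ∈
      Ideal.span {PowerSeries.X (R := k)} := by
    rw [← ker_cc, RingHom.mem_ker, map_sub, PowerSeries.constantCoeff_C, sub_self]
  obtain ⟨u, hu⟩ := Ideal.mem_span_singleton'.mp h1
  rw [← hu, map_mul]
  exact Ideal.mul_mem_left _ _ (Ideal.mem_span_singleton_self _)

/-- the presentation of the closed fibre -/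
noncomputable def φ : MvPolynomial (Fin r) k →ₐ[k] (B ⧸ tB (PowerSeries.X (R := k)) B) :=
  MvPolynomial.aeval (fun i => Ideal.Quotient.mk _ (ψ (AdicCompletion.of _ _ (X i))))

lemma phi_map (p : MvPolynomial (Fin r) (PowerSeries k)) :
    φ ψ (MvPolynomial.map (PowerSeries.constantCoeff (R := k)) p) =
      Ideal.Quotient.mk _ (psi0 _ ψ p) := by
  have : (φ ψ).toRingHom.comp (MvPolynomial.map (PowerSeries.constantCoeff (R := k))) =
      (Ideal.Quotient.mk (tB (PowerSeries.X (R := k)) B)).comp (psi0 _ ψ).toRingHom := by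
    apply MvPolynomial.ringHom_ext
    · intro s
      simp only [RingHom.comp_apply, MvPolynomial.map_C, AlgHom.toRingHom_eq_coe, RingHom.coe_coe]
      rw [← MvPolynomial.algebraMap_eq, ← MvPolynomial.algebraMap_eq, AlgHom.commutes,
        AlgHom.commutes, mk_algebraMap]
    · intro i
      simp only [RingHom.comp_apply, MvPolynomial.map_X, AlgHom.toRingHom_eq_coe, RingHom.coe_coe]
      rw [φ, MvPolynomial.aeval_X, psi0_apply]
  exact RingHom.congr_fun this p

lemma phi_rho (f : At (PowerSeries.X (R := k)) (Fin r)) :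
    φ ψ (ρ f) = Ideal.Quotient.mk _ (ψ f) := by
  obtain ⟨p, g, rfl⟩ := approx (PowerSeries.X (R := k)) (Fin r) f 1
  rw [map_add, map_mul, pow_one, rho_t, zero_mul, add_zero, rho_of, phi_map, psi0_apply,
    map_add, map_add, map_mul, AlgHom.commutes, map_mul]
  have : Ideal.Quotient.mk (tB (PowerSeries.X (R := k)) B)
      (algebraMap (PowerSeries k) B PowerSeries.X) = 0 :=
    Ideal.Quotient.eq_zero_iff_mem.mpr (Ideal.mem_span_singleton_self _)
  rw [this, zero_mul, add_zero]

lemma phi_surjective (hψ : Function.Surjective ψ) : Function.Surjective (φ ψ) := by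
  intro y
  obtain ⟨b, rfl⟩ := Ideal.Quotient.mk_surjective y
  obtain ⟨f, rfl⟩ := hψ b
  exact ⟨ρ f, phi_rho ψ f⟩

lemma ker_phi (hψ : Function.Surjective ψ)
    (hker : RingHom.ker ψ.toRingHom = Ideal.span (Set.range a)) :
    Ideal.span (Set.range fun j => ρ (a j)) = RingHom.ker (φ ψ).toRingHom := by
  apply le_antisymm
  · rw [Ideal.span_le]
    rintro _ ⟨j, rfl⟩
    rw [SetLike.mem_coe, RingHom.mem_ker]
    change φ ψ (ρ (a j)) = 0
    rw [phi_rho, psi_a _ ψ a hker, map_zero]
  · intro y hy
    obtain ⟨f, rfl⟩ := rho_surjective (σ := Fin r) (PowerSeries.constantCoeff (R := k)) ker_cc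
      PowerSeries.constantCoeff_surj y
    have h1 : Ideal.Quotient.mk (tB (PowerSeries.X (R := k)) B) (ψ f) = 0 := by
      rw [← phi_rho]
      exact hy
    rw [Ideal.Quotient.eq_zero_iff_mem] at h1
    obtain ⟨b, hb⟩ := Ideal.mem_span_singleton'.mp h1
    obtain ⟨g, rfl⟩ := hψ b
    have h2 : f - g * algebraMap (PowerSeries k) _ PowerSeries.X ∈ RingHom.ker ψ.toRingHom := by
      rw [RingHom.mem_ker]
      change ψ (f - g * algebraMap (PowerSeries k) _ PowerSeries.X) = 0
      rw [map_sub, map_mul, AlgHom.commutes, hb, sub_self]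
    rw [hker] at h2
    have h3 : ρ f = ρ (f - g * algebraMap (PowerSeries k) _ PowerSeries.X) := by
      rw [map_sub, map_mul, rho_t, mul_zero, sub_zero]
    rw [h3]
    have h4 := Ideal.mem_map_of_mem (ρ (k := k) (r := r)) h2
    rw [Ideal.map_span, ← Set.range_comp] at h4
    exact h4

/-- `Ã/t ≃ k[T]` -/
noncomputable def eRho : (At (PowerSeries.X (R := k)) (Fin r) ⧸
    Ideal.span {algebraMap (PowerSeries k) (At (PowerSeries.X (R := k)) (Fin r))
      PowerSeries.X ^ (0 + 1)}) ≃+* MvPolynomial (Fin r) k :=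
  (Ideal.quotEquivOfEq (by
    rw [zero_add, pow_one, ker_rho])).trans
    (RingHom.quotientKerEquivOfSurjective
      (rho_surjective (σ := Fin r) (PowerSeries.constantCoeff (R := k)) ker_cc
        PowerSeries.constantCoeff_surj))

lemma eRho_mk (f : At (PowerSeries.X (R := k)) (Fin r)) :
    eRho (k := k) (r := r) (Ideal.Quotient.mk _ f) = ρ f := rfl

lemma isRegular_rho
    (hreg : RingTheory.Sequence.IsRegular
      (At (PowerSeries.X (R := k)) (Fin r) ⧸
        Ideal.span {algebraMap (PowerSeries k) (At (PowerSeries.X (R := k)) (Fin r))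
          PowerSeries.X ^ (0 + 1)})
      ((List.ofFn a).map (Ideal.Quotient.mk (Ideal.span {algebraMap (PowerSeries k)
        (At (PowerSeries.X (R := k)) (Fin r)) PowerSeries.X ^ (0 + 1)})))) :
    RingTheory.Sequence.IsRegular (MvPolynomial (Fin r) k) (List.ofFn fun j => ρ (a j)) := by
  refine (AddEquiv.isRegular_congr (e := (eRho (k := k) (r := r)).toAddEquiv) ?_).mp hreg
  rw [List.forall₂_map_left_iff]
  have : (List.ofFn fun j => ρ (a j)) = (List.ofFn a).map (ρ (k := k) (r := r)) := by
    rw [List.map_ofFn]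
    rfl
  rw [this, List.forall₂_map_right_iff, List.forall₂_same]
  intro f _ x
  change eRho (Ideal.Quotient.mk _ f * x) = ρ f * eRho x
  rw [map_mul, eRho_mk]

lemma J_apply (v : Fin c → B) (i : Fin r) :
    J (PowerSeries.X (R := k)) ψ a v i = ∑ j, v j * dd (PowerSeries.X (R := k)) ψ (a j) i := by
  rw [J, Fintype.linearCombination_apply, Finset.sum_apply]
  rfl

section inj

variable [PerfectField k] [IsReduced (B ⧸ tB (PowerSeries.X (R := k)) B)]

theorem mem_of_J_mem (hψ : Function.Surjective ψ)
    (hker : RingHom.ker ψ.toRingHom = Ideal.span (Set.range a))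
    (hreg : RingTheory.Sequence.IsRegular
      (At (PowerSeries.X (R := k)) (Fin r) ⧸
        Ideal.span {algebraMap (PowerSeries k) (At (PowerSeries.X (R := k)) (Fin r))
          PowerSeries.X ^ (0 + 1)})
      ((List.ofFn a).map (Ideal.Quotient.mk (Ideal.span {algebraMap (PowerSeries k)
        (At (PowerSeries.X (R := k)) (Fin r)) PowerSeries.X ^ (0 + 1)}))))
    (v : Fin c → B)
    (hv : ∀ i, J (PowerSeries.X (R := k)) ψ a v i ∈
      Ideal.span {algebraMap (PowerSeries k) B PowerSeries.X}) :
    ∀ j, v j ∈ Ideal.span {algebraMap (PowerSeries k) B PowerSeries.X} := by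
  let _ : Algebra (MvPolynomial (Fin r) k) (B ⧸ tB (PowerSeries.X (R := k)) B) :=
    (φ ψ).toRingHom.toAlgebra
  have hst : IsScalarTower k (MvPolynomial (Fin r) k) (B ⧸ tB (PowerSeries.X (R := k)) B) :=
    IsScalarTower.of_algebraMap_eq (fun x => ((φ ψ).commutes x).symm)
  have hsurj : Function.Surjective
      (algebraMap (MvPolynomial (Fin r) k) (B ⧸ tB (PowerSeries.X (R := k)) B)) :=
    phi_surjective ψ hψ
  have hft : Algebra.FiniteType k (B ⧸ tB (PowerSeries.X (R := k)) B) :=
    Algebra.FiniteType.of_surjective (φ ψ) (phi_surjective ψ hψ)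
  have hrs : Ideal.span (Set.range fun j => ρ (a j)) =
      RingHom.ker (algebraMap (MvPolynomial (Fin r) k) (B ⧸ tB (PowerSeries.X (R := k)) B)) :=
    ker_phi ψ a hψ hker
  have hH1 := CIOmega.isH1Regular_of_isRegular_ofFn _ (isRegular_rho a hreg)
  have key := CIJacobian.jacobian_injective hsurj (fun j => ρ (a j)) hrs hH1
    (fun j => Ideal.Quotient.mk _ (v j)) (by
      intro i
      have h1 : ∀ j, algebraMap (MvPolynomial (Fin r) k) (B ⧸ tB (PowerSeries.X (R := k)) B)
          (pderiv i (ρ (a j))) =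
          Ideal.Quotient.mk _ (dd (PowerSeries.X (R := k)) ψ (a j) i) := by
        intro j
        change φ ψ (pderiv i (ρ (a j))) = _
        rw [← rho_Dc, phi_rho]
        rfl
      simp only [h1, ← map_mul, ← map_sum]
      rw [← J_apply, Ideal.Quotient.eq_zero_iff_mem]
      exact hv i)
  intro j
  have := congrFun key j
  rw [Pi.zero_apply, Ideal.Quotient.eq_zero_iff_mem] at this
  exact this

theorem J_injective [Module.Flat (PowerSeries k) B]
    [IsHausdorff (tB (PowerSeries.X (R := k)) B) B] (hψ : Function.Surjective ψ)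
    (hker : RingHom.ker ψ.toRingHom = Ideal.span (Set.range a))
    (hreg : RingTheory.Sequence.IsRegular
      (At (PowerSeries.X (R := k)) (Fin r) ⧸
        Ideal.span {algebraMap (PowerSeries k) (At (PowerSeries.X (R := k)) (Fin r))
          PowerSeries.X ^ (0 + 1)})
      ((List.ofFn a).map (Ideal.Quotient.mk (Ideal.span {algebraMap (PowerSeries k)
        (At (PowerSeries.X (R := k)) (Fin r)) PowerSeries.X ^ (0 + 1)})))) :
    Function.Injective (J (PowerSeries.X (R := k)) ψ a) := by
  apply injective_of_mod (algebraMap (PowerSeries k) B PowerSeries.X)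
  · have h1 : IsSMulRegular (PowerSeries k) (PowerSeries.X (R := k)) :=
      (IsRegular.of_ne_zero PowerSeries.X_ne_zero).isSMulRegular
    exact h1.of_flat
  · exact mem_of_J_mem ψ a hψ hker hreg

end inj

end Groth.Agent.Lib.Helper91.FormalFibre
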