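import Groth.Agent.Lib.Helper91.FormalFnAlg

/-!
# More algebra around the theorem on formal functions

OpFam-level Artin–Rees type lemmas for families with transition maps, and the corollaries for
`FFData` needed for the kernel-filtration / kernel-stabilisation / image-bound statements.
-/

set_option autoImplicit false
universe u v w

namespace Groth.Agent.Lib.Helper91.FormalFnAlg

open Groth.Agent.Lib.Helper88.FormalFn

section OpFamLevel

variable {A : Type u} [CommRing A] {ι : Type v} (F : OpFam.{u, v, w} A ι)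
  (j : ∀ n, F.N (n + 1) →ₗ[A] F.N n)

/-- iterated transition maps `N (n + k) → N n` -/
def jadd (n : ℕ) : ∀ k, F.N (n + k) →ₗ[A] F.N n
  | 0 => LinearMap.id
  | k + 1 => (jadd n k).comp (j (n + k))

@[simp] theorem jadd_zero (n : ℕ) (y : F.N n) : jadd F j n 0 y = y := rfl

theorem jadd_succ (n k : ℕ) (y : F.N (n + (k + 1))) :
    jadd F j n (k + 1) y = jadd F j n k (j (n + k) y) := rfl

variable {F j}

theorem jadd_map_le {S : F.Sub} (hSj : ∀ n, (S (n + 1)).map (j n) ≤ S n) (n k : ℕ) :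
    (S (n + k)).map (jadd F j n k) ≤ S n := by
  induction k with
  | zero => rintro _ ⟨q, hq, rfl⟩; exact hq
  | succ k ih =>
    rintro _ ⟨q, hq, rfl⟩
    rw [jadd_succ]
    exact ih ⟨_, hSj (n + k) ⟨q, hq, rfl⟩, rfl⟩

/-- **Artin–Rees for eventually generated stable families with transition maps**:
if `j (T_i x) = f_i x` with `f_i ∈ I` and `S` is generated from degree `n₀` on, then the
`k`-fold transition maps `S (n + k)` into `I ^ (k - (n₀ - n)) • S n`. -/
theorem jadd_map_le_smul {I : Ideal A} {f : ι → A} (hf : ∀ i, f i ∈ I)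
    (hjT : ∀ i n (x : F.N n), j n (F.T i n x) = f i • x)
    {S : F.Sub} (hSj : ∀ n, (S (n + 1)).map (j n) ≤ S n) {n₀ : ℕ}
    (hn₀ : ∀ n, n₀ ≤ n → S (n + 1) = ⨆ i ∈ (Set.univ : Set ι), (S n).map (F.T i n)) (n k : ℕ) :
    (S (n + k)).map (jadd F j n k) ≤ I ^ (k - (n₀ - n)) • S n := by
  induction k with
  | zero =>
    rw [Nat.zero_sub, pow_zero, Ideal.one_eq_top, Submodule.top_smul]
    rintro _ ⟨q, hq, rfl⟩
    exact hq
  | succ k ih =>
    by_cases h : n₀ ≤ n + k
    · rw [Submodule.map_le_iff_le_comap]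
      change S (n + k + 1) ≤ _
      rw [hn₀ (n + k) h]
      refine iSup₂_le fun i _ => ?_
      rintro _ ⟨x, hx, rfl⟩
      rw [Submodule.mem_comap, jadd_succ, hjT, map_smul]
      have h1 : jadd F j n k x ∈ I ^ (k - (n₀ - n)) • S n := ih ⟨x, hx, rfl⟩
      have h2 : f i • jadd F j n k x ∈ I • (I ^ (k - (n₀ - n)) • S n) :=
        Submodule.smul_mem_smul (hf i) h1
      rw [← Submodule.mul_smul, ← pow_succ'] at h2
      exact Submodule.smul_mono_left (Ideal.pow_le_pow_right (by omega)) h2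
    · have h0 : k + 1 - (n₀ - n) = 0 := by omega
      rw [h0, pow_zero, Ideal.one_eq_top, Submodule.top_smul]
      exact jadd_map_le hSj n (k + 1)

/-- Image bound: under ACC the image of `N (n + k) → N n` lies in `I ^ (k - (c - n)) N n`. -/
theorem exists_range_jadd_le {I : Ideal A} {f : ι → A} (hf : ∀ i, f i ∈ I)
    (hjT : ∀ i n (x : F.N n), j n (F.T i n x) = f i • x) (hnoeth : F.Noeth Set.univ) :
    ∃ c : ℕ, ∀ n k : ℕ,
      LinearMap.range (jadd F j n k) ≤ I ^ (k - (c - n)) • (⊤ : Submodule A (F.N n)) := by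
  have hst : F.IsStable Set.univ (fun n => (⊤ : Submodule A (F.N n))) := fun i _ n => le_top
  obtain ⟨n₀, hn₀⟩ := F.eventually_generated hnoeth hst
  refine ⟨n₀, fun n k => ?_⟩
  have := jadd_map_le_smul (F := F) (j := j) (S := fun n => (⊤ : Submodule A (F.N n))) hf hjT
    (fun n => le_top) hn₀ n k
  rwa [Submodule.map_top] at this

end OpFamLevel

section FFDataLevel

variable {A : Type u} [CommRing A] {I : Ideal A} {ι : Type v} {f : ι → A} (D : FFData A I f)

theorem j'add_eq_jadd (n k : ℕ) : j'add D n k = jadd D.NF' D.j' n k := by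
  induction k with
  | zero => rfl
  | succ k ih =>
    ext y
    rw [j'add_succ, jadd_succ, ih]

/-- The kernel filtration is `I`-good: `ker (b (n+1)) = I • ker (b n)` for `n` large. -/
theorem ker_b_succ_eq (hspan : Ideal.span (Set.range f) = I) :
    ∃ k₀ : ℕ, ∀ n : ℕ, k₀ ≤ n →
      LinearMap.ker (D.b (n + 1)) = I • LinearMap.ker (D.b n) := by
  have hf : ∀ i, f i ∈ I := fun i => hspan ▸ Ideal.subset_span (Set.mem_range_self i)
  have hst : D.NF.IsStable Set.univ (fun n => (⊤ : Submodule A (D.NF.N n))) :=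
    fun i _ n => le_top
  obtain ⟨n₀, hn₀⟩ := D.NF.eventually_generated D.noeth hst
  refine ⟨n₀, fun n hn => le_antisymm ?_ ?_⟩
  · rw [← D.exact_H, ← D.exact_H]
    exact range_a_succ_le D hf (hn₀ n hn)
  · rw [← D.exact_H, ← D.exact_H, Submodule.smul_le]
    intro r hr x hx
    obtain ⟨y, rfl⟩ := hx
    rw [← hspan] at hr
    refine Submodule.span_induction (p := fun r _ => r • D.a n y ∈ LinearMap.range (D.a (n + 1)))
      ?_ ?_ ?_ ?_ hr
    · rintro _ ⟨i, rfl⟩
      exact ⟨D.NF.T i n y, D.a_T i n y⟩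
    · rw [zero_smul]; exact Submodule.zero_mem _
    · intro r s _ _ hr hs
      rw [add_smul]; exact Submodule.add_mem _ hr hs
    · intro c r _ hr
      rw [smul_eq_mul, mul_smul]; exact Submodule.smul_mem _ c hr

/-- Kernels stabilise: `ker (a' (m + c)) = ker (N' (m + c) → N' m)` for a uniform `c`. -/
theorem ker_a'_eq_ker_j'add (hf : ∀ i, f i ∈ I)
    (ha'j' : ∀ n (x : D.NF'.N (n + 1)), D.a' n (D.j' n x) = D.a' (n + 1) x) :
    ∃ c : ℕ, ∀ m k : ℕ, c ≤ k →
      LinearMap.ker (D.a' (m + k)) = LinearMap.ker (j'add D m k) := by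
  obtain ⟨n₀, hn₀⟩ := exists_gen_Q D
  have hcomp : ∀ m k (x : D.NF'.N (m + k)), D.a' m (j'add D m k x) = D.a' (m + k) x := by
    intro m k
    induction k with
    | zero => intro x; rfl
    | succ k ih =>
      intro x
      rw [j'add_succ, ih]
      exact ha'j' (m + k) x
  refine ⟨2 * n₀, fun m k hk => le_antisymm ?_ ?_⟩
  · intro q hq
    have hq' : q ∈ Q D (m + k) := hq
    have h1 : j'add D m k q ∈ I ^ (k - n₀) • Q D m :=
      j'add_map_Q_le D hf hn₀ m k ⟨_, hq', rfl⟩
    have h2 : I ^ (k - n₀) • Q D m ≤ ⊥ := by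
      rw [Submodule.smul_le]
      intro r hr q hq
      rw [Submodule.mem_bot]
      exact killed_Q_uniform D hn₀ m r (Ideal.pow_le_pow_right (by omega) hr) q hq
    exact (Submodule.mem_bot A).mp (h2 h1)
  · intro q hq
    rw [LinearMap.mem_ker] at hq ⊢
    rw [← hcomp m k q, hq, map_zero]

/-- Image bound for `N' (n + k) → N' n`. -/
theorem range_j'add_le (hf : ∀ i, f i ∈ I) :
    ∃ c : ℕ, ∀ n k : ℕ,
      LinearMap.range (j'add D n k) ≤ I ^ (k - (c - n)) • (⊤ : Submodule A (D.NF'.N n)) := by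
  obtain ⟨c, hc⟩ := exists_range_jadd_le (F := D.NF') (j := D.j') hf D.j'_T D.noeth'
  refine ⟨c, fun n k => ?_⟩
  rw [j'add_eq_jadd]
  exact hc n k

end FFDataLevel

end Groth.Agent.Lib.Helper91.FormalFnAlg
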