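import Mathlib
import Groth.Agent.Lib.Helper91.FormalOmega

/-!
# The levels `B/t^(n+1)` of a quotient of a completed polynomial ring

`0 → B_n^c → B_n^r → Ω_{B_n/Λ} → 0`.
-/

universe u

open MvPolynomial

namespace Groth.Agent.Lib.Helper91.FormalLevel

open Groth.Agent.Lib.Helper91.ComplPoly Groth.Agent.Lib.Helper91.FormalOmega

variable {Λ : Type u} [CommRing Λ] (t : Λ) {r c : ℕ}
  {B : Type u} [CommRing B] [Algebra Λ B]
  (ψ : At t (Fin r) →ₐ[Λ] B) (a : Fin c → At t (Fin r)) (n : ℕ)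

/-- the ideal `(t^(n+1))` of `B` -/
abbrev Kn (B : Type u) [CommRing B] [Algebra Λ B] : Ideal B :=
  Ideal.span {algebraMap Λ B t ^ (n + 1)}

/-- the composite `Ã → B → B/t^(n+1)` -/
noncomputable def chi : At t (Fin r) →ₐ[Λ] (B ⧸ Kn t n B) :=
  (Ideal.Quotient.mkₐ Λ (Kn t n B)).comp ψ

lemma chi_apply (f : At t (Fin r)) : chi t ψ n f = Ideal.Quotient.mk _ (ψ f) := rfl

lemma chi_surjective (hψ : Function.Surjective ψ) : Function.Surjective (chi t ψ n) :=
  (Ideal.Quotient.mk_surjective).comp hψ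

lemma dd_chi (f : At t (Fin r)) (i : Fin r) :
    dd t (chi t ψ n) f i = Ideal.Quotient.mk _ (dd t ψ f i) := rfl

lemma J_chi (v : Fin c → B) :
    J t (chi t ψ n) a (fun j => Ideal.Quotient.mk (Kn t n B) (v j)) =
      fun i => Ideal.Quotient.mk (Kn t n B) (J t ψ a v i) := by
  funext i
  rw [J, J, Fintype.linearCombination_apply, Fintype.linearCombination_apply, Finset.sum_apply,
    Finset.sum_apply, map_sum]
  apply Finset.sum_congr rfl
  intro j _
  rw [Pi.smul_apply, Pi.smul_apply, smul_eq_mul, smul_eq_mul, map_mul, dd_chi]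

lemma tB_pow_eq_bot : (tB t (B ⧸ Kn t n B)) ^ (n + 1) = ⊥ := by
  rw [tB, Ideal.span_singleton_pow, Ideal.span_singleton_eq_bot]
  have : algebraMap Λ (B ⧸ Kn t n B) t = Ideal.Quotient.mk _ (algebraMap Λ B t) := rfl
  rw [this, ← map_pow, Ideal.Quotient.eq_zero_iff_mem]
  exact Ideal.mem_span_singleton_self _

/-- the level-`n` presentation map -/
noncomputable def piN : (Fin r → B ⧸ Kn t n B) →ₗ[B ⧸ Kn t n B] Ω[(B ⧸ Kn t n B)⁄Λ] :=
  Fintype.linearCombination (B ⧸ Kn t n B) (omega t (chi t ψ n))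

lemma piN_apply (w : Fin r → B ⧸ Kn t n B) :
    piN t ψ n w = ∑ i, w i • omega t (chi t ψ n) i := by
  rw [piN, Fintype.linearCombination_apply]

lemma key1N (f : At t (Fin r)) :
    ∑ i, dd t (chi t ψ n) f i • omega t (chi t ψ n) i =
      KaehlerDifferential.D Λ (B ⧸ Kn t n B) (chi t ψ n f) := by
  have := key1 t (chi t ψ n) f (n + 1)
  rw [tB_pow_eq_bot, Submodule.bot_smul, Submodule.mem_bot, sub_eq_zero] at this
  exact this

theorem piN_surjective (hψ : Function.Surjective ψ) : Function.Surjective (piN t ψ n) := by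
  intro ω
  obtain ⟨w, hw⟩ := exists_approx_omega_pow t (chi t ψ n) (chi_surjective t ψ n hψ) (n + 1) ω
  rw [tB_pow_eq_bot, Submodule.bot_smul, Submodule.mem_bot, sub_eq_zero] at hw
  exact ⟨w, by rw [piN_apply, ← hw]⟩

section coker

variable (hker : RingHom.ker ψ.toRingHom = Ideal.span (Set.range a))

include hker in
lemma hdd_chi (hψ : Function.Surjective ψ) (f : At t (Fin r)) (hf : chi t ψ n f = 0) :
    dd t (chi t ψ n) f ∈ LinearMap.range (J t (chi t ψ n) a) := by
  rw [chi_apply, Ideal.Quotient.eq_zero_iff_mem] at hf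
  obtain ⟨b, hb⟩ := Ideal.mem_span_singleton'.mp hf
  obtain ⟨g, rfl⟩ := hψ b
  have h1 : ψ (f - algebraMap Λ _ (t ^ (n + 1)) * g) = 0 := by
    rw [map_sub, map_mul, AlgHom.commutes, map_pow, mul_comm, hb, sub_self]
  obtain ⟨v, hv⟩ := dd_mem_range t ψ a hker _ h1
  refine ⟨fun j => Ideal.Quotient.mk _ (v j), ?_⟩
  rw [J_chi, hv]
  funext i
  rw [dd_chi]
  have h2 : f = (f - algebraMap Λ _ (t ^ (n + 1)) * g) + algebraMap Λ _ (t ^ (n + 1)) * g := by
    ring
  conv_rhs => rw [h2, dd_add, dd_algebraMap_mul]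
  rw [Pi.add_apply, map_add, Pi.smul_apply, smul_eq_mul, map_mul]
  have h3 : Ideal.Quotient.mk (Kn t n B) (algebraMap Λ B (t ^ (n + 1))) = 0 := by
    rw [map_pow]
    exact Ideal.Quotient.eq_zero_iff_mem.mpr (Ideal.mem_span_singleton_self _)
  rw [h3, zero_mul, add_zero]

include hker in
theorem exact_J_piN (hψ : Function.Surjective ψ) :
    Function.Exact (J t (chi t ψ n) a) (piN t ψ n) := by
  classical
  intro w
  constructor
  · intro hw
    have h1 := phi_sum t (chi t ψ n) a (hdd_chi t ψ a n hker hψ) (chi_surjective t ψ n hψ) w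
    rw [← piN_apply, hw, map_zero] at h1
    exact (Submodule.Quotient.mk_eq_zero _).mp h1.symm
  · rintro ⟨v, rfl⟩
    have h0 : piN t ψ n ∘ₗ J t (chi t ψ n) a = 0 := by
      apply LinearMap.pi_ext
      intro j x
      rw [LinearMap.comp_apply, J_single, map_smul, LinearMap.zero_apply, piN_apply, key1N,
        chi_apply, psi_a t ψ a hker, map_zero, map_zero, smul_zero]
    exact LinearMap.congr_fun h0 v

end coker

theorem J_chi_injective (hτ : IsSMulRegular B (algebraMap Λ B t))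
    (hL : ∀ v, (∀ i, J t ψ a v i ∈ Ideal.span {algebraMap Λ B t}) →
      ∀ j, v j ∈ Ideal.span {algebraMap Λ B t}) :
    Function.Injective (J t (chi t ψ n) a) := by
  rw [← LinearMap.ker_eq_bot, LinearMap.ker_eq_bot']
  intro w hw
  choose v hv using fun j => Ideal.Quotient.mk_surjective (w j)
  have hw' : w = fun j => Ideal.Quotient.mk (Kn t n B) (v j) := by
    funext j
    exact (hv j).symm
  rw [hw', J_chi] at hw
  have h1 := mem_pow_of_map_mem_pow (algebraMap Λ B t) (J t ψ a) hτ hL (n + 1) v (by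
    intro i
    have := congrFun hw i
    rwa [Pi.zero_apply, Ideal.Quotient.eq_zero_iff_mem] at this)
  rw [hw']
  funext j
  exact Ideal.Quotient.eq_zero_iff_mem.mpr (h1 j)

end Groth.Agent.Lib.Helper91.FormalLevel
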