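import Mathlib
import Groth.Agent.Lib.Helper91.FormalFibre
import Groth.Agent.Lib.Helper91.FormalLevel
import Groth.Agent.Lib.Helper91.CokerBC

/-!
# Base change of the formal `T¹` to the levels
-/

universe u

open MvPolynomial CategoryTheory TensorProduct

namespace Groth.Agent.Lib.Helper91.FormalT1

open Groth.Agent.Lib.Helper91.ComplPoly Groth.Agent.Lib.Helper91.FormalOmega
  Groth.Agent.Lib.Helper91.FormalFibre Groth.Agent.Lib.Helper91.FormalLevel
  Groth.Agent.Lib.Helper91.CokerBC

variable {k : Type u} [Field k] [PerfectField k] {r c : ℕ} {B : Type u} [CommRing B]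
  [Algebra (PowerSeries k) B] [IsNoetherianRing B]
  [IsAdicComplete (tB (PowerSeries.X (R := k)) B) B] [Module.Flat (PowerSeries k) B]
  [IsReduced (B ⧸ tB (PowerSeries.X (R := k)) B)]
  (ψ : At (PowerSeries.X (R := k)) (Fin r) →ₐ[PowerSeries k] B)
  (a : Fin c → At (PowerSeries.X (R := k)) (Fin r))

theorem t1_level (hψ : Function.Surjective ψ)
    (hker : RingHom.ker ψ.toRingHom = Ideal.span (Set.range a))
    (hreg : RingTheory.Sequence.IsRegular
      (At (PowerSeries.X (R := k)) (Fin r) ⧸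
        Ideal.span {algebraMap (PowerSeries k) (At (PowerSeries.X (R := k)) (Fin r))
          PowerSeries.X ^ (0 + 1)})
      ((List.ofFn a).map (Ideal.Quotient.mk (Ideal.span {algebraMap (PowerSeries k)
        (At (PowerSeries.X (R := k)) (Fin r)) PowerSeries.X ^ (0 + 1)})))) (n : ℕ) :
    Nonempty (((B ⧸ Kn (PowerSeries.X (R := k)) n B) ⊗[B]
        (Abelian.Ext.{u} (ModuleCat.of B (OmegaHat (PowerSeries.X (R := k)) B))
          (ModuleCat.of B B) 1)) ≃ₗ[B ⧸ Kn (PowerSeries.X (R := k)) n B]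
      Abelian.Ext.{u}
        (ModuleCat.of (B ⧸ Kn (PowerSeries.X (R := k)) n B)
          (Ω[(B ⧸ Kn (PowerSeries.X (R := k)) n B)⁄(PowerSeries k)]))
        (ModuleCat.of (B ⧸ Kn (PowerSeries.X (R := k)) n B)
          (B ⧸ Kn (PowerSeries.X (R := k)) n B)) 1) := by
  classical
  -- global
  have hinj := J_injective ψ a hψ hker hreg
  have hsurj := piM_surjective (PowerSeries.X (R := k)) ψ hψ
  have hex := exact_J_piM (PowerSeries.X (R := k)) ψ a hker hψ
  obtain ⟨e⟩ := ExtFreeRes.main hinj hsurj hex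
  -- level n
  have hτ : IsSMulRegular B (algebraMap (PowerSeries k) B PowerSeries.X) := by
    have h1 : IsSMulRegular (PowerSeries k) (PowerSeries.X (R := k)) :=
      (IsRegular.of_ne_zero PowerSeries.X_ne_zero).isSMulRegular
    exact h1.of_flat
  have hinjN := J_chi_injective (PowerSeries.X (R := k)) ψ a n hτ
    (mem_of_J_mem ψ a hψ hker hreg)
  have hsurjN := piN_surjective (PowerSeries.X (R := k)) ψ n hψ
  have hexN := exact_J_piN (PowerSeries.X (R := k)) ψ a n hker hψ
  obtain ⟨eN⟩ := ExtFreeRes.main hinjN hsurjN hexN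
  -- base change
  let bc := bcEquiv (Kn (PowerSeries.X (R := k)) n B) (J (PowerSeries.X (R := k)) ψ a)
    (J (PowerSeries.X (R := k)) (chi (PowerSeries.X (R := k)) ψ n) a)
    (J_chi (PowerSeries.X (R := k)) ψ a n)
  let e1 := dualCokerEquiv (J (PowerSeries.X (R := k)) ψ a)
  let e1N := dualCokerEquiv (J (PowerSeries.X (R := k)) (chi (PowerSeries.X (R := k)) ψ n) a)
  exact ⟨(TensorProduct.AlgebraTensorModule.congr
    (LinearEquiv.refl (B ⧸ Kn (PowerSeries.X (R := k)) n B) (B ⧸ Kn (PowerSeries.X (R := k)) n B))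
    (e.trans e1.symm)).trans (bc.trans (e1N.trans eN.symm))⟩

end Groth.Agent.Lib.Helper91.FormalT1
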