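import Mathlib
import Groth.Prelude.Def_GLin6

/-!
# Evaluation of the substitution coaction on forms at a matrix point (helper91)

For a matrix `M` with entries in a `k`-algebra `B`, the point `a` of the space of forms of degree `d`
is moved to the point whose form is `F_a(M y)`.
-/

set_option autoImplicit false
universe u v

open CoordGrp MvPolynomial

namespace Groth.Agent.Lib.Helper91.FormsEval

section Multinomial

/-- The multinomial theorem indexed by exponent vectors of degree `d`. -/
theorem sum_pow_formIdx {R : Type*} [CommSemiring R] {n : ℕ} (f : Fin n → R) (d : ℕ) :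
    (∑ j, f j) ^ d = ∑ l : FormIdx n d, (l.1.multinomial : R) * ∏ j, f j ^ (l.1 j) := by
  classical
  rw [Finset.sum_pow_eq_sum_piAntidiag Finset.univ f d]
  symm
  apply Finset.sum_bij (fun (l : FormIdx n d) _ => (⇑l.1 : Fin n → ℕ))
  · intro l _
    rw [Finset.mem_piAntidiag]
    refine ⟨?_, fun i _ => Finset.mem_univ i⟩
    have h2 := l.2
    rw [Finsupp.degree_eq_sum] at h2
    exact h2
  · intro l1 _ l2 _ h
    exact Subtype.ext (DFunLike.coe_injective h)
  · intro kk hk
    refine ⟨⟨Finsupp.equivFunOnFinite.symm kk, ?_⟩, Finset.mem_univ _, ?_⟩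
    · rw [Finsupp.degree_eq_sum]
      simpa using (Finset.mem_piAntidiag.mp hk).1
    · ext i
      simp
  · intro l _
    rw [Finsupp.multinomial_of_support_subset (Finset.subset_univ _)]

end Multinomial

section Eval

variable {k : Type u} [CommRing k] {n d : ℕ} {B : Type v} [CommRing B] [Algebra k B]

/-- The matrix coefficients of the substitution representation evaluated at the matrix `M`. -/
noncomputable def cM (M : Matrix (Fin n) (Fin n) B) (l m : FormIdx n d) : B :=
  Mat.aeval n k M (formCoeff k n d l m)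

/-- The substitution `x_i ↦ Σ_j M_ji x_j`. -/
noncomputable def rowSubst (M : Matrix (Fin n) (Fin n) B) :
    MvPolynomial (Fin n) k →ₐ[k] MvPolynomial (Fin n) B :=
  aeval fun i => ∑ j, C (M j i) * X j

/-- The substitution `x_j ↦ Σ_i M_ji y_i`, i.e. `F ↦ F(M y)`. -/
noncomputable def colSubst (M : Matrix (Fin n) (Fin n) B) :
    MvPolynomial (Fin n) k →ₐ[k] MvPolynomial (Fin n) B :=
  aeval fun j => ∑ i, C (M j i) * X i

/-- The auxiliary algebra map `k[x] ⊗ Mat → B[x]`. -/
noncomputable def theta (M : Matrix (Fin n) (Fin n) B) :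
    TensorProduct k (MvPolynomial (Fin n) k) (Mat n k) →ₐ[k] MvPolynomial (Fin n) B :=
  Algebra.TensorProduct.lift (aeval X : MvPolynomial (Fin n) k →ₐ[k] MvPolynomial (Fin n) B)
    ((IsScalarTower.toAlgHom k B (MvPolynomial (Fin n) B)).comp (Mat.aeval n k M))
    (fun _ _ => Commute.all _ _)

theorem theta_tmul (M : Matrix (Fin n) (Fin n) B) (p : MvPolynomial (Fin n) k) (c : Mat n k) :
    theta (k := k) M (p ⊗ₜ[k] c) = aeval X p * C (Mat.aeval n k M c) := by
  rw [theta, Algebra.TensorProduct.lift_tmul]
  rfl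

theorem theta_comp_stdCoactAlg (M : Matrix (Fin n) (Fin n) B) :
    (theta (k := k) M).comp (stdCoactAlg n k) = rowSubst (k := k) M := by
  apply MvPolynomial.algHom_ext
  intro i
  rw [AlgHom.comp_apply, stdCoactAlg_X, map_sum, rowSubst, aeval_X]
  refine Finset.sum_congr rfl fun j _ => ?_
  rw [theta_tmul, aeval_X, Mat.aeval_X, mul_comm]

theorem aeval_X_monomial_one (l : Fin n →₀ ℕ) :
    (aeval X : MvPolynomial (Fin n) k →ₐ[k] MvPolynomial (Fin n) B) (monomial l 1) =
      monomial l 1 := by
  rw [aeval_monomial, map_one, one_mul, monomial_eq, map_one, one_mul]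

theorem rowSubst_monomial (M : Matrix (Fin n) (Fin n) B) (m : FormIdx n d) :
    rowSubst (k := k) M (monomial m.1 1) = ∑ l : FormIdx n d, monomial l.1 (cM (k := k) M l m) := by
  rw [← theta_comp_stdCoactAlg (k := k), AlgHom.comp_apply, stdCoactAlg_monomial_expand d m, map_sum]
  refine Finset.sum_congr rfl fun l _ => ?_
  rw [theta_tmul, aeval_X_monomial_one, mul_comm, C_mul_monomial, mul_one]
  rfl

end Eval

section Gen

variable {k : Type u} [CommRing k] {n d : ℕ} {B : Type v} [CommRing B] [Algebra k B]

/-- The linear forms `u_j = Σ_i M_ji y_i`. -/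
noncomputable def uM (M : Matrix (Fin n) (Fin n) B) (j : Fin n) : MvPolynomial (Fin n) B :=
  ∑ i, C (M j i) * X i

theorem colSubst_X (M : Matrix (Fin n) (Fin n) B) (j : Fin n) :
    colSubst (k := k) M (X j) = uM M j := by
  rw [colSubst, aeval_X]
  rfl

/-- The bilinear form `x · M y` as a polynomial in `x` with coefficients polynomials in `y`. -/
noncomputable def ZZ (M : Matrix (Fin n) (Fin n) B) :
    MvPolynomial (Fin n) (MvPolynomial (Fin n) B) := ∑ j, X j * C (uM M j)

noncomputable def vM (M : Matrix (Fin n) (Fin n) B) (i : Fin n) :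
    MvPolynomial (Fin n) (MvPolynomial (Fin n) B) := ∑ j, C (C (M j i)) * X j

theorem ZZ_pow_A (M : Matrix (Fin n) (Fin n) B) (d : ℕ) :
    ZZ M ^ d = ∑ l : FormIdx n d,
      monomial l.1 ((l.1.multinomial : MvPolynomial (Fin n) B) * ∏ j, uM M j ^ (l.1 j)) := by
  rw [ZZ, sum_pow_formIdx]
  refine Finset.sum_congr rfl fun l _ => ?_
  simp only [mul_pow, Finset.prod_mul_distrib]
  rw [monomial_eq, Finsupp.prod_fintype _ _ (fun i => pow_zero _)]
  simp only [map_mul, map_prod, map_pow, map_natCast]
  ring

theorem ZZ_eq_B (M : Matrix (Fin n) (Fin n) B) : ZZ M = ∑ i, C (X i) * vM M i := by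
  simp only [ZZ, uM, vM, map_sum, map_mul, Finset.mul_sum]
  rw [Finset.sum_comm]
  refine Finset.sum_congr rfl fun i _ => Finset.sum_congr rfl fun j _ => ?_
  ring

theorem prod_vM (M : Matrix (Fin n) (Fin n) B) (m : FormIdx n d) :
    ∏ i, vM M i ^ (m.1 i) = ∑ l : FormIdx n d, monomial l.1 (C (cM (k := k) M l m)) := by
  have h := congrArg (MvPolynomial.map (C : B →+* MvPolynomial (Fin n) B))
    (rowSubst_monomial (k := k) M m)
  rw [rowSubst, aeval_monomial, map_one, one_mul,
    Finsupp.prod_fintype _ _ (fun i => pow_zero _)] at h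
  simp only [map_prod, map_pow, map_sum, map_mul, map_C, map_X, map_monomial] at h
  simp only [vM]
  exact h

theorem ZZ_pow_B (M : Matrix (Fin n) (Fin n) B) (d : ℕ) :
    ZZ M ^ d = ∑ m : FormIdx n d,
      C ((m.1.multinomial : MvPolynomial (Fin n) B) * ∏ i, X i ^ (m.1 i)) *
        ∑ l : FormIdx n d, monomial l.1 (C (cM (k := k) M l m)) := by
  rw [ZZ_eq_B, sum_pow_formIdx]
  refine Finset.sum_congr rfl fun m _ => ?_
  rw [← prod_vM]
  simp only [mul_pow, Finset.prod_mul_distrib, map_mul, map_prod, map_pow, map_natCast]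
  ring

theorem coeff_sum_monomial_formIdx {R : Type*} [CommSemiring R] (c : FormIdx n d → R)
    (l : FormIdx n d) : coeff l.1 (∑ l' : FormIdx n d, monomial l'.1 (c l')) = c l := by
  classical
  rw [coeff_sum, Finset.sum_eq_single l]
  · rw [coeff_monomial, if_pos rfl]
  · intro l' _ hl'
    rw [coeff_monomial, if_neg (fun h => hl' (Subtype.ext h))]
  · intro h; exact absurd (Finset.mem_univ l) h

/-- The generating identity relating the matrix coefficients to the substitution `y ↦ M y`. -/
theorem gen_identity (M : Matrix (Fin n) (Fin n) B) (l : FormIdx n d) :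
    ∑ m : FormIdx n d, monomial m.1 ((m.1.multinomial : B) * cM (k := k) M l m) =
      (l.1.multinomial : MvPolynomial (Fin n) B) * ∏ j, uM M j ^ (l.1 j) := by
  classical
  have h := congrArg (coeff l.1) ((ZZ_pow_A M d).symm.trans (ZZ_pow_B (k := k) M d))
  rw [coeff_sum_monomial_formIdx] at h
  rw [h, coeff_sum]
  refine Finset.sum_congr rfl fun m _ => ?_
  rw [coeff_C_mul, coeff_sum_monomial_formIdx, monomial_eq,
    Finsupp.prod_fintype _ _ (fun i => pow_zero _)]
  simp only [map_mul, map_natCast]
  ring

end Gen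

section EL

variable {k : Type u} [CommRing k] {n d : ℕ} {B : Type v} [CommRing B] [Algebra k B]

/-- The point `a` moved by the matrix point `M`. -/
noncomputable def movedPt (a : FormIdx n d → k) (M : Matrix (Fin n) (Fin n) B) :
    FormIdx n d → B :=
  fun m => ∑ l, algebraMap k B (a l) * cM (k := k) M l m

/-- The form of the moved point is `F_a(M y)`. -/
theorem formPoly_movedPt (a : FormIdx n d → k) (M : Matrix (Fin n) (Fin n) B) :
    formPoly (movedPt a M) = colSubst (k := k) M (formPoly a) := by
  rw [formPoly, formPoly, map_sum]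
  have hL : ∀ m : FormIdx n d, monomial m.1 ((m.1.multinomial : B) * movedPt a M m) =
      ∑ l, C (algebraMap k B (a l)) * monomial m.1 ((m.1.multinomial : B) * cM (k := k) M l m) := by
    intro m
    rw [movedPt, Finset.mul_sum, map_sum]
    refine Finset.sum_congr rfl fun l _ => ?_
    rw [C_mul_monomial]
    congr 1
    ring
  simp_rw [hL]
  rw [Finset.sum_comm]
  refine Finset.sum_congr rfl fun l _ => ?_
  rw [← Finset.mul_sum, gen_identity, colSubst, aeval_monomial,
    Finsupp.prod_fintype _ _ (fun i => pow_zero _), MvPolynomial.algebraMap_apply, map_mul,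
    map_natCast, map_mul, map_natCast]
  simp only [uM]
  ring

end EL

end Groth.Agent.Lib.Helper91.FormsEval
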