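import Groth.Agent.Lib.Helper91.HMSingular

/-!
# Stable plane cubics are the smooth ones (helper91)
-/

set_option autoImplicit false
universe u

open MvPolynomial CoordGrp
open Groth.Agent.Lib.Helper91.FormsOrbit
open Groth.Agent.Lib.Helper91.HMGeneral
open Groth.Agent.Lib.Helper91.HMConverse
open Groth.Agent.Lib.Helper91.HMSingular
open Groth.Agent.Lib.Helper91.BinaryMain

namespace Groth.Agent.Lib.Helper91.HMCubic

theorem main19421 (k : Type u) [Field k] [IsAlgClosed k] [CharZero k]
    (a : CoordGrp.FormIdx 3 3 → k) :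
    @GLin.IsStableVec k _ (CoordGrp.SLn 3 k) _ _ (CoordGrp.FormIdx 3 3)
      (GLin.comodAlong ((CoordGrp.SLn.mkHom 3 k).comp (CoordGrp.Mat.toGLn 3 k))
        (CoordGrp.formsCoact k 3 3))
      (GLin.isCoactAlg_comodAlong ((CoordGrp.SLn.mkHom 3 k).comp (CoordGrp.Mat.toGLn 3 k))
        (CoordGrp.formsCoact k 3 3) (CoordGrp.formsCoact_isCoactAlg k 3 3))
      a ↔
      ∀ w : Fin 3 → k, w ≠ 0 →
        ∃ i : Fin 3, MvPolynomial.eval w (MvPolynomial.pderiv i (CoordGrp.formPoly a)) ≠ 0 := by
  constructor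
  · intro hst w hw
    by_contra hno
    push Not at hno
    have hd : (((3 : ℕ).factorial : ℕ) : k) ≠ 0 := Nat.cast_ne_zero.mpr (Nat.factorial_ne_zero 3)
    have hNS := numStable_of_isStableVec hd a hst
    exact not_numStable_of_singular (N := 3) (m := 3) (by norm_num) (by norm_num) (by norm_num)
      (formPoly a) (formPoly_isHomogeneous a) w hw hno hNS
  · intro hsm
    exact Groth.Agent.Lib.Helper91.HMStable.main12548 k 2 3 (by norm_num) a hsm

end Groth.Agent.Lib.Helper91.HMCubic
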