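import Groth.Agent.Lib.Helper91.HMSorted

/-!
# Non-stable plane quartics: triple points and tacnodes (helper91)
-/

set_option autoImplicit false
universe u

open MvPolynomial CoordGrp
open Groth.Agent.Lib.Helper91.FormsEval
open Groth.Agent.Lib.Helper91.FormsOrbit
open Groth.Agent.Lib.Helper91.HMSubst
open Groth.Agent.Lib.Helper91.HMGeneral
open Groth.Agent.Lib.Helper91.HMConverse
open Groth.Agent.Lib.Helper91.HMSorted
open Groth.Agent.Lib.Helper91.BinaryMain

namespace Groth.Agent.Lib.Helper91.HMQuartic

/-- the exponent vector `x_0^(4-i-j) x_1^i x_2^j` -/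
noncomputable def expo (i j : ℕ) : Fin 3 →₀ ℕ :=
  Finsupp.single 0 (4 - i - j) + Finsupp.single 1 i + Finsupp.single 2 j

theorem expo_apply_zero (i j : ℕ) : expo i j 0 = 4 - i - j := by
  simp [expo]

theorem expo_apply_one (i j : ℕ) : expo i j 1 = i := by
  simp [expo]

theorem expo_apply_two (i j : ℕ) : expo i j 2 = j := by
  simp [expo]

theorem eq_expo (e : Fin 3 →₀ ℕ) (he : ∑ l, e l = 4) : e = expo (e 1) (e 2) := by
  rw [Fin.sum_univ_three] at he
  have h0 : e 0 = expo (e 1) (e 2) 0 := by
    rw [expo_apply_zero]
    omega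
  have h1 : e 1 = expo (e 1) (e 2) 1 := by rw [expo_apply_one]
  have h2 : e 2 = expo (e 1) (e 2) 2 := by rw [expo_apply_two]
  ext l
  fin_cases l
  · exact h0
  · exact h1
  · exact h2

theorem weight_expo (i j : ℕ) (hij : i + j ≤ 4) (r : Fin 3 → ℤ) :
    ∑ l, ((expo i j l : ℕ) : ℤ) * r l = ((4 : ℤ) - i - j) * r 0 + i * r 1 + j * r 2 := by
  rw [Fin.sum_univ_three, expo_apply_zero, expo_apply_one, expo_apply_two]
  have : ((4 - i - j : ℕ) : ℤ) = (4 : ℤ) - i - j := by omega
  rw [this]

theorem main12551 (k : Type u) [Field k] [IsAlgClosed k] [CharZero k]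
    (a : CoordGrp.FormIdx 3 4 → k) :
    ¬ @GLin.IsStableVec k _ (CoordGrp.SLn 3 k) _ _ (CoordGrp.FormIdx 3 4)
      (GLin.comodAlong ((CoordGrp.SLn.mkHom 3 k).comp (CoordGrp.Mat.toGLn 3 k))
        (CoordGrp.formsCoact k 3 4))
      (GLin.isCoactAlg_comodAlong ((CoordGrp.SLn.mkHom 3 k).comp (CoordGrp.Mat.toGLn 3 k))
        (CoordGrp.formsCoact k 3 4) (CoordGrp.formsCoact_isCoactAlg k 3 4))
      a ↔
      ∃ M : Matrix (Fin 3) (Fin 3) k, M.det = 1 ∧
        ∃ F' : MvPolynomial (Fin 3) k,
          F' = MvPolynomial.aeval
              (fun i : Fin 3 => ∑ j : Fin 3, MvPolynomial.C (M i j) * MvPolynomial.X j)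
              (CoordGrp.formPoly a) ∧
          (∀ ij : ℕ × ℕ, ij ∈ ({(0, 0), (1, 0), (0, 1), (2, 0), (1, 1)} : Finset (ℕ × ℕ)) →
            F'.coeff (Finsupp.single 0 (4 - ij.1 - ij.2) + Finsupp.single 1 ij.1 +
              Finsupp.single 2 ij.2) = 0) ∧
          (F'.coeff (Finsupp.single 0 2 + Finsupp.single 2 2) = 0 ∨
            F'.coeff (Finsupp.single 0 1 + Finsupp.single 1 3) = 0) := by
  classical
  have hd : (((4 : ℕ).factorial : ℕ) : k) ≠ 0 := Nat.cast_ne_zero.mpr (Nat.factorial_ne_zero 4)
  have hb02 : (Finsupp.single 0 2 + Finsupp.single 2 2 : Fin 3 →₀ ℕ) = expo 0 2 := by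
    simp [expo]
  have hb30 : (Finsupp.single 0 1 + Finsupp.single 1 3 : Fin 3 →₀ ℕ) = expo 3 0 := by
    simp [expo]
  constructor
  · -- not stable: find sorted destabilising weights
    intro hns
    have hnNS : ¬ NumStable (formPoly a) := fun h => hns (isStableVec_of_numStable a h)
    obtain ⟨M, hM, r, hmono, hr0, hrsum, hw⟩ := exists_sorted_of_not_numStable (2 : Fin 3) _ hnNS
    have h01 : r 0 ≤ r 1 := hmono (by decide)
    have h12 : r 1 ≤ r 2 := hmono (by decide)
    rw [Fin.sum_univ_three] at hrsum
    have hneg : r 0 < 0 := by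
      by_contra hge
      apply hr0
      funext l
      fin_cases l <;> simp <;> omega
    refine ⟨M, hM, colSubst (k := k) (B := k) M (formPoly a), rfl, ?_, ?_⟩
    · intro ij hij
      by_contra hne
      have hmem : expo ij.1 ij.2 ∈ (colSubst (k := k) (B := k) M (formPoly a)).support :=
        mem_support_iff.mpr hne
      have h1 := hw _ hmem
      simp only [Finset.mem_insert, Finset.mem_singleton] at hij
      rcases hij with h | h | h | h | h <;> subst h <;>
        · rw [weight_expo _ _ (by norm_num)] at h1
          push_cast at h1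
          omega
    · by_cases h02 : 2 * r 0 + 2 * r 2 < 0
      · left
        rw [hb02]
        by_contra hne
        have h1 := hw _ (mem_support_iff.mpr hne)
        rw [weight_expo _ _ (by norm_num)] at h1
        push_cast at h1
        omega
      · right
        rw [hb30]
        by_contra hne
        have h1 := hw _ (mem_support_iff.mpr hne)
        rw [weight_expo _ _ (by norm_num)] at h1
        push_cast at h1
        omega
  · -- a triple point or a tacnode destabilises
    rintro ⟨M, hM, F', hF', h5, h6⟩ hst
    have hNS := numStable_of_isStableVec hd a hst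
    have hF'' : F' = colSubst (k := k) (B := k) M (formPoly a) := hF'
    have hhom : F'.IsHomogeneous 4 := by
      rw [hF'']
      exact Groth.Agent.Lib.Helper91.HMKey.colSubst_isHomogeneous M (formPoly_isHomogeneous a)
    have hdeg : ∀ e ∈ F'.support, ∑ l, e l = 4 := by
      intro e he
      have h2 : e.degree = 4 := by
        rw [Finsupp.degree_eq_weight_one]
        exact hhom (mem_support_iff.mp he)
      rw [← h2, Finsupp.degree_eq_sum]
    have hcoef : ∀ i j, (i, j) ∈ ({(0, 0), (1, 0), (0, 1), (2, 0), (1, 1)} : Finset (ℕ × ℕ)) →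
        coeff (expo i j) F' = 0 := fun i j hij => h5 (i, j) hij
    rcases h6 with h6 | h6
    · -- triple point: weights (-2, 1, 1)
      let r : Fin 3 → ℤ := ![-2, 1, 1]
      have hr := hNS M hM r (by rw [Fin.sum_univ_three]; simp [r]) (by
        intro e he
        rw [← hF''] at he
        have hd4 := hdeg e he
        by_contra hlt
        rw [not_le] at hlt
        rw [eq_expo e hd4] at he hlt
        have hd4' := hd4
        rw [Fin.sum_univ_three] at hd4'
        rw [weight_expo _ _ (by omega)] at hlt
        simp only [r, Matrix.cons_val_zero, Matrix.cons_val_one, Matrix.cons_val_two,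
          Matrix.head_cons, Matrix.tail_cons] at hlt
        have hle : e 1 + e 2 ≤ 2 := by
          have : ((e 1 : ℕ) : ℤ) + e 2 ≤ 2 := by linarith
          exact_mod_cast this
        have hne := mem_support_iff.mp he
        have h1 : e 1 ≤ 2 := by omega
        have h2 : e 2 ≤ 2 := by omega
        interval_cases h1' : e 1 <;> interval_cases h2' : e 2 <;>
          first
          | omega
          | exact hne (hcoef _ _ (by decide))
          | exact hne (by rw [← hb02]; exact h6))
      have := congrFun hr 0
      simp [r] at this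
    · -- tacnode: weights (-1, 0, 1)
      let r : Fin 3 → ℤ := ![-1, 0, 1]
      have hr := hNS M hM r (by rw [Fin.sum_univ_three]; simp [r]) (by
        intro e he
        rw [← hF''] at he
        have hd4 := hdeg e he
        by_contra hlt
        rw [not_le] at hlt
        rw [eq_expo e hd4] at he hlt
        have hd4' := hd4
        rw [Fin.sum_univ_three] at hd4'
        rw [weight_expo _ _ (by omega)] at hlt
        simp only [r, Matrix.cons_val_zero, Matrix.cons_val_one, Matrix.cons_val_two,
          Matrix.head_cons, Matrix.tail_cons] at hlt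
        have hle : e 1 + 2 * e 2 ≤ 3 := by
          have : ((e 1 : ℕ) : ℤ) + 2 * e 2 ≤ 3 := by linarith
          exact_mod_cast this
        have hne := mem_support_iff.mp he
        have h1 : e 1 ≤ 3 := by omega
        have h2 : e 2 ≤ 1 := by omega
        interval_cases h1' : e 1 <;> interval_cases h2' : e 2 <;>
          first
          | omega
          | exact hne (hcoef _ _ (by decide))
          | exact hne (by rw [← hb30]; exact h6))
      have := congrFun hr 0
      simp [r] at this

end Groth.Agent.Lib.Helper91.HMQuartic
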