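import Groth.Agent.Lib.Helper91.PSLenBasic

/-!
# Monomials in `k[[x,y,t]]` and truncation
-/

namespace Groth.Agent.Lib.Helper91.PSLen

open MvPowerSeries

variable {k : Type*} [Field k]

/-- exponent vector `(a,b,c)` -/
noncomputable def ex (a b c : ℕ) : Fin 3 →₀ ℕ :=
  Finsupp.single 0 a + Finsupp.single 1 b + Finsupp.single 2 c

@[simp] lemma ex_apply_zero (a b c : ℕ) : ex a b c 0 = a := by
  simp [ex]

@[simp] lemma ex_apply_one (a b c : ℕ) : ex a b c 1 = b := by
  simp [ex]

@[simp] lemma ex_apply_two (a b c : ℕ) : ex a b c 2 = c := by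
  simp [ex]

lemma ext_fin3 {e e' : Fin 3 →₀ ℕ} (h0 : e 0 = e' 0) (h1 : e 1 = e' 1) (h2 : e 2 = e' 2) :
    e = e' := by
  ext i
  fin_cases i
  · exact h0
  · exact h1
  · exact h2

lemma eq_ex (e : Fin 3 →₀ ℕ) : e = ex (e 0) (e 1) (e 2) := by
  apply ext_fin3 <;> simp

lemma ex_inj {a b c a' b' c' : ℕ} : ex a b c = ex a' b' c' ↔ a = a' ∧ b = b' ∧ c = c' := by
  constructor
  · intro h
    refine ⟨?_, ?_, ?_⟩
    · simpa using DFunLike.congr_fun h 0
    · simpa using DFunLike.congr_fun h 1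
    · simpa using DFunLike.congr_fun h 2
  · rintro ⟨rfl, rfl, rfl⟩; rfl

lemma ex_add (a b c a' b' c' : ℕ) : ex a b c + ex a' b' c' = ex (a + a') (b + b') (c + c') := by
  apply ext_fin3 <;> simp

lemma ex_le {a b c a' b' c' : ℕ} : ex a b c ≤ ex a' b' c' ↔ a ≤ a' ∧ b ≤ b' ∧ c ≤ c' := by
  constructor
  · intro h
    refine ⟨?_, ?_, ?_⟩
    · simpa using h 0
    · simpa using h 1
    · simpa using h 2
  · rintro ⟨h0, h1, h2⟩ i
    fin_cases i
    · simpa using h0
    · simpa using h1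
    · simpa using h2

lemma ex_sub (a b c a' b' c' : ℕ) : ex a b c - ex a' b' c' = ex (a - a') (b - b') (c - c') := by
  apply ext_fin3 <;> simp [Finsupp.tsub_apply]

/-- the monomial `x^a y^b t^c` -/
noncomputable def mon (k : Type*) [Field k] (a b c : ℕ) : MvPowerSeries (Fin 3) k :=
  X 0 ^ a * X 1 ^ b * X 2 ^ c

lemma mon_eq (a b c : ℕ) : mon k a b c = monomial (ex a b c) (1 : k) := by
  unfold mon ex
  rw [X_pow_eq, X_pow_eq, X_pow_eq, monomial_mul_monomial, monomial_mul_monomial]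
  simp

lemma coeff_mon (e : Fin 3 →₀ ℕ) (a b c : ℕ) :
    coeff e (mon k a b c) = if e = ex a b c then 1 else 0 := by
  classical
  rw [mon_eq, coeff_monomial]

lemma mon_mul_mon (a b c a' b' c' : ℕ) :
    mon k a b c * mon k a' b' c' = mon k (a + a') (b + b') (c + c') := by
  rw [mon_eq, mon_eq, mon_eq, monomial_mul_monomial, ex_add, mul_one]

lemma coeff_mon_mul (e : Fin 3 →₀ ℕ) (a b c : ℕ) (f : MvPowerSeries (Fin 3) k) :
    coeff e (mon k a b c * f) = if ex a b c ≤ e then coeff (e - ex a b c) f else 0 := by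
  classical
  rw [mon_eq, coeff_monomial_mul, one_mul]

/-- A power series whose coefficients vanish on the box `[0,N)^3` lies in `(x^N, y^N, t^N)`. -/
theorem mem_span_pow_of_coeff_eq_zero (N : ℕ) (q : MvPowerSeries (Fin 3) k)
    (h : ∀ e : Fin 3 →₀ ℕ, e 0 < N → e 1 < N → e 2 < N → coeff e q = 0) :
    q ∈ Ideal.span ({X 0 ^ N, X 1 ^ N, X 2 ^ N} : Set (MvPowerSeries (Fin 3) k)) := by
  classical
  let q₀ : MvPowerSeries (Fin 3) k := fun e => if e 0 < N then coeff e q else 0
  let q₁ : MvPowerSeries (Fin 3) k := fun e => if e 1 < N then coeff e q₀ else 0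
  have hq₀ : ∀ e, coeff e q₀ = if e 0 < N then coeff e q else 0 := fun e => rfl
  have hq₁ : ∀ e, coeff e q₁ = if e 1 < N then coeff e q₀ else 0 := fun e => rfl
  have h0 : (X 0 : MvPowerSeries (Fin 3) k) ^ N ∣ q - q₀ := by
    rw [X_pow_dvd_iff]
    intro m hm
    rw [map_sub, hq₀, if_pos hm, sub_self]
  have h1 : (X 1 : MvPowerSeries (Fin 3) k) ^ N ∣ q₀ - q₁ := by
    rw [X_pow_dvd_iff]
    intro m hm
    rw [map_sub, hq₁, if_pos hm, sub_self]
  have h2 : (X 2 : MvPowerSeries (Fin 3) k) ^ N ∣ q₁ := by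
    rw [X_pow_dvd_iff]
    intro m hm
    rw [hq₁, hq₀]
    split_ifs with h1' h0'
    · exact h m h0' h1' hm
    · rfl
    · rfl
  have hq : q = (q - q₀) + (q₀ - q₁) + q₁ := by ring
  rw [hq]
  refine Ideal.add_mem _ (Ideal.add_mem _ ?_ ?_) ?_
  · exact Ideal.mem_of_dvd _ h0 (Ideal.subset_span (by simp))
  · exact Ideal.mem_of_dvd _ h1 (Ideal.subset_span (by simp))
  · exact Ideal.mem_of_dvd _ h2 (Ideal.subset_span (by simp))

/-- the box part of a power series -/
noncomputable def boxPart (N : ℕ) (f : MvPowerSeries (Fin 3) k) : MvPowerSeries (Fin 3) k :=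
  ∑ a ∈ Finset.range N, ∑ b ∈ Finset.range N, ∑ c ∈ Finset.range N,
    coeff (ex a b c) f • mon k a b c

lemma coeff_boxPart (N : ℕ) (f : MvPowerSeries (Fin 3) k) (e : Fin 3 →₀ ℕ)
    (h0 : e 0 < N) (h1 : e 1 < N) (h2 : e 2 < N) : coeff e (boxPart N f) = coeff e f := by
  classical
  unfold boxPart
  simp only [map_sum, map_smul, smul_eq_mul, coeff_mon]
  rw [Finset.sum_eq_single (e 0)]
  · rw [Finset.sum_eq_single (e 1)]
    · rw [Finset.sum_eq_single (e 2)]
      · rw [if_pos (eq_ex e), mul_one, ← eq_ex]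
      · intro c _ hc
        rw [if_neg, mul_zero]
        intro h
        apply hc
        have := DFunLike.congr_fun h 2
        simpa using this.symm
      · intro h; exact absurd (Finset.mem_range.mpr h2) h
    · intro b _ hb
      apply Finset.sum_eq_zero
      intro c _
      rw [if_neg, mul_zero]
      intro h
      apply hb
      have := DFunLike.congr_fun h 1
      simpa using this.symm
    · intro h; exact absurd (Finset.mem_range.mpr h1) h
  · intro a _ ha
    apply Finset.sum_eq_zero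
    intro b _
    apply Finset.sum_eq_zero
    intro c _
    rw [if_neg, mul_zero]
    intro h
    apply ha
    have := DFunLike.congr_fun h 0
    simpa using this.symm
  · intro h; exact absurd (Finset.mem_range.mpr h0) h

/-- Spanning criterion: if `(x^N, y^N, t^N) ≤ K` and every monomial lies in `V ⊔ K`, then
`V ⊔ K = ⊤`. -/
theorem sup_eq_top_of_mon_mem (K : Ideal (MvPowerSeries (Fin 3) k))
    (V : Submodule k (MvPowerSeries (Fin 3) k)) (N : ℕ)
    (hN0 : (X 0 : MvPowerSeries (Fin 3) k) ^ N ∈ K) (hN1 : (X 1 : MvPowerSeries (Fin 3) k) ^ N ∈ K)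
    (hN2 : (X 2 : MvPowerSeries (Fin 3) k) ^ N ∈ K)
    (hmon : ∀ a b c : ℕ, mon k a b c ∈ V ⊔ K.restrictScalars k) :
    V ⊔ K.restrictScalars k = ⊤ := by
  rw [eq_top_iff]
  intro f _
  have hf : f = boxPart N f + (f - boxPart N f) := by ring
  rw [hf]
  refine Submodule.add_mem _ ?_ ?_
  · unfold boxPart
    refine Submodule.sum_mem _ fun a _ => Submodule.sum_mem _ fun b _ =>
      Submodule.sum_mem _ fun c _ => Submodule.smul_mem _ _ (hmon a b c)
  · apply Submodule.mem_sup_right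
    change f - boxPart N f ∈ K
    have hle : Ideal.span ({X 0 ^ N, X 1 ^ N, X 2 ^ N} : Set (MvPowerSeries (Fin 3) k)) ≤ K := by
      rw [Ideal.span_le]
      intro x hx
      simp only [Set.mem_insert_iff, Set.mem_singleton_iff] at hx
      rcases hx with rfl | rfl | rfl
      · exact hN0
      · exact hN1
      · exact hN2
    apply hle
    apply mem_span_pow_of_coeff_eq_zero
    intro e h0 h1 h2
    rw [map_sub, coeff_boxPart N f e h0 h1 h2, sub_self]

end Groth.Agent.Lib.Helper91.PSLen
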