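import Mathlib
import Groth.Agent.Lib.Helper91.PSLenTrunc

/-!
# Derivations of `k[[x,y,z]]` over a perfect field of characteristic `p`

Every `k`-derivation of `P = k[[x,y,z]]` into any `P`-module which kills the variables is zero,
because `P` is generated over `P^p` by the monomials.
-/

namespace Groth.Agent.Lib.Helper91.PSDeriv

open MvPowerSeries Groth.Agent.Lib.Helper91.PSLen

variable {k : Type*} [Field k] (p : ℕ) [Fact p.Prime] [CharP k p]

lemma coeff_pow_p_smul (h : MvPowerSeries (Fin 3) k) (m : Fin 3 →₀ ℕ) :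
    coeff (p • m) (h ^ p) = (coeff m h) ^ p := by
  have hp : p ≠ 0 := (Fact.out : p.Prime).ne_zero
  rw [← map_frobenius_expand p hp, coeff_map, coeff_expand_smul, frobenius_def]

lemma coeff_pow_p_of_not_dvd (h : MvPowerSeries (Fin 3) k) {n : Fin 3 →₀ ℕ} {i : Fin 3}
    (hi : ¬ p ∣ n i) : coeff n (h ^ p) = 0 := by
  have hp : p ≠ 0 := (Fact.out : p.Prime).ne_zero
  rw [← map_frobenius_expand p hp, coeff_map, coeff_expand_of_not_dvd p hp h hi, map_zero]

variable [PerfectField k]

/-- the `p`-th root components of a power series -/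
noncomputable def root (g : MvPowerSeries (Fin 3) k) (a b c : ℕ) : MvPowerSeries (Fin 3) k :=
  fun m => (frobeniusEquiv k p).symm (coeff (p • m + ex a b c) g)

lemma coeff_root (g : MvPowerSeries (Fin 3) k) (a b c : ℕ) (m : Fin 3 →₀ ℕ) :
    coeff m (root p g a b c) = (frobeniusEquiv k p).symm (coeff (p • m + ex a b c) g) := rfl

theorem decomp (g : MvPowerSeries (Fin 3) k) :
    g = ∑ a ∈ Finset.range p, ∑ b ∈ Finset.range p, ∑ c ∈ Finset.range p,
      mon k a b c * (root p g a b c) ^ p := by
  have hp : 0 < p := (Fact.out : p.Prime).pos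
  ext n
  simp only [map_sum, coeff_mon_mul]
  have key : ∀ a b c : ℕ, a < p → b < p → c < p →
      (a ≠ n 0 % p ∨ b ≠ n 1 % p ∨ c ≠ n 2 % p) →
      (if ex a b c ≤ n then coeff (n - ex a b c) ((root p g a b c) ^ p) else 0) = 0 := by
    intro a b c ha hb hc hne
    split_ifs with hle
    · have hle' : ex a b c ≤ ex (n 0) (n 1) (n 2) := by rwa [← eq_ex]
      rw [ex_le] at hle'
      obtain ⟨h0, h1, h2⟩ := hle'
      have aux : ∀ x y : ℕ, y < p → y ≤ x → y ≠ x % p → ¬ p ∣ x - y := by
        intro x y hy hyx hne hd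
        apply hne
        obtain ⟨t, ht⟩ := hd
        have : x = y + p * t := by omega
        rw [this, Nat.add_mul_mod_self_left, Nat.mod_eq_of_lt hy]
      rcases hne with hne | hne | hne
      · apply coeff_pow_p_of_not_dvd p _ (i := 0)
        rw [Finsupp.tsub_apply, ex_apply_zero]
        exact aux _ _ ha h0 hne
      · apply coeff_pow_p_of_not_dvd p _ (i := 1)
        rw [Finsupp.tsub_apply, ex_apply_one]
        exact aux _ _ hb h1 hne
      · apply coeff_pow_p_of_not_dvd p _ (i := 2)
        rw [Finsupp.tsub_apply, ex_apply_two]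
        exact aux _ _ hc h2 hne
    · rfl
  rw [Finset.sum_eq_single (n 0 % p), Finset.sum_eq_single (n 1 % p),
    Finset.sum_eq_single (n 2 % p)]
  · have hle : ex (n 0 % p) (n 1 % p) (n 2 % p) ≤ n := by
      conv_rhs => rw [eq_ex n]
      rw [ex_le]
      exact ⟨Nat.mod_le _ _, Nat.mod_le _ _, Nat.mod_le _ _⟩
    rw [if_pos hle]
    have hsub : n - ex (n 0 % p) (n 1 % p) (n 2 % p) = p • ex (n 0 / p) (n 1 / p) (n 2 / p) := by
      apply ext_fin3
      · rw [Finsupp.tsub_apply, ex_apply_zero, Finsupp.smul_apply, ex_apply_zero, smul_eq_mul]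
        have := Nat.div_add_mod (n 0) p
        omega
      · rw [Finsupp.tsub_apply, ex_apply_one, Finsupp.smul_apply, ex_apply_one, smul_eq_mul]
        have := Nat.div_add_mod (n 1) p
        omega
      · rw [Finsupp.tsub_apply, ex_apply_two, Finsupp.smul_apply, ex_apply_two, smul_eq_mul]
        have := Nat.div_add_mod (n 2) p
        omega
    rw [hsub, coeff_pow_p_smul, coeff_root, frobeniusEquiv_symm_pow_p, ← hsub,
      tsub_add_cancel_of_le hle]
  · intro c hc hne
    exact key _ _ _ (Nat.mod_lt _ hp) (Nat.mod_lt _ hp) (Finset.mem_range.mp hc)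
      (Or.inr (Or.inr hne))
  · intro h
    exact absurd (Finset.mem_range.mpr (Nat.mod_lt _ hp)) h
  · intro b hb hne
    apply Finset.sum_eq_zero
    intro c hc
    exact key _ _ _ (Nat.mod_lt _ hp) (Finset.mem_range.mp hb) (Finset.mem_range.mp hc)
      (Or.inr (Or.inl hne))
  · intro h
    exact absurd (Finset.mem_range.mpr (Nat.mod_lt _ hp)) h
  · intro a ha hne
    apply Finset.sum_eq_zero
    intro b hb
    apply Finset.sum_eq_zero
    intro c hc
    exact key _ _ _ (Finset.mem_range.mp ha) (Finset.mem_range.mp hb) (Finset.mem_range.mp hc)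
      (Or.inl hne)
  · intro h
    exact absurd (Finset.mem_range.mpr (Nat.mod_lt _ hp)) h

variable {M : Type*} [AddCommGroup M] [Module k M] [Module (MvPowerSeries (Fin 3) k) M]
  [IsScalarTower k (MvPowerSeries (Fin 3) k) M]

omit [PerfectField k] [Fact p.Prime] [IsScalarTower k (MvPowerSeries (Fin 3) k) M] in
lemma derivation_pow_p (δ : Derivation k (MvPowerSeries (Fin 3) k) M)
    (h : MvPowerSeries (Fin 3) k) : δ (h ^ p) = 0 := by
  rw [Derivation.leibniz_pow]
  have h1 : ((p : ℕ) : MvPowerSeries (Fin 3) k) = 0 := by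
    have : ((p : ℕ) : MvPowerSeries (Fin 3) k) = C ((p : ℕ) : k) := by
      rw [map_natCast]
    rw [this, CharP.cast_eq_zero, map_zero]
  rw [← Nat.cast_smul_eq_nsmul (MvPowerSeries (Fin 3) k), h1, zero_smul]

/-- **Key fact**: a `k`-derivation of `k[[x,y,z]]` (char `p`, `k` perfect) killing the variables
is zero. -/
theorem derivation_eq_zero (p : ℕ) [Fact p.Prime] [CharP k p]
    (δ : Derivation k (MvPowerSeries (Fin 3) k) M)
    (hδ : ∀ i, δ (X i) = 0) : δ = 0 := by
  ext g
  change δ g = 0
  rw [decomp p g]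
  simp only [map_sum, Derivation.leibniz, derivation_pow_p, smul_zero, zero_add]
  apply Finset.sum_eq_zero
  intro a _
  apply Finset.sum_eq_zero
  intro b _
  apply Finset.sum_eq_zero
  intro c _
  simp [mon, Derivation.leibniz, Derivation.leibniz_pow, hδ]

end Groth.Agent.Lib.Helper91.PSDeriv
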