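import Mathlib
import Groth.Agent.Lib.Helper91.PSDeriv

/-!
# Kähler differentials of a hypersurface `k[[x,y,z]]/(f)` in characteristic `p`
-/

universe u

namespace Groth.Agent.Lib.Helper91.HypOmega

open MvPowerSeries

variable {k : Type u} [Field k]

/-- the hypersurface ring -/
abbrev R0 (f : MvPowerSeries (Fin 3) k) : Type u := MvPowerSeries (Fin 3) k ⧸ Ideal.span {f}

/-- the quotient map -/
noncomputable abbrev mk0 (f : MvPowerSeries (Fin 3) k) : MvPowerSeries (Fin 3) k →+* R0 f :=
  Ideal.Quotient.mk (Ideal.span {f})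

/-- the gradient of `f`, modulo `f` -/
noncomputable def v (f : MvPowerSeries (Fin 3) k) : Fin 3 → R0 f :=
  fun i => mk0 f (pderiv k i f)

/-- the presentation map `R₀³ → Ω` -/
noncomputable def π (f : MvPowerSeries (Fin 3) k) : (Fin 3 → R0 f) →ₗ[R0 f] Ω[R0 f⁄k] :=
  Fintype.linearCombination (R0 f) (fun i => KaehlerDifferential.D k (R0 f) (mk0 f (X i)))

lemma π_apply (f : MvPowerSeries (Fin 3) k) (c : Fin 3 → R0 f) :
    π f c = ∑ i, c i • KaehlerDifferential.D k (R0 f) (mk0 f (X i)) := by
  simp [π, Fintype.linearCombination_apply]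

section dbar

variable (f : MvPowerSeries (Fin 3) k)

/-- target of the gradient derivation -/
abbrev Q : Type u := (Fin 3 → R0 f) ⧸ Submodule.span (R0 f) {v f}

/-- the gradient, modulo `f` and modulo the gradient of `f` -/
noncomputable def d0 (g : MvPowerSeries (Fin 3) k) : Q f :=
  Submodule.Quotient.mk (fun i => mk0 f (pderiv k i g))

lemma d0_add (a b : MvPowerSeries (Fin 3) k) : d0 f (a + b) = d0 f a + d0 f b := by
  unfold d0
  rw [← Submodule.Quotient.mk_add]
  congr 1
  funext i
  simp

lemma mk0_smul (c : k) (a : MvPowerSeries (Fin 3) k) : mk0 f (c • a) = c • mk0 f a := by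
  exact map_smul (Ideal.Quotient.mkₐ k (Ideal.span {f})) c a

lemma d0_smul (c : k) (a : MvPowerSeries (Fin 3) k) : d0 f (c • a) = c • d0 f a := by
  unfold d0
  rw [← Submodule.Quotient.mk_smul]
  congr 1
  funext i
  rw [Derivation.map_smul, mk0_smul]
  rfl

lemma d0_mul (a b : MvPowerSeries (Fin 3) k) :
    d0 f (a * b) = mk0 f a • d0 f b + mk0 f b • d0 f a := by
  unfold d0
  rw [← Submodule.Quotient.mk_smul, ← Submodule.Quotient.mk_smul, ← Submodule.Quotient.mk_add]
  congr 1
  funext i
  simp [Derivation.leibniz]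

lemma d0_f_mul (h : MvPowerSeries (Fin 3) k) : d0 f (f * h) = 0 := by
  rw [d0_mul]
  have h0 : mk0 f f = 0 := Ideal.Quotient.eq_zero_iff_mem.mpr (Ideal.mem_span_singleton_self f)
  have h1 : d0 f f = 0 := by
    unfold d0
    rw [Submodule.Quotient.mk_eq_zero]
    exact Submodule.mem_span_singleton_self _
  rw [h0, h1, smul_zero, add_zero]
  exact zero_smul (R0 f) (d0 f h)

lemma d0_sub (a b : MvPowerSeries (Fin 3) k) : d0 f (a - b) = d0 f a - d0 f b := by
  have := d0_add f (a - b) b
  rw [sub_add_cancel] at this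
  rw [this, add_sub_cancel_right]

lemma d0_eq_of_mk_eq {g g' : MvPowerSeries (Fin 3) k} (h : mk0 f g = mk0 f g') :
    d0 f g = d0 f g' := by
  rw [Ideal.Quotient.eq, Ideal.mem_span_singleton] at h
  obtain ⟨c, hc⟩ := h
  rw [← sub_eq_zero, ← d0_sub, hc, d0_f_mul]

/-- the gradient on `R₀` as a function -/
noncomputable def dbarFun (r : R0 f) : Q f :=
  d0 f (Function.surjInv (Ideal.Quotient.mk_surjective (I := Ideal.span {f})) r)

lemma dbarFun_mk (g : MvPowerSeries (Fin 3) k) : dbarFun f (mk0 f g) = d0 f g := by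
  unfold dbarFun
  apply d0_eq_of_mk_eq
  exact Function.surjInv_eq (Ideal.Quotient.mk_surjective (I := Ideal.span {f})) _

/-- the gradient on `R₀` as a derivation -/
noncomputable def dbar : Derivation k (R0 f) (Q f) :=
  Derivation.mk'
    { toFun := dbarFun f
      map_add' := by
        intro a b
        obtain ⟨a, rfl⟩ := Ideal.Quotient.mk_surjective a
        obtain ⟨b, rfl⟩ := Ideal.Quotient.mk_surjective b
        rw [← map_add, dbarFun_mk, dbarFun_mk, dbarFun_mk, d0_add]
      map_smul' := by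
        intro c a
        obtain ⟨a, rfl⟩ := Ideal.Quotient.mk_surjective a
        rw [← mk0_smul, dbarFun_mk, dbarFun_mk, d0_smul]
        rfl }
    (by
      intro a b
      obtain ⟨a, rfl⟩ := Ideal.Quotient.mk_surjective a
      obtain ⟨b, rfl⟩ := Ideal.Quotient.mk_surjective b
      change dbarFun f (mk0 f a * mk0 f b) = mk0 f a • dbarFun f (mk0 f b) +
        mk0 f b • dbarFun f (mk0 f a)
      rw [← map_mul, dbarFun_mk, dbarFun_mk, dbarFun_mk, d0_mul])

lemma dbar_mk (g : MvPowerSeries (Fin 3) k) : dbar f (mk0 f g) = d0 f g := dbarFun_mk f g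

lemma d0_X (i : Fin 3) : d0 f (X i) = Submodule.Quotient.mk (Pi.single i 1) := by
  classical
  unfold d0
  congr 1
  funext j
  rw [pderiv_X]
  by_cases h : j = i
  · subst h; simp
  · rw [Pi.single_eq_of_ne (Ne.symm h), Pi.single_eq_of_ne h, map_zero]

/-- (F4) -/
theorem ker_π_le : LinearMap.ker (π f) ≤ Submodule.span (R0 f) {v f} := by
  intro c hc
  rw [LinearMap.mem_ker] at hc
  have h1 := congrArg (dbar f).liftKaehlerDifferential hc
  rw [map_zero, π_apply, map_sum] at h1
  simp only [map_smul, Derivation.liftKaehlerDifferential_comp_D, dbar_mk, d0_X] at h1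
  rw [← Submodule.Quotient.mk_eq_zero]
  rw [← h1]
  simp only [← Submodule.Quotient.mk_smul]
  simp only [← Submodule.mkQ_apply]
  rw [← map_sum]
  congr 1
  funext j
  simp [Finset.sum_apply, Pi.single_apply]

end dbar

lemma derivation_sum_apply {R A M ι : Type*} [CommSemiring R] [CommSemiring A] [Algebra R A]
    [AddCommMonoid M] [Module A M] [Module R M] (s : Finset ι) (d : ι → Derivation R A M) (a : A) :
    (∑ i ∈ s, d i) a = ∑ i ∈ s, d i a := by
  classical
  induction s using Finset.induction_on with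
  | empty => simp
  | insert i s hi ih => rw [Finset.sum_insert hi, Finset.sum_insert hi, Derivation.add_apply, ih]

variable (p : ℕ) [Fact p.Prime] [CharP k p] [PerfectField k] (f : MvPowerSeries (Fin 3) k)

include p

/-- (F1) the chain rule in `Ω[R₀/k]`. -/
theorem D_mk (g : MvPowerSeries (Fin 3) k) :
    KaehlerDifferential.D k (R0 f) (mk0 f g) =
      ∑ i, mk0 f (pderiv k i g) • KaehlerDifferential.D k (R0 f) (mk0 f (X i)) := by
  classical
  let D := KaehlerDifferential.D k (R0 f)
  let δ : Derivation k (MvPowerSeries (Fin 3) k) Ω[R0 f⁄k] :=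
    D.compAlgebraMap (MvPowerSeries (Fin 3) k) -
      ∑ i, (LinearMap.toSpanSingleton (MvPowerSeries (Fin 3) k) _ (D (mk0 f (X i)))).compDer
        (pderiv k i)
  have hδ : δ = 0 := by
    apply PSDeriv.derivation_eq_zero p δ
    intro j
    simp only [δ, Derivation.sub_apply, derivation_sum_apply,
      Derivation.compAlgebraMap_apply, Derivation.coe_comp, LinearMap.coe_comp,
      Function.comp_apply, LinearMap.coe_restrictScalars, Derivation.coeFn_coe,
      LinearMap.toSpanSingleton_apply]
    rw [Finset.sum_eq_single j]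
    · rw [pderiv_X_self, one_smul]
      exact sub_self _
    · intro i _ hij
      rw [pderiv_X_of_ne (Ne.symm hij), zero_smul]
    · intro h
      exact absurd (Finset.mem_univ j) h
  have h1 := Derivation.congr_fun hδ g
  simp only [δ, Derivation.sub_apply, derivation_sum_apply,
    Derivation.compAlgebraMap_apply, Derivation.coe_comp, LinearMap.coe_comp,
    Function.comp_apply, LinearMap.coe_restrictScalars, Derivation.coeFn_coe,
    LinearMap.toSpanSingleton_apply, Derivation.zero_apply] at h1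
  rw [sub_eq_zero] at h1
  refine h1.trans ?_
  apply Finset.sum_congr rfl
  intro i _
  rw [← algebraMap_smul (R0 f) (pderiv k i g)]
  rfl

/-- (F3) -/
theorem π_v : π f (v f) = 0 := by
  rw [π_apply]
  have h := D_mk p f f
  have h0 : mk0 f f = 0 := Ideal.Quotient.eq_zero_iff_mem.mpr (Ideal.mem_span_singleton_self f)
  rw [h0, map_zero] at h
  exact h.symm

/-- (F2) -/
theorem π_surjective : Function.Surjective (π f) := by
  rw [← LinearMap.range_eq_top, eq_top_iff, ← KaehlerDifferential.span_range_derivation k (R0 f),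
    Submodule.span_le]
  rintro _ ⟨r, rfl⟩
  obtain ⟨g, rfl⟩ := Ideal.Quotient.mk_surjective r
  refine ⟨fun i => mk0 f (pderiv k i g), ?_⟩
  rw [π_apply]
  exact (D_mk p f g).symm

/-- every derivation of `P` is a combination of the partial derivatives -/
theorem der_eq (D' : Derivation k (MvPowerSeries (Fin 3) k) (MvPowerSeries (Fin 3) k))
    (g : MvPowerSeries (Fin 3) k) : D' g = ∑ i, pderiv k i g * D' (X i) := by
  classical
  let δ : Derivation k (MvPowerSeries (Fin 3) k) (MvPowerSeries (Fin 3) k) :=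
    D' - ∑ i, (LinearMap.toSpanSingleton (MvPowerSeries (Fin 3) k) _ (D' (X i))).compDer
        (pderiv k i)
  have hδ : δ = 0 := by
    apply PSDeriv.derivation_eq_zero p δ
    intro j
    simp only [δ, Derivation.sub_apply, derivation_sum_apply,
      Derivation.coe_comp, LinearMap.coe_comp,
      Function.comp_apply, LinearMap.coe_restrictScalars, Derivation.coeFn_coe,
      LinearMap.toSpanSingleton_apply]
    rw [Finset.sum_eq_single j]
    · rw [pderiv_X_self, one_smul]
      exact sub_self _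
    · intro i _ hij
      rw [pderiv_X_of_ne (Ne.symm hij), zero_smul]
    · intro h
      exact absurd (Finset.mem_univ j) h
  have h1 := Derivation.congr_fun hδ g
  simp only [δ, Derivation.sub_apply, derivation_sum_apply,
    Derivation.coe_comp, LinearMap.coe_comp,
    Function.comp_apply, LinearMap.coe_restrictScalars, Derivation.coeFn_coe,
    LinearMap.toSpanSingleton_apply, Derivation.zero_apply, smul_eq_mul] at h1
  rw [sub_eq_zero] at h1
  exact h1

theorem span_range_v : Ideal.span (Set.range (v f)) = Ideal.map (mk0 f)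
    (Ideal.span {g | ∃ D' : Derivation k (MvPowerSeries (Fin 3) k) (MvPowerSeries (Fin 3) k),
      g = D' f}) := by
  rw [Ideal.map_span]
  apply le_antisymm
  · rw [Ideal.span_le]
    rintro _ ⟨i, rfl⟩
    apply Ideal.subset_span
    exact ⟨pderiv k i f, ⟨pderiv k i, rfl⟩, rfl⟩
  · rw [Ideal.span_le]
    rintro _ ⟨g, ⟨D', rfl⟩, rfl⟩
    rw [der_eq p D' f, map_sum]
    apply Ideal.sum_mem
    intro i _
    rw [map_mul]
    apply Ideal.mul_mem_right
    exact Ideal.subset_span ⟨i, rfl⟩

omit [Fact (Nat.Prime p)] [CharP k p] [PerfectField k] in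
omit p in
lemma X_pow_dvd_of_dvd_mul (N : ℕ) (a : MvPowerSeries (Fin 3) k)
    (h : (X 0 : MvPowerSeries (Fin 3) k) ^ N ∣ a * X 1 ^ N) :
    (X 0 : MvPowerSeries (Fin 3) k) ^ N ∣ a := by
  classical
  rw [X_pow_dvd_iff] at h ⊢
  intro m hm
  have h1 := h (m + Finsupp.single 1 N) (by
    rw [Finsupp.add_apply, Finsupp.single_apply, if_neg (by decide)]
    simpa using hm)
  rw [X_pow_eq, coeff_mul_monomial, if_pos (by exact le_add_self), add_tsub_cancel_right,
    mul_one] at h1
  exact h1

/-- (F5) -/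
theorem smul_v_inj
    (hiso : ∃ N : ℕ, IsLocalRing.maximalIdeal (MvPowerSeries (Fin 3) k) ^ N ≤
      Ideal.span {f} ⊔ Ideal.span {g | ∃ D : Derivation k (MvPowerSeries (Fin 3) k)
        (MvPowerSeries (Fin 3) k), g = D f})
    (r : R0 f) (hr : r • v f = 0) : r = 0 := by
  obtain ⟨N, hN⟩ := hiso
  obtain ⟨u, rfl⟩ := Ideal.Quotient.mk_surjective r
  have hu : ∀ i, pderiv k i f * u ∈ Ideal.span {f} := by
    intro i
    have h1 := congrFun hr i
    simp only [Pi.smul_apply, v, smul_eq_mul, Pi.zero_apply] at h1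
    rw [← map_mul, Ideal.Quotient.eq_zero_iff_mem, mul_comm] at h1
    exact h1
  let K : Ideal (MvPowerSeries (Fin 3) k) := (Ideal.span {f}).colon {u}
  have hK : ∀ x, x ∈ K ↔ x * u ∈ Ideal.span {f} := by
    intro x
    exact Submodule.mem_colon_singleton
  have h1 : Ideal.span {f} ≤ K := by
    intro x hx
    rw [hK]
    exact Ideal.mul_mem_right _ _ hx
  have h2 : Ideal.span {g | ∃ D : Derivation k (MvPowerSeries (Fin 3) k)
        (MvPowerSeries (Fin 3) k), g = D f} ≤ K := by
    rw [Ideal.span_le]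
    rintro _ ⟨D', rfl⟩
    change D' f ∈ K
    rw [hK, der_eq p D' f, Finset.sum_mul]
    apply Ideal.sum_mem
    intro i _
    rw [mul_right_comm]
    exact Ideal.mul_mem_right _ _ (hu i)
  have h3 : IsLocalRing.maximalIdeal (MvPowerSeries (Fin 3) k) ^ N ≤ K :=
    hN.trans (sup_le h1 h2)
  have hX : ∀ i : Fin 3, (X i : MvPowerSeries (Fin 3) k) ∈
      IsLocalRing.maximalIdeal (MvPowerSeries (Fin 3) k) := by
    intro i
    rw [IsLocalRing.mem_maximalIdeal, mem_nonunits_iff, MvPowerSeries.isUnit_iff_constantCoeff,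
      constantCoeff_X]
    exact not_isUnit_zero
  have hX0 : (X 0 : MvPowerSeries (Fin 3) k) ^ N ≠ 0 := by
    intro h
    have := congrArg (coeff (Finsupp.single 0 N)) h
    rw [X_pow_eq, coeff_monomial_same, map_zero] at this
    exact one_ne_zero this
  have h4 : (X 0 : MvPowerSeries (Fin 3) k) ^ N * u ∈ Ideal.span {f} :=
    (hK _).mp (h3 (Ideal.pow_mem_pow (hX 0) N))
  have h5 : (X 1 : MvPowerSeries (Fin 3) k) ^ N * u ∈ Ideal.span {f} :=
    (hK _).mp (h3 (Ideal.pow_mem_pow (hX 1) N))
  rw [Ideal.mem_span_singleton] at h4 h5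
  obtain ⟨a, ha⟩ := h4
  obtain ⟨b, hb⟩ := h5
  rw [Ideal.Quotient.eq_zero_iff_mem, Ideal.mem_span_singleton]
  by_cases hf0 : f = 0
  · rw [hf0, zero_mul] at ha
    rcases mul_eq_zero.mp ha with h | h
    · exact absurd h hX0
    · rw [h]; exact dvd_zero _
  · have h6 : f * (a * X 1 ^ N) = f * (b * X 0 ^ N) := by
      calc f * (a * X 1 ^ N) = (f * a) * X 1 ^ N := by ring
        _ = (X 0 ^ N * u) * X 1 ^ N := by rw [ha]
        _ = (X 1 ^ N * u) * X 0 ^ N := by ring
        _ = (f * b) * X 0 ^ N := by rw [hb]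
        _ = f * (b * X 0 ^ N) := by ring
    have h7 : a * X 1 ^ N = b * X 0 ^ N := mul_left_cancel₀ hf0 h6
    have h8 : (X 0 : MvPowerSeries (Fin 3) k) ^ N ∣ a :=
      X_pow_dvd_of_dvd_mul N a ⟨b, by rw [h7, mul_comm]⟩
    obtain ⟨a', rfl⟩ := h8
    have h9 : X 0 ^ N * u = X 0 ^ N * (f * a') := by rw [ha]; ring
    exact ⟨a', mul_left_cancel₀ hX0 h9⟩

end Groth.Agent.Lib.Helper91.HypOmega
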