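import Groth.Prelude.Def_W4c5cptfessfintypeLocImm
import Mathlib

/-!
# Helper lemmas on localizing morphisms / localizing immersions (helper91)
-/

set_option autoImplicit false
universe u

open CategoryTheory AlgebraicGeometry TopologicalSpace Limits

namespace Groth.Agent.Lib.Helper91.LocImm

/-- For a localizing ring map `φ : A → B` and a prime `q` of `B`, the induced map
`A_{φ⁻¹ q} → B_q` is bijective. -/
theorem localRingHom_bijective_of_isLocHom {A B : Type*} [CommRing A] [CommRing B]
    (φ : A →+* B) (hφ : LocImm.IsLocHom φ) (p : Ideal A) [p.IsPrime] (q : Ideal B) [q.IsPrime]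
    (h : p = q.comap φ) :
    Function.Bijective (Localization.localRingHom p q φ h) := by
  let _ := φ.toAlgebra
  obtain ⟨S, hS⟩ := hφ
  subst h
  have hloc : IsLocalization.AtPrime (Localization.AtPrime q) (q.comap (algebraMap A B)) :=
    IsLocalization.isLocalization_isLocalization_atPrime_isLocalization S _ q
  have hloc' : IsLocalization (q.comap φ).primeCompl (Localization.AtPrime q) := hloc
  let e : Localization.AtPrime (q.comap φ) ≃ₐ[A] Localization.AtPrime q :=
    IsLocalization.algEquiv (q.comap φ).primeCompl _ _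
  have : Localization.localRingHom (q.comap φ) q φ rfl = (e : _ →+* _) := by
    apply IsLocalization.ringHom_ext (q.comap φ).primeCompl
    ext a
    simp only [RingHom.coe_comp, Function.comp_apply, Localization.localRingHom_to_map]
    rw [RingHom.coe_coe, AlgEquiv.commutes, IsScalarTower.algebraMap_apply A B]
    rfl
  rw [this]
  exact e.bijective


variable {X Y : Scheme.{u}}

/-- A localizing morphism induces isomorphisms on all stalks. -/
theorem isIso_stalkMap_of_isLocalizing (f : X ⟶ Y) (hf : LocImm.IsLocalizing f) (x : X) :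
    IsIso (f.stalkMap x) := by
  obtain ⟨U, V, hxV, e, hloc⟩ := hf x
  have iso := IsAffineOpen.arrowStalkMapIso f U.1 U.2 V.1 V.2 e hxV
  rw [← MorphismProperty.isomorphisms.iff,
    (MorphismProperty.isomorphisms CommRingCat).arrow_mk_iso_iff iso,
    MorphismProperty.isomorphisms.iff, ConcreteCategory.isIso_iff_bijective]
  exact localRingHom_bijective_of_isLocHom _ hloc _ _
    congr($(IsAffineOpen.comap_primeIdealOf_appLE U.1 U.2 V.1 V.2 e hxV).1).symm

/-- If the stalk map at `x` is an isomorphism, every generization of `f x` lifts to a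
generization of `x`. -/
theorem exists_specializes_of_isIso_stalkMap (f : X ⟶ Y) (x : X) [IsIso (f.stalkMap x)]
    {y : Y} (hy : y ⤳ f x) : ∃ x' : X, x' ⤳ x ∧ f x' = y := by
  have hy' : y ∈ Set.range (Y.fromSpecStalk (f x)) := by
    rw [Scheme.range_fromSpecStalk]; exact hy
  obtain ⟨z, rfl⟩ := hy'
  have hsurj : Function.Surjective (Spec.map (f.stalkMap x)) :=
    (ConcreteCategory.bijective_of_isIso (Spec.map (f.stalkMap x)).base).2
  obtain ⟨w, rfl⟩ := hsurj z
  refine ⟨X.fromSpecStalk x w, ?_, ?_⟩
  · have : X.fromSpecStalk x w ∈ Set.range (X.fromSpecStalk x) := ⟨w, rfl⟩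
    rw [Scheme.range_fromSpecStalk] at this
    exact this
  · rw [← Scheme.Hom.comp_apply, ← Scheme.Hom.comp_apply,
      Scheme.SpecMap_stalkMap_fromSpecStalk]


/-- Key topological lemma: a continuous injective map out of a Noetherian quasi-sober space along
which generizations lift is inducing (hence an embedding). -/
theorem isInducing_of_lift_generization {α β : Type*} [TopologicalSpace α] [TopologicalSpace β]
    [NoetherianSpace α] [QuasiSober α] (g : α → β) (hg : Continuous g)
    (hinj : Function.Injective g)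
    (hgen : ∀ x : α, ∀ y : β, y ⤳ g x → ∃ x', x' ⤳ x ∧ g x' = y) : Topology.IsInducing g := by
  -- main claim
  have main : ∀ Z : Set α, IsClosed Z → ∀ x : α, g x ∈ closure (g '' Z) → x ∈ Z := by
    intro Z hZ x hx
    obtain ⟨S, hSf, hSc, hSi, rfl⟩ := NoetherianSpace.exists_finite_set_isClosed_irreducible hZ
    have hsub : closure (g '' ⋃₀ S) ⊆ ⋃ t ∈ S, closure (g '' t) := by
      apply closure_minimal
      · rintro _ ⟨a, ⟨t, htS, hat⟩, rfl⟩
        exact Set.mem_biUnion htS (subset_closure ⟨a, hat, rfl⟩)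
      · exact hSf.isClosed_biUnion fun t _ => isClosed_closure
    obtain ⟨t, htS, hxt⟩ := Set.mem_iUnion₂.mp (hsub hx)
    obtain ⟨z, hz⟩ := QuasiSober.sober (hSi t htS) (hSc t htS)
    have hz' : closure {z} = t := hz
    have h1 : closure (g '' t) ⊆ closure {g z} := by
      apply closure_minimal _ isClosed_closure
      rw [← hz']
      refine (image_closure_subset_closure_image hg).trans ?_
      rw [Set.image_singleton]
    have h2 : g z ⤳ g x := specializes_iff_mem_closure.mpr (h1 hxt)
    obtain ⟨x', hx', hgx'⟩ := hgen x (g z) h2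
    have : x' = z := hinj hgx'
    subst this
    have h3 : x ∈ closure {x'} := specializes_iff_mem_closure.mp hx'
    rw [hz'] at h3
    exact Set.mem_sUnion.mpr ⟨t, htS, h3⟩
  refine ⟨le_antisymm (continuous_iff_le_induced.mp hg) ?_⟩
  intro U hU
  rw [isOpen_induced_iff]
  refine ⟨(closure (g '' Uᶜ))ᶜ, isClosed_closure.isOpen_compl, ?_⟩
  ext x
  simp only [Set.mem_preimage, Set.mem_compl_iff]
  constructor
  · intro hx
    by_contra hxU
    exact hx (subset_closure ⟨x, hxU, rfl⟩)
  · intro hxU hx
    exact (main Uᶜ hU.isClosed_compl x hx) hxU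

/-- A localizing immersion of schemes with Noetherian source is a topological embedding. -/
theorem isEmbedding_of_isLocImmersion [IsNoetherian X] (f : X ⟶ Y)
    (hf : LocImm.IsLocImmersion f) : Topology.IsEmbedding (fun x => f x) := by
  refine ⟨?_, hf.2⟩
  apply isInducing_of_lift_generization _ f.continuous hf.2
  intro x y hy
  have := isIso_stalkMap_of_isLocalizing f hf.1 x
  exact exists_specializes_of_isIso_stalkMap f x hy

/-- The image of a localizing morphism is stable under generization. -/
theorem stableUnderGeneralization_range_of_isLocalizing (f : X ⟶ Y)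
    (hf : LocImm.IsLocalizing f) : StableUnderGeneralization (Set.range (fun x => f x)) := by
  rintro _ y hy ⟨x, rfl⟩
  have := isIso_stalkMap_of_isLocalizing f hf x
  obtain ⟨x', -, rfl⟩ := exists_specializes_of_isIso_stalkMap f x hy
  exact ⟨x', rfl⟩


/-- In a Noetherian quasi-sober space, a closed subset stable under generization is open. -/
theorem isOpen_of_isClosed_of_stableUnderGeneralization {β : Type*} [TopologicalSpace β]
    [NoetherianSpace β] [QuasiSober β] {Z : Set β} (hc : IsClosed Z)
    (hg : StableUnderGeneralization Z) : IsOpen Z := by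
  obtain ⟨S, hSf, hSc, hSi, hS⟩ :=
    NoetherianSpace.exists_finite_set_isClosed_irreducible (isClosed_univ (X := β))
  have key : Zᶜ = ⋃ t ∈ {t ∈ S | Disjoint t Z}, t := by
    ext y
    simp only [Set.mem_compl_iff, Set.mem_ofPred_eq, Set.mem_iUnion, exists_prop]
    constructor
    · intro hy
      have hyU : y ∈ ⋃₀ S := hS ▸ Set.mem_univ y
      obtain ⟨t, htS, hyt⟩ := Set.mem_sUnion.mp hyU
      refine ⟨t, ⟨htS, ?_⟩, hyt⟩
      rw [Set.disjoint_left]
      intro z hzt hzZ
      obtain ⟨η, hη⟩ := QuasiSober.sober (hSi t htS) (hSc t htS)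
      have hη' : closure {η} = t := hη
      have h1 : η ⤳ z := specializes_iff_mem_closure.mpr (hη' ▸ hzt)
      have h2 : η ∈ Z := hg h1 hzZ
      have h3 : t ⊆ Z := by
        rw [← hη']
        exact closure_minimal (Set.singleton_subset_iff.mpr h2) hc
      exact hy (h3 hyt)
    · rintro ⟨t, ⟨-, htZ⟩, hyt⟩ hyZ
      exact (Set.disjoint_left.mp htZ) hyt hyZ
  rw [← isClosed_compl_iff, key]
  exact (hSf.subset (Set.sep_subset _ _)).isClosed_biUnion fun t ht => hSc t ht.1

/-- A localizing immersion between Noetherian schemes with closed image is an open immersion. -/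
theorem isOpenImmersion_of_isClosed_range [IsNoetherian X] [IsNoetherian Y] (f : X ⟶ Y)
    (hf : LocImm.IsLocImmersion f) (hc : IsClosed (Set.range (fun x => f x))) :
    IsOpenImmersion f := by
  have emb := isEmbedding_of_isLocImmersion f hf
  have hopen : IsOpen (Set.range (fun x => f x)) :=
    isOpen_of_isClosed_of_stableUnderGeneralization hc
      (stableUnderGeneralization_range_of_isLocalizing f hf.1)
  have : ∀ x, IsIso (f.stalkMap x) := isIso_stalkMap_of_isLocalizing f hf.1
  exact IsOpenImmersion.of_isIso_stalkMap f ⟨emb, hopen⟩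

/-- A localizing immersion between Noetherian schemes which is locally of finite type is an open
immersion. -/
theorem isOpenImmersion_of_locallyOfFiniteType [IsNoetherian X] [IsNoetherian Y] (f : X ⟶ Y)
    (hf : LocImm.IsLocImmersion f) [LocallyOfFiniteType f] : IsOpenImmersion f := by
  have emb := isEmbedding_of_isLocImmersion f hf
  have gen : GeneralizingMap (fun x => f x) :=
    emb.isInducing.generalizingMap (stableUnderGeneralization_range_of_isLocalizing f hf.1)
  have hopen : IsOpenMap (fun x => f x) := isOpenMap_of_generalizingMap f gen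
  have : ∀ x, IsIso (f.stalkMap x) := isIso_stalkMap_of_isLocalizing f hf.1
  exact IsOpenImmersion.of_isIso_stalkMap f (.of_isEmbedding_isOpenMap emb hopen)

theorem isLocHom_of_away {A B A' B' : Type*} [CommRing A] [CommRing B] [CommRing A'] [CommRing B']
    (φ : A →+* B) (hφ : LocImm.IsLocHom φ) (a : A)
    (α : A →+* A') (β : B →+* B') (φ' : A' →+* B')
    (hα : @IsLocalization.Away _ _ a A' _ α.toAlgebra)
    (hβ : @IsLocalization.Away _ _ (φ a) B' _ β.toAlgebra)
    (hcomm : φ'.comp α = β.comp φ) : LocImm.IsLocHom φ' := by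
  let _ := φ.toAlgebra
  let _ := α.toAlgebra
  let _ := β.toAlgebra
  let _ := φ'.toAlgebra
  let _ : Algebra A B' := (β.comp φ).toAlgebra
  have : IsScalarTower A B B' := IsScalarTower.of_algebraMap_eq' rfl
  have : IsScalarTower A A' B' := IsScalarTower.of_algebraMap_eq' hcomm.symm
  obtain ⟨S, hS⟩ := hφ
  have hβ' : IsLocalization (Submonoid.powers (algebraMap A B a)) B' := hβ
  have h1 : IsLocalization (IsLocalization.localizationLocalizationSubmodule S
      (Submonoid.powers (algebraMap A B a))) B' :=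
    IsLocalization.localization_localization_isLocalization S _ B'
  have hle : Submonoid.powers a ≤ IsLocalization.localizationLocalizationSubmodule S
      (Submonoid.powers (algebraMap A B a)) := by
    rw [Submonoid.powers_le, IsLocalization.mem_localizationLocalizationSubmodule]
    exact ⟨⟨algebraMap A B a, Submonoid.mem_powers _⟩, 1, by simp⟩
  have hα' : IsLocalization (Submonoid.powers a) A' := hα
  exact ⟨_, IsLocalization.isLocalization_of_submonoid_le A' B' _ _ hle⟩

theorem exists_affine_nhd_of_isLocImmersion [IsNoetherian X] (f : X ⟶ Y)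
    (hf : LocImm.IsLocImmersion f) (x : X) :
    ∃ V : Y.Opens, f x ∈ V ∧ IsAffineOpen V ∧ IsAffineOpen (f ⁻¹ᵁ V) ∧
      LocImm.IsLocHom (f.app V).hom := by
  obtain ⟨U, V0, hxV0, e, hloc⟩ := hf.1 x
  have emb := isEmbedding_of_isLocImmersion f hf
  obtain ⟨W, hWo, hW⟩ := emb.isInducing.isOpen_iff.mp V0.1.2
  let W' : Y.Opens := ⟨W, hWo⟩
  have hfxW : f x ∈ W' := by
    have : x ∈ (fun x => f x) ⁻¹' W := by rw [hW]; exact hxV0
    exact this
  obtain ⟨a, haW, hxa⟩ := U.2.exists_basicOpen_le ⟨f x, hfxW⟩ (e hxV0)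
  have hpre_le : f ⁻¹ᵁ Y.basicOpen a ≤ V0.1 := by
    intro z hz
    have hz' : f z ∈ W := haW hz
    have : z ∈ (fun x => f x) ⁻¹' W := hz'
    rw [hW] at this
    exact this
  have hpre : f ⁻¹ᵁ Y.basicOpen a = X.basicOpen ((f.appLE U.1 V0.1 e).hom a) := by
    rw [Scheme.Hom.appLE, CommRingCat.hom_comp, RingHom.comp_apply]
    erw [Scheme.basicOpen_res]
    rw [← Scheme.preimage_basicOpen]
    exact (inf_eq_right.mpr hpre_le).symm
  refine ⟨Y.basicOpen a, hxa, U.2.basicOpen a, ?_, ?_⟩
  · rw [hpre]; exact V0.2.basicOpen _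
  · refine isLocHom_of_away (f.appLE U.1 V0.1 e).hom hloc a
      (Y.presheaf.map (homOfLE (Y.basicOpen_le a)).op).hom
      (X.presheaf.map (homOfLE hpre_le).op).hom (f.app (Y.basicOpen a)).hom
      (U.2.isLocalization_basicOpen a)
      (V0.2.isLocalization_of_eq_basicOpen _ _ hpre) ?_
    rw [← CommRingCat.hom_comp, ← CommRingCat.hom_comp, Scheme.Hom.appLE_map,
      Scheme.Hom.app_eq_appLE, Scheme.Hom.map_appLE]

theorem isLocImmersion_of_forall_exists_affine (f : X ⟶ Y)
    (H : ∀ x : X, ∃ V : Y.Opens, f x ∈ V ∧ IsAffineOpen V ∧ IsAffineOpen (f ⁻¹ᵁ V) ∧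
      LocImm.IsLocHom (f.app V).hom) :
    LocImm.IsLocImmersion f := by
  constructor
  · intro x
    obtain ⟨V, hxV, hV, hV', hloc⟩ := H x
    refine ⟨⟨V, hV⟩, ⟨f ⁻¹ᵁ V, hV'⟩, hxV, le_rfl, ?_⟩
    rw [Scheme.Hom.app_eq_appLE] at hloc
    exact hloc
  · intro x x' hxx'
    obtain ⟨V, hxV, hV, hV', hloc⟩ := H x
    have hxx'' : f x = f x' := hxx'
    have hx'V : f x' ∈ V := hxx'' ▸ hxV
    have hxV' : x ∈ f ⁻¹ᵁ V := hxV
    have hx'V' : x' ∈ f ⁻¹ᵁ V := hx'V
    have h1 := IsAffineOpen.comap_primeIdealOf_appLE V hV (f ⁻¹ᵁ V) hV' le_rfl hxV'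
    have h2 := IsAffineOpen.comap_primeIdealOf_appLE V hV (f ⁻¹ᵁ V) hV' le_rfl hx'V'
    have h3 : hV.primeIdealOf ⟨f x, hxV⟩ = hV.primeIdealOf ⟨f x', hx'V⟩ := by
      congr 1; exact Subtype.ext hxx''
    rw [Scheme.Hom.app_eq_appLE] at hloc
    have h4 : hV'.primeIdealOf ⟨x, hxV'⟩ = hV'.primeIdealOf ⟨x', hx'V'⟩ := by
      let _ := (f.appLE V (f ⁻¹ᵁ V) le_rfl).hom.toAlgebra
      obtain ⟨S, hS⟩ := hloc
      apply PrimeSpectrum.localization_comap_injective Γ(X, f ⁻¹ᵁ V) S
      exact (h1.trans h3).trans h2.symm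
    have := congrArg hV'.fromSpec h4
    rw [hV'.fromSpec_primeIdealOf, hV'.fromSpec_primeIdealOf] at this
    exact this

section ring

theorem isLocHom_algebraMap_iff {R S : Type*} [CommRing R] [CommRing S] [inst : Algebra R S] :
    LocImm.IsLocHom (algebraMap R S) ↔ ∃ M : Submonoid R, IsLocalization M S := by
  have : (algebraMap R S).toAlgebra = inst := Algebra.algebra_ext _ _ (fun r => rfl)
  unfold LocImm.IsLocHom
  rw [this]

theorem isLocHom_algebraMap_of_isLocalization {R S : Type*} [CommRing R] [CommRing S]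
    [Algebra R S] (M : Submonoid R) [IsLocalization M S] :
    LocImm.IsLocHom (algebraMap R S) :=
  isLocHom_algebraMap_iff.mpr ⟨M, inferInstance⟩

theorem isLocHom_comp {A B C : Type*} [CommRing A] [CommRing B] [CommRing C]
    (φ : A →+* B) (ψ : B →+* C) (hφ : LocImm.IsLocHom φ) (hψ : LocImm.IsLocHom ψ) :
    LocImm.IsLocHom (ψ.comp φ) := by
  let _ := φ.toAlgebra
  let _ := ψ.toAlgebra
  let _ := (ψ.comp φ).toAlgebra
  have : IsScalarTower A B C := IsScalarTower.of_algebraMap_eq' rfl
  obtain ⟨M, hM⟩ := hφ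
  obtain ⟨N, hN⟩ := hψ
  exact ⟨_, IsLocalization.localization_localization_isLocalization M N C⟩

theorem isLocHom_of_bijective {A B : Type*} [CommRing A] [CommRing B]
    (φ : A →+* B) (hφ : Function.Bijective φ) : LocImm.IsLocHom φ := by
  let _ := φ.toAlgebra
  refine ⟨⊥, IsLocalization.of_le_isUnit_of_bijective ?_ hφ⟩
  rintro _ ⟨x, hx, rfl⟩
  rw [Submonoid.mem_bot.mp hx, map_one]
  exact isUnit_one

theorem isLocHom_of_away' {A B A' B' : Type*} [CommRing A] [CommRing B] [CommRing A']
    [CommRing B'] [Algebra A A'] [Algebra B B']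
    (φ : A →+* B) (hφ : LocImm.IsLocHom φ) (a : A)
    [hα : IsLocalization.Away a A'] [hβ : IsLocalization.Away (φ a) B'] (φ' : A' →+* B')
    (hcomm : φ'.comp (algebraMap A A') = (algebraMap B B').comp φ) : LocImm.IsLocHom φ' := by
  let _ := φ.toAlgebra
  let _ := φ'.toAlgebra
  let _ : Algebra A B' := ((algebraMap B B').comp φ).toAlgebra
  have : IsScalarTower A B B' := IsScalarTower.of_algebraMap_eq' rfl
  have : IsScalarTower A A' B' := IsScalarTower.of_algebraMap_eq' hcomm.symm
  obtain ⟨S, hS⟩ := hφ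
  have hβ' : IsLocalization (Submonoid.powers (algebraMap A B a)) B' := hβ
  have h1 : IsLocalization (IsLocalization.localizationLocalizationSubmodule S
      (Submonoid.powers (algebraMap A B a))) B' :=
    IsLocalization.localization_localization_isLocalization S _ B'
  have hle : Submonoid.powers a ≤ IsLocalization.localizationLocalizationSubmodule S
      (Submonoid.powers (algebraMap A B a)) := by
    rw [Submonoid.powers_le, IsLocalization.mem_localizationLocalizationSubmodule]
    exact ⟨⟨algebraMap A B a, Submonoid.mem_powers _⟩, 1, by simp⟩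
  have hα' : IsLocalization (Submonoid.powers a) A' := hα
  exact ⟨_, IsLocalization.isLocalization_of_submonoid_le A' B' _ _ hle⟩

/-- Universe-monomorphic version of `LocImm.IsLocHom` as a property of ring homs. -/
def IsLocHomU : ∀ {R S : Type u} [CommRing R] [CommRing S], (R →+* S) → Prop :=
  fun φ => LocImm.IsLocHom φ

theorem isLocHomU_respectsIso : RingHom.RespectsIso IsLocHomU.{u} := by
  constructor
  · intro R S T _ _ _ f e hf
    exact isLocHom_comp f e.toRingHom hf (isLocHom_of_bijective _ e.bijective)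
  · intro R S T _ _ _ f e hf
    exact isLocHom_comp e.toRingHom f (isLocHom_of_bijective _ e.bijective) hf

theorem isLocHomU_localizationAwayPreserves : RingHom.LocalizationAwayPreserves IsLocHomU.{u} := by
  intro R S _ _ f r R' S' _ _ _ _ _ _ hf
  refine isLocHom_of_away' f hf r _ ?_
  exact IsLocalization.map_comp _

theorem isLocHomU_stableUnderCompositionWithLocalizationAway :
    RingHom.StableUnderCompositionWithLocalizationAway IsLocHomU.{u} := by
  constructor
  · intro R S T _ _ _ _ r _ f hf
    exact isLocHom_comp _ f (isLocHom_algebraMap_of_isLocalization (Submonoid.powers r)) hf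
  · intro R S T _ _ _ _ s _ f hf
    exact isLocHom_comp f _ hf (isLocHom_algebraMap_of_isLocalization (Submonoid.powers s))

theorem isLocHomU_isStableUnderBaseChange : RingHom.IsStableUnderBaseChange IsLocHomU.{u} := by
  intro R S R' S' _ _ _ _ _ _ _ _ _ _ _ hpo hf
  obtain ⟨M, hM⟩ := isLocHom_algebraMap_iff.mp hf
  have hpo' : Algebra.IsPushout R R' S S' := hpo.symm
  have := (Algebra.isLocalization_iff_isPushout M S).mpr hpo'
  exact isLocHom_algebraMap_of_isLocalization (Algebra.algebraMapSubmonoid R' M)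

end ring

/-- `LocImm.IsLocalizing` as a morphism property of schemes. -/
def isLocalizingProp : MorphismProperty Scheme.{u} := fun _ _ f => LocImm.IsLocalizing f

instance isLocalizingProp_hasRingHomProperty :
    HasRingHomProperty isLocalizingProp.{u} (RingHom.Locally IsLocHomU.{u}) := by
  apply HasRingHomProperty.locally_of_iff
  · exact isLocHomU_localizationAwayPreserves
  · exact isLocHomU_stableUnderCompositionWithLocalizationAway
  · intro X Y f
    exact Iff.rfl

instance isLocalizingProp_isStableUnderBaseChange :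
    MorphismProperty.IsStableUnderBaseChange isLocalizingProp.{u} :=
  HasRingHomProperty.isStableUnderBaseChange
    (RingHom.locally_isStableUnderBaseChange isLocHomU_respectsIso
      isLocHomU_isStableUnderBaseChange)

/-- A localizing morphism which is injective on points is a monomorphism. -/
theorem mono_of_isLocImmersion (f : X ⟶ Y) (hf : LocImm.IsLocImmersion f) : Mono f := by
  have : SurjectiveOnStalks f := ⟨fun x => by
    have := isIso_stalkMap_of_isLocalizing f hf.1 x
    exact (ConcreteCategory.bijective_of_isIso (f.stalkMap x)).2⟩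
  exact SurjectiveOnStalks.mono_of_injective hf.2

/-- Localizing immersions are stable under base change. -/
theorem isLocImmersion_pullback_snd {Y' : Scheme.{u}} (f : X ⟶ Y) (g : Y' ⟶ Y)
    (hf : LocImm.IsLocImmersion f) : LocImm.IsLocImmersion (Limits.pullback.snd f g) := by
  have hmono : Mono f := mono_of_isLocImmersion f hf
  constructor
  · exact MorphismProperty.pullback_snd (P := isLocalizingProp) f g hf.1
  · exact (Limits.pullback.snd f g).injective

/-- Localizing immersions are stable under base change. -/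
theorem isLocImmersion_pullback_fst {Y' : Scheme.{u}} (f : X ⟶ Y) (g : Y' ⟶ Y)
    (hf : LocImm.IsLocImmersion f) : LocImm.IsLocImmersion (Limits.pullback.fst g f) := by
  have hmono : Mono f := mono_of_isLocImmersion f hf
  constructor
  · exact MorphismProperty.pullback_fst (P := isLocalizingProp) g f hf.1
  · exact (Limits.pullback.fst g f).injective

/-- A localizing ring map is an epimorphism, so `Spec.map` of it is a monomorphism. -/
theorem mono_SpecMap_of_isLocHom {A B : CommRingCat.{u}} (φ : A ⟶ B)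
    (hφ : LocImm.IsLocHom φ.hom) : Mono (Spec.map φ) := by
  let _ := φ.hom.toAlgebra
  obtain ⟨M, hM⟩ := hφ
  have : Epi φ := IsLocalization.epi M B
  have : Mono φ.op := inferInstance
  exact inferInstanceAs (Mono (Scheme.Spec.map φ.op))

/-- If `Γ(Y,U) → Γ(X,V)` is localizing for affine opens `V ≤ f⁻¹U`, then `V.ι ≫ f` is mono. -/
theorem mono_ι_comp_of_isLocHom (f : X ⟶ Y) (U : Y.affineOpens) (V : X.affineOpens)
    (e : V.1 ≤ f ⁻¹ᵁ U.1) (hloc : LocImm.IsLocHom (f.appLE U V e).hom) :
    Mono (V.1.ι ≫ f) := by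
  have h1 : Mono (Spec.map (f.appLE U.1 V.1 e)) := mono_SpecMap_of_isLocHom _ hloc
  have hU : IsAffineOpen U.1 := U.2
  have hV : IsAffineOpen V.1 := V.2
  have h2 : V.1.ι ≫ f = hV.isoSpec.hom ≫ Spec.map (f.appLE U.1 V.1 e) ≫ hU.fromSpec := by
    rw [IsAffineOpen.SpecMap_appLE_fromSpec f hU hV e, ← Category.assoc,
      IsAffineOpen.isoSpec_hom_fromSpec]
  rw [h2]
  infer_instance

/-- Lemma A: for a localizing morphism, any point of `X ×_Y X` whose two projections agree lies
on the diagonal. -/
theorem mem_range_diagonal_of_isLocalizing (f : X ⟶ Y) (hf : LocImm.IsLocalizing f)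
    (p : ↑(pullback f f)) (hp : pullback.fst f f p = pullback.snd f f p) :
    p ∈ Set.range (pullback.diagonal f) := by
  obtain ⟨U, V, hξV, e, hloc⟩ := hf (pullback.fst f f p)
  have hmono := mono_ι_comp_of_isLocHom f U V e hloc
  -- the open `W_V = fst⁻¹ V ⊓ snd⁻¹ V`
  let WV : (pullback f f).Opens := pullback.fst f f ⁻¹ᵁ V.1 ⊓ pullback.snd f f ⁻¹ᵁ V.1
  have hpWV : p ∈ WV := ⟨hξV, by change pullback.snd f f p ∈ V.1; rw [← hp]; exact hξV⟩
  -- lifts of the two projections to `V`
  let a : WV.toScheme ⟶ V.1.toScheme :=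
    IsOpenImmersion.lift V.1.ι (WV.ι ≫ pullback.fst f f) (by
      rintro _ ⟨w, rfl⟩
      simp only [Scheme.Opens.range_ι]
      exact w.2.1)
  let b : WV.toScheme ⟶ V.1.toScheme :=
    IsOpenImmersion.lift V.1.ι (WV.ι ≫ pullback.snd f f) (by
      rintro _ ⟨w, rfl⟩
      simp only [Scheme.Opens.range_ι]
      exact w.2.2)
  have ha : a ≫ V.1.ι = WV.ι ≫ pullback.fst f f := IsOpenImmersion.lift_fac _ _ _
  have hb : b ≫ V.1.ι = WV.ι ≫ pullback.snd f f := IsOpenImmersion.lift_fac _ _ _
  have hab : a = b := by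
    rw [← cancel_mono (V.1.ι ≫ f), ← Category.assoc, ← Category.assoc, ha, hb, Category.assoc,
      Category.assoc, pullback.condition]
  have hι : WV.ι = (WV.ι ≫ pullback.fst f f) ≫ pullback.diagonal f := by
    apply pullback.hom_ext
    · simp
    · simp only [Category.assoc, pullback.diagonal_snd, Category.comp_id]
      rw [← ha, ← hb, hab]
  obtain ⟨w, hw⟩ : ∃ w : WV.toScheme, WV.ι w = p := ⟨⟨p, hpWV⟩, rfl⟩
  refine ⟨(WV.ι ≫ pullback.fst f f) w, ?_⟩
  rw [← Scheme.Hom.comp_apply, ← hι, hw]

/-- Every point of a quasi-sober T0 space has a maximal generization. -/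
theorem exists_maximal_generization {α : Type*} [TopologicalSpace α] [QuasiSober α] [T0Space α]
    (p : α) : ∃ η : α, η ⤳ p ∧ ∀ η' : α, η' ⤳ η → η' = η := by
  obtain ⟨η, hη⟩ := QuasiSober.sober (isIrreducible_irreducibleComponent (x := p))
    isClosed_irreducibleComponent
  have hη' : closure {η} = irreducibleComponent p := hη
  refine ⟨η, specializes_iff_mem_closure.mpr (hη' ▸ mem_irreducibleComponent), ?_⟩
  intro η' h
  have h1 : irreducibleComponent p ⊆ closure {η'} := by
    rw [← hη']
    exact closure_minimal (Set.singleton_subset_iff.mpr (specializes_iff_mem_closure.mp h))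
      isClosed_closure
  have hmax := irreducibleComponent_mem_irreducibleComponents p
  have h2 : closure {η'} ⊆ irreducibleComponent p :=
    hmax.2 isIrreducible_singleton.closure h1
  have h3 : η ⤳ η' := by
    rw [specializes_iff_mem_closure, hη']
    exact h2 (subset_closure rfl)
  exact (h.antisymm h3).eq

theorem injective_of_isSeparated_of_injOn (f : X ⟶ Y) (hf : LocImm.IsLocalizing f)
    [IsSeparated f]
    (hinj : Set.InjOn (fun x => f x) {x : X | ∀ x' : X, x' ⤳ x → x' = x}) :
    Function.Injective f.base := by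
  intro x1 x2 h12
  obtain ⟨p, hp1, hp2⟩ := Scheme.Pullback.exists_preimage_pullback (f := f) (g := f) x1 x2 h12
  obtain ⟨η, hηp, hηmax⟩ := exists_maximal_generization p
  have hfst : LocImm.IsLocalizing (pullback.fst f f) :=
    MorphismProperty.pullback_fst (P := isLocalizingProp) f f hf
  have hsnd : LocImm.IsLocalizing (pullback.snd f f) :=
    MorphismProperty.pullback_snd (P := isLocalizingProp) f f hf
  have max_of : ∀ (q : pullback f f ⟶ X), LocImm.IsLocalizing q →
      ∀ x' : X, x' ⤳ q η → x' = q η := by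
    intro q hq x' hx'
    have := isIso_stalkMap_of_isLocalizing q hq η
    obtain ⟨η', hη', rfl⟩ := exists_specializes_of_isIso_stalkMap q η hx'
    rw [hηmax η' hη']
  have hξ : pullback.fst f f η = pullback.snd f f η := by
    apply hinj (max_of _ hfst) (max_of _ hsnd)
    change f (pullback.fst f f η) = f (pullback.snd f f η)
    rw [← Scheme.Hom.comp_apply, ← Scheme.Hom.comp_apply, pullback.condition]
  have hηΔ := mem_range_diagonal_of_isLocalizing f hf η hξ
  have hclosed : IsClosed (Set.range (pullback.diagonal f)) :=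
    (pullback.diagonal f).isClosedEmbedding.isClosed_range
  have hpΔ : p ∈ Set.range (pullback.diagonal f) := hηp.mem_closed hclosed hηΔ
  obtain ⟨x, rfl⟩ := hpΔ
  rw [← hp1, ← hp2, ← Scheme.Hom.comp_apply, ← Scheme.Hom.comp_apply, pullback.diagonal_fst,
    pullback.diagonal_snd]

/-- Ring Lemma E: if `ψ ∘ φ` is localizing and `ψ` is injective then `ψ` is localizing. -/
theorem isLocHom_of_comp_of_injective {C B D : Type*} [CommRing C] [CommRing B] [CommRing D]
    (φ : C →+* B) (ψ : B →+* D) (hψ : Function.Injective ψ)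
    (h : LocImm.IsLocHom (ψ.comp φ)) : LocImm.IsLocHom ψ := by
  let _ := (ψ.comp φ).toAlgebra
  obtain ⟨S, hS⟩ := h
  let _ := ψ.toAlgebra
  refine ⟨S.map φ, ?_⟩
  rw [isLocalization_iff]
  refine ⟨?_, ?_, ?_⟩
  · rintro ⟨_, s, hs, rfl⟩
    exact IsLocalization.map_units D (⟨s, hs⟩ : S)
  · intro d
    obtain ⟨⟨c, s⟩, hcs⟩ := IsLocalization.surj S d
    exact ⟨⟨φ c, ⟨φ s, s, s.2, rfl⟩⟩, hcs⟩
  · intro b1 b2 hb
    exact ⟨1, by rw [hψ hb]⟩

/-- Lemma C: localizing affine charts restrict to basic opens. -/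
theorem isLocHom_app_basicOpen (h : X ⟶ Y) {W : Y.Opens} (hW : IsAffineOpen W)
    (hW' : IsAffineOpen (h ⁻¹ᵁ W)) (hloc : LocImm.IsLocHom (h.app W).hom) (c : Γ(Y, W)) :
    IsAffineOpen (h ⁻¹ᵁ Y.basicOpen c) ∧ LocImm.IsLocHom (h.app (Y.basicOpen c)).hom := by
  have hpre : h ⁻¹ᵁ Y.basicOpen c = X.basicOpen ((h.app W).hom c) := Scheme.preimage_basicOpen h c
  have hle : h ⁻¹ᵁ Y.basicOpen c ≤ h ⁻¹ᵁ W := h.preimage_mono (Y.basicOpen_le c)
  refine ⟨?_, ?_⟩
  · rw [hpre]; exact hW'.basicOpen _
  · refine isLocHom_of_away (h.app W).hom hloc c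
      (Y.presheaf.map (homOfLE (Y.basicOpen_le c)).op).hom
      (X.presheaf.map (homOfLE hle).op).hom (h.app (Y.basicOpen c)).hom
      (hW.isLocalization_basicOpen c)
      (hW'.isLocalization_of_eq_basicOpen _ _ hpre) ?_
    rw [← CommRingCat.hom_comp, ← CommRingCat.hom_comp]
    congr 1
    exact h.naturality (homOfLE (Y.basicOpen_le c)).op

/-- Lemma D: for an inducing morphism, preimages of basic opens of an affine chart form a
neighbourhood basis. -/
theorem exists_basicOpen_preimage_le (h : X ⟶ Y) (hind : Topology.IsInducing (fun x => h x))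
    {W : Y.Opens} (hW : IsAffineOpen W) (x : X) (hx : h x ∈ W) (O : X.Opens) (hxO : x ∈ O) :
    ∃ c : Γ(Y, W), h x ∈ Y.basicOpen c ∧ h ⁻¹ᵁ Y.basicOpen c ≤ O := by
  obtain ⟨W', hW'o, hW'⟩ := hind.isOpen_iff.mp O.2
  let W'' : Y.Opens := ⟨W', hW'o⟩
  have hxW'' : h x ∈ W'' := by
    have : x ∈ (fun x => h x) ⁻¹' W' := by rw [hW']; exact hxO
    exact this
  obtain ⟨c, hc, hxc⟩ := hW.exists_basicOpen_le ⟨h x, hxW''⟩ hx
  refine ⟨c, hxc, ?_⟩
  intro z hz
  have hz' : h z ∈ W' := hc hz
  have : z ∈ (fun x => h x) ⁻¹' W' := hz'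
  rw [hW'] at this
  exact this

/-- If `f ≫ g` is a localizing immersion and `f` is schematically dominant, then `f` is a
localizing immersion. -/
theorem isLocImmersion_of_comp_of_injective_app {Z : Scheme.{u}} [IsNoetherian X]
    (f : X ⟶ Y) (g : Y ⟶ Z) (hfg : LocImm.IsLocImmersion (f ≫ g))
    (hd : ∀ U : Y.Opens, Function.Injective (f.app U).hom) : LocImm.IsLocImmersion f := by
  have hinj : Function.Injective f.base := by
    intro x x' hxx'
    apply hfg.2
    rw [Scheme.Hom.comp_apply, Scheme.Hom.comp_apply]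
    exact congrArg (fun y => g y) hxx'
  refine ⟨?_, hinj⟩
  intro x
  obtain ⟨W, hxW, hW, hW', hloc⟩ := exists_affine_nhd_of_isLocImmersion (f ≫ g) hfg x
  have hfxW : f x ∈ g ⁻¹ᵁ W := by
    change g (f x) ∈ W
    rwa [← Scheme.Hom.comp_apply]
  obtain ⟨_, ⟨U, hU, rfl⟩, hfxU, hUW⟩ :=
    Y.isBasis_affineOpens.exists_subset_of_mem_open hfxW (g ⁻¹ᵁ W).2
  have hUW' : U ≤ g ⁻¹ᵁ W := hUW
  have emb := isEmbedding_of_isLocImmersion (f ≫ g) hfg
  obtain ⟨c, hxc, hcO⟩ :=
    exists_basicOpen_preimage_le (f ≫ g) emb.isInducing hW x hxW (f ⁻¹ᵁ U) hfxU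
  obtain ⟨haff, hloc'⟩ := isLocHom_app_basicOpen (f ≫ g) hW hW' hloc c
  let b : Γ(Y, U) := (g.appLE W U hUW').hom c
  have hU' : Y.basicOpen b = U ⊓ g ⁻¹ᵁ Z.basicOpen c := by
    change Y.basicOpen ((g.appLE W U hUW').hom c) = _
    rw [Scheme.Hom.appLE, CommRingCat.hom_comp, RingHom.comp_apply]
    erw [Scheme.basicOpen_res]
    rw [← Scheme.preimage_basicOpen]
  have hpre : f ⁻¹ᵁ Y.basicOpen b = (f ≫ g) ⁻¹ᵁ Z.basicOpen c := by
    rw [hU']
    apply le_antisymm
    · intro z hz
      exact hz.2
    · intro z hz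
      exact ⟨hcO hz, hz⟩
  have hle : Y.basicOpen b ≤ g ⁻¹ᵁ Z.basicOpen c := by
    rw [hU']; exact inf_le_right
  refine ⟨⟨Y.basicOpen b, hU.basicOpen b⟩, ⟨f ⁻¹ᵁ Y.basicOpen b, hpre ▸ haff⟩, ?_, le_rfl, ?_⟩
  · change x ∈ f ⁻¹ᵁ Y.basicOpen b
    rw [hpre]; exact hxc
  · change LocImm.IsLocHom (f.appLE (Y.basicOpen b) (f ⁻¹ᵁ Y.basicOpen b) le_rfl).hom
    rw [← Scheme.Hom.app_eq_appLE]
    apply isLocHom_of_comp_of_injective (g.appLE (Z.basicOpen c) (Y.basicOpen b) hle).hom _ (hd _)
    rw [← CommRingCat.hom_comp, Scheme.Hom.app_eq_appLE, Scheme.Hom.appLE_comp_appLE]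
    rw [Scheme.Hom.appLE, CommRingCat.hom_comp]
    refine isLocHom_comp _ _ hloc' (isLocHom_of_bijective _ ?_)
    have hiso : IsIso (homOfLE (hpre.le) : f ⁻¹ᵁ Y.basicOpen b ⟶ (f ≫ g) ⁻¹ᵁ Z.basicOpen c) :=
      ⟨homOfLE hpre.ge, rfl, rfl⟩
    exact ConcreteCategory.bijective_of_isIso (X.presheaf.map (homOfLE hpre.le).op)

/-- Variant of `isEmbedding_of_isLocImmersion` assuming only a Noetherian underlying space. -/
theorem isEmbedding_of_isLocImmersion' [NoetherianSpace X] (f : X ⟶ Y)
    (hf : LocImm.IsLocImmersion f) : Topology.IsEmbedding (fun x => f x) := by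
  refine ⟨?_, hf.2⟩
  apply isInducing_of_lift_generization _ f.continuous hf.2
  intro x y hy
  have := isIso_stalkMap_of_isLocalizing f hf.1 x
  exact exists_specializes_of_isIso_stalkMap f x hy

set_option backward.isDefEq.respectTransparency false in
/-- Lemma G: a closed immersion `m` followed by a localizing immersion `q`, whose composite is
dominant and injective on the stalks of the structure sheaf map, is an isomorphism. -/
theorem isIso_of_isClosedImmersion_comp_isLocImmersion {Z P T : Scheme.{u}}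
    (m : Z ⟶ P) (q : P ⟶ T) [IsClosedImmersion m] (hq : LocImm.IsLocImmersion q)
    [NoetherianSpace P] (hdense : DenseRange (fun z => (m ≫ q) z))
    (hinj : ∀ t, Function.Injective
      ((TopCat.Presheaf.stalkFunctor CommRingCat t).map (m ≫ q).c)) : IsIso m := by
  have hqemb := isEmbedding_of_isLocImmersion' q hq
  have hmemb : Topology.IsClosedEmbedding (fun z => m z) := m.isClosedEmbedding
  have hkemb : Topology.IsEmbedding (fun z => (m ≫ q) z) := by
    have := hqemb.comp hmemb.isEmbedding
    convert this using 1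
    ext z; simp
  have hsurj : Function.Surjective (fun z => m z) := by
    rw [← Set.range_eq_univ, ← hmemb.isClosed_range.closure_eq,
      hqemb.closure_eq_preimage_closure_image, ← Set.range_comp]
    have : (fun x => q x) ∘ (fun z => m z) = fun z => (m ≫ q) z := by
      ext z; simp
    rw [this, hdense.closure_range, Set.preimage_univ]
  have hhomeo : IsHomeomorph (fun z => m z) :=
    isHomeomorph_iff_isEmbedding_surjective.mpr ⟨hmemb.isEmbedding, hsurj⟩
  refine (MorphismProperty.isomorphisms.iff (C := Scheme) m).mp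
    (isomorphisms_eq_stalkwise.ge _ ⟨?_, ?_⟩)
  · exact inferInstanceAs (IsIso (TopCat.isoOfHomeo hhomeo.homeomorph).hom)
  · intro z
    refine ⟨?_, m.stalkMap_surjective z⟩
    -- injectivity of the stalk map of `m ≫ q`
    have h1 : Function.Injective ((m ≫ q).stalkMap z) := by
      change Function.Injective (CommRingCat.Hom.hom (((TopCat.Presheaf.stalkFunctor CommRingCat
        ((m ≫ q) z)).map (m ≫ q).c) ≫ Z.presheaf.stalkPushforward _ _ z))
      simp only [TopCat.Presheaf.stalkFunctor_obj, CommRingCat.hom_comp, RingHom.coe_comp]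
      refine .comp ?_ (hinj _)
      have := TopCat.Presheaf.stalkPushforward.stalkPushforward_iso_of_isInducing CommRingCat
        (f := (m ≫ q).base) hkemb.isInducing Z.presheaf z
      exact ((ConcreteCategory.isIso_iff_bijective _).mp this).1
    rw [Scheme.Hom.stalkMap_comp] at h1
    have h2 := isIso_stalkMap_of_isLocalizing q hq.1 (m z)
    have h3 : Function.Surjective (q.stalkMap (m z)) :=
      (ConcreteCategory.bijective_of_isIso (q.stalkMap (m z))).2
    intro a b hab
    obtain ⟨a', rfl⟩ := h3 a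
    obtain ⟨b', rfl⟩ := h3 b
    have : (q.stalkMap (m z) ≫ m.stalkMap z) a' = (q.stalkMap (m z) ≫ m.stalkMap z) b' := by
      simpa using hab
    rw [h1 this]

/-- For a localizing immersion `f` of Noetherian schemes, every ideal sheaf on the source is the
pullback of its pushforward. -/
theorem comap_map_eq_of_isLocImmersion [IsNoetherian X] (f : X ⟶ Y)
    (hf : LocImm.IsLocImmersion f) (I : X.IdealSheafData) : (I.map f).comap f = I := by
  let i := I.subschemeι
  let g := i ≫ f
  have hqc : QuasiCompact g := inferInstance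
  let j := g.imageι
  let k := g.toImage
  have hkj : k ≫ j = g := g.toImage_imageι
  let m : I.subscheme ⟶ pullback f j := pullback.lift i k (by rw [hkj])
  have hm1 : m ≫ pullback.fst f j = i := pullback.lift_fst _ _ _
  have hm2 : m ≫ pullback.snd f j = k := pullback.lift_snd _ _ _
  have : IsClosedImmersion (m ≫ pullback.fst f j) := by rw [hm1]; infer_instance
  have : IsClosedImmersion m := IsClosedImmersion.of_comp m (pullback.fst f j)
  have hq : LocImm.IsLocImmersion (pullback.snd f j) := isLocImmersion_pullback_snd f j hf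
  have : NoetherianSpace ↑(pullback f j) :=
    (pullback.fst f j).isClosedEmbedding.isInducing.noetherianSpace
  have hiso : IsIso m := by
    refine isIso_of_isClosedImmersion_comp_isLocImmersion m _ hq ?_ ?_
    · rw [hm2]; exact k.denseRange
    · rw [hm2]; exact g.stalkFunctor_toImage_injective
  calc (I.map f).comap f = j.ker.comap f := by
        rw [Scheme.IdealSheafData.ker_subschemeι]; rfl
    _ = (pullback.fst f j).ker := (Scheme.IdealSheafData.ker_fst_of_isClosedImmersion j f).symm
    _ = (m ≫ pullback.fst f j).ker := (Scheme.Hom.ker_comp_of_isIso m _).symm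
    _ = i.ker := by rw [hm1]
    _ = I := I.ker_subschemeι

end Groth.Agent.Lib.Helper91.LocImm
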