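import Mathlib.Algebra.Module.LocalizedModule.Basic
import Mathlib.RingTheory.Ideal.MinimalPrime.Localization
import Mathlib.RingTheory.Ideal.Operations
import Mathlib.RingTheory.Noetherian.Basic
import Mathlib.RingTheory.Finiteness.Defs
import Mathlib.LinearAlgebra.Quotient.Basic
import Mathlib.Tactic

/-!
Shared lemmas for S18364 / S18365 (submodules of elements vanishing at minimal primes).
-/

set_option autoImplicit false
universe u

namespace Groth.Agent.Lib.Helper91

/-- The class of `x` in `M ⧸ P` dies in the localization at `p` iff some `s ∉ p` has `s • x ∈ P`. -/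
theorem mkQ_mem_ker_mkLinearMap_iff {A : Type u} [CommRing A] {M : Type u} [AddCommGroup M] [Module A M]
    (P : Submodule A M) (p : Ideal A) [p.IsPrime] (x : M) :
    P.mkQ x ∈ LinearMap.ker (LocalizedModule.mkLinearMap p.primeCompl (M ⧸ P)) ↔
      ∃ s, s ∉ p ∧ s • x ∈ P := by
  rw [LocalizedModule.mem_ker_mkLinearMap_iff]
  constructor
  · rintro ⟨r, hr, h⟩
    refine ⟨r, hr, ?_⟩
    rw [← map_smul, Submodule.mkQ_apply, Submodule.Quotient.mk_eq_zero] at h
    exact h
  · rintro ⟨s, hs, h⟩
    refine ⟨s, hs, ?_⟩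
    rw [← map_smul, Submodule.mkQ_apply, Submodule.Quotient.mk_eq_zero]
    exact h

/-- Membership in the infimum of kernels, for classes in the quotient. -/
theorem mkQ_mem_iInf_ker_iff {A : Type u} [CommRing A] {M : Type u} [AddCommGroup M] [Module A M]
    (P : Submodule A M) {ι : Type} (𝔓 : ι → Ideal A) [∀ i, (𝔓 i).IsPrime] (T : Set ι) (x : M) :
    P.mkQ x ∈ (⨅ i ∈ T, LinearMap.ker (LocalizedModule.mkLinearMap (𝔓 i).primeCompl (M ⧸ P))) ↔
      ∀ i ∈ T, ∃ s, s ∉ 𝔓 i ∧ s • x ∈ P := by
  simp only [Submodule.mem_iInf]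
  exact forall₂_congr fun i _ => mkQ_mem_ker_mkLinearMap_iff P (𝔓 i) x

/-- Membership in `π M`. -/
theorem mem_span_singleton_smul_top_iff {A : Type u} [CommRing A] {M : Type u} [AddCommGroup M]
    [Module A M] (π : A) (x : M) :
    x ∈ Ideal.span {π} • (⊤ : Submodule A M) ↔ ∃ y : M, π • y = x := by
  rw [Submodule.ideal_span_singleton_smul, Submodule.mem_smul_pointwise_iff_exists]
  simp

end Groth.Agent.Lib.Helper91
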