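import Mathlib
import Groth.Agent.Lib.Helper91.LocImm

/-!
# Nayak's factorization: the ring-level local isomorphism lemma

An essentially finite type map out of a Noetherian ring which induces an isomorphism on the local
rings at a prime is localizing on a basic open neighbourhood of that prime.
-/

set_option autoImplicit false
universe u

namespace Groth.Agent.Lib.Helper91.NayakRing

open scoped Pointwise

theorem exists_isLocHom_away {A B : Type u} [CommRing A] [CommRing B] [IsNoetherianRing A]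
    (φ : A →+* B) (hφ : φ.EssFiniteType) (q : Ideal B) [q.IsPrime] (p : Ideal A) [p.IsPrime]
    (h : p = q.comap φ) (hbij : Function.Bijective (Localization.localRingHom p q φ h)) :
    ∃ b : B, b ∉ q ∧ ∀ (B' : Type u) [CommRing B'] [Algebra B B'] [IsLocalization.Away b B'],
      LocImm.IsLocHom ((algebraMap B B').comp φ) := by
  classical
  subst h
  letI := φ.toAlgebra
  have hφ' : Algebra.EssFiniteType A B := hφ
  obtain ⟨σ, hσ⟩ := (Algebra.essFiniteType_iff A B).mp hφ'
  -- (surj)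
  have hsurj : ∀ c : B, ∃ (a s : A) (t : B), s ∉ q.comap φ ∧ t ∉ q ∧ t * (φ s * c - φ a) = 0 := by
    intro c
    obtain ⟨z, hz⟩ := hbij.2 (algebraMap B (Localization.AtPrime q) c)
    obtain ⟨a, s, rfl⟩ := IsLocalization.exists_mk'_eq (q.comap φ).primeCompl z
    rw [Localization.localRingHom_mk', IsLocalization.mk'_eq_iff_eq_mul, ← map_mul,
      IsLocalization.eq_iff_exists q.primeCompl] at hz
    obtain ⟨t, ht⟩ := hz
    refine ⟨a, s.1, t.1, s.2, t.2, ?_⟩
    rw [mul_sub, mul_comm (φ s.1) c]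
    exact sub_eq_zero.mpr ht.symm
  -- (inj)
  have hinj : ∀ a : A, (∃ t : B, t ∉ q ∧ t * φ a = 0) → ∃ s : A, s ∉ q.comap φ ∧ s * a = 0 := by
    rintro a ⟨t, ht, hta⟩
    have h1 : algebraMap B (Localization.AtPrime q) (φ a) = 0 := by
      rw [IsLocalization.map_eq_zero_iff q.primeCompl]
      exact ⟨⟨t, ht⟩, hta⟩
    have h2 : Localization.localRingHom (q.comap φ) q φ rfl
        (algebraMap A (Localization.AtPrime (q.comap φ)) a) = 0 := by
      rw [Localization.localRingHom_to_map]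
      exact h1
    have h3 : algebraMap A (Localization.AtPrime (q.comap φ)) a = 0 :=
      hbij.1 (h2.trans (map_zero _).symm)
    rw [IsLocalization.map_eq_zero_iff (q.comap φ).primeCompl] at h3
    obtain ⟨s, hs⟩ := h3
    exact ⟨s.1, s.2, hs⟩
  choose ac sc tc hsc htc hc using hsurj
  -- the first element
  let b₀ : B := ∏ c ∈ σ, (tc c * φ (sc c))
  have hb₀ : b₀ ∉ q := by
    intro hmem
    obtain ⟨c, -, hc'⟩ := (Ideal.IsPrime.prod_mem_iff).mp hmem
    rcases (Ideal.IsPrime.mem_or_mem inferInstance hc') with h1 | h1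
    · exact htc c h1
    · exact hsc c h1
  -- the kernel of `A → B_{b₀}`
  let K : Ideal A :=
    { carrier := {a | ∃ n : ℕ, b₀ ^ n * φ a = 0}
      add_mem' := by
        rintro a a' ⟨n, hn⟩ ⟨n', hn'⟩
        refine ⟨n + n', ?_⟩
        rw [map_add, pow_add]
        linear_combination (b₀ ^ n') * hn + (b₀ ^ n) * hn'
      zero_mem' := ⟨0, by simp⟩
      smul_mem' := by
        rintro r a ⟨n, hn⟩
        refine ⟨n, ?_⟩
        rw [smul_eq_mul, map_mul, mul_left_comm, hn, mul_zero] }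
  have hKmem : ∀ a, a ∈ K ↔ ∃ n : ℕ, b₀ ^ n * φ a = 0 := fun a => Iff.rfl
  obtain ⟨G, hG⟩ := (IsNoetherian.noetherian K : K.FG)
  have hGK : ∀ κ ∈ G, κ ∈ K := fun κ hκ => hG ▸ Ideal.subset_span hκ
  have hu : ∀ κ : A, ∃ u : A, u ∉ q.comap φ ∧ (κ ∈ K → u * κ = 0) := by
    intro κ
    by_cases hκ : κ ∈ K
    · obtain ⟨n, hn⟩ := (hKmem κ).mp hκ
      obtain ⟨s, hs, hsκ⟩ := hinj κ ⟨b₀ ^ n, fun hmem => hb₀ (Ideal.IsPrime.mem_of_pow_mem
        inferInstance n hmem), hn⟩
      exact ⟨s, hs, fun _ => hsκ⟩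
    · exact ⟨1, fun h1 => (Ideal.IsPrime.ne_top inferInstance)
        ((Ideal.eq_top_iff_one _).mpr h1), fun h => absurd h hκ⟩
  choose uc huc huc' using hu
  let u : A := ∏ κ ∈ G, uc κ
  have hu_notMem : u ∉ q.comap φ := by
    intro hmem
    obtain ⟨κ, -, hκ⟩ := (Ideal.IsPrime.prod_mem_iff).mp hmem
    exact huc κ hκ
  have huK : ∀ a ∈ K, u * a = 0 := by
    intro a ha
    rw [← hG] at ha
    refine Submodule.span_induction ?_ ?_ ?_ ?_ ha
    · intro κ hκ
      have hκG : κ ∈ G := hκ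
      have h1 : uc κ * κ = 0 := huc' κ (hGK κ hκG)
      change (∏ κ ∈ G, uc κ) * κ = 0
      rw [← Finset.mul_prod_erase G uc hκG, mul_right_comm, h1, zero_mul]
    · exact mul_zero u
    · intro x y _ _ hx hy
      rw [mul_add, hx, hy, add_zero]
    · intro r x _ hx
      rw [smul_eq_mul, mul_left_comm, hx, mul_zero]
  refine ⟨b₀ * φ u, ?_, ?_⟩
  · intro hmem
    rcases (Ideal.IsPrime.mem_or_mem inferInstance hmem) with h1 | h1
    · exact hb₀ h1
    · exact hu_notMem h1
  intro B' _ _ _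
  let ψ : A →+* B' := (algebraMap B B').comp φ
  have hψ : ∀ a, ψ a = algebraMap B B' (φ a) := fun a => rfl
  -- units
  have hunit_b : IsUnit (algebraMap B B' (b₀ * φ u)) :=
    IsLocalization.Away.algebraMap_isUnit (b₀ * φ u)
  have hunit_b₀ : IsUnit (algebraMap B B' b₀) := by
    rw [map_mul] at hunit_b
    exact isUnit_of_mul_isUnit_left hunit_b
  have hunit_u : IsUnit (ψ u) := by
    rw [map_mul] at hunit_b
    exact isUnit_of_mul_isUnit_right hunit_b
  have hunit_c : ∀ c ∈ σ, IsUnit (algebraMap B B' (tc c)) ∧ IsUnit (ψ (sc c)) := by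
    intro c hcσ
    have h1 : IsUnit (algebraMap B B' (tc c * φ (sc c))) := by
      have h2 : tc c * φ (sc c) ∣ b₀ := Finset.dvd_prod_of_mem (fun c => tc c * φ (sc c)) hcσ
      exact isUnit_of_dvd_unit (map_dvd (algebraMap B B') h2) hunit_b₀
    rw [map_mul] at h1
    exact ⟨isUnit_of_mul_isUnit_left h1, isUnit_of_mul_isUnit_right h1⟩
  letI : Algebra A B' := ψ.toAlgebra
  let M : Submonoid A := (IsUnit.submonoid B').comap ψ
  have hM : ∀ a, a ∈ M ↔ IsUnit (ψ a) := fun a => Iff.rfl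
  refine ⟨M, ?_⟩
  -- the subalgebra of fractions
  let R' : Subalgebra A B' :=
    { carrier := {z | ∃ a : A, ∃ m ∈ M, z * ψ m = ψ a}
      mul_mem' := by
        rintro z z' ⟨a, m, hm, h1⟩ ⟨a', m', hm', h1'⟩
        refine ⟨a * a', m * m', M.mul_mem hm hm', ?_⟩
        rw [map_mul, map_mul, ← h1, ← h1']
        ring
      add_mem' := by
        rintro z z' ⟨a, m, hm, h1⟩ ⟨a', m', hm', h1'⟩
        refine ⟨a * m' + a' * m, m * m', M.mul_mem hm hm', ?_⟩
        rw [map_add, map_mul, map_mul, map_mul, ← h1, ← h1']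
        ring
      algebraMap_mem' := by
        intro r
        exact ⟨r, 1, M.one_mem, by rw [map_one, mul_one]; rfl⟩ }
  have hR'mem : ∀ z, z ∈ R' ↔ ∃ a : A, ∃ m ∈ M, z * ψ m = ψ a := fun z => Iff.rfl
  have hR'inv : ∀ z ∈ R', ∀ w : B', z * w = 1 → w ∈ R' := by
    rintro z ⟨a, m, hm, h1⟩ w hzw
    have ha : IsUnit (ψ a) := by
      rw [← h1]
      exact (IsUnit.of_mul_eq_one w hzw).mul ((hM m).mp hm)
    refine ⟨m, a, (hM a).mpr ha, ?_⟩
    rw [← h1]
    calc w * (z * ψ m) = (z * w) * ψ m := by ring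
      _ = ψ m := by rw [hzw, one_mul]
  -- the image of the finite type subalgebra lies in `R'`
  have hC : ∀ c ∈ Algebra.adjoin A (σ : Set B), algebraMap B B' c ∈ R' := by
    intro c hc'
    refine Algebra.adjoin_induction ?_ ?_ ?_ ?_ hc'
    · intro c hcσ
      obtain ⟨h1, h2⟩ := hunit_c c hcσ
      refine ⟨ac c, sc c, (hM _).mpr h2, ?_⟩
      have h3 := congrArg (algebraMap B B') (hc c)
      rw [map_mul, map_sub, map_mul, map_zero] at h3
      have h4 := (h1.mul_right_eq_zero).mp h3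
      rw [hψ, hψ, mul_comm]
      exact sub_eq_zero.mp h4
    · intro r
      exact ⟨r, 1, M.one_mem, by rw [map_one, mul_one]; rfl⟩
    · intro x y _ _ hx hy
      rw [map_add]
      exact R'.add_mem hx hy
    · intro x y _ _ hx hy
      rw [map_mul]
      exact R'.mul_mem hx hy
  have hB : ∀ x : B, algebraMap B B' x ∈ R' := by
    intro x
    obtain ⟨t, htC, htu, hxt⟩ := hσ x
    have h1 := hC _ hxt
    have h2 := hC _ htC
    obtain ⟨t', ht'⟩ := htu.exists_right_inv
    have h3 : algebraMap B B' t' ∈ R' := by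
      refine hR'inv _ h2 _ ?_
      rw [← map_mul, ht', map_one]
    have : algebraMap B B' x = algebraMap B B' (x * t) * algebraMap B B' t' := by
      rw [← map_mul, mul_assoc, ht', mul_one]
    rw [this]
    exact R'.mul_mem h1 h3
  have htop : ∀ z : B', z ∈ R' := by
    intro z
    obtain ⟨n, x, hx⟩ := IsLocalization.Away.surj (b₀ * φ u) z
    obtain ⟨w, hw⟩ := hunit_b.exists_right_inv
    have hw' : w ∈ R' := hR'inv _ (hB _) w hw
    have : z = algebraMap B B' x * w ^ n := by
      rw [← hx, mul_assoc, ← mul_pow, hw, one_pow, mul_one]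
    rw [this]
    exact R'.mul_mem (hB x) (R'.pow_mem hw' n)
  rw [isLocalization_iff]
  refine ⟨fun y => y.2, fun z => ?_, fun {x y} hxy => ?_⟩
  · obtain ⟨a, m, hm, h1⟩ := (hR'mem z).mp (htop z)
    exact ⟨(a, ⟨m, hm⟩), h1⟩
  · have h0 : ψ (x - y) = 0 := by
      rw [map_sub]
      exact sub_eq_zero.mpr hxy
    rw [hψ, IsLocalization.map_eq_zero_iff (Submonoid.powers (b₀ * φ u))] at h0
    obtain ⟨⟨_, n, rfl⟩, hn⟩ := h0
    have h2 : u ^ n * (x - y) ∈ K := by
      refine ⟨n, ?_⟩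
      have h3 : (b₀ * φ u) ^ n * φ (x - y) = 0 := hn
      rw [map_mul, map_pow]
      rw [mul_pow] at h3
      linear_combination h3
    have h3 := huK _ h2
    refine ⟨⟨u ^ (n + 1), (hM _).mpr ?_⟩, ?_⟩
    · rw [map_pow]
      exact hunit_u.pow _
    · have h4 : u ^ (n + 1) * (x - y) = 0 := by
        rw [pow_succ']
        linear_combination h3
      exact sub_eq_zero.mp (by linear_combination h4)

end Groth.Agent.Lib.Helper91.NayakRing
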