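import Mathlib
import Groth.Prelude.Def_EssFT
import Groth.Agent.Lib.Helper91.NayakRing

/-!
# Nayak's factorization: spreading out a local isomorphism to a localizing immersion
-/

set_option autoImplicit false
universe u

open CategoryTheory AlgebraicGeometry TopologicalSpace Limits

namespace Groth.Agent.Lib.Helper91.NayakNhd

open Groth.Agent.Lib.Helper91.LocImm

variable {X Y₁ Y₂ : Scheme.{u}}

theorem mem_basicOpen_iff_not_mem_primeIdealOf {Y : Scheme.{u}} {V : Y.Opens} (hV : IsAffineOpen V)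
    (b : Γ(Y, V)) (y : V) :
    (y : Y) ∈ Y.basicOpen b ↔ b ∉ (hV.primeIdealOf y).asIdeal := by
  have h1 := hV.fromSpec_preimage_basicOpen b
  have h2 := hV.fromSpec_primeIdealOf y
  rw [← h2]
  change hV.primeIdealOf y ∈ hV.fromSpec ⁻¹ᵁ Y.basicOpen b ↔ _
  rw [h1]
  rfl

/-- Step A (pointwise): an essentially finite type morphism to a Noetherian scheme which is an
isomorphism on the stalk at `y` admits a localizing chart at `y`. -/
theorem exists_chart_isLocHom [IsNoetherian Y₂] (g : Y₁ ⟶ Y₂) [EssFT.LocallyEssFiniteType g]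
    (y : Y₁) [IsIso (g.stalkMap y)] :
    ∃ (U : Y₂.affineOpens) (V : Y₁.affineOpens) (_ : y ∈ V.1) (e : V.1 ≤ g ⁻¹ᵁ U.1),
      LocImm.IsLocHom (g.appLE U V e).hom := by
  obtain ⟨U, V, hyV, e, hft⟩ := EssFT.LocallyEssFiniteType.exists_appLE_essFiniteType (f := g) y
  have iso := IsAffineOpen.arrowStalkMapIso g U.1 U.2 V.1 V.2 e hyV
  have hbij : Function.Bijective (Localization.localRingHom _ _ (g.appLE U.1 V.1 e).hom
      congr($(IsAffineOpen.comap_primeIdealOf_appLE U.1 U.2 V.1 V.2 e hyV).1).symm) := by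
    have h1 : IsIso (g.stalkMap y) := inferInstance
    rw [← MorphismProperty.isomorphisms.iff,
      (MorphismProperty.isomorphisms CommRingCat).arrow_mk_iso_iff iso,
      MorphismProperty.isomorphisms.iff, ConcreteCategory.isIso_iff_bijective] at h1
    exact h1
  have hN : IsNoetherianRing Γ(Y₂, U.1) := IsLocallyNoetherian.component_noetherian U
  obtain ⟨b, hbq, hb⟩ := NayakRing.exists_isLocHom_away (g.appLE U.1 V.1 e).hom hft _ _ _ hbij
  have hyb : y ∈ Y₁.basicOpen b :=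
    (mem_basicOpen_iff_not_mem_primeIdealOf V.2 b ⟨y, hyV⟩).mpr hbq
  have hle : Y₁.basicOpen b ≤ V.1 := Y₁.basicOpen_le b
  refine ⟨U, ⟨Y₁.basicOpen b, V.2.basicOpen b⟩, hyb, hle.trans e, ?_⟩
  have := V.2.isLocalization_basicOpen b
  have h2 := hb Γ(Y₁, Y₁.basicOpen b)
  have h3 : g.appLE U.1 (Y₁.basicOpen b) (hle.trans e) =
      g.appLE U.1 V.1 e ≫ Y₁.presheaf.map (homOfLE hle).op := by
    rw [Scheme.Hom.appLE_map]
  rw [h3, CommRingCat.hom_comp]
  exact h2

/-- Restricting to an open covered by localizing charts gives a localizing morphism. -/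
theorem isLocalizing_ι_comp_of_forall (g : Y₁ ⟶ Y₂) (N : Y₁.Opens)
    (H : ∀ y ∈ N, ∃ (U : Y₂.affineOpens) (V : Y₁.affineOpens) (_ : y ∈ V.1) (_ : V.1 ≤ N)
      (e : V.1 ≤ g ⁻¹ᵁ U.1), LocImm.IsLocHom (g.appLE U V e).hom) :
    LocImm.IsLocalizing (N.ι ≫ g) := by
  intro z
  obtain ⟨U, V, hzV, hVN, e, hloc⟩ := H (N.ι z) z.2
  have hVaff : IsAffineOpen (N.ι ⁻¹ᵁ V.1) := by
    rw [← N.ι.isAffineOpen_iff_of_isOpenImmersion]
    have : N.ι ''ᵁ (N.ι ⁻¹ᵁ V.1) = V.1 := by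
      rw [Scheme.Hom.image_preimage_eq_opensRange_inf, Scheme.Opens.opensRange_ι]
      exact inf_eq_right.mpr hVN
    rw [this]
    exact V.2
  have e' : N.ι ⁻¹ᵁ V.1 ≤ (N.ι ≫ g) ⁻¹ᵁ U.1 := by
    intro w hw
    exact e hw
  refine ⟨U, ⟨N.ι ⁻¹ᵁ V.1, hVaff⟩, hzV, e', ?_⟩
  have h1 : (N.ι ≫ g).appLE U.1 (N.ι ⁻¹ᵁ V.1) e' =
      g.appLE U.1 V.1 e ≫ N.ι.appLE V.1 (N.ι ⁻¹ᵁ V.1) le_rfl := by
    rw [Scheme.Hom.appLE_comp_appLE]
  have h2 : IsIso (N.ι.appLE V.1 (N.ι ⁻¹ᵁ V.1) le_rfl) := by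
    rw [← Scheme.Hom.app_eq_appLE]
    apply Scheme.Hom.isIso_app
    rw [Scheme.Opens.opensRange_ι]
    exact hVN
  rw [h1, CommRingCat.hom_comp]
  exact isLocHom_comp _ _ hloc
    (isLocHom_of_bijective _ (ConcreteCategory.bijective_of_isIso _))

/-- Topological shrinking: in a Noetherian quasi-sober space, given a generization-stable subset
`R`, there is a closed set `Z` disjoint from `R` such that every maximal point outside `Z`
lies in `R`. -/
theorem exists_closed_disjoint_maximal {α : Type*} [TopologicalSpace α] [NoetherianSpace α]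
    [QuasiSober α] (R : Set α) (hR : StableUnderGeneralization R) :
    ∃ Z : Set α, IsClosed Z ∧ Disjoint Z R ∧
      ∀ u : α, u ∉ Z → (∀ u' : α, u' ⤳ u → u ⤳ u') → u ∈ R := by
  classical
  let C : Set (Set α) := {c ∈ irreducibleComponents α | Disjoint c R}
  have hCfin : C.Finite := NoetherianSpace.finite_irreducibleComponents.subset (fun c hc => hc.1)
  refine ⟨⋃₀ C, ?_, ?_, ?_⟩
  · rw [Set.sUnion_eq_biUnion]
    exact hCfin.isClosed_biUnion
      (fun c hc => isClosed_of_mem_irreducibleComponents c hc.1)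
  · rw [Set.disjoint_sUnion_left]
    exact fun c hc => hc.2
  · intro u huZ hmax
    have hc := irreducibleComponent_mem_irreducibleComponents u
    have hnd : ¬ Disjoint (irreducibleComponent u) R := by
      intro hd
      exact huZ (Set.mem_sUnion.mpr ⟨_, ⟨hc, hd⟩, mem_irreducibleComponent⟩)
    rw [Set.not_disjoint_iff] at hnd
    obtain ⟨r, hrc, hrR⟩ := hnd
    obtain ⟨ξ, hξ⟩ := QuasiSober.sober (isIrreducible_irreducibleComponent (x := u))
      isClosed_irreducibleComponent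
    have hξ' : closure {ξ} = irreducibleComponent u := hξ
    have h1 : ξ ⤳ u := specializes_iff_mem_closure.mpr (hξ' ▸ mem_irreducibleComponent)
    have h2 : ξ ⤳ r := specializes_iff_mem_closure.mpr (hξ' ▸ hrc)
    have h3 : u ⤳ ξ := hmax ξ h1
    exact hR (h3.trans h2) hrR

/-- Nayak's lemma: spreading out to a localizing immersion on an open neighbourhood of the
image. -/
theorem exists_open_isLocImmersion [IsNoetherian X] [IsNoetherian Y₁] [IsNoetherian Y₂]
    (f₁ : X ⟶ Y₁) (f₂ : X ⟶ Y₂) (g : Y₁ ⟶ Y₂) (hf₁ : LocImm.IsLocImmersion f₁)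
    (hf₂ : LocImm.IsLocImmersion f₂) [IsSeparated g] [EssFT.LocallyEssFiniteType g]
    (h : f₁ ≫ g = f₂) :
    ∃ U : Y₁.Opens, Set.range (fun x => f₁ x) ⊆ (U : Set Y₁) ∧
      LocImm.IsLocImmersion (U.ι ≫ g) := by
  -- Step A: charts
  have hstalk : ∀ x : X, IsIso (g.stalkMap (f₁ x)) := by
    intro x
    have h1 := isIso_stalkMap_of_isLocalizing f₁ hf₁.1 x
    have h2 := isIso_stalkMap_of_isLocalizing f₂ hf₂.1 x
    have h3 : (f₁ ≫ g).stalkMap x = g.stalkMap (f₁ x) ≫ f₁.stalkMap x :=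
      Scheme.Hom.stalkMap_comp f₁ g x
    have h4 : IsIso ((f₁ ≫ g).stalkMap x) := by
      subst h
      exact h2
    rw [h3] at h4
    exact @IsIso.of_isIso_comp_right _ _ _ _ _ (g.stalkMap (f₁ x)) (f₁.stalkMap x) h1 h4
  have hchart : ∀ x : X, ∃ (U : Y₂.affineOpens) (V : Y₁.affineOpens) (_ : f₁ x ∈ V.1)
      (e : V.1 ≤ g ⁻¹ᵁ U.1), LocImm.IsLocHom (g.appLE U V e).hom := by
    intro x
    have := hstalk x
    exact exists_chart_isLocHom g (f₁ x)
  choose U₂ V hxV e hloc using hchart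
  let N : Y₁.Opens := ⨆ x, (V x).1
  have hRN : Set.range (fun x => f₁ x) ⊆ (N : Set Y₁) := by
    rintro _ ⟨x, rfl⟩
    exact Opens.mem_iSup.mpr ⟨x, hxV x⟩
  have hNloc : LocImm.IsLocalizing (N.ι ≫ g) := by
    apply isLocalizing_ι_comp_of_forall
    intro y hy
    obtain ⟨x, hx⟩ := Opens.mem_iSup.mp hy
    exact ⟨U₂ x, V x, hx, le_iSup (fun x => (V x).1) x, e x, hloc x⟩
  -- Step B: shrinking
  obtain ⟨Z, hZc, hZR, hZmax⟩ := exists_closed_disjoint_maximal (Set.range (fun x => f₁ x))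
    (stableUnderGeneralization_range_of_isLocalizing f₁ hf₁.1)
  let U : Y₁.Opens := N ⊓ ⟨Zᶜ, hZc.isOpen_compl⟩
  have hRU : Set.range (fun x => f₁ x) ⊆ (U : Set Y₁) := by
    intro y hy
    exact ⟨hRN hy, fun hyZ => Set.disjoint_left.mp hZR hyZ hy⟩
  refine ⟨U, hRU, ?_⟩
  have hUN : U ≤ N := inf_le_left
  have hUloc : LocImm.IsLocalizing (U.ι ≫ g) := by
    have h1 : isLocalizingProp (Y₁.homOfLE hUN ≫ (N.ι ≫ g)) :=
      IsZariskiLocalAtSource.comp (P := isLocalizingProp) hNloc _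
    rw [Scheme.homOfLE_ι_assoc] at h1
    exact h1
  refine ⟨hUloc, ?_⟩
  apply injective_of_isSeparated_of_injOn _ hUloc
  intro u₁ hu₁ u₂ hu₂ h12
  have key : ∀ u : U.toScheme, (∀ u' : U.toScheme, u' ⤳ u → u' = u) →
      U.ι u ∈ Set.range (fun x => f₁ x) := by
    intro u hu
    apply hZmax
    · exact u.2.2
    · intro y' hy'
      have hy'U : y' ∈ U := hy'.mem_open U.2 u.2
      have h1 : (⟨y', hy'U⟩ : U.toScheme) ⤳ u := by
        apply (U.ι.isOpenEmbedding.isInducing.specializes_iff).mp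
        exact hy'
      have h2 := hu _ h1
      rw [← h2]
      exact specializes_rfl
  obtain ⟨x₁, hx₁⟩ := key u₁ hu₁
  obtain ⟨x₂, hx₂⟩ := key u₂ hu₂
  have h3 : f₂ x₁ = f₂ x₂ := by
    have e1 : f₂ x₁ = (U.ι ≫ g) u₁ := by
      rw [← h, Scheme.Hom.comp_apply, Scheme.Hom.comp_apply]
      exact congrArg (fun y => g y) hx₁
    have e2 : f₂ x₂ = (U.ι ≫ g) u₂ := by
      rw [← h, Scheme.Hom.comp_apply, Scheme.Hom.comp_apply]
      exact congrArg (fun y => g y) hx₂
    rw [e1, e2]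
    exact h12
  have h4 : x₁ = x₂ := hf₂.2 h3
  have h5 : U.ι u₁ = U.ι u₂ := by
    rw [← hx₁, ← hx₂, h4]
  exact U.ι.isOpenEmbedding.injective h5

end Groth.Agent.Lib.Helper91.NayakNhd
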