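import Mathlib
import Groth.Prelude.Def_EssFT
import Groth.Agent.Lib.Helper91.NayakNhd

/-!
# Nayak's factorization: a common open neighbourhood for two finite type targets
-/

set_option autoImplicit false
universe u

open CategoryTheory AlgebraicGeometry TopologicalSpace Limits

namespace Groth.Agent.Lib.Helper91.NayakFactor

open Groth.Agent.Lib.Helper91.LocImm Groth.Agent.Lib.Helper91.NayakNhd

variable {X Y₁ Y₂ S : Scheme.{u}}

theorem locallyEssFiniteType_of_locallyOfFiniteType {X Y : Scheme.{u}} (f : X ⟶ Y)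
    [LocallyOfFiniteType f] : EssFT.LocallyEssFiniteType f := by
  constructor
  intro x
  obtain ⟨_, ⟨U, hU, rfl⟩, hxU, -⟩ :=
    Y.isBasis_affineOpens.exists_subset_of_mem_open (Set.mem_univ (f x)) isOpen_univ
  obtain ⟨_, ⟨V, hV, rfl⟩, hxV, hVU⟩ :=
    X.isBasis_affineOpens.exists_subset_of_mem_open (show x ∈ f ⁻¹ᵁ U from hxU) (f ⁻¹ᵁ U).2
  exact ⟨⟨U, hU⟩, ⟨V, hV⟩, hxV, hVU, (f.finiteType_appLE hU hV hVU).essFiniteType⟩

theorem isNoetherian_of_locallyOfFiniteType {X Y : Scheme.{u}} (f : X ⟶ Y)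
    [LocallyOfFiniteType f] [QuasiCompact f] [IsNoetherian Y] : IsNoetherian X :=
  { toIsLocallyNoetherian := LocallyOfFiniteType.isLocallyNoetherian f
    toCompactSpace := QuasiCompact.compactSpace_of_compactSpace f }

/-- If `k ≫ j` is a localizing immersion with `j` an open immersion then `k` is a localizing
immersion. -/
theorem isLocImmersion_of_comp_isOpenImmersion {X W Y : Scheme.{u}} (k : X ⟶ W) (j : W ⟶ Y)
    [IsOpenImmersion j] (h : LocImm.IsLocImmersion (k ≫ j)) : LocImm.IsLocImmersion k := by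
  refine ⟨MorphismProperty.of_postcomp (W := isLocalizingProp) (W' := @IsOpenImmersion) k j
    inferInstance h.1, ?_⟩
  intro x x' hxx'
  apply h.2
  change (k ≫ j) x = (k ≫ j) x'
  rw [Scheme.Hom.comp_apply, Scheme.Hom.comp_apply]
  exact congrArg (fun y => j y) hxx'

theorem exists_common_open [IsNoetherian X] [IsNoetherian Y₁] [IsNoetherian Y₂] [IsNoetherian S]
    (f₁ : X ⟶ Y₁) (f₂ : X ⟶ Y₂) (π₁ : Y₁ ⟶ S) (π₂ : Y₂ ⟶ S)
    (hf₁ : LocImm.IsLocImmersion f₁) (hf₂ : LocImm.IsLocImmersion f₂)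
    [IsSeparated π₁] [IsSeparated π₂] [LocallyOfFiniteType π₁] [LocallyOfFiniteType π₂]
    (h : f₁ ≫ π₁ = f₂ ≫ π₂) :
    ∃ (W : Scheme.{u}) (k : X ⟶ W) (g₁ : W ⟶ Y₁) (g₂ : W ⟶ Y₂), LocImm.IsLocImmersion k ∧
      IsOpenImmersion g₁ ∧ IsOpenImmersion g₂ ∧ g₁ ≫ π₁ = g₂ ≫ π₂ ∧ k ≫ g₁ = f₁ ∧ k ≫ g₂ = f₂ := by
  let hh : X ⟶ pullback π₁ π₂ := pullback.lift f₁ f₂ h
  let i : hh.image ⟶ pullback π₁ π₂ := hh.imageι
  let t : X ⟶ hh.image := hh.toImage
  have hti : t ≫ i = hh := hh.toImage_imageι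
  have hP : IsNoetherian (pullback π₁ π₂) :=
    isNoetherian_of_locallyOfFiniteType (pullback.snd π₁ π₂)
  have hW₀ : IsNoetherian hh.image := isNoetherian_of_locallyOfFiniteType i
  let q₁ : hh.image ⟶ Y₁ := i ≫ pullback.fst π₁ π₂
  let q₂ : hh.image ⟶ Y₂ := i ≫ pullback.snd π₁ π₂
  have hq₁ : t ≫ q₁ = f₁ := by
    change t ≫ i ≫ pullback.fst π₁ π₂ = f₁
    rw [← Category.assoc, hti, pullback.lift_fst]
  have hq₂ : t ≫ q₂ = f₂ := by
    change t ≫ i ≫ pullback.snd π₁ π₂ = f₂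
    rw [← Category.assoc, hti, pullback.lift_snd]
  have ht : LocImm.IsLocImmersion t := by
    apply isLocImmersion_of_comp_of_injective_app t q₁
    · rw [hq₁]; exact hf₁
    · intro U
      exact TopCat.Presheaf.app_injective_of_stalkFunctor_map_injective (F := hh.image.sheaf) t.c U
        (fun x _ => hh.stalkFunctor_toImage_injective x)
  have hs₁ : IsSeparated q₁ := inferInstanceAs (IsSeparated (i ≫ pullback.fst π₁ π₂))
  have hs₂ : IsSeparated q₂ := inferInstanceAs (IsSeparated (i ≫ pullback.snd π₁ π₂))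
  have hl₁ : LocallyOfFiniteType q₁ :=
    inferInstanceAs (LocallyOfFiniteType (i ≫ pullback.fst π₁ π₂))
  have hl₂ : LocallyOfFiniteType q₂ :=
    inferInstanceAs (LocallyOfFiniteType (i ≫ pullback.snd π₁ π₂))
  have he₁ := locallyEssFiniteType_of_locallyOfFiniteType q₁
  have he₂ := locallyEssFiniteType_of_locallyOfFiniteType q₂
  obtain ⟨U₁, hR₁, hU₁⟩ := exists_open_isLocImmersion t f₁ q₁ ht hf₁ hq₁
  obtain ⟨U₂, hR₂, hU₂⟩ := exists_open_isLocImmersion t f₂ q₂ ht hf₂ hq₂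
  have hN₁ : IsNoetherian U₁.toScheme := isNoetherian_of_locallyOfFiniteType U₁.ι
  have hN₂ : IsNoetherian U₂.toScheme := isNoetherian_of_locallyOfFiniteType U₂.ι
  have o₁ : IsOpenImmersion (U₁.ι ≫ q₁) := isOpenImmersion_of_locallyOfFiniteType _ hU₁
  have o₂ : IsOpenImmersion (U₂.ι ≫ q₂) := isOpenImmersion_of_locallyOfFiniteType _ hU₂
  let W : hh.image.Opens := U₁ ⊓ U₂
  have hRW : Set.range t ⊆ Set.range W.ι := by
    rw [Scheme.Opens.range_ι]
    rintro _ ⟨x, rfl⟩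
    exact ⟨hR₁ ⟨x, rfl⟩, hR₂ ⟨x, rfl⟩⟩
  let k : X ⟶ W.toScheme := IsOpenImmersion.lift W.ι t hRW
  have hk : k ≫ W.ι = t := IsOpenImmersion.lift_fac _ _ _
  refine ⟨W, k, W.ι ≫ q₁, W.ι ≫ q₂, ?_, ?_, ?_, ?_, ?_, ?_⟩
  · apply isLocImmersion_of_comp_isOpenImmersion k W.ι
    rw [hk]; exact ht
  · have : W.ι ≫ q₁ = hh.image.homOfLE (inf_le_left : W ≤ U₁) ≫ U₁.ι ≫ q₁ := by
      rw [Scheme.homOfLE_ι_assoc]
    rw [this]; infer_instance
  · have : W.ι ≫ q₂ = hh.image.homOfLE (inf_le_right : W ≤ U₂) ≫ U₂.ι ≫ q₂ := by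
      rw [Scheme.homOfLE_ι_assoc]
    rw [this]; infer_instance
  · change (W.ι ≫ i ≫ pullback.fst π₁ π₂) ≫ π₁ = (W.ι ≫ i ≫ pullback.snd π₁ π₂) ≫ π₂
    simp only [Category.assoc, pullback.condition]
  · rw [← Category.assoc, hk, hq₁]
  · rw [← Category.assoc, hk, hq₂]

end Groth.Agent.Lib.Helper91.NayakFactor
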