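import Groth.Prelude.Def_PP16
import Mathlib
import Groth.Agent.S3811

set_option autoImplicit false
universe u
open scoped TensorProduct
open PP16

namespace Helper91.PPSection

variable (n : ℕ) (A B : Type u) [CommRing A] [CommRing B] [Algebra A B]

/-- The augmentation `P^n_{B/A} → B`. -/
noncomputable def aug : P n A B →+* B :=
  Ideal.Quotient.lift (KaehlerDifferential.ideal A B ^ (n + 1))
    (Algebra.TensorProduct.lmul' A : B ⊗[A] B →ₐ[A] B).toRingHom
    (fun x hx => by
      have : x ∈ KaehlerDifferential.ideal A B := Ideal.pow_le_self (by omega) hx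
      exact this)

theorem aug_mk (x : B ⊗[A] B) :
    aug n A B (Ideal.Quotient.mk _ x) = Algebra.TensorProduct.lmul' A x := rfl

theorem aug_algebraMap (b : B) : aug n A B (algebraMap B (P n A B) b) = b := by
  change aug n A B (Ideal.Quotient.mk _ (b ⊗ₜ[A] (1 : B))) = b
  rw [aug_mk]; simp

theorem aug_eq_zero_iff (z : P n A B) : aug n A B z = 0 ↔ z ∈ augIdeal n A B := by
  obtain ⟨x, rfl⟩ := Ideal.Quotient.mk_surjective z
  rw [aug_mk]
  constructor
  · intro h
    exact Ideal.mem_map_of_mem _ h
  · intro h
    rw [augIdeal, Ideal.mem_map_iff_of_surjective _ Ideal.Quotient.mk_surjective] at h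
    obtain ⟨x', hx', hxx'⟩ := h
    have : x' - x ∈ KaehlerDifferential.ideal A B ^ (n + 1) := by
      rw [← Ideal.Quotient.eq]; exact hxx'
    have h2 : x' - x ∈ KaehlerDifferential.ideal A B := Ideal.pow_le_self (by omega) this
    have h3 : x = x' - (x' - x) := by ring
    have h4 : x ∈ KaehlerDifferential.ideal A B := by
      rw [h3]; exact Ideal.sub_mem _ hx' h2
    exact h4

theorem mem_smul_augIdeal_iff (I : Ideal B) (z : P n A B) (hz : z ∈ augIdeal n A B) :
    z ∈ I • (augIdeal n A B).restrictScalars B ↔ z ∈ I.map (algebraMap B (P n A B)) := by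
  constructor
  · intro h
    have h1 : I • (augIdeal n A B).restrictScalars B ≤ I • (⊤ : Submodule B (P n A B)) :=
      Submodule.smul_mono le_rfl le_top
    have h2 := h1 h
    rw [Ideal.smul_top_eq_map] at h2
    exact h2
  · intro h
    have h0 : z ∈ (I.map (algebraMap B (P n A B))).restrictScalars B := h
    rw [← Ideal.smul_top_eq_map] at h0
    have htop : (⊤ : Submodule B (P n A B)) =
        LinearMap.range (Algebra.linearMap B (P n A B)) ⊔ (augIdeal n A B).restrictScalars B := by
      rw [eq_comm, eq_top_iff]
      intro p _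
      have hp : p = algebraMap B (P n A B) (aug n A B p) + (p - algebraMap B (P n A B) (aug n A B p)) := by
        ring
      rw [hp]
      apply Submodule.add_mem_sup
      · exact ⟨aug n A B p, rfl⟩
      · change _ ∈ augIdeal n A B
        rw [← aug_eq_zero_iff, map_sub, aug_algebraMap, sub_self]
    rw [htop, Submodule.smul_sup] at h0
    obtain ⟨u, hu, v, hv, huv⟩ := Submodule.mem_sup.mp h0
    have hvT : v ∈ augIdeal n A B := by
      have : I • (augIdeal n A B).restrictScalars B ≤ (augIdeal n A B).restrictScalars B :=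
        Submodule.smul_le_right
      exact this hv
    have hur : u ∈ LinearMap.range (Algebra.linearMap B (P n A B)) :=
      (Submodule.smul_le_right : I • LinearMap.range (Algebra.linearMap B (P n A B)) ≤ _) hu
    obtain ⟨b, rfl⟩ := hur
    have hu0 : aug n A B (Algebra.linearMap B (P n A B) b) = 0 := by
      have : Algebra.linearMap B (P n A B) b = z - v := by rw [← huv]; ring
      rw [this, map_sub, (aug_eq_zero_iff n A B z).mpr hz, (aug_eq_zero_iff n A B v).mpr hvT,
        sub_zero]
    rw [Algebra.linearMap_apply, aug_algebraMap] at hu0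
    subst hu0
    rw [map_zero, zero_add] at huv
    rw [← huv]; exact hv

theorem dn_sub_mem_iff (g : B →ₐ[A] A) (b : B) :
    dn n A B b - algebraMap B (P n A B) b ∈ (RingHom.ker g).map (algebraMap B (P n A B)) ↔
      b - algebraMap A B (g b) ∈ RingHom.ker g ^ (n + 1) := by
  have hres := (Groth.Agent.S3811.result n A B g).2
  set IP := (RingHom.ker g).map (algebraMap B (P n A B)) with hIP
  rw [← hres, RingHom.mem_ker, RingHom.comp_apply, ← Ideal.Quotient.eq_zero_iff_mem]
  have h1 : b - algebraMap A B (g b) ∈ RingHom.ker g := by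
    rw [RingHom.mem_ker, map_sub, AlgHom.commutes]; simp
  have h2 : Ideal.Quotient.mk IP (algebraMap B (P n A B) b) =
      Ideal.Quotient.mk IP (algebraMap B (P n A B) (algebraMap A B (g b))) := by
    rw [Ideal.Quotient.eq, ← map_sub]
    exact Ideal.mem_map_of_mem _ h1
  have h3 : (dn n A B).toRingHom (b - algebraMap A B (g b)) =
      dn n A B b - algebraMap B (P n A B) (algebraMap A B (g b)) := by
    change dn n A B (b - algebraMap A B (g b)) = _
    rw [map_sub, AlgHom.commutes, ← IsScalarTower.algebraMap_apply]
  rw [h3, map_sub, map_sub, h2]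

end Helper91.PPSection
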