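import Mathlib

/-!
# Lengths of quotients of power series rings over a field

General lemmas to compute `Module.length` of `R ⧸ K` for `R = MvPowerSeries σ k`, `k` a field:
the length over `R` equals the dimension over `k`; upper bounds via spanning sets and lower
bounds via families of linear functionals.
-/

namespace Groth.Agent.Lib.Helper91.PSLen

open MvPowerSeries

variable {k : Type*} [Field k]

instance isLocalHom_algebraMap_field (S : Type*) [CommRing S] [Nontrivial S] [Algebra k S] :
    IsLocalHom (algebraMap k S) := by
  refine ⟨fun a ha => ?_⟩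
  have : a ≠ 0 := by
    rintro rfl
    rw [map_zero] at ha
    exact not_isUnit_zero ha
  exact this.isUnit

theorem residue_surjective_field (σ : Type*) :
    Function.Surjective (algebraMap (IsLocalRing.ResidueField k)
      (IsLocalRing.ResidueField (MvPowerSeries σ k))) := by
  intro x
  obtain ⟨r, rfl⟩ := IsLocalRing.residue_surjective x
  refine ⟨IsLocalRing.residue k (constantCoeff r), ?_⟩
  change IsLocalRing.ResidueField.map (algebraMap k (MvPowerSeries σ k))
    (IsLocalRing.residue k (constantCoeff r)) = _
  rw [IsLocalRing.ResidueField.map_residue]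
  rw [← sub_eq_zero, ← map_sub, IsLocalRing.residue_eq_zero_iff]
  rw [IsLocalRing.mem_maximalIdeal, mem_nonunits_iff, MvPowerSeries.isUnit_iff_constantCoeff]
  rw [MvPowerSeries.algebraMap_apply, Algebra.algebraMap_self, RingHom.id_apply]
  simp

theorem length_residueField (σ : Type*) :
    Module.length (IsLocalRing.ResidueField k)
      (IsLocalRing.ResidueField (MvPowerSeries σ k)) = 1 := by
  let e : IsLocalRing.ResidueField k ≃ₗ[IsLocalRing.ResidueField k]
      IsLocalRing.ResidueField (MvPowerSeries σ k) :=
    LinearEquiv.ofBijective (Algebra.linearMap _ _)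
      ⟨(algebraMap (IsLocalRing.ResidueField k)
        (IsLocalRing.ResidueField (MvPowerSeries σ k))).injective, residue_surjective_field σ⟩
  rw [← e.length_eq, Module.length_eq_finrank, Module.finrank_self]
  rfl

/-- Over a power series ring with coefficients in a field `k`, length equals length over `k`. -/
theorem length_eq_length_field (σ : Type*) (M : Type*) [AddCommGroup M] [Module k M]
    [Module (MvPowerSeries σ k) M] [IsScalarTower k (MvPowerSeries σ k) M] :
    Module.length (MvPowerSeries σ k) M = Module.length k M := by
  have h := IsLocalRing.length_restrictScalars k (MvPowerSeries σ k) M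
  rw [length_residueField, mul_one] at h
  exact h.symm

/-- Upper bound for the length of a quotient: a finite set spanning modulo the ideal. -/
theorem length_quot_le {σ : Type*} (K : Ideal (MvPowerSeries σ k))
    (S : Finset (MvPowerSeries σ k))
    (h : Submodule.span k (S : Set (MvPowerSeries σ k)) ⊔ K.restrictScalars k = ⊤) :
    Module.length (MvPowerSeries σ k) (MvPowerSeries σ k ⧸ K) ≤ S.card := by
  rw [length_eq_length_field]
  let φ : Submodule.span k (S : Set (MvPowerSeries σ k)) →ₗ[k] (MvPowerSeries σ k ⧸ K) :=
    (K.mkQ.restrictScalars k) ∘ₗ (Submodule.span k (S : Set (MvPowerSeries σ k))).subtype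
  have hsurj : Function.Surjective φ := by
    intro y
    obtain ⟨f, rfl⟩ := Submodule.Quotient.mk_surjective K y
    have hf : f ∈ Submodule.span k (S : Set (MvPowerSeries σ k)) ⊔ K.restrictScalars k := by
      rw [h]; trivial
    obtain ⟨s, hs, q, hq, rfl⟩ := Submodule.mem_sup.mp hf
    refine ⟨⟨s, hs⟩, ?_⟩
    change Submodule.Quotient.mk s = Submodule.Quotient.mk (s + q)
    rw [Submodule.Quotient.mk_add]
    have : (Submodule.Quotient.mk q : MvPowerSeries σ k ⧸ K) = 0 :=
      (Submodule.Quotient.mk_eq_zero K).mpr hq
    rw [this, add_zero]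
  refine (Module.length_le_of_surjective φ hsurj).trans ?_
  rw [Module.length_eq_finrank]
  exact_mod_cast finrank_span_finset_le_card S

/-- Lower bound for the length of a quotient: a family of functionals vanishing on the ideal
and dual to a family of elements. -/
theorem le_length_quot {σ ι : Type*} [DecidableEq ι] (K : Ideal (MvPowerSeries σ k))
    (T : Finset ι) (lam : ι → MvPowerSeries σ k →ₗ[k] k) (v : ι → MvPowerSeries σ k)
    (hK : ∀ i ∈ T, ∀ f ∈ K, lam i f = 0)
    (hδ : ∀ i ∈ T, ∀ j ∈ T, lam i (v j) = if i = j then 1 else 0) :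
    (T.card : ℕ∞) ≤ Module.length (MvPowerSeries σ k) (MvPowerSeries σ k ⧸ K) := by
  rw [length_eq_length_field]
  let Λ : MvPowerSeries σ k →ₗ[k] (T → k) := LinearMap.pi (fun i => lam i)
  have hker : K.restrictScalars k ≤ LinearMap.ker Λ := by
    intro f hf
    rw [LinearMap.mem_ker]
    funext i
    exact hK i i.2 f hf
  let Λb : (MvPowerSeries σ k ⧸ K) →ₗ[k] (T → k) :=
    ((K.restrictScalars k).liftQ Λ hker) ∘ₗ
      (Submodule.Quotient.restrictScalarsEquiv k K).symm.toLinearMap
  have hsurj : Function.Surjective Λb := by
    intro c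
    refine ⟨Submodule.Quotient.mk (∑ j : T, c j • v j), ?_⟩
    have : Λb (Submodule.Quotient.mk (∑ j : T, c j • v j)) = Λ (∑ j : T, c j • v j) := rfl
    rw [this]
    funext i
    simp only [Λ, LinearMap.pi_apply, map_sum, map_smul, smul_eq_mul]
    rw [Finset.sum_eq_single i]
    · rw [hδ i i.2 i i.2]; simp
    · intro j _ hji
      rw [hδ i i.2 j j.2, if_neg]
      · simp
      · intro h; exact hji (Subtype.ext h.symm)
    · intro h; exact absurd (Finset.mem_univ i) h
  refine le_trans ?_ (Module.length_le_of_surjective Λb hsurj)
  rw [Module.length_eq_finrank, Module.finrank_fintype_fun_eq_card, Fintype.card_coe]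

end Groth.Agent.Lib.Helper91.PSLen
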