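import Groth.Agent.Lib.Helper91.PSLenDouble

/-!
# Bounds for the colength of `(g) + Ĩ^m`
-/

namespace Groth.Agent.Lib.Helper91.PSLen

open MvPowerSeries

/-- `∑_{i<m} (m - i)` -/
def triSum (m : ℕ) : ℕ := ∑ i ∈ Finset.range m, (m - i)

lemma triSum_succ (m : ℕ) : triSum (m + 1) = triSum m + (m + 1) := by
  unfold triSum
  rw [Finset.sum_range_succ']
  simp

lemma triSum_mul_two (m : ℕ) : 2 * triSum m = m * (m + 1) := by
  induction m with
  | zero => simp [triSum]
  | succ m ih => rw [triSum_succ, Nat.mul_add, ih]; ring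

variable (k : Type*) [Field k] (n : ℕ)

lemma X0_pow_mem (m : ℕ) : (X 0 : MvPowerSeries (Fin 3) k) ^ (4 * m) ∈ Itil k ^ m := by
  have h : (X 0 : MvPowerSeries (Fin 3) k) ^ (4 * m) = (X 0 ^ 2) ^ m * X 0 ^ (2 * m) := by
    rw [← pow_mul, ← pow_add]; congr 1; ring
  rw [h]
  exact Ideal.mul_mem_right _ _ (Ideal.pow_mem_pow (Ideal.subset_span (by simp)) m)

lemma X1_pow_mem (m : ℕ) : (X 1 : MvPowerSeries (Fin 3) k) ^ (4 * m) ∈ Itil k ^ m := by
  have h : (X 1 : MvPowerSeries (Fin 3) k) ^ (4 * m) = (X 1 ^ 2) ^ m * X 1 ^ (2 * m) := by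
    rw [← pow_mul, ← pow_add]; congr 1; ring
  rw [h]
  exact Ideal.mul_mem_right _ _ (Ideal.pow_mem_pow (Ideal.subset_span (by simp)) m)

lemma X2_pow_mem (m : ℕ) : (X 2 : MvPowerSeries (Fin 3) k) ^ (4 * m) ∈ Itil k ^ m := by
  have h : (X 2 : MvPowerSeries (Fin 3) k) ^ (4 * m) = (X 2 ^ 4) ^ m := by
    rw [← pow_mul]
  rw [h]
  exact Ideal.pow_mem_pow (Ideal.subset_span (by simp)) m

lemma Itil_pow_le_Km (m : ℕ) : Itil k ^ m ≤ Km k n m := le_sup_right

lemma mon_sub_mon_mem (a' b c j : ℕ) :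
    mon k (2 * j + a') b c - mon k a' (b + n * j) c ∈ Ideal.span {gg k n} := by
  have h : mon k (2 * j + a') b c - mon k a' (b + n * j) c =
      mon k a' b c * ((X 0 ^ 2) ^ j - (X 1 ^ n) ^ j) := by
    unfold mon
    rw [mul_sub, ← pow_mul, ← pow_mul, pow_add, pow_add]
    ring
  rw [h]
  apply Ideal.mul_mem_left
  rw [Ideal.mem_span_singleton]
  exact sub_dvd_pow_sub_pow _ _ j

lemma mon_mem_Itil_pow (a' β γ i j m : ℕ) (h : m ≤ i + j) :
    mon k a' (2 * i + β) (4 * j + γ) ∈ Itil k ^ m := by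
  have h1 : mon k a' (2 * i + β) (4 * j + γ) = mon k a' β γ * ((X 1 ^ 2) ^ i * (X 2 ^ 4) ^ j) := by
    unfold mon
    rw [← pow_mul, ← pow_mul, pow_add, pow_add]
    ring
  rw [h1]
  apply Ideal.mul_mem_left
  apply Ideal.pow_le_pow_right h
  rw [pow_add]
  exact Ideal.mul_mem_mul (Ideal.pow_mem_pow (Ideal.subset_span (by simp)) i)
    (Ideal.pow_mem_pow (Ideal.subset_span (by simp)) j)

/-- index set of the spanning monomials -/
def idxU (m : ℕ) : Finset (ℕ × ℕ × ℕ × (Σ _ : ℕ, ℕ)) :=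
  Finset.range 2 ×ˢ Finset.range 2 ×ˢ Finset.range 4 ×ˢ
    (Finset.range m).sigma (fun i => Finset.range (m - i))

lemma card_idxU (m : ℕ) : (idxU m).card = 16 * triSum m := by
  unfold idxU triSum
  rw [Finset.card_product, Finset.card_product, Finset.card_product, Finset.card_sigma]
  simp only [Finset.card_range]
  ring

/-- the spanning monomials -/
noncomputable def monU : ℕ × ℕ × ℕ × (Σ _ : ℕ, ℕ) → MvPowerSeries (Fin 3) k :=
  fun p => mon k p.1 (2 * p.2.2.2.1 + p.2.1) (4 * p.2.2.2.2 + p.2.2.1)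

theorem length_quot_Km_le (m : ℕ) :
    Module.length (MvPowerSeries (Fin 3) k) (MvPowerSeries (Fin 3) k ⧸ Km k n m) ≤
      ((16 * triSum m : ℕ) : ℕ∞) := by
  classical
  refine (length_quot_le (Km k n m) ((idxU m).image (monU k)) ?_).trans ?_
  · apply sup_eq_top_of_mon_mem (Km k n m) _ (4 * m)
      (Itil_pow_le_Km k n m (X0_pow_mem k m)) (Itil_pow_le_Km k n m (X1_pow_mem k m))
      (Itil_pow_le_Km k n m (X2_pow_mem k m))
    intro a b c
    have ha : a = 2 * (a / 2) + a % 2 := (Nat.div_add_mod a 2).symm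
    have h1 : mon k a b c = (mon k (2 * (a / 2) + a % 2) b c - mon k (a % 2) (b + n * (a / 2)) c)
        + mon k (a % 2) (b + n * (a / 2)) c := by
      rw [← ha]; ring
    rw [h1]
    refine Submodule.add_mem _ ?_ ?_
    · apply Submodule.mem_sup_right
      change _ ∈ Km k n m
      exact (le_sup_left : Ideal.span {gg k n} ≤ Km k n m) (mon_sub_mon_mem k n _ _ _ _)
    · set b' := b + n * (a / 2) with hb'
      have hb : b' = 2 * (b' / 2) + b' % 2 := (Nat.div_add_mod b' 2).symm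
      have hc : c = 4 * (c / 4) + c % 4 := (Nat.div_add_mod c 4).symm
      by_cases hlt : b' / 2 + c / 4 < m
      · apply Submodule.mem_sup_left
        apply Submodule.subset_span
        rw [Finset.coe_image]
        refine ⟨(a % 2, b' % 2, c % 4, ⟨b' / 2, c / 4⟩), ?_, ?_⟩
        · simp only [idxU, Finset.coe_product, Finset.coe_range, Finset.coe_sigma, Set.mem_prod,
            Set.mem_Iio, Set.mem_sigma_iff]
          refine ⟨Nat.mod_lt _ (by norm_num), Nat.mod_lt _ (by norm_num),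
            Nat.mod_lt _ (by norm_num), ?_, ?_⟩ <;> omega
        · simp only [monU]
          rw [← hb, ← hc]
      · apply Submodule.mem_sup_right
        change _ ∈ Km k n m
        apply Itil_pow_le_Km k n m
        rw [hb, hc]
        exact mon_mem_Itil_pow k _ _ _ _ _ _ (by omega)
  · rw [← card_idxU]
    exact_mod_cast Finset.card_image_le

/-- index set for the lower bound -/
def idxL (n m : ℕ) : Finset (ℕ × ℕ × ℕ) :=
  ((Finset.range (2 * m)).sigma (fun b => Finset.range (4 * m - 2 * b))).image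
      (fun p => (0, p.1, p.2)) ∪
    ((Finset.range (2 * m - n)).sigma (fun b => Finset.range (4 * m - n - 2 * b))).image
      (fun p => (1, p.1, p.2))

lemma mem_idxL {n m : ℕ} {p : ℕ × ℕ × ℕ} (hp : p ∈ idxL n m) :
    p.1 < 2 ∧ n * p.1 + 2 * p.2.1 + p.2.2 < 4 * m := by
  unfold idxL at hp
  rw [Finset.mem_union, Finset.mem_image, Finset.mem_image] at hp
  rcases hp with ⟨q, hq, rfl⟩ | ⟨q, hq, rfl⟩
  · rw [Finset.mem_sigma, Finset.mem_range, Finset.mem_range] at hq
    simp only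
    omega
  · rw [Finset.mem_sigma, Finset.mem_range, Finset.mem_range] at hq
    simp only
    omega

lemma card_idxL (n m : ℕ) : (idxL n m).card =
    ∑ b ∈ Finset.range (2 * m), (4 * m - 2 * b) +
      ∑ b ∈ Finset.range (2 * m - n), (4 * m - n - 2 * b) := by
  unfold idxL
  rw [Finset.card_union_of_disjoint]
  · rw [Finset.card_image_of_injective, Finset.card_image_of_injective, Finset.card_sigma,
      Finset.card_sigma]
    · simp only [Finset.card_range]
    · rintro ⟨b, c⟩ ⟨b', c'⟩ h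
      simp only [Prod.mk.injEq] at h
      obtain ⟨_, rfl, rfl⟩ := h
      rfl
    · rintro ⟨b, c⟩ ⟨b', c'⟩ h
      simp only [Prod.mk.injEq] at h
      obtain ⟨_, rfl, rfl⟩ := h
      rfl
  · rw [Finset.disjoint_left]
    intro p hp hp'
    rw [Finset.mem_image] at hp hp'
    obtain ⟨q, _, rfl⟩ := hp
    obtain ⟨q', _, h⟩ := hp'
    simp at h

theorem le_length_quot_Km (hn : 3 ≤ n) (m : ℕ) :
    ((idxL n m).card : ℕ∞) ≤
      Module.length (MvPowerSeries (Fin 3) k) (MvPowerSeries (Fin 3) k ⧸ Km k n m) := by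
  classical
  apply le_length_quot (Km k n m) (idxL n m) (fun p => lamF k n p.1 p.2.1 p.2.2)
    (fun p => mon k p.1 p.2.1 p.2.2)
  · intro p hp f hf
    obtain ⟨hp1, hp2⟩ := mem_idxL hp
    unfold Km at hf
    obtain ⟨f1, hf1, f2, hf2, rfl⟩ := Submodule.mem_sup.mp hf
    obtain ⟨h, rfl⟩ := Ideal.mem_span_singleton'.mp hf1
    rw [map_add, mul_comm, lamF_gg_mul n (by omega) _ _ _ hp1, zero_add]
    have hle : Itil k ^ m ≤ wIdeal k ![n, 2, 1] (m * 4) := by
      apply pow_le_wIdeal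
      apply Itil_le_wIdeal <;>
        simp only [Matrix.cons_val_zero, Matrix.cons_val_one, Matrix.cons_val] <;> omega
    exact lamF_wIdeal n _ _ _ _ f2 (hle hf2) (by omega)
  · intro p hp q hq
    obtain ⟨hp1, _⟩ := mem_idxL hp
    obtain ⟨hq1, _⟩ := mem_idxL hq
    rw [lamF_mon n _ _ _ _ _ _ hp1 hq1]

lemma card_idxL_ge (n m : ℕ) : 8 * m * m ≤ (idxL n m).card + 4 * n * m := by
  rw [card_idxL]
  have h1 : ∑ b ∈ Finset.range (2 * m), (4 * m - 2 * b) = 2 * triSum (2 * m) := by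
    unfold triSum
    rw [Finset.mul_sum]
    apply Finset.sum_congr rfl
    intro b hb
    rw [Finset.mem_range] at hb
    omega
  have h2 : 2 * triSum (2 * m - n) ≤ ∑ b ∈ Finset.range (2 * m - n), (4 * m - n - 2 * b) := by
    unfold triSum
    rw [Finset.mul_sum]
    apply Finset.sum_le_sum
    intro b hb
    rw [Finset.mem_range] at hb
    omega
  rw [h1, triSum_mul_two]
  rw [triSum_mul_two] at h2
  generalize ∑ b ∈ Finset.range (2 * m - n), (4 * m - n - 2 * b) = S at h2 ⊢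
  by_cases hmn : n ≤ 2 * m
  · obtain ⟨d, hd⟩ := Nat.exists_eq_add_of_le hmn
    have hd' : 2 * m - n = d := by omega
    rw [hd'] at h2
    -- 2m = n + d
    have e1 : 8 * m * m = 2 * ((2 * m) * (2 * m)) := by ring
    have e2 : 4 * n * m = 2 * n * (2 * m) := by ring
    rw [e1, e2, hd]
    nlinarith [h2]
  · have hmn' : 2 * m < n := by omega
    nlinarith [h2]

end Groth.Agent.Lib.Helper91.PSLen
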