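import Groth.Agent.Lib.Helper91.PSLenWeight

/-!
# The higher double point `k[[x,y,t]]/(x^2 - y^n)` and the ideal `(x^2,xy,y^2,xt,yt^2,t^4)`
-/

namespace Groth.Agent.Lib.Helper91.PSLen

open MvPowerSeries

variable (k : Type*) [Field k] (n : ℕ)

/-- the equation `x^2 - y^n` -/
noncomputable def gg : MvPowerSeries (Fin 3) k := X 0 ^ 2 - X 1 ^ n

/-- the monomial ideal `(x^2, xy, y^2, xt, yt^2, t^4)` -/
noncomputable def Itil : Ideal (MvPowerSeries (Fin 3) k) :=
  Ideal.span {X 0 ^ 2, X 0 * X 1, X 1 ^ 2, X 0 * X 2, X 1 * X 2 ^ 2, X 2 ^ 4}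

/-- the ideal `(g) + Ĩ^m` -/
noncomputable def Km (m : ℕ) : Ideal (MvPowerSeries (Fin 3) k) :=
  Ideal.span {gg k n} ⊔ Itil k ^ m

lemma gg_eq : gg k n = mon k 2 0 0 - mon k 0 n 0 := by
  simp [gg, mon]

lemma Itil_eq : Itil k = Ideal.span {mon k 2 0 0, mon k 1 1 0, mon k 0 2 0, mon k 1 0 1,
    mon k 0 1 2, mon k 0 0 4} := by
  simp [Itil, mon]

lemma Itil_le_wIdeal (w : Fin 3 → ℕ) (h1 : 4 ≤ w 0 * 2) (h2 : 4 ≤ w 0 + w 1) (h3 : 4 ≤ w 1 * 2)
    (h4 : 4 ≤ w 0 + w 2) (h5 : 4 ≤ w 1 + w 2 * 2) (h6 : 4 ≤ w 2 * 4) :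
    Itil k ≤ wIdeal k w 4 := by
  rw [Itil_eq, Ideal.span_le]
  intro x hx
  simp only [Set.mem_insert_iff, Set.mem_singleton_iff] at hx
  rcases hx with rfl | rfl | rfl | rfl | rfl | rfl
  · exact mon_mem_wIdeal w _ _ _ _ (by omega)
  · exact mon_mem_wIdeal w _ _ _ _ (by omega)
  · exact mon_mem_wIdeal w _ _ _ _ (by omega)
  · exact mon_mem_wIdeal w _ _ _ _ (by omega)
  · exact mon_mem_wIdeal w _ _ _ _ (by omega)
  · exact mon_mem_wIdeal w _ _ _ _ (by omega)

variable {k}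

lemma coeff_gg_mul (a b c : ℕ) (h : MvPowerSeries (Fin 3) k) :
    coeff (ex a b c) (gg k n * h) =
      (if 2 ≤ a then coeff (ex (a - 2) b c) h else 0) -
        (if n ≤ b then coeff (ex a (b - n) c) h else 0) := by
  rw [gg_eq, sub_mul, map_sub, coeff_mon_mul, coeff_mon_mul]
  congr 1
  · by_cases h2 : 2 ≤ a
    · rw [if_pos h2, if_pos (ex_le.mpr ⟨h2, Nat.zero_le _, Nat.zero_le _⟩), ex_sub]
      simp
    · rw [if_neg h2, if_neg]
      intro hle
      exact h2 (ex_le.mp hle).1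
  · by_cases h2 : n ≤ b
    · rw [if_pos h2, if_pos (ex_le.mpr ⟨Nat.zero_le _, h2, Nat.zero_le _⟩), ex_sub]
      simp
    · rw [if_neg h2, if_neg]
      intro hle
      exact h2 (ex_le.mp hle).2.1

/-- the functional summing the coefficients of all monomials congruent to `x^a y^b t^c`
modulo `x^2 - y^n` -/
noncomputable def lamF (k : Type*) [Field k] (n a b c : ℕ) : MvPowerSeries (Fin 3) k →ₗ[k] k :=
  ∑ j ∈ Finset.range (b / n + 1), coeff (ex (a + 2 * j) (b - n * j) c)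

lemma lamF_apply (a b c : ℕ) (f : MvPowerSeries (Fin 3) k) :
    lamF k n a b c f = ∑ j ∈ Finset.range (b / n + 1), coeff (ex (a + 2 * j) (b - n * j) c) f := by
  simp [lamF, LinearMap.sum_apply]

lemma lamF_gg_mul (hn : 0 < n) (a b c : ℕ) (ha : a < 2) (h : MvPowerSeries (Fin 3) k) :
    lamF k n a b c (gg k n * h) = 0 := by
  rw [lamF_apply]
  simp only [coeff_gg_mul]
  rw [Finset.sum_sub_distrib]
  set u : ℕ → k := fun j =>
    if n ≤ b - n * j then coeff (ex (a + 2 * j) (b - n * j - n) c) h else 0 with hu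
  set P : ℕ → k := fun j =>
    if 2 ≤ a + 2 * j then coeff (ex (a + 2 * j - 2) (b - n * j) c) h else 0 with hP
  change ∑ j ∈ Finset.range (b / n + 1), P j - ∑ j ∈ Finset.range (b / n + 1), u j = 0
  rw [Finset.sum_range_succ', Finset.sum_range_succ]
  have hP0 : P 0 = 0 := by
    simp only [hP]
    rw [if_neg]
    omega
  have hlast : u (b / n) = 0 := by
    simp only [hu]
    rw [if_neg]
    have := Nat.lt_mul_div_succ b hn
    rw [Nat.mul_add, Nat.mul_one] at this
    omega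
  have hstep : ∀ j ∈ Finset.range (b / n), P (j + 1) = u j := by
    intro j hj
    rw [Finset.mem_range] at hj
    have h1 : n * (j + 1) ≤ b := by
      have := Nat.mul_le_of_le_div n (j + 1) b hj
      rwa [Nat.mul_comm] at this
    simp only [hP, hu]
    have e1 : a + 2 * (j + 1) - 2 = a + 2 * j := by omega
    have e2 : b - n * (j + 1) = b - n * j - n := by
      rw [Nat.mul_add, Nat.mul_one, Nat.sub_sub]
    rw [Nat.mul_add, Nat.mul_one] at h1
    rw [if_pos (by omega), if_pos (by omega), e1, e2]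
  rw [Finset.sum_congr rfl hstep, hP0, hlast]
  ring

lemma lamF_wIdeal (a b c d : ℕ) (f : MvPowerSeries (Fin 3) k)
    (hf : f ∈ wIdeal k ![n, 2, 1] d) (hd : n * a + 2 * b + c < d) :
    lamF k n a b c f = 0 := by
  rw [lamF_apply]
  apply Finset.sum_eq_zero
  intro j hj
  rw [Finset.mem_range] at hj
  apply hf
  rw [wt_ex]
  have h1 : n * j ≤ b := by
    have := Nat.mul_le_of_le_div n j b (by omega)
    rwa [Nat.mul_comm] at this
  simp only [Matrix.cons_val_zero, Matrix.cons_val_one, Matrix.cons_val]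
  have h2 : n * (a + 2 * j) = n * a + 2 * (n * j) := by ring
  rw [h2]
  omega

lemma lamF_mon (a b c a' b' c' : ℕ) (ha : a < 2) (ha' : a' < 2) :
    lamF k n a b c (mon k a' b' c') = if (a, b, c) = (a', b', c') then 1 else 0 := by
  rw [lamF_apply]
  rw [Finset.sum_eq_single 0]
  · rw [coeff_mon]
    simp only [Nat.mul_zero, Nat.add_zero, Nat.sub_zero, ex_inj, Prod.mk.injEq]
  · intro j _ hj
    rw [coeff_mon, if_neg]
    rw [ex_inj]
    omega
  · intro h
    exact absurd (Finset.mem_range.mpr (Nat.succ_pos _)) h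

end Groth.Agent.Lib.Helper91.PSLen
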