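import Groth.Agent.Lib.Helper91.PSLenOne

/-!
# Identification of the lengths over the quotient ring and over the power series ring
-/

namespace Groth.Agent.Lib.Helper91.PSLen

open MvPowerSeries

/-- General: for ideals `I, J` of a commutative ring `R`, the length of `(R/I)/(J(R/I))^m` over
`R/I` equals the length of `R/(I + J^m)` over `R`. -/
theorem length_quot_quot_pow {R : Type*} [CommRing R] (I J : Ideal R) (m : ℕ) :
    Module.length (R ⧸ I) ((R ⧸ I) ⧸ (Ideal.map (Ideal.Quotient.mk I) J) ^ m) =
      Module.length R (R ⧸ (I ⊔ J ^ m)) := by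
  rw [← Ideal.map_pow]
  rw [← Module.length_eq_of_surjective (S := R) (R := R ⧸ I)
    (M := (R ⧸ I) ⧸ Ideal.map (Ideal.Quotient.mk I) (J ^ m)) Ideal.Quotient.mk_surjective]
  let e := DoubleQuot.quotQuotEquivQuotSup I (J ^ m)
  let eL : ((R ⧸ I) ⧸ Ideal.map (Ideal.Quotient.mk I) (J ^ m)) ≃ₗ[R] (R ⧸ (I ⊔ J ^ m)) :=
    { toFun := e
      invFun := e.symm
      left_inv := e.left_inv
      right_inv := e.right_inv
      map_add' := map_add e
      map_smul' := by
        intro r x
        rw [Algebra.smul_def, map_mul, RingHom.id_apply, Algebra.smul_def]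
        congr 1 }
  exact eL.length_eq

/-- The same without powers. -/
theorem length_quot_quot {R : Type*} [CommRing R] (I J : Ideal R) :
    Module.length (R ⧸ I) ((R ⧸ I) ⧸ Ideal.map (Ideal.Quotient.mk I) J) =
      Module.length R (R ⧸ (I ⊔ J)) := by
  rw [← Module.length_eq_of_surjective (S := R) (R := R ⧸ I)
    (M := (R ⧸ I) ⧸ Ideal.map (Ideal.Quotient.mk I) J) Ideal.Quotient.mk_surjective]
  let e := DoubleQuot.quotQuotEquivQuotSup I J
  let eL : ((R ⧸ I) ⧸ Ideal.map (Ideal.Quotient.mk I) J) ≃ₗ[R] (R ⧸ (I ⊔ J)) :=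
    { toFun := e
      invFun := e.symm
      left_inv := e.left_inv
      right_inv := e.right_inv
      map_add' := map_add e
      map_smul' := by
        intro r x
        rw [Algebra.smul_def, map_mul, RingHom.id_apply, Algebra.smul_def]
        congr 1 }
  exact eL.length_eq

theorem length_quot_sup_one (k : Type*) [Field k] (n : ℕ) (hn : 3 ≤ n) :
    Module.length (MvPowerSeries (Fin 3) k)
      (MvPowerSeries (Fin 3) k ⧸ (Ideal.span {gg k n} ⊔ Itil k)) = 7 := by
  have h : Km k n 1 = Ideal.span {gg k n} ⊔ Itil k := by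
    unfold Km; rw [pow_one]
  rw [← h]
  exact length_quot_Km_one k n hn

end Groth.Agent.Lib.Helper91.PSLen
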