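import Groth.Agent.Lib.Helper91.PSLenBounds

/-!
# The colength of `(g) + Ĩ` is `7`
-/

namespace Groth.Agent.Lib.Helper91.PSLen

open MvPowerSeries

variable (k : Type*) [Field k] (n : ℕ)

lemma mon_mem_Itil_of_le {a0 b0 c0 : ℕ} (hgen : mon k a0 b0 c0 ∈ Itil k) {a b c : ℕ}
    (ha : a0 ≤ a) (hb : b0 ≤ b) (hc : c0 ≤ c) : mon k a b c ∈ Itil k := by
  have h : mon k a b c = mon k a0 b0 c0 * mon k (a - a0) (b - b0) (c - c0) := by
    rw [mon_mul_mon]
    congr <;> omega
  rw [h]
  exact Ideal.mul_mem_right _ _ hgen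

lemma gen200 : mon k 2 0 0 ∈ Itil k := by rw [Itil_eq]; exact Ideal.subset_span (by simp)
lemma gen110 : mon k 1 1 0 ∈ Itil k := by rw [Itil_eq]; exact Ideal.subset_span (by simp)
lemma gen020 : mon k 0 2 0 ∈ Itil k := by rw [Itil_eq]; exact Ideal.subset_span (by simp)
lemma gen101 : mon k 1 0 1 ∈ Itil k := by rw [Itil_eq]; exact Ideal.subset_span (by simp)
lemma gen012 : mon k 0 1 2 ∈ Itil k := by rw [Itil_eq]; exact Ideal.subset_span (by simp)
lemma gen004 : mon k 0 0 4 ∈ Itil k := by rw [Itil_eq]; exact Ideal.subset_span (by simp)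

/-- the seven standard monomials -/
def T7 : Finset (ℕ × ℕ × ℕ) :=
  {(0, 0, 0), (0, 0, 1), (0, 0, 2), (0, 0, 3), (0, 1, 0), (0, 1, 1), (1, 0, 0)}

lemma card_T7 : T7.card = 7 := by decide

lemma Itil_le_Km_one : Itil k ≤ Km k n 1 := by
  have := Itil_pow_le_Km k n 1
  rwa [pow_one] at this

theorem length_quot_Km_one_le :
    Module.length (MvPowerSeries (Fin 3) k) (MvPowerSeries (Fin 3) k ⧸ Km k n 1) ≤ 7 := by
  classical
  have hmem : ∀ a b c : ℕ, (a, b, c) ∈ T7 → mon k a b c ∈
      Submodule.span k ((T7.image (fun p => mon k p.1 p.2.1 p.2.2) : Finset _) :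
        Set (MvPowerSeries (Fin 3) k)) := by
    intro a b c h
    apply Submodule.subset_span
    rw [Finset.mem_coe, Finset.mem_image]
    exact ⟨(a, b, c), h, rfl⟩
  refine (length_quot_le (Km k n 1) (T7.image (fun p => mon k p.1 p.2.1 p.2.2)) ?_).trans ?_
  · apply sup_eq_top_of_mon_mem (Km k n 1) _ (4 * 1)
      (Itil_pow_le_Km k n 1 (X0_pow_mem k 1)) (Itil_pow_le_Km k n 1 (X1_pow_mem k 1))
      (Itil_pow_le_Km k n 1 (X2_pow_mem k 1))
    intro a b c
    have hK := Itil_le_Km_one k n
    by_cases ha : 2 ≤ a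
    · exact Submodule.mem_sup_right (hK (mon_mem_Itil_of_le k (gen200 k) ha (Nat.zero_le _)
        (Nat.zero_le _)))
    by_cases hb : 2 ≤ b
    · exact Submodule.mem_sup_right (hK (mon_mem_Itil_of_le k (gen020 k) (Nat.zero_le _) hb
        (Nat.zero_le _)))
    by_cases hc : 4 ≤ c
    · exact Submodule.mem_sup_right (hK (mon_mem_Itil_of_le k (gen004 k) (Nat.zero_le _)
        (Nat.zero_le _) hc))
    push Not at ha hb hc
    interval_cases a <;> interval_cases b <;> interval_cases c
    all_goals first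
      | exact Submodule.mem_sup_left (hmem _ _ _ (by decide))
      | exact Submodule.mem_sup_right (hK (mon_mem_Itil_of_le k (gen110 k) (by omega)
          (by omega) (by omega)))
      | exact Submodule.mem_sup_right (hK (mon_mem_Itil_of_le k (gen101 k) (by omega)
          (by omega) (by omega)))
      | exact Submodule.mem_sup_right (hK (mon_mem_Itil_of_le k (gen012 k) (by omega)
          (by omega) (by omega)))
  · have h1 : (T7.image (fun p => mon k p.1 p.2.1 p.2.2)).card ≤ 7 := by
      rw [← card_T7]; exact Finset.card_image_le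
    exact_mod_cast h1

theorem le_length_quot_Km_one (hn : 3 ≤ n) :
    7 ≤ Module.length (MvPowerSeries (Fin 3) k) (MvPowerSeries (Fin 3) k ⧸ Km k n 1) := by
  classical
  have hw : Km k n 1 ≤ wIdeal k ![3, 2, 1] 4 := by
    unfold Km
    rw [pow_one]
    apply sup_le
    · rw [Ideal.span_le, Set.singleton_subset_iff, gg_eq]
      apply Ideal.sub_mem
      · apply mon_mem_wIdeal
        simp only [Matrix.cons_val_zero, Matrix.cons_val_one, Matrix.cons_val]
        omega
      · apply mon_mem_wIdeal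
        simp only [Matrix.cons_val_zero, Matrix.cons_val_one, Matrix.cons_val]
        omega
    · apply Itil_le_wIdeal <;>
        simp only [Matrix.cons_val_zero, Matrix.cons_val_one, Matrix.cons_val] <;> omega
  have h := le_length_quot (Km k n 1) T7 (fun p => coeff (ex p.1 p.2.1 p.2.2))
    (fun p => mon k p.1 p.2.1 p.2.2) ?_ ?_
  · rw [card_T7] at h
    exact_mod_cast h
  · intro p hp f hf
    apply hw hf
    rw [wt_ex]
    simp only [Matrix.cons_val_zero, Matrix.cons_val_one, Matrix.cons_val]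
    revert p
    decide
  · intro p _ q _
    rw [coeff_mon]
    by_cases hpq : p = q
    · subst hpq; simp
    · rw [if_neg hpq, if_neg]
      rw [ex_inj]
      intro h
      exact hpq (Prod.ext h.1 (Prod.ext h.2.1 h.2.2))

theorem length_quot_Km_one (hn : 3 ≤ n) :
    Module.length (MvPowerSeries (Fin 3) k) (MvPowerSeries (Fin 3) k ⧸ Km k n 1) = 7 :=
  le_antisymm (length_quot_Km_one_le k n) (le_length_quot_Km_one k n hn)

end Groth.Agent.Lib.Helper91.PSLen
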