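import Groth.Agent.Lib.Helper91.PSLenTrunc

/-!
# Weight ideals in `k[[x,y,t]]`
-/

namespace Groth.Agent.Lib.Helper91.PSLen

open MvPowerSeries

variable {k : Type*} [Field k]

/-- weight of an exponent vector -/
def wt (w : Fin 3 → ℕ) (e : Fin 3 →₀ ℕ) : ℕ := w 0 * e 0 + w 1 * e 1 + w 2 * e 2

lemma wt_add (w : Fin 3 → ℕ) (e e' : Fin 3 →₀ ℕ) : wt w (e + e') = wt w e + wt w e' := by
  simp only [wt, Finsupp.add_apply]; ring

@[simp] lemma wt_ex (w : Fin 3 → ℕ) (a b c : ℕ) : wt w (ex a b c) = w 0 * a + w 1 * b + w 2 * c := by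
  simp [wt]

/-- the ideal of power series all of whose monomials have weight at least `d` -/
def wIdeal (k : Type*) [Field k] (w : Fin 3 → ℕ) (d : ℕ) : Ideal (MvPowerSeries (Fin 3) k) where
  carrier := {f | ∀ e, wt w e < d → coeff e f = 0}
  add_mem' := by
    intro f g hf hg e he
    rw [map_add, hf e he, hg e he, add_zero]
  zero_mem' := by
    intro e _
    simp
  smul_mem' := by
    intro h f hf e he
    rw [smul_eq_mul, coeff_mul]
    apply Finset.sum_eq_zero
    intro p hp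
    replace hp := Finset.HasAntidiagonal.mem_antidiagonal.mp hp
    have : wt w p.2 < d := by
      have := wt_add w p.1 p.2
      rw [hp] at this
      omega
    rw [hf p.2 this, mul_zero]

lemma mem_wIdeal {w : Fin 3 → ℕ} {d : ℕ} {f : MvPowerSeries (Fin 3) k} :
    f ∈ wIdeal k w d ↔ ∀ e, wt w e < d → coeff e f = 0 := Iff.rfl

lemma wIdeal_anti (w : Fin 3 → ℕ) {d d' : ℕ} (h : d ≤ d') : wIdeal k w d' ≤ wIdeal k w d := by
  intro f hf e he
  exact hf e (lt_of_lt_of_le he h)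

lemma wIdeal_zero (w : Fin 3 → ℕ) : wIdeal k w 0 = ⊤ := by
  rw [eq_top_iff]
  intro f _ e he
  exact absurd he (Nat.not_lt_zero _)

lemma wIdeal_mul_le (w : Fin 3 → ℕ) (a b : ℕ) :
    wIdeal k w a * wIdeal k w b ≤ wIdeal k w (a + b) := by
  rw [Ideal.mul_le]
  intro f hf g hg e he
  rw [coeff_mul]
  apply Finset.sum_eq_zero
  intro p hp
  replace hp := Finset.HasAntidiagonal.mem_antidiagonal.mp hp
  have hadd := wt_add w p.1 p.2
  rw [hp] at hadd
  by_cases h1 : wt w p.1 < a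
  · rw [hf p.1 h1, zero_mul]
  · have : wt w p.2 < b := by omega
    rw [hg p.2 this, mul_zero]

lemma pow_le_wIdeal (w : Fin 3 → ℕ) (a : ℕ) (J : Ideal (MvPowerSeries (Fin 3) k))
    (hJ : J ≤ wIdeal k w a) (m : ℕ) : J ^ m ≤ wIdeal k w (m * a) := by
  induction m with
  | zero => rw [zero_mul, wIdeal_zero]; exact le_top
  | succ m ih =>
    rw [pow_succ, Nat.succ_mul]
    exact (Ideal.mul_mono ih hJ).trans (wIdeal_mul_le w _ _)

lemma mon_mem_wIdeal (w : Fin 3 → ℕ) (d a b c : ℕ) (h : d ≤ w 0 * a + w 1 * b + w 2 * c) :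
    mon k a b c ∈ wIdeal k w d := by
  intro e he
  rw [coeff_mon, if_neg]
  rintro rfl
  rw [wt_ex] at he
  omega

end Groth.Agent.Lib.Helper91.PSLen
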