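import Mathlib

/-!
# Classification of plane conics by the rank of the symmetric matrix
-/

open MvPolynomial Matrix

namespace Helper91.PlaneConic

variable {k : Type*} [Field k]

/-- The quadratic polynomial of a matrix. -/
noncomputable def qpoly (Q : Matrix (Fin 3) (Fin 3) k) : MvPolynomial (Fin 3) k :=
  ∑ i : Fin 3, ∑ j : Fin 3, Q i j • (X i * X j)

/-- The linear form with coefficient vector `a`. -/
noncomputable def lin (a : Fin 3 → k) : MvPolynomial (Fin 3) k := ∑ i : Fin 3, a i • X i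

theorem eval_qpoly (Q : Matrix (Fin 3) (Fin 3) k) (u : Fin 3 → k) :
    eval u (qpoly Q) = u ⬝ᵥ Q *ᵥ u := by
  simp only [qpoly, map_sum, smul_eval, map_mul, eval_X, dotProduct, mulVec, Finset.mul_sum]
  refine Finset.sum_congr rfl (fun i _ => Finset.sum_congr rfl (fun j _ => ?_))
  ring

theorem eval_lin (a u : Fin 3 → k) : eval u (lin a) = a ⬝ᵥ u := by
  simp only [lin, map_sum, smul_eval, eval_X, dotProduct]

/-- Symmetrised outer product. -/
noncomputable def sym (a b : Fin 3 → k) : Matrix (Fin 3) (Fin 3) k :=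
  (2⁻¹ : k) • (vecMulVec a b + vecMulVec b a)

theorem sym_isSymm (a b : Fin 3 → k) : (sym a b).IsSymm := by
  ext i j
  simp only [sym, transpose_apply, Matrix.smul_apply, Matrix.add_apply, vecMulVec_apply, smul_eq_mul]
  ring

theorem sym_quad (h2 : (2 : k) ≠ 0) (a b u : Fin 3 → k) :
    u ⬝ᵥ (sym a b) *ᵥ u = (a ⬝ᵥ u) * (b ⬝ᵥ u) := by
  simp only [sym, dotProduct, mulVec, Matrix.smul_apply, Matrix.add_apply, vecMulVec_apply, smul_eq_mul,
    Fin.sum_univ_three]
  field_simp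
  ring

theorem polarization (h2 : (2 : k) ≠ 0) (Q Q' : Matrix (Fin 3) (Fin 3) k) (hQ : Q.IsSymm)
    (hQ' : Q'.IsSymm) (h : ∀ u : Fin 3 → k, u ⬝ᵥ Q *ᵥ u = u ⬝ᵥ Q' *ᵥ u) : Q = Q' := by
  have h01 : Q 0 1 = Q 1 0 := by rw [← hQ.apply 0 1]
  have h02 : Q 0 2 = Q 2 0 := by rw [← hQ.apply 0 2]
  have h12 : Q 1 2 = Q 2 1 := by rw [← hQ.apply 1 2]
  have h01' : Q' 0 1 = Q' 1 0 := by rw [← hQ'.apply 0 1]
  have h02' : Q' 0 2 = Q' 2 0 := by rw [← hQ'.apply 0 2]
  have h12' : Q' 1 2 = Q' 2 1 := by rw [← hQ'.apply 1 2]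
  have e := fun x y z : k => h ![x, y, z]
  simp only [dotProduct, mulVec, Fin.sum_univ_three, Matrix.cons_val_zero, Matrix.cons_val_one,
    Matrix.cons_val_two, Matrix.head_cons, Matrix.tail_cons] at e
  have e100 := e 1 0 0
  have e010 := e 0 1 0
  have e001 := e 0 0 1
  have e110 := e 1 1 0
  have e101 := e 1 0 1
  have e011 := e 0 1 1
  ring_nf at e100 e010 e001 e110 e101 e011
  ext i j
  fin_cases i <;> fin_cases j <;> simp only [Fin.zero_eta, Fin.mk_one, Fin.reduceFinMk]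
  · exact e100
  · apply mul_left_cancel₀ h2
    linear_combination e110 - e100 - e010 + h01 - h01'
  · apply mul_left_cancel₀ h2
    linear_combination e101 - e100 - e001 + h02 - h02'
  · apply mul_left_cancel₀ h2
    linear_combination e110 - e100 - e010 - h01 + h01'
  · exact e010
  · apply mul_left_cancel₀ h2
    linear_combination e011 - e010 - e001 + h12 - h12'
  · apply mul_left_cancel₀ h2
    linear_combination e101 - e100 - e001 - h02 + h02'
  · apply mul_left_cancel₀ h2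
    linear_combination e011 - e010 - e001 - h12 + h12'
  · exact e001


theorem qpoly_eq_mul_iff [Infinite k] (h2 : (2 : k) ≠ 0) (Q : Matrix (Fin 3) (Fin 3) k)
    (hQ : Q.IsSymm) (a b : Fin 3 → k) :
    qpoly Q = lin a * lin b ↔ Q = sym a b := by
  constructor
  · intro h
    apply polarization h2 Q _ hQ (sym_isSymm a b)
    intro u
    rw [← eval_qpoly, h, map_mul, eval_lin, eval_lin, sym_quad h2]
  · intro h
    apply MvPolynomial.funext
    intro u
    rw [eval_qpoly, map_mul, eval_lin, eval_lin, h, sym_quad h2]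

theorem eval_pderiv_qpoly (Q : Matrix (Fin 3) (Fin 3) k) (hQ : Q.IsSymm) (u : Fin 3 → k)
    (i : Fin 3) : eval u (pderiv i (qpoly Q)) = 2 * (Q *ᵥ u) i := by
  have h01 : Q 0 1 = Q 1 0 := by rw [← hQ.apply 0 1]
  have h02 : Q 0 2 = Q 2 0 := by rw [← hQ.apply 0 2]
  have h12 : Q 1 2 = Q 2 1 := by rw [← hQ.apply 1 2]
  fin_cases i <;>
    simp [qpoly, Fin.sum_univ_three, mulVec, dotProduct, pderiv_X, Pi.single_apply,
      Derivation.leibniz, smul_eval, h01, h02, h12] <;>
    ring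


theorem sing_iff (h2 : (2 : k) ≠ 0) (Q : Matrix (Fin 3) (Fin 3) k) (hQ : Q.IsSymm) :
    (∃ u : Fin 3 → k, u ≠ 0 ∧ ∀ i : Fin 3, eval u (pderiv i (qpoly Q)) = 0) ↔ Q.det = 0 := by
  rw [← Matrix.exists_mulVec_eq_zero_iff]
  constructor
  · rintro ⟨u, hu, h⟩
    refine ⟨u, hu, ?_⟩
    ext i
    have := h i
    rw [eval_pderiv_qpoly Q hQ] at this
    exact (mul_eq_zero.mp this).resolve_left h2
  · rintro ⟨u, hu, h⟩
    refine ⟨u, hu, fun i => ?_⟩
    rw [eval_pderiv_qpoly Q hQ, h]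
    simp

theorem exists_diag [IsAlgClosed k] (h2 : (2 : k) ≠ 0) (Q : Matrix (Fin 3) (Fin 3) k)
    (hQ : Q.IsSymm) :
    ∃ (M : Matrix (Fin 3) (Fin 3) k) (s : Fin 3 → k), IsUnit M.det ∧
      Q = Mᵀ * diagonal (fun i => s i ^ 2) * M := by
  classical
  haveI : Invertible (2 : k) := invertibleOfNonzero h2
  have hB : (Matrix.toBilin' Q).IsSymm := Matrix.isSymm_toBilin'_iff_isSymm.mpr hQ
  obtain ⟨v, hv⟩ := LinearMap.BilinForm.exists_orthogonal_basis
    (LinearMap.BilinForm.isSymm_iff.mp hB)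
  have hfin : Module.finrank k (Fin 3 → k) = 3 := by simp
  let v' : Module.Basis (Fin 3) k (Fin 3 → k) := v.reindex (finCongr hfin)
  have hv' : ∀ i j : Fin 3, i ≠ j → Matrix.toBilin' Q (v' i) (v' j) = 0 := by
    intro i j hij
    simp only [v', Module.Basis.reindex_apply]
    apply hv
    intro h
    exact hij ((finCongr hfin).symm.injective h)
  let P : Matrix (Fin 3) (Fin 3) k := (Pi.basisFun k (Fin 3)).toMatrix v'
  have hPij : ∀ i j, P i j = v' j i := by
    intro i j
    simp [P, Module.Basis.toMatrix_apply]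
  haveI : Invertible P := Module.Basis.invertibleToMatrix _ _
  have hPdet : IsUnit P.det := Matrix.isUnit_det_of_invertible P
  have hD : Pᵀ * Q * P = diagonal (fun i => Matrix.toBilin' Q (v' i) (v' i)) := by
    ext i j
    have h1 : (Pᵀ * Q * P) i j = Matrix.toBilin' Q (v' i) (v' j) := by
      rw [Matrix.toBilin'_apply, Matrix.mul_apply]
      simp only [Matrix.mul_apply, transpose_apply, hPij, Finset.sum_mul]
      rw [Finset.sum_comm]
    rw [h1]
    by_cases hij : i = j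
    · subst hij
      simp
    · rw [diagonal_apply_ne _ hij]
      exact hv' i j hij
  have hs : ∀ i, ∃ z : k, z ^ 2 = Matrix.toBilin' Q (v' i) (v' i) := fun i =>
    IsAlgClosed.exists_pow_nat_eq _ (by norm_num)
  choose s hs using hs
  refine ⟨P⁻¹, s, ?_, ?_⟩
  · exact Matrix.isUnit_nonsing_inv_det P hPdet
  · have hs' : (fun i => s i ^ 2) = fun i => Matrix.toBilin' Q (v' i) (v' i) := funext hs
    rw [hs', ← hD, Matrix.transpose_nonsing_inv]
    have h1 : (Pᵀ)⁻¹ * (Pᵀ * Q * P) * P⁻¹ = ((Pᵀ)⁻¹ * Pᵀ) * Q * (P * P⁻¹) := by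
      simp only [Matrix.mul_assoc]
    rw [h1, Matrix.mul_nonsing_inv _ hPdet,
      Matrix.nonsing_inv_mul _ (by rwa [Matrix.det_transpose]), Matrix.one_mul, Matrix.mul_one]


theorem det_sym (a b : Fin 3 → k) : (sym a b).det = 0 := by
  simp only [sym, Matrix.det_fin_three, Matrix.smul_apply, Matrix.add_apply, vecMulVec_apply,
    smul_eq_mul]
  ring

theorem sym_self (h2 : (2 : k) ≠ 0) (c : Fin 3 → k) : sym c c = vecMulVec c c := by
  ext i j
  simp only [sym, Matrix.smul_apply, Matrix.add_apply, vecMulVec_apply, smul_eq_mul]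
  field_simp
  ring

theorem sym_mulVec (a b u : Fin 3 → k) :
    (sym a b) *ᵥ u = (2⁻¹ : k) • ((b ⬝ᵥ u) • a + (a ⬝ᵥ u) • b) := by
  ext i
  simp only [sym, mulVec, dotProduct, Matrix.smul_apply, Matrix.add_apply, vecMulVec_apply,
    smul_eq_mul, Fin.sum_univ_three, Pi.smul_apply, Pi.add_apply]
  ring

/-- Dual vectors for an independent pair. -/
theorem exists_dual (a b : Fin 3 → k) (hli : LinearIndependent k ![a, b]) (x y : k) :
    ∃ u : Fin 3 → k, a ⬝ᵥ u = x ∧ b ⬝ᵥ u = y := by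
  classical
  let A : Matrix (Fin 2) (Fin 3) k := Matrix.of ![a, b]
  have hrow : A.row = ![a, b] := by
    ext i j
    fin_cases i <;> rfl
  have hrank : A.rank = 2 := by
    rw [Matrix.rank_eq_finrank_span_row, hrow, finrank_span_eq_card hli]
    simp
  have htop : LinearMap.range A.mulVecLin = ⊤ := by
    apply Submodule.eq_top_of_finrank_eq
    rw [← Matrix.rank, hrank]
    simp
  have hmem : (![x, y] : Fin 2 → k) ∈ LinearMap.range A.mulVecLin := by
    rw [htop]
    trivial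
  obtain ⟨u, hu⟩ := hmem
  refine ⟨u, ?_, ?_⟩
  · have := congrFun hu 0
    simpa [A, mulVec] using this
  · have := congrFun hu 1
    simpa [A, mulVec] using this

theorem not_li_of_sym_eq (h2 : (2 : k) ≠ 0) (a b c : Fin 3 → k)
    (hli : LinearIndependent k ![a, b]) (h : sym a b = sym c c) : False := by
  obtain ⟨u, hu1, hu2⟩ := exists_dual a b hli 0 1
  obtain ⟨u', hu1', hu2'⟩ := exists_dual a b hli 1 0
  have e1 := congrArg (fun Q => Q *ᵥ u) h
  have e2 := congrArg (fun Q => Q *ᵥ u') h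
  simp only [sym_mulVec, hu1, hu2, hu1', hu2', one_smul, zero_smul, add_zero, zero_add] at e1 e2
  -- a = 2 (c·u) c, b = 2 (c·u') c
  have ha : a = (2 * (c ⬝ᵥ u)) • c := by
    have := congrArg (fun w => (2 : k) • w) e1
    simp only [smul_smul, mul_inv_cancel₀ h2, one_smul] at this
    rw [this]
    ext i
    simp only [Pi.smul_apply, Pi.add_apply, smul_eq_mul]
    ring
  have hb : b = (2 * (c ⬝ᵥ u')) • c := by
    have := congrArg (fun w => (2 : k) • w) e2
    simp only [smul_smul, mul_inv_cancel₀ h2, one_smul] at this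
    rw [this]
    ext i
    simp only [Pi.smul_apply, Pi.add_apply, smul_eq_mul]
    ring
  rw [LinearIndependent.pair_iff] at hli
  have h1 := hli (2 * (c ⬝ᵥ u')) (-(2 * (c ⬝ᵥ u))) (by
    rw [ha, hb]
    ext i
    simp only [Pi.smul_apply, Pi.add_apply, smul_eq_mul, Pi.zero_apply]
    ring)
  have hα : (2 * (c ⬝ᵥ u)) = 0 := neg_eq_zero.mp h1.2
  have ha0 : a = 0 := by rw [ha, hα, zero_smul]
  have h3 := hli 1 0 (by rw [ha0]; simp)
  exact one_ne_zero h3.1


theorem two_case [IsAlgClosed k] (h2 : (2 : k) ≠ 0) (c c' : Fin 3 → k)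
    (hli : LinearIndependent k ![c, c']) :
    ∃ a b : Fin 3 → k, LinearIndependent k ![a, b] ∧
      vecMulVec c c + vecMulVec c' c' = sym a b := by
  obtain ⟨I, hI⟩ : ∃ z : k, z ^ 2 = -1 := IsAlgClosed.exists_pow_nat_eq _ (by norm_num)
  have hI0 : I ≠ 0 := by
    rintro rfl
    norm_num at hI
  refine ⟨c + I • c', c - I • c', ?_, ?_⟩
  · rw [LinearIndependent.pair_iff] at hli ⊢
    intro s t hst
    have h1 := hli (s + t) ((s - t) * I) (by
      rw [← hst]
      ext i
      simp only [Pi.smul_apply, Pi.add_apply, Pi.sub_apply, smul_eq_mul]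
      ring)
    have h3 : s - t = 0 := (mul_eq_zero.mp h1.2).resolve_right hI0
    have h4 : s + t = 0 := h1.1
    have hs : (2 : k) * s = 0 := by linear_combination h3 + h4
    have ht : (2 : k) * t = 0 := by linear_combination h4 - h3
    exact ⟨(mul_eq_zero.mp hs).resolve_left h2, (mul_eq_zero.mp ht).resolve_left h2⟩
  · ext i j
    simp only [sym, Matrix.smul_apply, Matrix.add_apply, vecMulVec_apply, smul_eq_mul,
      Pi.add_apply, Pi.sub_apply, Pi.smul_apply]
    field_simp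
    ring_nf
    rw [hI]
    ring

theorem Q_sum (M : Matrix (Fin 3) (Fin 3) k) (s : Fin 3 → k) :
    Mᵀ * diagonal (fun i => s i ^ 2) * M =
      ∑ i : Fin 3, vecMulVec (s i • M i) (s i • M i) := by
  ext j l
  simp only [Matrix.mul_apply, Matrix.transpose_apply, Matrix.diagonal_apply, Matrix.sum_apply,
    vecMulVec_apply, Pi.smul_apply, smul_eq_mul, Fin.sum_univ_three]
  simp
  ring

theorem li_pair_of_rows (M : Matrix (Fin 3) (Fin 3) k) (hM : IsUnit M.det) (s : Fin 3 → k)
    (i j : Fin 3) (hij : i ≠ j) (hi : s i ≠ 0) (hj : s j ≠ 0) :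
    LinearIndependent k ![s i • M i, s j • M j] := by
  have hrows : LinearIndependent k M.row :=
    Matrix.linearIndependent_rows_iff_isUnit.mpr ((Matrix.isUnit_iff_isUnit_det M).mpr hM)
  have h1 : LinearIndependent k (M.row ∘ ![i, j]) := by
    apply hrows.comp
    intro x y hxy
    fin_cases x <;> fin_cases y <;> simp_all
  have h2 := h1.units_smul ![Units.mk0 (s i) hi, Units.mk0 (s j) hj]
  convert h2 using 1
  ext x l
  fin_cases x <;> simp [Matrix.row, Function.comp]

theorem row_ne_zero (M : Matrix (Fin 3) (Fin 3) k) (hM : IsUnit M.det) (i : Fin 3) : M i ≠ 0 := by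
  have hrows : LinearIndependent k M.row :=
    Matrix.linearIndependent_rows_iff_isUnit.mpr ((Matrix.isUnit_iff_isUnit_det M).mpr hM)
  exact hrows.ne_zero i

open Classical in
theorem rank_diag_form (M : Matrix (Fin 3) (Fin 3) k) (hM : IsUnit M.det) (s : Fin 3 → k) :
    (Mᵀ * diagonal (fun i => s i ^ 2) * M).rank =
      (if s 0 = 0 then 0 else 1) + (if s 1 = 0 then 0 else 1) + (if s 2 = 0 then 0 else 1) := by
  classical
  rw [Matrix.rank_mul_eq_left_of_isUnit_det M _ hM,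
    Matrix.rank_mul_eq_right_of_isUnit_det Mᵀ _ (by rwa [Matrix.det_transpose]),
    Matrix.rank_diagonal, Fintype.card_subtype, Finset.card_filter, Fin.sum_univ_three]
  simp only [ne_eq, pow_eq_zero_iff, OfNat.ofNat_ne_zero, not_false_eq_true, ite_not]


theorem smul_row_ne_zero (M : Matrix (Fin 3) (Fin 3) k) (hM : IsUnit M.det) (s : Fin 3 → k)
    (i : Fin 3) (hi : s i ≠ 0) : s i • M i ≠ 0 :=
  smul_ne_zero hi (row_ne_zero M hM i)

theorem trichotomy [IsAlgClosed k] (h2 : (2 : k) ≠ 0) (Q : Matrix (Fin 3) (Fin 3) k)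
    (hQ : Q.IsSymm) (hQ0 : Q ≠ 0) :
    (Q.rank = 1 ∧ ∃ c : Fin 3 → k, c ≠ 0 ∧ Q = sym c c) ∨
    (Q.rank = 2 ∧ ∃ a b : Fin 3 → k, LinearIndependent k ![a, b] ∧ Q = sym a b) ∨
    (Q.rank = 3 ∧ Q.det ≠ 0) := by
  classical
  obtain ⟨M, s, hM, hQeq⟩ := exists_diag h2 Q hQ
  have hrank := rank_diag_form M hM s
  rw [← hQeq] at hrank
  have hsum := Q_sum M s
  rw [← hQeq, Fin.sum_univ_three] at hsum
  have hz : ∀ i, s i = 0 → vecMulVec (s i • M i) (s i • M i) = 0 := by
    intro i hi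
    rw [hi, zero_smul]
    ext a b
    simp [vecMulVec_apply]
  by_cases h0 : s 0 = 0 <;> by_cases h1 : s 1 = 0 <;> by_cases h2' : s 2 = 0
  · -- all zero
    rw [hz 0 h0, hz 1 h1, hz 2 h2'] at hsum
    exact absurd (by simpa using hsum) hQ0
  · -- only s 2
    left
    rw [hz 0 h0, hz 1 h1, zero_add, zero_add] at hsum
    refine ⟨by simpa [h0, h1, h2'] using hrank, s 2 • M 2, smul_row_ne_zero M hM s 2 h2', ?_⟩
    rw [hsum, sym_self h2]
  · -- only s 1
    left
    rw [hz 0 h0, hz 2 h2', zero_add, add_zero] at hsum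
    refine ⟨by simpa [h0, h1, h2'] using hrank, s 1 • M 1, smul_row_ne_zero M hM s 1 h1, ?_⟩
    rw [hsum, sym_self h2]
  · -- s 1, s 2
    right; left
    rw [hz 0 h0, zero_add] at hsum
    refine ⟨by simpa [h0, h1, h2'] using hrank, ?_⟩
    obtain ⟨a, b, hab, hsym⟩ := two_case h2 _ _ (li_pair_of_rows M hM s 1 2 (by decide) h1 h2')
    exact ⟨a, b, hab, by rw [hsum, hsym]⟩
  · -- only s 0
    left
    rw [hz 1 h1, hz 2 h2', add_zero, add_zero] at hsum
    refine ⟨by simpa [h0, h1, h2'] using hrank, s 0 • M 0, smul_row_ne_zero M hM s 0 h0, ?_⟩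
    rw [hsum, sym_self h2]
  · -- s 0, s 2
    right; left
    rw [hz 1 h1, add_zero] at hsum
    refine ⟨by simpa [h0, h1, h2'] using hrank, ?_⟩
    obtain ⟨a, b, hab, hsym⟩ := two_case h2 _ _ (li_pair_of_rows M hM s 0 2 (by decide) h0 h2')
    exact ⟨a, b, hab, by rw [hsum, hsym]⟩
  · -- s 0, s 1
    right; left
    rw [hz 2 h2', add_zero] at hsum
    refine ⟨by simpa [h0, h1, h2'] using hrank, ?_⟩
    obtain ⟨a, b, hab, hsym⟩ := two_case h2 _ _ (li_pair_of_rows M hM s 0 1 (by decide) h0 h1)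
    exact ⟨a, b, hab, by rw [hsum, hsym]⟩
  · -- all nonzero
    right; right
    refine ⟨by simpa [h0, h1, h2'] using hrank, ?_⟩
    rw [hQeq, Matrix.det_mul, Matrix.det_mul, Matrix.det_transpose, Matrix.det_diagonal,
      Fin.prod_univ_three]
    have hdet : M.det ≠ 0 := hM.ne_zero
    have e0 : s 0 ^ 2 ≠ 0 := pow_ne_zero 2 h0
    have e1 : s 1 ^ 2 ≠ 0 := pow_ne_zero 2 h1
    have e2 : s 2 ^ 2 ≠ 0 := pow_ne_zero 2 h2'
    exact mul_ne_zero (mul_ne_zero hdet (mul_ne_zero (mul_ne_zero e0 e1) e2)) hdet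


theorem lin_not_isUnit (a : Fin 3 → k) : ¬ IsUnit (lin a) := by
  intro h
  have h1 : IsUnit (eval (0 : Fin 3 → k) (lin a)) := h.map (eval (0 : Fin 3 → k))
  rw [eval_lin, dotProduct_zero] at h1
  exact not_isUnit_zero h1

theorem qpoly_not_isUnit (Q : Matrix (Fin 3) (Fin 3) k) : ¬ IsUnit (qpoly Q) := by
  intro h
  have h1 : IsUnit (eval (0 : Fin 3 → k) (qpoly Q)) := h.map (eval (0 : Fin 3 → k))
  rw [eval_qpoly, mulVec_zero, dotProduct_zero] at h1
  exact not_isUnit_zero h1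

theorem totalDegree_qpoly_le (Q : Matrix (Fin 3) (Fin 3) k) : (qpoly Q).totalDegree ≤ 2 := by
  unfold qpoly
  refine totalDegree_finsetSum_le (fun i _ => totalDegree_finsetSum_le (fun j _ => ?_))
  refine (totalDegree_smul_le _ _).trans ?_
  refine (totalDegree_mul _ _).trans ?_
  rw [totalDegree_X, totalDegree_X]

theorem exps_of_le_one (d : Fin 3 →₀ ℕ) (hd : (d.sum fun _ e => e) ≤ 1) :
    d = 0 ∨ d = Finsupp.single 0 1 ∨ d = Finsupp.single 1 1 ∨ d = Finsupp.single 2 1 := by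
  rw [Finsupp.sum_fintype _ _ (fun _ => rfl), Fin.sum_univ_three] at hd
  have key : ∀ e : Fin 3 →₀ ℕ, (∀ i, d i = e i) → d = e := fun e h => Finsupp.ext h
  by_cases h0 : d 0 = 1
  · right; left
    apply key
    intro i
    fin_cases i <;> simp <;> omega
  by_cases h1 : d 1 = 1
  · right; right; left
    apply key
    intro i
    fin_cases i <;> simp <;> omega
  by_cases h2 : d 2 = 1
  · right; right; right
    apply key
    intro i
    fin_cases i <;> simp <;> omega
  · left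
    apply key
    intro i
    fin_cases i <;> simp <;> omega

theorem affine_of_totalDegree_le_one (p : MvPolynomial (Fin 3) k) (hp : p.totalDegree ≤ 1) :
    ∃ (a : Fin 3 → k) (α : k), ∀ u : Fin 3 → k, eval u p = a ⬝ᵥ u + α := by
  classical
  refine ⟨fun i => coeff (Finsupp.single i 1) p, coeff 0 p, fun u => ?_⟩
  let T : Finset (Fin 3 →₀ ℕ) :=
    {0, Finsupp.single 0 1, Finsupp.single 1 1, Finsupp.single 2 1}
  have hsub : p.support ⊆ T := by
    intro d hd
    have h1 := (le_totalDegree hd).trans hp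
    rcases exps_of_le_one d h1 with h | h | h | h <;> simp [T, h]
  rw [eval_eq', Finset.sum_subset hsub (fun d _ hd => by
    rw [notMem_support_iff.mp hd, zero_mul])]
  have hne01 : (Finsupp.single (0 : Fin 3) 1 : Fin 3 →₀ ℕ) ≠ Finsupp.single 1 1 := by
    intro h
    have := DFunLike.congr_fun h 0
    simp at this
  have hne02 : (Finsupp.single (0 : Fin 3) 1 : Fin 3 →₀ ℕ) ≠ Finsupp.single 2 1 := by
    intro h
    have := DFunLike.congr_fun h 0
    simp at this
  have hne12 : (Finsupp.single (1 : Fin 3) 1 : Fin 3 →₀ ℕ) ≠ Finsupp.single 2 1 := by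
    intro h
    have := DFunLike.congr_fun h 1
    simp at this
  have hne0 : ∀ i : Fin 3, (0 : Fin 3 →₀ ℕ) ≠ Finsupp.single i 1 := by
    intro i h
    have := DFunLike.congr_fun h i
    simp at this
  simp only [T]
  rw [Finset.sum_insert (by simp [hne0]), Finset.sum_insert (by simp [hne01, hne02]),
    Finset.sum_insert (by simp [hne12]), Finset.sum_singleton]
  simp only [dotProduct, Fin.sum_univ_three, Fin.prod_univ_three, Finsupp.single_apply,
    Finsupp.coe_zero, Pi.zero_apply, pow_zero]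
  simp
  ring


theorem qpoly_ne_zero (h2 : (2 : k) ≠ 0) (Q : Matrix (Fin 3) (Fin 3) k) (hQ : Q.IsSymm)
    (hQ0 : Q ≠ 0) : qpoly Q ≠ 0 := by
  intro h
  apply hQ0
  apply polarization h2 Q 0 hQ (by ext i j; simp)
  intro u
  rw [← eval_qpoly, h]
  simp

theorem irreducible_of_det_ne_zero [Infinite k] (h2 : (2 : k) ≠ 0)
    (Q : Matrix (Fin 3) (Fin 3) k) (hQ : Q.IsSymm) (hdet : Q.det ≠ 0) :
    Irreducible (qpoly Q) := by
  have hQ0 : Q ≠ 0 := by
    rintro rfl
    simp [Matrix.det_fin_three] at hdet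
  have hf0 := qpoly_ne_zero h2 Q hQ hQ0
  refine ⟨qpoly_not_isUnit Q, fun g h hgh => ?_⟩
  by_contra hcon
  push Not at hcon
  obtain ⟨hg, hh⟩ := hcon
  have hg0 : g ≠ 0 := by
    rintro rfl
    rw [zero_mul] at hgh
    exact hf0 hgh
  have hh0 : h ≠ 0 := by
    rintro rfl
    rw [mul_zero] at hgh
    exact hf0 hgh
  have hdeg : g.totalDegree + h.totalDegree ≤ 2 := by
    rw [← totalDegree_mul_of_isDomain hg0 hh0, ← hgh]
    exact totalDegree_qpoly_le Q
  have hpos : ∀ p : MvPolynomial (Fin 3) k, p ≠ 0 → ¬ IsUnit p → 1 ≤ p.totalDegree := by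
    intro p hp0 hpu
    by_contra hlt
    have h0 : p.totalDegree = 0 := by omega
    rw [totalDegree_eq_zero_iff_eq_C] at h0
    apply hpu
    rw [h0]
    have hc : coeff 0 p ≠ 0 := by
      intro hc
      apply hp0
      rw [h0, hc, map_zero]
    exact (isUnit_iff_ne_zero.mpr hc).map C
  have hg1 := hpos g hg0 hg
  have hh1 := hpos h hh0 hh
  obtain ⟨a, α, ha⟩ := affine_of_totalDegree_le_one g (by omega)
  obtain ⟨b, β, hb⟩ := affine_of_totalDegree_le_one h (by omega)
  have hev : ∀ u : Fin 3 → k, u ⬝ᵥ Q *ᵥ u = (a ⬝ᵥ u + α) * (b ⬝ᵥ u + β) := by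
    intro u
    rw [← eval_qpoly, hgh, map_mul, ha, hb]
  have h0 : α * β = 0 := by
    have := hev 0
    simp only [mulVec_zero, dotProduct_zero, zero_add] at this
    exact this.symm
  have hQsym : Q = sym a b := by
    apply polarization h2 Q _ hQ (sym_isSymm a b)
    intro u
    rw [sym_quad h2]
    have e1 := hev u
    have e2 := hev (-u)
    simp only [mulVec_neg, dotProduct_neg, neg_dotProduct, neg_neg] at e2
    apply mul_left_cancel₀ h2
    linear_combination e1 + e2 + 2 * h0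
  apply hdet
  rw [hQsym, det_sym]

theorem main13911 [IsAlgClosed k] [CharZero k]
    (Q : Matrix (Fin 3) (Fin 3) k) (hQ : Q.IsSymm) (hQ0 : Q ≠ 0) (f : MvPolynomial (Fin 3) k)
    (hf : f = ∑ i : Fin 3, ∑ j : Fin 3, Q i j • (MvPolynomial.X i * MvPolynomial.X j)) :
    (Irreducible f ↔ Q.det ≠ 0) ∧
    ((∃ u : Fin 3 → k, u ≠ 0 ∧ ∀ i : Fin 3,
        MvPolynomial.eval u (MvPolynomial.pderiv i f) = 0) ↔ Q.det = 0) ∧
    ((∃ a b : Fin 3 → k, LinearIndependent k ![a, b] ∧
        f = (∑ i : Fin 3, a i • MvPolynomial.X i) * (∑ i : Fin 3, b i • MvPolynomial.X i)) ↔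
      Q.rank = 2) ∧
    ((∃ a : Fin 3 → k, f = (∑ i : Fin 3, a i • MvPolynomial.X i) ^ 2) ↔ Q.rank = 1) := by
  have h2 : (2 : k) ≠ 0 := two_ne_zero
  have hfq : f = qpoly Q := hf
  subst hfq
  have htri := trichotomy h2 Q hQ hQ0
  refine ⟨?_, sing_iff h2 Q hQ, ?_, ?_⟩
  · constructor
    · intro hirr hdet
      rcases htri with ⟨_, c, _, hc⟩ | ⟨_, a, b, _, hab⟩ | ⟨_, hne⟩
      · have := (qpoly_eq_mul_iff h2 Q hQ c c).mpr hc
        rcases hirr.isUnit_or_isUnit this with h | h <;> exact lin_not_isUnit c h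
      · have := (qpoly_eq_mul_iff h2 Q hQ a b).mpr hab
        rcases hirr.isUnit_or_isUnit this with h | h
        · exact lin_not_isUnit a h
        · exact lin_not_isUnit b h
      · exact hne hdet
    · intro hdet
      exact irreducible_of_det_ne_zero h2 Q hQ hdet
  · constructor
    · rintro ⟨a, b, hli, hab⟩
      have hsym : Q = sym a b := (qpoly_eq_mul_iff h2 Q hQ a b).mp hab
      rcases htri with ⟨_, c, _, hc⟩ | ⟨hr, _⟩ | ⟨_, hne⟩
      · exact (not_li_of_sym_eq h2 a b c hli (hsym.symm.trans hc)).elim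
      · exact hr
      · exact absurd (by rw [hsym, det_sym]) hne
    · intro hr
      rcases htri with ⟨hr1, _⟩ | ⟨_, a, b, hli, hab⟩ | ⟨hr3, _⟩
      · omega
      · exact ⟨a, b, hli, (qpoly_eq_mul_iff h2 Q hQ a b).mpr hab⟩
      · omega
  · constructor
    · rintro ⟨a, ha⟩
      rw [pow_two] at ha
      have hsym : Q = sym a a := (qpoly_eq_mul_iff h2 Q hQ a a).mp ha
      rcases htri with ⟨hr, _⟩ | ⟨_, a', b', hli, hab⟩ | ⟨_, hne⟩
      · exact hr
      · exact (not_li_of_sym_eq h2 a' b' a hli (hab.symm.trans hsym)).elim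
      · exact absurd (by rw [hsym, det_sym]) hne
    · intro hr
      rcases htri with ⟨_, c, _, hc⟩ | ⟨hr2, _⟩ | ⟨hr3, _⟩
      · refine ⟨c, ?_⟩
        rw [pow_two]
        exact (qpoly_eq_mul_iff h2 Q hQ c c).mpr hc
      · omega
      · omega

end Helper91.PlaneConic
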