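import Groth.Agent.Lib.Helper91.FormsOrbit

/-!
# The one-parameter subgroup adapted to a subspace, acting on a product of linear forms (helper91)
-/

set_option autoImplicit false
universe u v

open CoordGrp MvPolynomial
open Groth.Agent.Lib.Helper91.FormsEval Groth.Agent.Lib.Helper91.FormsOrbit

namespace Groth.Agent.Lib.Helper91.PointSetOnePS

section Lin

variable {R : Type*} [CommRing R] {N : ℕ}

/-- the linear form with coefficient vector `p` -/
noncomputable def lin (p : Fin N → R) : MvPolynomial (Fin N) R := ∑ j, C (p j) * X j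

theorem lin_smul (c : R) (p : Fin N → R) : lin (c • p) = C c * lin p := by
  rw [lin, lin, Finset.mul_sum]
  refine Finset.sum_congr rfl fun j _ => ?_
  rw [Pi.smul_apply, smul_eq_mul, map_mul, mul_assoc]

theorem map_lin {S : Type*} [CommRing S] (f : R →+* S) (p : Fin N → R) :
    MvPolynomial.map f (lin p) = lin (f ∘ p) := by
  simp [lin, map_sum]

theorem lin_isHomogeneous (p : Fin N → R) : (lin p).IsHomogeneous 1 := by
  rw [lin]
  exact IsHomogeneous.sum _ _ _ fun j _ => isHomogeneous_C_mul_X _ _

theorem coeff_lin (p : Fin N → R) (j : Fin N) : coeff (Finsupp.single j 1) (lin p) = p j := by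
  classical
  rw [lin, coeff_sum, Finset.sum_eq_single j]
  · rw [coeff_C_mul, coeff_X, if_pos rfl, mul_one]
  · intro i _ hij
    rw [coeff_C_mul, coeff_X, if_neg, mul_zero]
    intro h
    have := Finsupp.single_left_injective (one_ne_zero) h
    exact hij this
  · intro h; exact absurd (Finset.mem_univ j) h

theorem lin_ne_zero {p : Fin N → R} (hp : p ≠ 0) : lin p ≠ 0 := by
  intro h
  apply hp
  funext j
  rw [← coeff_lin p j, h, coeff_zero, Pi.zero_apply]

theorem prod_lin_isHomogeneous {d : ℕ} (p : Fin d → Fin N → R) :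
    (∏ i, lin (p i)).IsHomogeneous d := by
  have h := IsHomogeneous.prod Finset.univ (fun i => lin (p i)) (fun _ => 1)
    (fun i _ => lin_isHomogeneous (p i))
  simpa using h

end Lin

section Subst

variable {k : Type u} [CommRing k] {N : ℕ} {B : Type v} [CommRing B] [Algebra k B]

theorem colSubst_lin (M : Matrix (Fin N) (Fin N) B) (p : Fin N → k) :
    colSubst (k := k) M (lin p) = lin (Matrix.vecMul (algebraMap k B ∘ p) M) := by
  rw [lin, map_sum, lin]
  simp only [map_mul, colSubst_X, uM, Matrix.vecMul, dotProduct, Finset.mul_sum, map_sum,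
    Finset.sum_mul, Function.comp_apply]
  rw [Finset.sum_comm]
  refine Finset.sum_congr rfl fun i _ => Finset.sum_congr rfl fun j _ => ?_
  have : colSubst (k := k) M (C (p j)) = C (algebraMap k B (p j)) := by
    rw [colSubst, aeval_C, MvPolynomial.algebraMap_apply]
  rw [this]
  ring

/-- composition with a constant matrix on the left -/
theorem colSubst_mul_left (g : Matrix (Fin N) (Fin N) k) (M : Matrix (Fin N) (Fin N) B)
    (F : MvPolynomial (Fin N) k) :
    colSubst (k := k) (g.map (algebraMap k B) * M) F =
      colSubst (k := k) M (colSubst (k := k) (B := k) g F) := by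
  have : colSubst (k := k) (g.map (algebraMap k B) * M) =
      (colSubst (k := k) M).comp (colSubst (k := k) (B := k) g) := by
    apply MvPolynomial.algHom_ext
    intro j
    rw [AlgHom.comp_apply, colSubst_X, colSubst_X, uM, uM, map_sum]
    simp only [map_mul, colSubst_X, uM, Matrix.mul_apply, map_sum, Finset.mul_sum, Finset.sum_mul,
      Matrix.map_apply]
    rw [Finset.sum_comm]
    refine Finset.sum_congr rfl fun l _ => Finset.sum_congr rfl fun i _ => ?_
    have : colSubst (k := k) M (C (g j l)) = C (algebraMap k B (g j l)) := by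
      rw [colSubst, aeval_C, MvPolynomial.algebraMap_apply]
    rw [this]
    ring
  rw [this, AlgHom.comp_apply]

theorem colSubst_one (F : MvPolynomial (Fin N) k) :
    colSubst (k := k) (B := k) (1 : Matrix (Fin N) (Fin N) k) F = F := by
  classical
  have : colSubst (k := k) (B := k) (1 : Matrix (Fin N) (Fin N) k) = AlgHom.id k _ := by
    apply MvPolynomial.algHom_ext
    intro j
    rw [colSubst_X, uM, AlgHom.id_apply, Finset.sum_eq_single j]
    · rw [Matrix.one_apply_eq, map_one, one_mul]
    · intro i _ hij
      rw [Matrix.one_apply_ne (Ne.symm hij), map_zero, zero_mul]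
    · intro h; exact absurd (Finset.mem_univ j) h
  rw [this, AlgHom.id_apply]

/-- the `B`-linear substitution by a constant matrix -/
noncomputable def sigmaSubst (g' : Matrix (Fin N) (Fin N) k) :
    MvPolynomial (Fin N) B →ₐ[B] MvPolynomial (Fin N) B :=
  aeval fun l => ∑ i, C (algebraMap k B (g' l i)) * X i

theorem colSubst_mul_right (M : Matrix (Fin N) (Fin N) B) (g' : Matrix (Fin N) (Fin N) k)
    (F : MvPolynomial (Fin N) k) :
    colSubst (k := k) (M * g'.map (algebraMap k B)) F =
      sigmaSubst (k := k) g' (colSubst (k := k) M F) := by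
  have : colSubst (k := k) (M * g'.map (algebraMap k B)) =
      ((sigmaSubst (k := k) (B := B) g').restrictScalars k).comp (colSubst (k := k) M) := by
    apply MvPolynomial.algHom_ext
    intro j
    rw [AlgHom.comp_apply, colSubst_X, colSubst_X, uM, uM, AlgHom.restrictScalars_apply, map_sum]
    simp only [map_mul, sigmaSubst, aeval_X, aeval_C, Matrix.mul_apply, map_sum, Finset.mul_sum,
      Finset.sum_mul, Matrix.map_apply, MvPolynomial.algebraMap_eq]
    rw [Finset.sum_comm]
    refine Finset.sum_congr rfl fun l _ => Finset.sum_congr rfl fun i _ => ?_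
    ring
  rw [this, AlgHom.comp_apply, AlgHom.restrictScalars_apply]

theorem sigmaSubst_map (g' : Matrix (Fin N) (Fin N) k) (H : MvPolynomial (Fin N) k) :
    sigmaSubst (k := k) (B := B) g' (MvPolynomial.map (algebraMap k B) H) =
      MvPolynomial.map (algebraMap k B) (colSubst (k := k) (B := k) g' H) := by
  have : ((sigmaSubst (k := k) (B := B) g').restrictScalars k).comp
      (MvPolynomial.mapAlgHom (Algebra.ofId k B)) =
      (MvPolynomial.mapAlgHom (Algebra.ofId k B)).comp (colSubst (k := k) (B := k) g') := by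
    apply MvPolynomial.algHom_ext
    intro l
    simp [sigmaSubst, colSubst_X, uM]
  have h := congrArg (fun φ => φ H) this
  simpa [Algebra.ofId] using h

end Subst

section OnePS

variable {k : Type u} [Field k] {N w : ℕ} (U : Matrix (Fin N) (Fin w) k)
  (V : Matrix (Fin w) (Fin N) k)

local notation "TT" => (LaurentPolynomial.T (R := k))

/-- the projection matrix over the Laurent polynomial ring -/
noncomputable def EB : Matrix (Fin N) (Fin N) (LaurentPolynomial k) :=
  (U * V).map LaurentPolynomial.C

/-- the transpose of the one-parameter subgroup -/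
noncomputable def lamT : Matrix (Fin N) (Fin N) (LaurentPolynomial k) :=
  TT ((N : ℤ) - w) • EB U V + TT (-(w : ℤ)) • (1 - EB U V)

theorem UV_mul_UV (hVU : V * U = 1) : (U * V) * (U * V) = U * V := by
  rw [Matrix.mul_assoc, ← Matrix.mul_assoc V U V, hVU, Matrix.one_mul]

theorem EB_mul_EB (hVU : V * U = 1) : EB U V * EB U V = EB U V := by
  rw [EB, ← Matrix.map_mul, UV_mul_UV U V hVU]

theorem det_lamT (hVU : V * U = 1) : (lamT U V).det = 1 := by
  have h1 : lamT U V = TT (-(w : ℤ)) •
      (1 + ((TT (N : ℤ) - 1) • U.map LaurentPolynomial.C) *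
        V.map LaurentPolynomial.C) := by
    rw [lamT, EB, Matrix.map_mul, show ((N : ℤ) - w) = -(w : ℤ) + N by ring,
      LaurentPolynomial.T_add, Matrix.smul_mul]
    ext i j
    simp only [Matrix.add_apply, Matrix.smul_apply, Matrix.sub_apply, smul_eq_mul]
    ring_nf
  rw [h1, Matrix.det_smul, Matrix.det_one_add_mul_comm, Matrix.mul_smul, ← Matrix.map_mul, hVU,
    Matrix.map_one _ (map_zero _) (map_one _)]
  have h2 : (1 : Matrix (Fin w) (Fin w) (LaurentPolynomial k)) +
      (TT (N : ℤ) - 1) • 1 = TT (N : ℤ) • 1 := by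
    rw [sub_smul, one_smul]
    abel
  rw [h2, Matrix.det_smul, Matrix.det_one, mul_one, Fintype.card_fin, Fintype.card_fin,
    LaurentPolynomial.T_pow, LaurentPolynomial.T_pow, ← LaurentPolynomial.T_add,
    show ((N : ℤ) * (-(w : ℤ)) + (w : ℤ) * N) = 0 by ring, LaurentPolynomial.T_zero]

/-- component in the subspace -/
def pW (p : Fin N → k) : Fin N → k := (U * V).mulVec p

/-- complementary component -/
def pC (p : Fin N → k) : Fin N → k := p - pW U V p

theorem EB_mulVec (p : Fin N → k) :
    (EB U V).mulVec (LaurentPolynomial.C ∘ p) = LaurentPolynomial.C ∘ pW U V p := by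
  funext i
  rw [EB, Function.comp_apply, pW]
  exact (RingHom.map_mulVec LaurentPolynomial.C (U * V) p i).symm

theorem lamT_mulVec (p : Fin N → k) :
    (lamT U V).mulVec (LaurentPolynomial.C ∘ p) =
      TT ((N : ℤ) - w) • (LaurentPolynomial.C ∘ pW U V p) +
        TT (-(w : ℤ)) • (LaurentPolynomial.C ∘ pC U V p) := by
  rw [lamT, Matrix.add_mulVec, Matrix.smul_mulVec, Matrix.smul_mulVec, Matrix.sub_mulVec,
    Matrix.one_mulVec, EB_mulVec]
  congr 2
  funext i
  simp [pC]

/-- the polynomial vector `X^N p' + p''` -/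
noncomputable def wvec (p : Fin N → k) : Fin N → Polynomial k :=
  fun j => Polynomial.X ^ N * Polynomial.C (pW U V p j) + Polynomial.C (pC U V p j)

theorem lamT_mulVec' (p : Fin N → k) :
    (lamT U V).mulVec (LaurentPolynomial.C ∘ p) =
      TT (-(w : ℤ)) • (⇑Polynomial.toLaurent ∘ wvec U V p) := by
  rw [lamT_mulVec]
  funext j
  simp only [Pi.add_apply, Pi.smul_apply, Function.comp_apply, smul_eq_mul, wvec, map_add,
    map_mul, map_pow, Polynomial.toLaurent_X, Polynomial.toLaurent_C, LaurentPolynomial.T_pow,
    mul_one]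
  rw [show ((N : ℤ) - w) = -(w : ℤ) + N by ring, LaurentPolynomial.T_add]
  ring

variable {d : ℕ} (p : Fin d → Fin N → k)

open Classical in
/-- the indices of the points lying in the subspace -/
noncomputable def Iset : Finset (Fin d) := Finset.univ.filter fun i => pW U V (p i) = p i

open Classical in
noncomputable def gfac (i : Fin d) : MvPolynomial (Fin N) (Polynomial k) :=
  if i ∈ Iset U V p then lin (⇑Polynomial.C ∘ p i) else lin (wvec U V (p i))

open Classical in
noncomputable def eps (i : Fin d) : ℕ := if i ∈ Iset U V p then N else 0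

theorem lin_wvec (i : Fin d) :
    lin (wvec U V (p i)) = C (Polynomial.X ^ eps U V p i) * gfac U V p i := by
  classical
  by_cases hi : i ∈ Iset U V p
  · have hW : pW U V (p i) = p i := (Finset.mem_filter.mp hi).2
    rw [eps, gfac, if_pos hi, if_pos hi, ← lin_smul]
    congr 1
    funext j
    simp [wvec, pC, hW]
  · rw [eps, gfac, if_neg hi, if_neg hi, pow_zero, map_one, one_mul]

noncomputable def Gpoly : MvPolynomial (Fin N) (Polynomial k) := ∏ i, gfac U V p i

theorem sum_eps : ∑ i, eps U V p i = N * (Iset U V p).card := by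
  classical
  simp only [eps]
  rw [Finset.sum_ite_mem, Finset.univ_inter, Finset.sum_const, smul_eq_mul, mul_comm]

theorem prod_lin_wvec :
    ∏ i, lin (wvec U V (p i)) =
      C (Polynomial.X ^ (N * (Iset U V p).card)) * Gpoly U V p := by
  simp_rw [lin_wvec]
  rw [Finset.prod_mul_distrib, ← map_prod, Finset.prod_pow_eq_pow_sum, sum_eps, Gpoly]

theorem colSubst_lam_formPoly (a : FormIdx N d → k) (ha : formPoly a = ∏ i, lin (p i))
    (hle : w * d ≤ N * (Iset U V p).card) :
    colSubst (k := k) (lamT U V).transpose (formPoly a) =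
      MvPolynomial.map Polynomial.toLaurent
        (C (Polynomial.X ^ (N * (Iset U V p).card - w * d)) * Gpoly U V p) := by
  rw [ha, map_prod]
  have h1 : ∀ i, colSubst (k := k) (lamT U V).transpose (lin (p i)) =
      C (TT (-(w : ℤ))) *
        MvPolynomial.map Polynomial.toLaurent (lin (wvec U V (p i))) := by
    intro i
    rw [colSubst_lin, Matrix.vecMul_transpose]
    have : (algebraMap k (LaurentPolynomial k)) ∘ p i = LaurentPolynomial.C ∘ p i := rfl
    rw [this, lamT_mulVec', lin_smul, map_lin]
  simp_rw [h1]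
  rw [Finset.prod_mul_distrib, Finset.prod_const, Finset.card_univ, Fintype.card_fin, ← map_prod,
    prod_lin_wvec]
  simp only [map_mul, MvPolynomial.map_C, map_pow, Polynomial.toLaurent_X]
  simp only [← map_pow, LaurentPolynomial.T_pow]
  rw [← mul_assoc, ← map_mul, ← LaurentPolynomial.T_add]
  congr 3
  push_cast [Nat.cast_sub hle]
  ring

/-- the exponent of the parameter in the moved form -/
noncomputable def ee : ℕ := N * (Iset U V p).card - w * d

/-- the moved point, as polynomials in the parameter -/
noncomputable def bPt (m : FormIdx N d) : Polynomial k :=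
  Polynomial.C ((((m.1.multinomial : ℕ) : k))⁻¹) *
    coeff m.1 (C (Polynomial.X ^ ee U V p) * Gpoly U V p)

theorem multinomial_ne_zero (hd : ((d.factorial : ℕ) : k) ≠ 0) (m : FormIdx N d) :
    ((m.1.multinomial : ℕ) : k) ≠ 0 :=
  (isUnit_multinomial (B := k) (isUnit_iff_ne_zero.mpr hd) m).ne_zero

theorem toLaurent_bPt (hd : ((d.factorial : ℕ) : k) ≠ 0) (a : FormIdx N d → k)
    (ha : formPoly a = ∏ i, lin (p i)) (hle : w * d ≤ N * (Iset U V p).card) (m : FormIdx N d) :
    Polynomial.toLaurent (bPt U V p m) = movedPt a (lamT U V).transpose m := by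
  have h1 := formPoly_movedPt (k := k) a (lamT U V).transpose
  rw [colSubst_lam_formPoly U V p a ha hle] at h1
  have h2 := congrArg (coeff m.1) h1
  rw [coeff_formPoly, coeff_map] at h2
  rw [bPt, map_mul, Polynomial.toLaurent_C, ee, ← h2, ← mul_assoc,
    show ((m.1.multinomial : ℕ) : LaurentPolynomial k) =
      LaurentPolynomial.C (((m.1.multinomial : ℕ) : k)) from (map_natCast _ _).symm,
    ← map_mul, inv_mul_cancel₀ (multinomial_ne_zero hd m), map_one, one_mul]

/-- the limit point -/
noncomputable def a0 (m : FormIdx N d) : k := (bPt U V p m).eval 0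

open Classical in
/-- the vectors of the limit configuration -/
noncomputable def uvec (i : Fin d) : Fin N → k :=
  if i ∈ Iset U V p then p i else pC U V (p i)

theorem map_eval_gfac (hN : N ≠ 0) (i : Fin d) :
    MvPolynomial.map (Polynomial.evalRingHom (0 : k)) (gfac U V p i) = lin (uvec U V p i) := by
  classical
  by_cases hi : i ∈ Iset U V p
  · rw [gfac, uvec, if_pos hi, if_pos hi, map_lin]
    congr 1
    funext j
    simp
  · rw [gfac, uvec, if_neg hi, if_neg hi, map_lin]
    congr 1
    funext j
    simp [wvec, hN]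

theorem formPoly_a0 (hd : ((d.factorial : ℕ) : k) ≠ 0) (hN : N ≠ 0) :
    formPoly (a0 U V p) = C ((0 : k) ^ ee U V p) * ∏ i, lin (uvec U V p i) := by
  apply formPoly_eq_of_coeff
  · exact (prod_lin_isHomogeneous _).C_mul _
  · intro m
    rw [a0, bPt, Polynomial.eval_mul, Polynomial.eval_C, ← mul_assoc,
      mul_inv_cancel₀ (multinomial_ne_zero hd m), one_mul, ← Polynomial.coe_evalRingHom,
      ← coeff_map, map_mul, MvPolynomial.map_C, Gpoly, map_prod]
    simp_rw [map_eval_gfac U V p hN]
    simp

open Classical in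
noncomputable def svec (i : Fin d) : ℤ := if i ∈ Iset U V p then (N : ℤ) - w else -(w : ℤ)

theorem lamT_mulVec_uvec (hVU : V * U = 1) (i : Fin d) :
    (lamT U V).mulVec (LaurentPolynomial.C ∘ uvec U V p i) =
      TT (svec U V p i) • (LaurentPolynomial.C ∘ uvec U V p i) := by
  classical
  rw [lamT_mulVec]
  by_cases hi : i ∈ Iset U V p
  · have hW : pW U V (p i) = p i := (Finset.mem_filter.mp hi).2
    rw [uvec, svec, if_pos hi, if_pos hi]
    have hC : pC U V (p i) = 0 := by rw [pC, hW, sub_self]
    rw [hW, hC]
    have : (LaurentPolynomial.C : k → LaurentPolynomial k) ∘ (0 : Fin N → k) = 0 := by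
      funext j; simp
    rw [this, smul_zero, add_zero]
  · rw [uvec, svec, if_neg hi, if_neg hi]
    have hW : pW U V (pC U V (p i)) = 0 := by
      rw [pC, pW, Matrix.mulVec_sub, pW, Matrix.mulVec_mulVec, UV_mul_UV U V hVU, sub_self]
    have hC : pC U V (pC U V (p i)) = pC U V (p i) := by
      rw [pC, hW, sub_zero]
    rw [hW, hC]
    have : (LaurentPolynomial.C : k → LaurentPolynomial k) ∘ (0 : Fin N → k) = 0 := by
      funext j; simp
    rw [this, smul_zero, zero_add]

theorem sum_svec : ∑ i, svec U V p i = (N : ℤ) * (Iset U V p).card - (w : ℤ) * d := by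
  classical
  have h : ∀ i, svec U V p i = (if i ∈ Iset U V p then (N : ℤ) else 0) - w := by
    intro i
    rw [svec]
    split_ifs <;> ring
  simp_rw [h]
  rw [Finset.sum_sub_distrib, Finset.sum_ite_mem, Finset.univ_inter, Finset.sum_const,
    Finset.sum_const, Finset.card_univ, Fintype.card_fin]
  simp only [nsmul_eq_mul]
  ring

theorem colSubst_lam_G0 (hVU : V * U = 1) (he : N * (Iset U V p).card = w * d) :
    colSubst (k := k) (lamT U V).transpose (∏ i, lin (uvec U V p i)) =
      MvPolynomial.map (algebraMap k (LaurentPolynomial k)) (∏ i, lin (uvec U V p i)) := by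
  rw [map_prod, map_prod]
  have h1 : ∀ i, colSubst (k := k) (lamT U V).transpose (lin (uvec U V p i)) =
      C (TT (svec U V p i)) *
        MvPolynomial.map (algebraMap k (LaurentPolynomial k)) (lin (uvec U V p i)) := by
    intro i
    rw [colSubst_lin, Matrix.vecMul_transpose]
    have : (algebraMap k (LaurentPolynomial k)) ∘ uvec U V p i =
        LaurentPolynomial.C ∘ uvec U V p i := rfl
    rw [this, lamT_mulVec_uvec U V p hVU, lin_smul, map_lin]
    rfl
  simp_rw [h1]
  rw [Finset.prod_mul_distrib, ← map_prod C, GLn.prod_T, sum_svec]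
  have he' : (N : ℤ) * (Iset U V p).card - (w : ℤ) * d = 0 := by
    have : ((N * (Iset U V p).card : ℕ) : ℤ) = ((w * d : ℕ) : ℤ) := by rw [he]
    push_cast at this
    rw [this, sub_self]
  rw [he', LaurentPolynomial.T_zero, map_one, one_mul]

end OnePS

end Groth.Agent.Lib.Helper91.PointSetOnePS
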