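import Groth.Agent.Lib.Helper91.PointSetOnePS

/-!
# Stable point sets satisfy the strict numerical criterion (helper91)
-/

set_option autoImplicit false
universe u v

open CoordGrp MvPolynomial
open Groth.Agent.Lib.Helper91.FormsEval Groth.Agent.Lib.Helper91.FormsOrbit
open Groth.Agent.Lib.Helper91.PointSetOnePS

namespace Groth.Agent.Lib.Helper91.PointSetStable

section Generic

variable {k : Type u} [Field k] [IsAlgClosed k]

/-- Weak Nullstellensatz: a maximal ideal of a finitely generated algebra over an algebraically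
closed field is the kernel of a rational point. -/
theorem exists_algHom_ker_eq_of_isMaximal {R : Type v} [CommRing R] [Algebra k R]
    [Algebra.FiniteType k R] (m : Ideal R) [hm : m.IsMaximal] :
    ∃ x : R →ₐ[k] k, RingHom.ker x = m := by
  letI : Field (R ⧸ m) := Ideal.Quotient.field m
  haveI : Algebra.FiniteType k (R ⧸ m) :=
    Algebra.FiniteType.of_surjective (Ideal.Quotient.mkₐ k m) (Ideal.Quotient.mkₐ_surjective k m)
  haveI : Module.Finite k (R ⧸ m) := finite_of_finite_type_of_isJacobsonRing k (R ⧸ m)
  have hbij : Function.Bijective (algebraMap k (R ⧸ m)) :=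
    IsAlgClosed.algebraMap_bijective_of_isIntegral
  let e : k ≃ₐ[k] (R ⧸ m) := AlgEquiv.ofBijective (Algebra.ofId k (R ⧸ m)) hbij
  refine ⟨(e.symm : (R ⧸ m) →ₐ[k] k).comp (Ideal.Quotient.mkₐ k m), ?_⟩
  ext r
  simp only [RingHom.mem_ker, AlgHom.coe_comp, Function.comp_apply, AlgHom.coe_coe,
    Ideal.Quotient.mkₐ_eq_mk]
  change e.symm ((Ideal.Quotient.mk m) r) = 0 ↔ r ∈ m
  rw [map_eq_zero_iff _ e.symm.injective, Ideal.Quotient.eq_zero_iff_mem]

theorem algHom_eq_of_ker_le {S : Type v} [CommRing S] [Algebra k S] (y z : S →ₐ[k] k)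
    (h : RingHom.ker y ≤ RingHom.ker z) : z = y := by
  apply AlgHom.ext
  intro s
  have hmem : s - algebraMap k S (y s) ∈ RingHom.ker y := by
    rw [RingHom.mem_ker, map_sub, AlgHom.commutes, sub_eq_zero]
    rfl
  have := h hmem
  rw [RingHom.mem_ker, map_sub, AlgHom.commutes, sub_eq_zero] at this
  rw [this]
  rfl

/-- A rational point in the closure of a closed image lies in the image. -/
theorem exists_point_of_closed {R : Type v} {A : Type v} [CommRing R] [CommRing A] [Algebra k R]
    [Algebra k A] [Algebra.FiniteType k A] (φ : R →ₐ[k] A) (y : R →ₐ[k] k)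
    (hcl : IsClosed (Set.range (PrimeSpectrum.comap φ.toRingHom)))
    (hker : RingHom.ker φ ≤ RingHom.ker y) : ∃ γ : A →ₐ[k] k, γ.comp φ = y := by
  let py : PrimeSpectrum R := ⟨RingHom.ker y, RingHom.ker_isPrime _⟩
  have hmem : py ∈ closure (Set.range (PrimeSpectrum.comap φ.toRingHom)) := by
    rw [PrimeSpectrum.closure_range_comap, PrimeSpectrum.mem_zeroLocus]
    exact hker
  rw [hcl.closure_eq] at hmem
  obtain ⟨q, hq⟩ := hmem
  obtain ⟨n, hn, hqn⟩ := Ideal.exists_le_maximal q.asIdeal q.2.ne_top
  obtain ⟨g, hg⟩ := exists_algHom_ker_eq_of_isMaximal (k := k) n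
  refine ⟨g, algHom_eq_of_ker_le y _ ?_⟩
  intro r hr
  have h1 : r ∈ (PrimeSpectrum.comap φ.toRingHom q).asIdeal := by
    rw [hq]; exact hr
  have h2 : φ r ∈ q.asIdeal := h1
  have h3 : φ r ∈ RingHom.ker g := by rw [hg]; exact hqn h2
  rw [RingHom.mem_ker]
  exact RingHom.mem_ker.mp h3

/-- An element of a domain integral over an algebraically closed field is a constant. -/
theorem exists_eq_algebraMap_of_isIntegral {D : Type v} [CommRing D] [IsDomain D] [Algebra k D]
    (x : D) (hx : IsIntegral k x) : ∃ c : k, x = algebraMap k D c := by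
  obtain ⟨c, hc⟩ := (IsAlgClosed.algebraMap_bijective_of_isIntegral (k := k)
    (K := integralClosure k D)).2 ⟨x, hx⟩
  refine ⟨c, ?_⟩
  have := congrArg Subtype.val hc
  exact this.symm

end Generic

section Proj

variable {k : Type u} [Field k]

/-- a rank factorisation of a projection onto a subspace -/
theorem exists_UV {N : ℕ} (W : Submodule k (Fin N → k)) :
    ∃ (U : Matrix (Fin N) (Fin (Module.finrank k W)) k)
      (V : Matrix (Fin (Module.finrank k W)) (Fin N) k),
      V * U = 1 ∧ ∀ v, v ∈ W ↔ (U * V).mulVec v = v := by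
  classical
  let bW : Module.Basis (Fin (Module.finrank k W)) k W := Module.finBasis k W
  obtain ⟨π, hπ⟩ := W.subtype.exists_leftInverse_of_injective (Submodule.ker_subtype W)
  let fU : (Fin (Module.finrank k W) → k) →ₗ[k] (Fin N → k) :=
    W.subtype ∘ₗ bW.equivFun.symm.toLinearMap
  let fV : (Fin N → k) →ₗ[k] (Fin (Module.finrank k W) → k) := bW.equivFun.toLinearMap ∘ₗ π
  have hπ' : ∀ x : W, π (x : Fin N → k) = x := fun x => congrArg (fun φ => φ x) hπ
  refine ⟨LinearMap.toMatrix' fU, LinearMap.toMatrix' fV, ?_, ?_⟩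
  · rw [← LinearMap.toMatrix'_comp, ← LinearMap.toMatrix'_id]
    congr 1
    apply LinearMap.ext
    intro x
    simp only [fU, fV, LinearMap.comp_apply, LinearEquiv.coe_coe, Submodule.subtype_apply,
      LinearMap.id_apply]
    rw [hπ', LinearEquiv.apply_symm_apply]
  · intro v
    rw [← LinearMap.toMatrix'_comp, LinearMap.toMatrix'_mulVec]
    have h1 : (fU ∘ₗ fV) v = (π v : Fin N → k) := by
      simp only [fU, fV, LinearMap.comp_apply, LinearEquiv.coe_coe, Submodule.subtype_apply]
      rw [LinearEquiv.symm_apply_apply]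
    rw [h1]
    constructor
    · intro hv
      have := hπ' ⟨v, hv⟩
      exact congrArg Subtype.val this
    · intro h
      rw [← h]
      exact (π v).2

end Proj

section Final

variable {k : Type u} [Field k] [IsAlgClosed k] {N w : ℕ} (U : Matrix (Fin N) (Fin w) k)
  (V : Matrix (Fin w) (Fin N) k)

local notation "TT" => (LaurentPolynomial.T (R := k))

theorem isIntegral_mul_apply {X Y : Matrix (Fin N) (Fin N) (LaurentPolynomial k)}
    (hX : ∀ i j, IsIntegral k (X i j)) (hY : ∀ i j, IsIntegral k (Y i j)) (i j : Fin N) :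
    IsIntegral k ((X * Y) i j) := by
  rw [Matrix.mul_apply]
  exact IsIntegral.sum _ fun l _ => (hX i l).mul (hY l j)

theorem isIntegral_map_apply (g : Matrix (Fin N) (Fin N) k) (i j : Fin N) :
    IsIntegral k ((g.map (algebraMap k (LaurentPolynomial k))) i j) := by
  rw [Matrix.map_apply]
  exact isIntegral_algebraMap

theorem final_contra (hVU : V * U = 1) (hw1 : 1 ≤ w) (hw2 : w < N)
    (g g' : Matrix (Fin N) (Fin N) k) (hgg' : g * g' = 1)
    (hint : ∀ i j, IsIntegral k ((g.map (algebraMap k (LaurentPolynomial k)) *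
      (lamT U V).transpose * g'.map (algebraMap k (LaurentPolynomial k))) i j)) : False := by
  have hg'g : g' * g = 1 := mul_eq_one_comm.mp hgg'
  have h1 : g'.map (algebraMap k (LaurentPolynomial k)) *
      g.map (algebraMap k (LaurentPolynomial k)) = 1 := by
    rw [← Matrix.map_mul, hg'g, Matrix.map_one _ (map_zero _) (map_one _)]
  have hlam : (lamT U V).transpose = g'.map (algebraMap k (LaurentPolynomial k)) *
      (g.map (algebraMap k (LaurentPolynomial k)) * (lamT U V).transpose *
        g'.map (algebraMap k (LaurentPolynomial k))) *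
      g.map (algebraMap k (LaurentPolynomial k)) := by
    have : g'.map (algebraMap k (LaurentPolynomial k)) *
      (g.map (algebraMap k (LaurentPolynomial k)) * (lamT U V).transpose *
        g'.map (algebraMap k (LaurentPolynomial k))) *
      g.map (algebraMap k (LaurentPolynomial k)) =
      (g'.map (algebraMap k (LaurentPolynomial k)) * g.map (algebraMap k (LaurentPolynomial k))) *
        (lamT U V).transpose * (g'.map (algebraMap k (LaurentPolynomial k)) *
          g.map (algebraMap k (LaurentPolynomial k))) := by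
      simp only [Matrix.mul_assoc]
    rw [this, h1, Matrix.one_mul, Matrix.mul_one]
  have hint1 : ∀ i j, IsIntegral k ((lamT U V).transpose i j) := by
    intro i j
    rw [hlam]
    exact isIntegral_mul_apply
      (isIntegral_mul_apply (isIntegral_map_apply g') hint) (isIntegral_map_apply g) i j
  have hint2 : ∀ i j, IsIntegral k ((lamT U V) i j) := fun i j => hint1 j i
  have hE : EB U V * lamT U V = TT ((N : ℤ) - w) • EB U V := by
    rw [lamT, Matrix.mul_add, Matrix.mul_smul, Matrix.mul_smul, Matrix.mul_sub, Matrix.mul_one,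
      EB_mul_EB U V hVU, sub_self, smul_zero, add_zero]
  have hint3 : ∀ i j, IsIntegral k ((EB U V * lamT U V) i j) :=
    isIntegral_mul_apply (fun i j => by rw [EB, Matrix.map_apply]; exact isIntegral_algebraMap)
      hint2
  obtain ⟨i, j, hij⟩ : ∃ i j, (U * V) i j ≠ 0 := by
    by_contra h
    push Not at h
    have hUV : U * V = 0 := by
      ext i j
      exact h i j
    have h0 : (1 : Matrix (Fin w) (Fin w) k) = 0 := by
      calc (1 : Matrix (Fin w) (Fin w) k) = (V * U) * (V * U) := by rw [hVU, Matrix.one_mul]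
        _ = V * (U * V) * U := by simp only [Matrix.mul_assoc]
        _ = 0 := by rw [hUV, Matrix.mul_zero, Matrix.zero_mul]
    have h2 := congrFun (congrFun h0 ⟨0, hw1⟩) ⟨0, hw1⟩
    simp at h2
  have h3 := hint3 i j
  rw [hE, Matrix.smul_apply, smul_eq_mul, EB, Matrix.map_apply] at h3
  have h4 : IsIntegral k (TT ((N : ℤ) - w)) := by
    have h5 := h3.mul (isIntegral_algebraMap (R := k) (A := LaurentPolynomial k)
      (x := ((U * V) i j)⁻¹))
    have h6 : TT ((N : ℤ) - w) * LaurentPolynomial.C ((U * V) i j) *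
        algebraMap k (LaurentPolynomial k) ((U * V) i j)⁻¹ = TT ((N : ℤ) - w) := by
      rw [mul_assoc, ← LaurentPolynomial.C_eq_algebraMap, ← map_mul, mul_inv_cancel₀ hij, map_one,
        mul_one]
    rw [h6] at h5
    exact h5
  obtain ⟨c, hc⟩ := exists_eq_algebraMap_of_isIntegral _ h4
  have hdeg := congrArg LaurentPolynomial.degree hc
  rw [LaurentPolynomial.degree_T] at hdeg
  have hle : (algebraMap k (LaurentPolynomial k) c).degree ≤ 0 := LaurentPolynomial.degree_C_le c
  rw [← hdeg] at hle
  have : ((N : ℤ) - w) ≤ 0 := by exact_mod_cast hle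
  omega

end Final

section Main

theorem main18262 (k : Type u) [Field k] [IsAlgClosed k] (n m : ℕ)
    (hm : (Nat.factorial m : k) ≠ 0) (p : Fin m → Fin (n + 1) → k) (hp : ∀ i, p i ≠ 0)
    (a : CoordGrp.FormIdx (n + 1) m → k)
    (ha : CoordGrp.formPoly a = ∏ i, ∑ j, MvPolynomial.C (p i j) * MvPolynomial.X j)
    (hst : @GLin.IsStableVec k _ (CoordGrp.SLn (n + 1) k) _ _ (CoordGrp.FormIdx (n + 1) m)
      (GLin.comodAlong ((CoordGrp.SLn.mkHom (n + 1) k).comp (CoordGrp.Mat.toGLn (n + 1) k))
        (CoordGrp.formsCoact k (n + 1) m))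
      (GLin.isCoactAlg_comodAlong
        ((CoordGrp.SLn.mkHom (n + 1) k).comp (CoordGrp.Mat.toGLn (n + 1) k))
        (CoordGrp.formsCoact k (n + 1) m) (CoordGrp.formsCoact_isCoactAlg k (n + 1) m)) a)
    (W : Submodule k (Fin (n + 1) → k)) (hW : W ≠ ⊥) (hW' : W ≠ ⊤) :
    Nat.card {i : Fin m // p i ∈ W} * (n + 1) < m * Module.finrank k W := by
  classical
  by_contra hnot
  rw [not_lt] at hnot
  obtain ⟨U, V, hVU, hmem⟩ := exists_UV W
  have hw1 : 1 ≤ Module.finrank k W := Submodule.one_le_finrank_iff.mpr hW
  have hw2 : Module.finrank k W < n + 1 := by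
    have := Submodule.finrank_lt hW'
    rwa [Module.finrank_fin_fun] at this
  have hcard : Nat.card {i : Fin m // p i ∈ W} = (Iset U V p).card := by
    rw [Nat.card_eq_fintype_card, Fintype.card_subtype, Iset]
    congr 1
    ext i
    simp only [Finset.mem_filter, Finset.mem_univ, true_and]
    rw [hmem, pW]
  have hle : Module.finrank k W * m ≤ (n + 1) * (Iset U V p).card := by
    rw [hcard] at hnot
    rw [mul_comm, mul_comm (n + 1)]
    exact hnot
  have ha' : formPoly a = ∏ i, lin (p i) := ha
  have hd : ((m.factorial : ℕ) : k) ≠ 0 := hm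
  obtain ⟨hcl, hfin⟩ := hst
  -- the one-parameter subgroup
  have hdet : ((lamT U V).transpose).det = 1 := by rw [Matrix.det_transpose, det_lamT U V hVU]
  let Lam : SLn (n + 1) k →ₐ[k] LaurentPolynomial k := SLn.pt (n + 1) k (lamT U V).transpose hdet
  have hLam : Lam.comp (orb (n + 1) m a) =
      aeval (fun l => Polynomial.toLaurent (bPt U V p l)) := by
    rw [comp_orb, matOf_pt]
    congr 1
    funext l
    exact (toLaurent_bPt U V p hd a ha' hle l).symm
  -- the limit point lies in the orbit closure
  have hker : RingHom.ker (orb (n + 1) m a) ≤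
      RingHom.ker (aeval (a0 U V p) : FormRing k (n + 1) m →ₐ[k] k) := by
    intro f hf
    have h1 : (Lam.comp (orb (n + 1) m a)) f = 0 := by
      rw [AlgHom.comp_apply, RingHom.mem_ker.mp hf, map_zero]
    rw [hLam] at h1
    have h2 : aeval (fun l => Polynomial.toLaurent (bPt U V p l)) f =
        Polynomial.toLaurentAlg (aeval (bPt U V p) f) := by
      have := MvPolynomial.comp_aeval (bPt U V p) (Polynomial.toLaurentAlg (R := k))
      exact (congrArg (fun φ => φ f) this).symm
    rw [h2, Polynomial.toLaurentAlg_apply] at h1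
    have h3 : aeval (bPt U V p) f = 0 :=
      Polynomial.toLaurent_injective (by rw [h1, map_zero])
    rw [RingHom.mem_ker]
    have h4 : aeval (a0 U V p) f = Polynomial.aeval (0 : k) (aeval (bPt U V p) f) := by
      have := MvPolynomial.comp_aeval (bPt U V p) (Polynomial.aeval (0 : k) : Polynomial k →ₐ[k] k)
      have h5 := congrArg (fun φ => φ f) this
      simp only [AlgHom.comp_apply] at h5
      rw [h5]
      congr 2
    rw [h4, h3, map_zero]
  haveI := finiteType_SLn k (n + 1)
  obtain ⟨γ, hγ⟩ := exists_point_of_closed (orb (n + 1) m a) (aeval (a0 U V p)) hcl hker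
  have hmoved : movedPt a (matOf γ) = a0 U V p := by
    funext l
    have := congrArg (fun φ => φ (X l)) ((comp_orb γ a).symm.trans hγ)
    simpa using this
  have hg : (matOf γ).det = 1 := det_matOf γ
  have hF0 : formPoly (a0 U V p) = colSubst (k := k) (B := k) (matOf γ) (formPoly a) := by
    rw [← hmoved, formPoly_movedPt]
  have hgg' : matOf γ * (matOf γ)⁻¹ = 1 :=
    Matrix.mul_nonsing_inv _ (by rw [hg]; exact isUnit_one)
  have hmapid : (matOf γ).map (algebraMap k k) = matOf γ := by
    ext i j
    rfl
  have hFa : colSubst (k := k) (B := k) (matOf γ)⁻¹ (formPoly (a0 U V p)) = formPoly a := by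
    rw [hF0, ← colSubst_mul_left, hmapid, hgg', colSubst_one]
  have hN : n + 1 ≠ 0 := Nat.succ_ne_zero n
  by_cases he : (n + 1) * (Iset U V p).card = Module.finrank k W * m
  · -- the limit point is fixed by the one-parameter subgroup
    have hee : ee U V p = 0 := by rw [ee, he, Nat.sub_self]
    have hG0 : formPoly (a0 U V p) = ∏ i, lin (uvec U V p i) := by
      rw [formPoly_a0 U V p hd hN, hee, pow_zero, map_one, one_mul]
    let M : Matrix (Fin (n + 1)) (Fin (n + 1)) (LaurentPolynomial k) :=
      (matOf γ).map (algebraMap k (LaurentPolynomial k)) * (lamT U V).transpose *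
        ((matOf γ)⁻¹).map (algebraMap k (LaurentPolynomial k))
    have hdetM : M.det = 1 := by
      have h1 : (matOf γ).map (algebraMap k (LaurentPolynomial k)) *
          ((matOf γ)⁻¹).map (algebraMap k (LaurentPolynomial k)) = 1 := by
        rw [← Matrix.map_mul, hgg', Matrix.map_one _ (map_zero _) (map_one _)]
      have h2 := congrArg Matrix.det h1
      rw [Matrix.det_mul, Matrix.det_one] at h2
      rw [Matrix.det_mul, Matrix.det_mul, hdet, mul_one, h2]
    let mu : SLn (n + 1) k →ₐ[k] LaurentPolynomial k := SLn.pt (n + 1) k M hdetM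
    have hunit : IsUnit ((m.factorial : ℕ) : LaurentPolynomial k) := by
      have := (isUnit_iff_ne_zero.mpr hd).map (algebraMap k (LaurentPolynomial k))
      rwa [map_natCast] at this
    have hfix : movedPt a (matOf mu) = fun l => algebraMap k (LaurentPolynomial k) (a l) := by
      rw [matOf_pt]
      apply eq_of_formPoly_eq hunit
      rw [formPoly_movedPt, ← formPoly_map (algebraMap k (LaurentPolynomial k)) a]
      rw [colSubst_mul_right, colSubst_mul_left, ← hF0, hG0, colSubst_lam_G0 U V p hVU he,
        sigmaSubst_map, ← hG0, hFa]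
    have hkill := kills_stabIdeal mu a hfix
    have hint : ∀ i j, IsIntegral k (M i j) := by
      intro i j
      let J := @GLin.stabIdeal k _ (SLn (n + 1) k) _ _ (FormRing k (n + 1) m) _ _
        (cmd (n + 1) m) (ica (n + 1) m) (GLin.vecPt k _ a)
      let mu' : (SLn (n + 1) k ⧸ J) →ₐ[k] LaurentPolynomial k := Ideal.Quotient.liftₐ J mu hkill
      haveI : Module.Finite k (SLn (n + 1) k ⧸ J) := hfin
      have h1 : IsIntegral k (Ideal.Quotient.mkₐ k J (SLn.X i j)) :=
        Algebra.IsIntegral.isIntegral _
      have h2 := h1.map mu'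
      have h3 : mu' (Ideal.Quotient.mkₐ k J (SLn.X i j)) = M i j := by
        change mu (SLn.X i j) = M i j
        exact SLn.pt_X M hdetM i j
      rw [h3] at h2
      exact h2
    exact final_contra U V hVU hw1 hw2 (matOf γ) (matOf γ)⁻¹ hgg' hint
  · -- the limit point is the origin
    have hee : ee U V p ≠ 0 := by
      rw [ee]
      omega
    have h0 : formPoly (a0 U V p) = 0 := by
      rw [formPoly_a0 U V p hd hN, zero_pow hee, map_zero, zero_mul]
    rw [h0, map_zero] at hFa
    have hne : (∏ i, lin (p i)) ≠ 0 := Finset.prod_ne_zero_iff.mpr fun i _ => lin_ne_zero (hp i)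
    exact hne (ha'.symm.trans hFa.symm)

theorem main18263 (k : Type u) [Field k] [IsAlgClosed k] (n m : ℕ) (hn : 1 ≤ n) (hmn : m ≤ n)
    (hm : (Nat.factorial m : k) ≠ 0) (p : Fin m → Fin (n + 1) → k) (hp : ∀ i, p i ≠ 0)
    (a : CoordGrp.FormIdx (n + 1) m → k)
    (ha : CoordGrp.formPoly a = ∏ i, ∑ j, MvPolynomial.C (p i j) * MvPolynomial.X j) :
    ¬ @GLin.IsStableVec k _ (CoordGrp.SLn (n + 1) k) _ _ (CoordGrp.FormIdx (n + 1) m)
      (GLin.comodAlong ((CoordGrp.SLn.mkHom (n + 1) k).comp (CoordGrp.Mat.toGLn (n + 1) k))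
        (CoordGrp.formsCoact k (n + 1) m))
      (GLin.isCoactAlg_comodAlong
        ((CoordGrp.SLn.mkHom (n + 1) k).comp (CoordGrp.Mat.toGLn (n + 1) k))
        (CoordGrp.formsCoact k (n + 1) m) (CoordGrp.formsCoact_isCoactAlg k (n + 1) m)) a := by
  classical
  intro hst
  rcases Nat.eq_zero_or_pos m with hm0 | hmpos
  · -- no points: any line works
    subst hm0
    let W : Submodule k (Fin (n + 1) → k) := Submodule.span k {Pi.single 0 1}
    have hne : (Pi.single (0 : Fin (n + 1)) (1 : k) : Fin (n + 1) → k) ≠ 0 := by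
      intro h
      have := congrFun h 0
      simp at this
    have hW : W ≠ ⊥ := by
      intro h
      have : (Pi.single (0 : Fin (n + 1)) (1 : k) : Fin (n + 1) → k) ∈ W :=
        Submodule.subset_span rfl
      rw [h, Submodule.mem_bot] at this
      exact hne this
    have hW' : W ≠ ⊤ := by
      intro h
      have h1 : Module.finrank k W = 1 := finrank_span_singleton hne
      rw [h, finrank_top, Module.finrank_fin_fun] at h1
      omega
    have := main18262 k n 0 hm p hp a ha hst W hW hW'
    simp at this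
  · let W : Submodule k (Fin (n + 1) → k) := Submodule.span k (Set.range p)
    have hmemW : ∀ i, p i ∈ W := fun i => Submodule.subset_span ⟨i, rfl⟩
    have hW : W ≠ ⊥ := by
      intro h
      have := hmemW ⟨0, hmpos⟩
      rw [h, Submodule.mem_bot] at this
      exact hp _ this
    have hrk : Module.finrank k W ≤ m := by
      have := finrank_range_le_card (R := k) p
      rwa [Fintype.card_fin] at this
    have hW' : W ≠ ⊤ := by
      intro h
      rw [h, finrank_top, Module.finrank_fin_fun] at hrk
      omega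
    have h1 := main18262 k n m hm p hp a ha hst W hW hW'
    have hcard : Nat.card {i : Fin m // p i ∈ W} = m := by
      rw [Nat.card_eq_fintype_card, Fintype.card_subtype]
      rw [Finset.filter_true_of_mem (fun i _ => hmemW i), Finset.card_univ, Fintype.card_fin]
    rw [hcard] at h1
    have h2 : m * Module.finrank k W ≤ m * n := Nat.mul_le_mul_left m (hrk.trans hmn)
    have h3 : m * n < m * (n + 1) := by
      rw [Nat.mul_succ]
      omega
    omega

end Main

end Groth.Agent.Lib.Helper91.PointSetStable
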