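import Mathlib

/-!
# Binary quadratic forms: basic facts (for S15179)
-/

namespace Helper91.PuncLine

open MvPolynomial

variable {K : Type*} [Field K]

/-- coefficient of `x^2` -/
noncomputable def qa (q : MvPolynomial (Fin 2) K) : K := q.coeff (Finsupp.single 0 2)
/-- coefficient of `xy` -/
noncomputable def qb (q : MvPolynomial (Fin 2) K) : K :=
  q.coeff (Finsupp.single 0 1 + Finsupp.single 1 1)
/-- coefficient of `y^2` -/
noncomputable def qc (q : MvPolynomial (Fin 2) K) : K := q.coeff (Finsupp.single 1 2)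

lemma deg_fin2 (m : Fin 2 →₀ ℕ) : m.degree = m 0 + m 1 := by
  rw [Finsupp.degree_eq_sum]; simp [Fin.sum_univ_two]

lemma m_cases (m : Fin 2 →₀ ℕ) (h : m.degree = 2) :
    m = Finsupp.single 0 2 ∨ m = Finsupp.single 0 1 + Finsupp.single 1 1 ∨
      m = Finsupp.single 1 2 := by
  rw [deg_fin2] at h
  have h0 : m 0 = 0 ∨ m 0 = 1 ∨ m 0 = 2 := by omega
  rcases h0 with h0 | h0 | h0
  · right; right
    ext i; fin_cases i
    · simp [h0]
    · simp; omega
  · right; left
    ext i; fin_cases i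
    · simp [h0]
    · simp; omega
  · left
    ext i; fin_cases i
    · simp [h0]
    · simp; omega

lemma s_ne1 : (Finsupp.single 0 2 : Fin 2 →₀ ℕ) ≠ Finsupp.single 0 1 + Finsupp.single 1 1 := by
  intro h
  have := DFunLike.congr_fun h 0
  simp at this

lemma s_ne2 : (Finsupp.single 0 2 : Fin 2 →₀ ℕ) ≠ Finsupp.single 1 2 := by
  intro h
  have := DFunLike.congr_fun h 0
  simp at this

lemma s_ne3 : (Finsupp.single 0 1 + Finsupp.single 1 1 : Fin 2 →₀ ℕ) ≠ Finsupp.single 1 2 := by
  intro h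
  have := DFunLike.congr_fun h 0
  simp at this

theorem q_eq_monomials (q : MvPolynomial (Fin 2) K) (hq : q.IsHomogeneous 2) :
    q = monomial (Finsupp.single 0 2) (qa q) +
      monomial (Finsupp.single 0 1 + Finsupp.single 1 1) (qb q) +
      monomial (Finsupp.single 1 2) (qc q) := by
  classical
  ext m
  simp only [coeff_add, coeff_monomial]
  by_cases hm : m.degree = 2
  · rcases m_cases m hm with rfl | rfl | rfl
    · simp [qa, s_ne1.symm, s_ne2.symm]
    · simp [qb, s_ne1, s_ne3.symm]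
    · simp [qc, s_ne2, s_ne3]
  · rw [hq.coeff_eq_zero hm]
    have h1 : (Finsupp.single 0 2 : Fin 2 →₀ ℕ) ≠ m := by
      rintro rfl; apply hm; rw [deg_fin2]; simp
    have h2 : (Finsupp.single 0 1 + Finsupp.single 1 1 : Fin 2 →₀ ℕ) ≠ m := by
      rintro rfl; apply hm; rw [deg_fin2]; simp
    have h3 : (Finsupp.single 1 2 : Fin 2 →₀ ℕ) ≠ m := by
      rintro rfl; apply hm; rw [deg_fin2]; simp
    simp [h1, h2, h3]

theorem q_eq (q : MvPolynomial (Fin 2) K) (hq : q.IsHomogeneous 2) :
    q = C (qa q) * X 0 ^ 2 + C (qb q) * (X 0 * X 1) + C (qc q) * X 1 ^ 2 := by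
  conv_lhs => rw [q_eq_monomials q hq]
  have e1 : (X 0 ^ 2 : MvPolynomial (Fin 2) K) = monomial (Finsupp.single 0 2) 1 :=
    X_pow_eq_monomial
  have e2 : (X 0 * X 1 : MvPolynomial (Fin 2) K) =
      monomial (Finsupp.single 0 1 + Finsupp.single 1 1) 1 := by
    rw [X, X, monomial_mul, one_mul]
  have e3 : (X 1 ^ 2 : MvPolynomial (Fin 2) K) = monomial (Finsupp.single 1 2) 1 :=
    X_pow_eq_monomial
  rw [e1, e2, e3, C_mul_monomial, C_mul_monomial, C_mul_monomial, mul_one, mul_one, mul_one]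

/-- evaluation of `q` in a commutative `K`-algebra -/
theorem aeval_q {A : Type*} [CommRing A] [Algebra K A] (q : MvPolynomial (Fin 2) K)
    (hq : q.IsHomogeneous 2) (v : Fin 2 → A) :
    aeval v q = algebraMap K A (qa q) * v 0 ^ 2 + algebraMap K A (qb q) * (v 0 * v 1) +
      algebraMap K A (qc q) * v 1 ^ 2 := by
  conv_lhs => rw [q_eq q hq]
  simp

theorem eval_q (q : MvPolynomial (Fin 2) K)
    (hq : q.IsHomogeneous 2) (v : Fin 2 → K) :
    eval v q = (qa q) * v 0 ^ 2 + (qb q) * (v 0 * v 1) + (qc q) * v 1 ^ 2 := by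
  conv_lhs => rw [q_eq q hq]
  simp

lemma not_isUnit_of_eval_zero (p : MvPolynomial (Fin 2) K) (h : eval (0 : Fin 2 → K) p = 0) :
    ¬ IsUnit p := by
  intro hu
  have := hu.map (eval (0 : Fin 2 → K))
  rw [h] at this
  exact not_isUnit_zero this

/-- an irreducible binary quadratic form has no `K`-rational root. -/
theorem no_root (q : MvPolynomial (Fin 2) K) (hq : q.IsHomogeneous 2) (hirr : Irreducible q)
    (s : K) : qa q * s ^ 2 + qb q * s + qc q ≠ 0 := by
  intro h
  have hfac : q = (X 0 - C s * X 1) * (C (qa q) * X 0 + C (qa q * s + qb q) * X 1) := by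
    conv_lhs => rw [q_eq q hq]
    have hc : qc q = -(qa q * s ^ 2 + qb q * s) := by linear_combination h
    rw [hc]
    simp only [map_neg, map_add, map_mul, map_pow]
    ring
  rcases hirr.isUnit_or_isUnit hfac with hu | hu
  · exact not_isUnit_of_eval_zero _ (by simp) hu
  · exact not_isUnit_of_eval_zero _ (by simp) hu

theorem qa_ne_zero (q : MvPolynomial (Fin 2) K) (hq : q.IsHomogeneous 2) (hirr : Irreducible q) :
    qa q ≠ 0 := by
  intro h
  have hfac : q = X 1 * (C (qb q) * X 0 + C (qc q) * X 1) := by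
    conv_lhs => rw [q_eq q hq]
    rw [h]
    simp only [map_zero]
    ring
  rcases hirr.isUnit_or_isUnit hfac with hu | hu
  · exact not_isUnit_of_eval_zero _ (by simp) hu
  · exact not_isUnit_of_eval_zero _ (by simp) hu

theorem qc_ne_zero (q : MvPolynomial (Fin 2) K) (hq : q.IsHomogeneous 2) (hirr : Irreducible q) :
    qc q ≠ 0 := by
  have := no_root q hq hirr 0
  simpa using this

end Helper91.PuncLine
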