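import Mathlib
import Groth.Agent.Lib.Helper91.PuncLine1

/-!
# The coordinate ring of `P^1 - {q = 0}` inside Laurent polynomials (for S15179)
-/

namespace Helper91.PuncLine

open LaurentPolynomial

noncomputable section

attribute [local instance] MvPolynomial.gradedAlgebra

universe u v

variable {K : Type u} [Field K]

/-- homogeneity of evaluation -/
lemma aeval_smul_of_homog {σ : Type*} {A : Type*} [CommRing A] [Algebra K A]
    (f : MvPolynomial σ K) (d : ℕ) (hf : f.IsHomogeneous d) (s : A) (v : σ → A) :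
    MvPolynomial.aeval (fun i => s * v i) f = s ^ d * MvPolynomial.aeval v f := by
  rw [MvPolynomial.aeval_def, MvPolynomial.aeval_def, MvPolynomial.eval₂_eq, MvPolynomial.eval₂_eq, Finset.mul_sum]
  refine Finset.sum_congr rfl fun m hm => ?_
  have hdeg : m.degree = d := by
    by_contra h
    exact (MvPolynomial.mem_support_iff.mp hm) (hf.coeff_eq_zero h)
  have : ∏ i ∈ m.support, (s * v i) ^ m i = s ^ d * ∏ i ∈ m.support, v i ^ m i := by
    simp_rw [mul_pow]
    rw [Finset.prod_mul_distrib, Finset.prod_pow_eq_pow_sum]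
    congr 2
  rw [this]; ring

/-- The data of the two roots of `q` in an extension field `L`. -/
structure Roots (q : MvPolynomial (Fin 2) K) (L : Type v) [Field L] [Algebra K L] where
  r : L
  r' : L
  hsum : algebraMap K L (qb q) = -(algebraMap K L (qa q)) * (r + r')
  hprod : algebraMap K L (qc q) = algebraMap K L (qa q) * (r * r')
  hne : r ≠ r'
  ha : qa q ≠ 0

variable {q : MvPolynomial (Fin 2) K} {L : Type v} [Field L] [Algebra K L]

namespace Roots

variable (P : Roots q L)

/-- `δ = r' - r` -/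
def δ : L := P.r' - P.r

lemma δ_ne : P.δ ≠ 0 := sub_ne_zero.mpr (Ne.symm P.hne)

/-- leading coefficient in `L` -/
def aL (_P : Roots q L) : L := algebraMap K L (qa q)

lemma aL_ne : P.aL ≠ 0 := by
  unfold aL
  exact (map_ne_zero _).mpr P.ha

/-- dehomogenised `x` -/
def Xt : L[T;T⁻¹] := C (P.δ⁻¹) * (C P.r' * T 1 - C P.r)
/-- dehomogenised `y` -/
def Yt : L[T;T⁻¹] := C (P.δ⁻¹) * (T 1 - 1)

lemma hD : (C P.r' - C P.r) * C (P.δ⁻¹) = (1 : L[T;T⁻¹]) := by
  rw [← map_sub, ← map_mul]
  change C (P.δ * P.δ⁻¹) = 1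
  rw [mul_inv_cancel₀ P.δ_ne, map_one]

lemma Xt_sub_r : P.Xt - C P.r * P.Yt = T 1 := by
  unfold Xt Yt
  linear_combination (T 1) * P.hD

lemma Xt_sub_r' : P.Xt - C P.r' * P.Yt = 1 := by
  unfold Xt Yt
  linear_combination P.hD

/-- the substitution map -/
def ρ : MvPolynomial (Fin 2) K →ₐ[K] L[T;T⁻¹] := MvPolynomial.aeval ![P.Xt, P.Yt]

@[simp] lemma ρ_X0 : P.ρ (MvPolynomial.X 0) = P.Xt := by simp [ρ]
@[simp] lemma ρ_X1 : P.ρ (MvPolynomial.X 1) = P.Yt := by simp [ρ]

lemma ρ_q (hq : q.IsHomogeneous 2) : P.ρ q = C P.aL * T 1 := by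
  unfold ρ
  rw [aeval_q q hq]
  simp only [Matrix.cons_val_zero, Matrix.cons_val_one]
  rw [LaurentPolynomial.algebraMap_apply, LaurentPolynomial.algebraMap_apply,
    LaurentPolynomial.algebraMap_apply, P.hsum, P.hprod]
  change C P.aL * _ + C (-P.aL * _) * _ + C (P.aL * _) * _ = _
  have : C P.aL * P.Xt ^ 2 + C (-P.aL * (P.r + P.r')) * (P.Xt * P.Yt) +
      C (P.aL * (P.r * P.r')) * P.Yt ^ 2 =
      C P.aL * ((P.Xt - C P.r * P.Yt) * (P.Xt - C P.r' * P.Yt)) := by
    simp only [map_mul, map_neg, map_add]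
    ring
  rw [this, P.Xt_sub_r, P.Xt_sub_r', mul_one]

lemma isUnit_ρ_q (hq : q.IsHomogeneous 2) : IsUnit (P.ρ q) := by
  rw [P.ρ_q hq]
  refine IsUnit.mul ?_ (isUnit_T 1)
  exact (P.aL_ne.isUnit).map C

/-- inverse of `ρ q` -/
def qinv : L[T;T⁻¹] := C (P.aL⁻¹) * T (-1)

lemma ρ_q_mul_qinv (hq : q.IsHomogeneous 2) : P.ρ q * P.qinv = 1 := by
  rw [P.ρ_q hq, qinv]
  have : C P.aL * T 1 * (C P.aL⁻¹ * T (-1)) = C (P.aL * P.aL⁻¹) * (T 1 * T (-1) : L[T;T⁻¹]) := by
    rw [map_mul]; ring
  rw [this, mul_inv_cancel₀ P.aL_ne, ← T_add]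
  simp

end Roots

/-- the coordinate ring -/
abbrev RR (q : MvPolynomial (Fin 2) K) : Type u :=
  HomogeneousLocalization.Away (MvPolynomial.homogeneousSubmodule (Fin 2) K) q

/-- the structure map `K → R` -/
def algMapR (q : MvPolynomial (Fin 2) K) : K →+* RR q where
  toFun k := k • (1 : RR q)
  map_one' := by
    apply HomogeneousLocalization.val_injective
    simp only [HomogeneousLocalization.val_smul, HomogeneousLocalization.val_one]
    rw [one_smul]
  map_mul' k l := by
    apply HomogeneousLocalization.val_injective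
    simp only [HomogeneousLocalization.val_smul, HomogeneousLocalization.val_one,
      HomogeneousLocalization.val_mul]
    rw [smul_mul_smul_comm, one_mul]
  map_zero' := by
    apply HomogeneousLocalization.val_injective
    simp only [HomogeneousLocalization.val_smul, HomogeneousLocalization.val_one,
      HomogeneousLocalization.val_zero]
    rw [zero_smul]
  map_add' k l := by
    apply HomogeneousLocalization.val_injective
    simp only [HomogeneousLocalization.val_smul, HomogeneousLocalization.val_one,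
      HomogeneousLocalization.val_add]
    rw [add_smul]

instance algR (q : MvPolynomial (Fin 2) K) : Algebra K (RR q) where
  algebraMap := algMapR q
  commutes' _ _ := mul_comm _ _
  smul_def' k z := by
    apply HomogeneousLocalization.val_injective
    change (k • z).val = ((k • (1 : RR q)) * z).val
    simp only [HomogeneousLocalization.val_smul, HomogeneousLocalization.val_one,
      HomogeneousLocalization.val_mul]
    rw [smul_mul_assoc, one_mul]

lemma algebraMap_RR (k : K) : algebraMap K (RR q) k = k • (1 : RR q) := rfl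

lemma val_algebraMap (k : K) :
    (algebraMap K (RR q) k).val = algebraMap K (Localization (Submonoid.powers q)) k := by
  rw [algebraMap_RR, HomogeneousLocalization.val_smul, HomogeneousLocalization.val_one,
    Algebra.algebraMap_eq_smul_one]

namespace Roots

variable (P : Roots q L)

lemma isUnit_powers (hq : q.IsHomogeneous 2) :
    ∀ y : Submonoid.powers q, IsUnit ((P.ρ : MvPolynomial (Fin 2) K →+* L[T;T⁻¹]) y) := by
  rintro ⟨_, n, rfl⟩
  simpa using (P.isUnit_ρ_q hq).pow n

/-- the map on the full localization -/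
def jloc (hq : q.IsHomogeneous 2) :
    Localization (Submonoid.powers q) →+* L[T;T⁻¹] :=
  IsLocalization.lift (M := Submonoid.powers q) (S := Localization (Submonoid.powers q))
    (g := (P.ρ : MvPolynomial (Fin 2) K →+* L[T;T⁻¹])) (P.isUnit_powers hq)

lemma jloc_algebraMap (hq : q.IsHomogeneous 2) (f : MvPolynomial (Fin 2) K) :
    P.jloc hq (algebraMap _ _ f) = P.ρ f := by
  unfold jloc
  rw [IsLocalization.lift_eq]
  rfl

/-- the embedding `R → L[T;T⁻¹]` -/
def j (hq : q.IsHomogeneous 2) : RR q →ₐ[K] L[T;T⁻¹] where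
  toRingHom := (P.jloc hq).comp (algebraMap (RR q) (Localization (Submonoid.powers q)))
  commutes' k := by
    change P.jloc hq ((algebraMap K (RR q) k).val) = _
    rw [val_algebraMap, IsScalarTower.algebraMap_apply K (MvPolynomial (Fin 2) K)
      (Localization (Submonoid.powers q)), jloc_algebraMap]
    simp

lemma j_apply (hq : q.IsHomogeneous 2) (z : RR q) : P.j hq z = P.jloc hq z.val := rfl

lemma j_mk (hq : q.IsHomogeneous 2) (k : ℕ) (f : MvPolynomial (Fin 2) K)
    (hf : f ∈ MvPolynomial.homogeneousSubmodule (Fin 2) K (k • 2)) :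
    P.j hq (HomogeneousLocalization.Away.mk (MvPolynomial.homogeneousSubmodule (Fin 2) K)
      ((MvPolynomial.mem_homogeneousSubmodule _ _).mpr hq) k f hf) = P.qinv ^ k * P.ρ f := by
  rw [j_apply, HomogeneousLocalization.Away.val_mk]
  set s : Submonoid.powers q := ⟨q ^ k, ⟨k, rfl⟩⟩ with hs
  have h1 : (Localization.mk f s : Localization (Submonoid.powers q)) *
      algebraMap _ _ (q ^ k) = algebraMap _ _ f := by
    rw [Localization.mk_eq_mk']
    exact IsLocalization.mk'_spec _ f s
  have h2 := congrArg (P.jloc hq) h1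
  rw [map_mul, jloc_algebraMap, jloc_algebraMap, map_pow] at h2
  calc P.jloc hq (Localization.mk f s)
      = P.jloc hq (Localization.mk f s) * (P.ρ q * P.qinv) ^ k := by
        rw [P.ρ_q_mul_qinv hq, one_pow, mul_one]
    _ = (P.jloc hq (Localization.mk f s) * P.ρ q ^ k) * P.qinv ^ k := by
        rw [mul_pow]; ring
    _ = P.qinv ^ k * P.ρ f := by rw [h2]; ring

end Roots

end

end Helper91.PuncLine
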