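import Mathlib
import Groth.Agent.Lib.Helper91.PuncLine2

/-!
# Base change of the coordinate ring of `P^1 - {q = 0}` is the Laurent polynomial ring (S15179)
-/

namespace Helper91.PuncLine

open LaurentPolynomial TensorProduct

attribute [local instance] MvPolynomial.gradedAlgebra

noncomputable section

universe u v

variable {K : Type u} [Field K] {q : MvPolynomial (Fin 2) K} {L : Type v} [Field L] [Algebra K L]

namespace Roots

variable (P : Roots q L)

/-- evaluation of Laurent polynomials at a unit -/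
def ev (τ : Lˣ) : L[T;T⁻¹] →+* L := LaurentPolynomial.eval₂ (RingHom.id L) τ

/-- the point `x(τ)` -/
def xτ (τ : L) : L := P.δ⁻¹ * (P.r' * τ - P.r)
/-- the point `y(τ)` -/
def yτ (τ : L) : L := P.δ⁻¹ * (τ - 1)

lemma ev_Xt (τ : Lˣ) : ev τ P.Xt = P.xτ τ := by
  unfold ev Xt xτ
  simp

lemma ev_Yt (τ : Lˣ) : ev τ P.Yt = P.yτ τ := by
  unfold ev Yt yτ
  simp

/-- the substitution over `L` -/
def ρL : MvPolynomial (Fin 2) L →ₐ[L] L[T;T⁻¹] := MvPolynomial.aeval ![P.Xt, P.Yt]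

lemma ρ_eq_ρL (f : MvPolynomial (Fin 2) K) :
    P.ρ f = P.ρL (MvPolynomial.map (algebraMap K L) f) := by
  unfold ρ ρL
  rw [MvPolynomial.aeval_map_algebraMap]

lemma ev_ρL (τ : Lˣ) (F : MvPolynomial (Fin 2) L) :
    ev τ (P.ρL F) = MvPolynomial.eval ![P.xτ τ, P.yτ τ] F := by
  unfold ρL
  rw [MvPolynomial.aeval_def, MvPolynomial.eval₂_comp_left]
  have h1 : (ev τ).comp (algebraMap L L[T;T⁻¹]) = RingHom.id L := by
    ext l
    simp [ev, LaurentPolynomial.algebraMap_apply]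
  have h2 : (ev τ) ∘ ![P.Xt, P.Yt] = ![P.xτ τ, P.yτ τ] := by
    ext i; fin_cases i
    · simp [ev_Xt]
    · simp [ev_Yt]
  rw [h1, h2]
  rfl

lemma ev_ρ (τ : Lˣ) (f : MvPolynomial (Fin 2) K) :
    ev τ (P.ρ f) = MvPolynomial.aeval ![P.xτ τ, P.yτ τ] f := by
  rw [ρ_eq_ρL, ev_ρL, MvPolynomial.eval_map, MvPolynomial.aeval_def]

/-- the product of the two linear forms over `L` -/
def qL : MvPolynomial (Fin 2) L :=
  (MvPolynomial.X 0 - MvPolynomial.C P.r * MvPolynomial.X 1) *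
    (MvPolynomial.X 0 - MvPolynomial.C P.r' * MvPolynomial.X 1)

lemma qL_ne : P.qL ≠ 0 := by
  intro h
  have := congrArg (MvPolynomial.eval ![1, 0]) h
  simp [qL] at this

lemma point_eq (v : Fin 2 → L) (hv : v 0 - P.r' * v 1 ≠ 0) :
    v = fun i => (v 0 - P.r' * v 1) * ![P.xτ ((v 0 - P.r * v 1) / (v 0 - P.r' * v 1)),
      P.yτ ((v 0 - P.r * v 1) / (v 0 - P.r' * v 1))] i := by
  have hδ := P.δ_ne
  have e0 : (v 0 - P.r' * v 1) * P.xτ ((v 0 - P.r * v 1) / (v 0 - P.r' * v 1)) = v 0 := by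
    unfold xτ
    unfold δ at hδ ⊢
    field_simp
    ring
  have e1 : (v 0 - P.r' * v 1) * P.yτ ((v 0 - P.r * v 1) / (v 0 - P.r' * v 1)) = v 1 := by
    unfold yτ
    unfold δ at hδ ⊢
    field_simp
    ring
  ext i; fin_cases i
  · simp [e0]
  · simp [e1]

/-- injectivity of `ρL` on homogeneous polynomials -/
theorem ρL_injective_of_homog [Infinite L] (F : MvPolynomial (Fin 2) L) (d : ℕ)
    (hF : F.IsHomogeneous d) (h0 : P.ρL F = 0) : F = 0 := by
  have key : F * P.qL = 0 := by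
    apply MvPolynomial.funext
    intro v
    rw [map_mul, map_zero]
    by_cases hu : v 0 - P.r * v 1 = 0
    · simp [qL, hu]
    by_cases hv : v 0 - P.r' * v 1 = 0
    · simp [qL, hv]
    have hτ : (v 0 - P.r * v 1) / (v 0 - P.r' * v 1) ≠ 0 := div_ne_zero hu hv
    have h1 := P.ev_ρL (Units.mk0 _ hτ) F
    rw [h0, map_zero, Units.val_mk0] at h1
    have h2 := aeval_smul_of_homog (K := L) (A := L) F d hF (v 0 - P.r' * v 1)
      ![P.xτ ((v 0 - P.r * v 1) / (v 0 - P.r' * v 1)),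
        P.yτ ((v 0 - P.r * v 1) / (v 0 - P.r' * v 1))]
    rw [← P.point_eq v hv] at h2
    have h3 : ∀ w : Fin 2 → L, MvPolynomial.aeval w F = MvPolynomial.eval w F := fun w => rfl
    rw [h3, h3, ← h1, mul_zero] at h2
    rw [h2, zero_mul]
  rcases mul_eq_zero.mp key with h | h
  · exact h
  · exact absurd h P.qL_ne

end Roots

end

end Helper91.PuncLine
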