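import Mathlib
import Groth.Agent.Lib.Helper91.PuncLine3

/-!
# `L ⊗[K] R ≃ L[T;T⁻¹]` (S15179)
-/

namespace Helper91.PuncLine

open LaurentPolynomial TensorProduct

attribute [local instance] MvPolynomial.gradedAlgebra

noncomputable section

universe u v

variable {K : Type u} [Field K] {q : MvPolynomial (Fin 2) K} {L : Type v} [Field L] [Algebra K L]

/-- the grading -/
abbrev 𝒜 (K : Type u) [Field K] := MvPolynomial.homogeneousSubmodule (Fin 2) K

lemma hq' (hq : q.IsHomogeneous 2) : q ∈ 𝒜 K 2 := (MvPolynomial.mem_homogeneousSubmodule _ _).mpr hq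

/-- fractions `f / q^k` -/
def mkS (hq : q.IsHomogeneous 2) (k : ℕ) (f : 𝒜 K (k • 2)) : RR q :=
  HomogeneousLocalization.Away.mk (𝒜 K) (hq' hq) k f.1 f.2

lemma mkS_surjective (hq : q.IsHomogeneous 2) (z : RR q) : ∃ k f, mkS hq k f = z := by
  obtain ⟨k, f, hf, h⟩ := HomogeneousLocalization.Away.mk_surjective (𝒜 K) (hq' hq) z
  exact ⟨k, ⟨f, hf⟩, h⟩

lemma mkS_zero (hq : q.IsHomogeneous 2) (k : ℕ) : mkS hq k 0 = 0 := by
  apply HomogeneousLocalization.val_injective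
  rw [mkS, HomogeneousLocalization.Away.val_mk, HomogeneousLocalization.val_zero]
  simp [Localization.mk_zero]

lemma mkS_shift (hq : q.IsHomogeneous 2) (k : ℕ) (f : 𝒜 K (k • 2)) (k' : ℕ) (hk : k ≤ k') :
    ∃ f' : 𝒜 K (k' • 2), mkS hq k f = mkS hq k' f' := by
  obtain ⟨n, rfl⟩ := Nat.exists_eq_add_of_le hk
  have hmem : f.1 * q ^ n ∈ 𝒜 K ((k + n) • 2) := by
    rw [add_smul]
    exact SetLike.mul_mem_graded f.2 (SetLike.pow_mem_graded n (hq' hq))
  refine ⟨⟨f.1 * q ^ n, hmem⟩, ?_⟩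
  apply HomogeneousLocalization.val_injective
  rw [mkS, mkS, HomogeneousLocalization.Away.val_mk, HomogeneousLocalization.Away.val_mk,
    Localization.mk_eq_mk_iff, Localization.r_iff_exists]
  refine ⟨1, ?_⟩
  simp only [OneMemClass.coe_one, one_mul]
  ring

lemma exists_common_den (hq : q.IsHomogeneous 2) {ι : Type*} (s : Finset ι) (z : ι → RR q) :
    ∃ k, ∃ f : ι → 𝒜 K (k • 2), ∀ i ∈ s, z i = mkS hq k (f i) := by
  classical
  choose kk ff hff using fun i => mkS_surjective hq (z i)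
  refine ⟨s.sup kk, ?_⟩
  have : ∀ i, ∃ f' : 𝒜 K ((s.sup kk) • 2), i ∈ s → z i = mkS hq (s.sup kk) f' := by
    intro i
    by_cases hi : i ∈ s
    · obtain ⟨f', hf'⟩ := mkS_shift hq (kk i) (ff i) (s.sup kk) (Finset.le_sup hi)
      exact ⟨f', fun _ => by rw [← hf', hff]⟩
    · exact ⟨0, fun h => absurd h hi⟩
  choose f hf using this
  exact ⟨f, fun i hi => hf i hi⟩

namespace Roots

variable (P : Roots q L)

lemma j_mkS (hq : q.IsHomogeneous 2) (k : ℕ) (f : 𝒜 K (k • 2)) :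
    P.j hq (mkS hq k f) = P.qinv ^ k * P.ρ f.1 := P.j_mk hq k f.1 f.2

/-- the comparison map -/
def Θ (hq : q.IsHomogeneous 2) : L ⊗[K] RR q →ₐ[L] L[T;T⁻¹] :=
  Algebra.TensorProduct.lift (Algebra.ofId L L[T;T⁻¹]) (P.j hq) (fun _ _ => Commute.all _ _)

lemma Θ_tmul (hq : q.IsHomogeneous 2) (l : L) (z : RR q) :
    P.Θ hq (l ⊗ₜ z) = C l * P.j hq z := by
  unfold Θ
  rw [Algebra.TensorProduct.lift_tmul]
  rfl

theorem Θ_injective [Infinite L] (hq : q.IsHomogeneous 2) : Function.Injective (P.Θ hq) := by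
  classical
  rw [injective_iff_map_eq_zero]
  intro z hz
  let ℬ := Module.Basis.ofVectorSpace K L
  obtain ⟨c, rfl⟩ := TensorProduct.eq_repr_basis_left ℬ z
  obtain ⟨k, f, hf⟩ := exists_common_den hq c.support c
  set F : MvPolynomial (Fin 2) L :=
    ∑ i ∈ c.support, ℬ i • MvPolynomial.map (algebraMap K L) (f i).1 with hFdef
  have hFhom : F.IsHomogeneous (k • 2) := by
    apply MvPolynomial.IsHomogeneous.sum
    intro i _
    have h1 : (MvPolynomial.map (algebraMap K L) (f i).1).IsHomogeneous (k • 2) :=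
      MvPolynomial.IsHomogeneous.map ((MvPolynomial.mem_homogeneousSubmodule _ _).mp (f i).2) _
    exact (MvPolynomial.homogeneousSubmodule (Fin 2) L (k • 2)).smul_mem _ h1
  have hρF : P.ρL F = 0 := by
    have h1 : P.Θ hq (c.sum fun i n => ℬ i ⊗ₜ[K] n) = P.qinv ^ k * P.ρL F := by
      rw [Finsupp.sum, map_sum, hFdef, map_sum, Finset.mul_sum]
      refine Finset.sum_congr rfl fun i hi => ?_
      rw [Θ_tmul, hf i hi, j_mkS, ρ_eq_ρL, map_smul, LaurentPolynomial.smul_eq_C_mul]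
      ring
    rw [h1] at hz
    have hu : IsUnit (P.qinv ^ k) := by
      refine IsUnit.pow k ?_
      exact IsUnit.of_mul_eq_one _ (by rw [mul_comm]; exact P.ρ_q_mul_qinv hq)
    exact (hu.mul_right_eq_zero).mp hz
  have hF0 : F = 0 := P.ρL_injective_of_homog F _ hFhom hρF
  have hfi : ∀ i ∈ c.support, (f i).1 = 0 := by
    intro i hi
    ext m
    have h1 := congrArg (MvPolynomial.coeff m) hF0
    rw [hFdef, MvPolynomial.coeff_sum, MvPolynomial.coeff_zero] at h1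
    have h2 : ∑ x ∈ c.support, (MvPolynomial.coeff m (f x).1) • ℬ x = 0 := by
      rw [← h1]
      refine Finset.sum_congr rfl fun x _ => ?_
      rw [MvPolynomial.coeff_smul, MvPolynomial.coeff_map, Algebra.smul_def]
      exact mul_comm _ _
    have := linearIndependent_iff'.mp ℬ.linearIndependent c.support _ h2 i hi
    rw [this, MvPolynomial.coeff_zero]
  have hc : c = 0 := by
    refine Finsupp.ext fun i => ?_
    by_cases hi : i ∈ c.support
    · rw [hf i hi]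
      have : f i = 0 := Subtype.ext (hfi i hi)
      rw [this, mkS_zero]
      rfl
    · simpa using hi
  rw [hc]
  simp

/-- `xy / q` -/
def e₂ (hq : q.IsHomogeneous 2) : RR q :=
  mkS hq 1 ⟨MvPolynomial.X 0 * MvPolynomial.X 1, by
    have := (MvPolynomial.isHomogeneous_X K (0 : Fin 2)).mul (MvPolynomial.isHomogeneous_X K (1 : Fin 2))
    exact (MvPolynomial.mem_homogeneousSubmodule _ _).mpr this⟩

/-- `y^2 / q` -/
def e₃ (hq : q.IsHomogeneous 2) : RR q :=
  mkS hq 1 ⟨MvPolynomial.X 1 * MvPolynomial.X 1, by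
    have := (MvPolynomial.isHomogeneous_X K (1 : Fin 2)).mul (MvPolynomial.isHomogeneous_X K (1 : Fin 2))
    exact (MvPolynomial.mem_homogeneousSubmodule _ _).mpr this⟩

lemma j_e₂ (hq : q.IsHomogeneous 2) : P.j hq (e₂ hq) = P.qinv * (P.Xt * P.Yt) := by
  rw [e₂, j_mkS]
  simp

lemma j_e₃ (hq : q.IsHomogeneous 2) : P.j hq (e₃ hq) = P.qinv * (P.Yt * P.Yt) := by
  rw [e₃, j_mkS]
  simp

lemma hA : C P.aL * P.qinv = T (-1) := by
  unfold qinv
  rw [← mul_assoc, ← map_mul, mul_inv_cancel₀ P.aL_ne, map_one, one_mul]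

lemma hB : C P.δ * P.Yt = T 1 - 1 := by
  unfold Yt
  rw [← mul_assoc, ← map_mul, mul_inv_cancel₀ P.δ_ne, map_one, one_mul]

lemma hC : (T (-1) * T 1 : L[T;T⁻¹]) = 1 := by
  rw [← T_add]; simp

lemma T1_mem_range (hq : q.IsHomogeneous 2) : (T 1 : L[T;T⁻¹]) ∈ (P.Θ hq).range := by
  rw [AlgHom.mem_range]
  refine ⟨(1 : L) ⊗ₜ (1 : RR q) + (P.aL * P.δ) ⊗ₜ (e₂ hq) - (P.aL * P.δ * P.r) ⊗ₜ (e₃ hq), ?_⟩
  rw [map_sub, map_add, Θ_tmul, Θ_tmul, Θ_tmul, j_e₂, j_e₃, map_one, map_one]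
  have h1 := P.Xt_sub_r
  have hX : P.Xt = T 1 + C P.r * P.Yt := by rw [← h1]; ring
  rw [hX]
  simp only [map_mul]
  linear_combination (C P.δ * P.Yt * T 1) * P.hA + (T (-1) * T 1) * P.hB + (T 1 - 1) * (hC (L := L))

lemma Tneg1_mem_range (hq : q.IsHomogeneous 2) : (T (-1) : L[T;T⁻¹]) ∈ (P.Θ hq).range := by
  rw [AlgHom.mem_range]
  refine ⟨(1 : L) ⊗ₜ (1 : RR q) - (P.aL * P.δ) ⊗ₜ (e₂ hq) + (P.aL * P.δ * P.r') ⊗ₜ (e₃ hq), ?_⟩
  rw [map_add, map_sub, Θ_tmul, Θ_tmul, Θ_tmul, j_e₂, j_e₃, map_one, map_one]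
  have h1 := P.Xt_sub_r'
  have hX : P.Xt = 1 + C P.r' * P.Yt := by rw [← h1]; ring
  rw [hX]
  simp only [map_mul]
  linear_combination (-(C P.δ * P.Yt)) * P.hA + (-T (-1)) * P.hB - (hC (L := L))

theorem Θ_surjective (hq : q.IsHomogeneous 2) : Function.Surjective (P.Θ hq) := by
  intro f
  change f ∈ (P.Θ hq).range
  induction f using LaurentPolynomial.induction_on' with
  | add p q hp hq => exact add_mem hp hq
  | C_mul_T n a =>
    refine mul_mem ?_ ?_
    · rw [C_eq_algebraMap]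
      exact Subalgebra.algebraMap_mem _ _
    · rcases Int.eq_nat_or_neg n with ⟨m, rfl | rfl⟩
      · have : (T (m : ℤ) : L[T;T⁻¹]) = T 1 ^ m := by rw [T_pow]; simp
        rw [this]
        exact pow_mem (P.T1_mem_range hq) m
      · have : (T (-(m : ℤ)) : L[T;T⁻¹]) = T (-1) ^ m := by rw [T_pow]; simp
        rw [this]
        exact pow_mem (P.Tneg1_mem_range hq) m

/-- the comparison isomorphism -/
def Θe [Infinite L] (hq : q.IsHomogeneous 2) : L ⊗[K] RR q ≃ₐ[L] L[T;T⁻¹] :=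
  AlgEquiv.ofBijective (P.Θ hq) ⟨P.Θ_injective hq, P.Θ_surjective hq⟩

end Roots

end

end Helper91.PuncLine
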