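import Mathlib

/-!
# Units and automorphisms of Laurent polynomial rings over a field (S15179)
-/

namespace Helper91.PuncLine

open LaurentPolynomial

noncomputable section

universe v

variable {L : Type v} [Field L]

/-- evaluation at `1` -/
def ev1 : L[T;T⁻¹] →+* L := LaurentPolynomial.eval₂ (RingHom.id L) (1 : Lˣ)

lemma ev1_C_mul_T (a : L) (n : ℤ) : ev1 (C a * T n) = a := by
  unfold ev1
  rw [LaurentPolynomial.eval₂_C_mul_T]
  simp

theorem C_mul_T_inj {a b : L} {n m : ℤ} (ha : a ≠ 0) (h : C a * T n = (C b * T m : L[T;T⁻¹])) :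
    n = m ∧ a = b := by
  have hab : a = b := by
    have := congrArg ev1 h
    rwa [ev1_C_mul_T, ev1_C_mul_T] at this
  subst hab
  have h1 := congrArg LaurentPolynomial.degree h
  rw [degree_C_mul_T n a ha, degree_C_mul_T m a ha] at h1
  exact ⟨by exact_mod_cast h1, rfl⟩

theorem isUnit_iff_C_mul_T (u : L[T;T⁻¹]) (hu : IsUnit u) :
    ∃ a : L, a ≠ 0 ∧ ∃ n : ℤ, u = C a * T n := by
  obtain ⟨w, hw⟩ := hu.exists_right_inv
  obtain ⟨n, f', hf'⟩ := exists_T_pow u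
  obtain ⟨m, g', hg'⟩ := exists_T_pow w
  have h1 : Polynomial.toLaurent (f' * g') = Polynomial.toLaurent (Polynomial.X ^ (n + m)) := by
    rw [map_mul, hf', hg', Polynomial.toLaurent_X_pow]
    have : u * T ↑n * (w * T ↑m) = (u * w) * (T n * T m : L[T;T⁻¹]) := by ring
    rw [this, hw, one_mul, ← T_add]
    push_cast
    rfl
  have h2 : f' * g' = Polynomial.X ^ (n + m) := Polynomial.toLaurent_injective h1
  have h3 : f' ∣ Polynomial.X ^ (n + m) := ⟨g', h2.symm⟩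
  obtain ⟨i, _, hi⟩ := (dvd_prime_pow Polynomial.prime_X _).mp h3
  obtain ⟨c, hc⟩ := hi.symm
  -- X^i * c = f'
  obtain ⟨a, ha, hac⟩ := Polynomial.isUnit_iff.mp c.isUnit
  refine ⟨a, ha.ne_zero, (i : ℤ) - n, ?_⟩
  have h4 : u * T n = C a * T i := by
    rw [← hf', ← hc, ← hac, map_mul, Polynomial.toLaurent_X_pow, Polynomial.toLaurent_C, mul_comm]
  calc u = u * T n * T (-n) := by rw [mul_T_assoc]; simp
    _ = C a * T i * T (-n) := by rw [h4]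
    _ = C a * T (i - n) := by rw [mul_T_assoc, sub_eq_add_neg]

/-- image of `T m` under an algebra hom with `φ (T 1) = C l * T n` -/
theorem map_T_of_map_T1 {A : Type*} [CommRing A] [Algebra L A]
    (φ : L[T;T⁻¹] →ₐ[L] A) (u v : A) (huv : u * v = 1) (h1 : φ (T 1) = u) (m : ℕ) :
    φ (T m) = u ^ m ∧ φ (T (-m)) = v ^ m := by
  have hpos : φ (T m) = u ^ m := by
    have : (T (m : ℤ) : L[T;T⁻¹]) = T 1 ^ m := by rw [T_pow]; simp
    rw [this, map_pow, h1]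
  refine ⟨hpos, ?_⟩
  have h2 : φ (T (-m)) * φ (T m) = 1 := by
    rw [← map_mul, ← T_add]; simp
  calc φ (T (-m)) = φ (T (-m)) * (u * v) ^ m := by rw [huv]; simp
    _ = (φ (T (-m)) * φ (T m)) * v ^ m := by rw [hpos, mul_pow]; ring
    _ = v ^ m := by rw [h2, one_mul]

theorem algHom_ext_T1 {A : Type*} [CommRing A] [Algebra L A]
    (φ₁ φ₂ : L[T;T⁻¹] →ₐ[L] A) (h : φ₁ (T 1) = φ₂ (T 1)) : φ₁ = φ₂ := by
  have hinv : φ₁ (T 1) * φ₁ (T (-1)) = 1 := by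
    rw [← map_mul, ← T_add]; simp
  have hinv2 : φ₂ (T 1) * φ₂ (T (-1)) = 1 := by
    rw [← map_mul, ← T_add]; simp
  have hneg : φ₁ (T (-1)) = φ₂ (T (-1)) := by
    calc φ₁ (T (-1)) = φ₁ (T (-1)) * (φ₂ (T 1) * φ₂ (T (-1))) := by rw [hinv2, mul_one]
      _ = (φ₁ (T 1) * φ₁ (T (-1))) * φ₂ (T (-1)) := by rw [← h]; ring
      _ = φ₂ (T (-1)) := by rw [hinv, one_mul]
  apply AlgHom.ext
  intro f
  induction f using LaurentPolynomial.induction_on' with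
  | add p q hp hq => rw [map_add, map_add, hp, hq]
  | C_mul_T n a =>
    rw [map_mul, map_mul]
    congr 1
    · rw [C_eq_algebraMap, AlgHom.commutes, AlgHom.commutes]
    · rcases Int.eq_nat_or_neg n with ⟨m, rfl | rfl⟩
      · rw [(map_T_of_map_T1 φ₁ _ _ hinv rfl m).1, (map_T_of_map_T1 φ₂ _ _ hinv2 rfl m).1, h]
      · rw [(map_T_of_map_T1 φ₁ _ _ hinv rfl m).2, (map_T_of_map_T1 φ₂ _ _ hinv2 rfl m).2, hneg]

/-- An automorphism sends `T 1` to `C l * T (±1)`. -/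
theorem aut_T1 (ψ : L[T;T⁻¹] ≃ₐ[L] L[T;T⁻¹]) :
    ∃ l : L, l ≠ 0 ∧ (ψ (T 1) = C l * T 1 ∨ ψ (T 1) = C l * T (-1)) := by
  have hu : IsUnit (ψ (T 1)) := (isUnit_T 1).map ψ
  obtain ⟨l, hl, n, hn⟩ := isUnit_iff_C_mul_T _ hu
  have hu' : IsUnit (ψ.symm (T 1)) := (isUnit_T 1).map ψ.symm
  obtain ⟨μ, hμ, m, hm⟩ := isUnit_iff_C_mul_T _ hu'
  -- compute ψ (T m)
  have hinv : (C l * T n) * (C l⁻¹ * T (-n)) = (1 : L[T;T⁻¹]) := by
    have : (C l * T n) * (C l⁻¹ * T (-n)) = C (l * l⁻¹) * (T n * T (-n) : L[T;T⁻¹]) := by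
      rw [map_mul]; ring
    rw [this, mul_inv_cancel₀ hl, ← T_add]; simp
  have key : ∃ b : L, b ≠ 0 ∧ ψ (T m) = C b * T (n * m) := by
    rcases Int.eq_nat_or_neg m with ⟨k, rfl | rfl⟩
    · refine ⟨l ^ k, pow_ne_zero _ hl, ?_⟩
      have e1 : ψ (T k) = (C l * T n) ^ k :=
        (map_T_of_map_T1 (ψ : L[T;T⁻¹] →ₐ[L] L[T;T⁻¹]) _ _ hinv hn k).1
      rw [e1, mul_pow, T_pow, map_pow, mul_comm (k : ℤ) n]
    · refine ⟨l⁻¹ ^ k, pow_ne_zero _ (inv_ne_zero hl), ?_⟩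
      have e1 : ψ (T (-(k : ℤ))) = (C l⁻¹ * T (-n)) ^ k :=
        (map_T_of_map_T1 (ψ : L[T;T⁻¹] →ₐ[L] L[T;T⁻¹]) _ _ hinv hn k).2
      rw [e1, mul_pow, T_pow, map_pow]
      congr 2
      ring
  obtain ⟨b, hb, hbm⟩ := key
  have h1 : (T 1 : L[T;T⁻¹]) = C (μ * b) * T (n * m) := by
    calc (T 1 : L[T;T⁻¹]) = ψ (ψ.symm (T 1)) := by simp
      _ = ψ (C μ * T m) := by rw [hm]
      _ = C μ * ψ (T m) := by
          rw [map_mul, C_eq_algebraMap, AlgEquiv.commutes]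
      _ = C (μ * b) * T (n * m) := by rw [hbm, map_mul]; ring
  have h2 : (C 1 * T 1 : L[T;T⁻¹]) = C (μ * b) * T (n * m) := by rw [map_one, one_mul]; exact h1
  have h3 := (C_mul_T_inj one_ne_zero h2).1
  rcases Int.eq_one_or_neg_one_of_mul_eq_one h3.symm with h | h
  · exact ⟨l, hl, Or.inl (by rw [hn, h])⟩
  · exact ⟨l, hl, Or.inr (by rw [hn, h])⟩

end

end Helper91.PuncLine
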