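import Mathlib
import Groth.Agent.Lib.Helper91.PuncLine4
import Groth.Agent.Lib.Helper91.PuncLine5

/-!
# Rationality constraint and transported automorphisms (S15179)
-/

namespace Helper91.PuncLine

open LaurentPolynomial TensorProduct

attribute [local instance] MvPolynomial.gradedAlgebra

noncomputable section

universe u v

variable {K : Type u} [Field K] {q : MvPolynomial (Fin 2) K} {L : Type v} [Field L] [Algebra K L]

namespace Roots

variable (P : Roots q L)

lemma r_root : P.aL * P.r ^ 2 + algebraMap K L (qb q) * P.r + algebraMap K L (qc q) = 0 := by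
  rw [P.hsum, P.hprod]; unfold aL; ring

lemma r'_root : P.aL * P.r' ^ 2 + algebraMap K L (qb q) * P.r' + algebraMap K L (qc q) = 0 := by
  rw [P.hsum, P.hprod]; unfold aL; ring

lemma r_not_mem (hnr : ∀ s : K, qa q * s ^ 2 + qb q * s + qc q ≠ 0) (s : K) :
    algebraMap K L s ≠ P.r := by
  intro h
  have h1 := P.r_root
  rw [← h] at h1
  unfold aL at h1
  rw [← map_pow, ← map_mul, ← map_mul, ← map_add, ← map_add] at h1
  exact hnr s ((map_eq_zero _).mp h1)

lemma r'_not_mem (hnr : ∀ s : K, qa q * s ^ 2 + qb q * s + qc q ≠ 0) (s : K) :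
    algebraMap K L s ≠ P.r' := by
  intro h
  have h1 := P.r'_root
  rw [← h] at h1
  unfold aL at h1
  rw [← map_pow, ← map_mul, ← map_mul, ← map_add, ← map_add] at h1
  exact hnr s ((map_eq_zero _).mp h1)

/-- value of `q` at a `K`-point, in `L` -/
lemma q_point (hq : q.IsHomogeneous 2) (x₀ y₀ : K) :
    algebraMap K L (MvPolynomial.eval ![x₀, y₀] q) =
      P.aL * (algebraMap K L x₀ - P.r * algebraMap K L y₀) *
        (algebraMap K L x₀ - P.r' * algebraMap K L y₀) := by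
  rw [eval_q q hq]
  simp only [Matrix.cons_val_zero, Matrix.cons_val_one, map_add, map_mul, map_pow]
  rw [P.hsum, P.hprod]; unfold aL; ring

/-- key rationality: values `α v₀/u₀ + β` at `K`-points are in `K`. -/
lemma S_mem (hq : q.IsHomogeneous 2) (hnr : ∀ s : K, qa q * s ^ 2 + qb q * s + qc q ≠ 0)
    (z : RR q) (α β : L) (hz : P.j hq z = C α * T (-1) + C β)
    (x₀ y₀ : K) (hxy : x₀ ≠ 0 ∨ y₀ ≠ 0) :
    ∃ s : K, algebraMap K L s = α * ((algebraMap K L x₀ - P.r' * algebraMap K L y₀) /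
      (algebraMap K L x₀ - P.r * algebraMap K L y₀)) + β := by
  set X₀ := algebraMap K L x₀ with hX₀
  set Y₀ := algebraMap K L y₀ with hY₀
  have hu : X₀ - P.r * Y₀ ≠ 0 := by
    intro h
    by_cases hy : y₀ = 0
    · have hx : x₀ ≠ 0 := hxy.resolve_right (not_not.mpr hy)
      rw [hY₀, hy, map_zero, mul_zero, sub_zero] at h
      exact hx ((map_eq_zero _).mp h)
    · apply P.r_not_mem hnr (x₀ / y₀)
      have hY : Y₀ ≠ 0 := (map_ne_zero _).mpr hy
      rw [map_div₀, ← hX₀, ← hY₀]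
      field_simp
      linear_combination h
  have hv : X₀ - P.r' * Y₀ ≠ 0 := by
    intro h
    by_cases hy : y₀ = 0
    · have hx : x₀ ≠ 0 := hxy.resolve_right (not_not.mpr hy)
      rw [hY₀, hy, map_zero, mul_zero, sub_zero] at h
      exact hx ((map_eq_zero _).mp h)
    · apply P.r'_not_mem hnr (x₀ / y₀)
      have hY : Y₀ ≠ 0 := (map_ne_zero _).mpr hy
      rw [map_div₀, ← hX₀, ← hY₀]
      field_simp
      linear_combination h
  obtain ⟨k, f, rfl⟩ := mkS_surjective hq z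
  rw [j_mkS] at hz
  -- ρ f = (ρ q)^k * (...)
  have h1 : P.ρ f.1 = (P.ρ q) ^ k * (C α * T (-1) + C β) := by
    rw [← hz, ← mul_assoc, ← mul_pow, P.ρ_q_mul_qinv hq, one_pow, one_mul]
  set τ₀ : L := (X₀ - P.r * Y₀) / (X₀ - P.r' * Y₀) with hτ₀
  have hτ : τ₀ ≠ 0 := div_ne_zero hu hv
  have h2 := congrArg (ev (Units.mk0 τ₀ hτ)) h1
  rw [P.ev_ρ, Units.val_mk0, map_mul, map_pow, P.ρ_q hq] at h2
  have h3 : ev (Units.mk0 τ₀ hτ) (C P.aL * T 1) = P.aL * τ₀ := by
    unfold ev; simp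
  have h4 : ev (Units.mk0 τ₀ hτ) (C α * T (-1) + C β) = α * τ₀⁻¹ + β := by
    unfold ev; simp
  rw [h3, h4] at h2
  -- homogeneity
  have h5 := aeval_smul_of_homog (K := K) (A := L) f.1 (k • 2)
    ((MvPolynomial.mem_homogeneousSubmodule _ _).mp f.2) (X₀ - P.r' * Y₀) ![P.xτ τ₀, P.yτ τ₀]
  have hpt := P.point_eq ![X₀, Y₀] (by simpa using hv)
  simp only [Matrix.cons_val_zero, Matrix.cons_val_one] at hpt
  rw [← hpt, h2] at h5
  have h6 : MvPolynomial.aeval ![X₀, Y₀] f.1 = algebraMap K L (MvPolynomial.eval ![x₀, y₀] f.1) := by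
    have : (![X₀, Y₀] : Fin 2 → L) = algebraMap K L ∘ ![x₀, y₀] := by
      ext i; fin_cases i <;> simp [hX₀, hY₀]
    rw [this, MvPolynomial.aeval_algebraMap_apply]
    rfl
  have hqp := P.q_point hq x₀ y₀
  rw [← hX₀, ← hY₀] at hqp
  have hqne : MvPolynomial.eval ![x₀, y₀] q ≠ 0 := by
    intro h
    rw [h, map_zero] at hqp
    have := P.aL_ne
    have h7 : P.aL * (X₀ - P.r * Y₀) * (X₀ - P.r' * Y₀) ≠ 0 :=
      mul_ne_zero (mul_ne_zero this hu) hv
    exact h7 hqp.symm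
  refine ⟨MvPolynomial.eval ![x₀, y₀] f.1 / (MvPolynomial.eval ![x₀, y₀] q) ^ k, ?_⟩
  rw [map_div₀, map_pow, hqp, ← h6]
  rw [h5]
  have hpow : (X₀ - P.r' * Y₀) ^ (k • 2) * (P.aL * τ₀) ^ k =
      (P.aL * (X₀ - P.r * Y₀) * (X₀ - P.r' * Y₀)) ^ k := by
    rw [hτ₀, smul_eq_mul, pow_mul', ← mul_pow]
    congr 1
    field_simp
  have hne : (P.aL * (X₀ - P.r * Y₀) * (X₀ - P.r' * Y₀)) ^ k ≠ 0 :=
    pow_ne_zero _ (mul_ne_zero (mul_ne_zero P.aL_ne hu) hv)
  rw [← mul_assoc, hpow, mul_div_assoc, mul_comm, div_mul_cancel₀ _ hne, hτ₀, inv_div]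

/-- `C α * T (-1) + C β` with `α ≠ 0` is not in the image of `j`. -/
theorem not_mem_range_j (hq : q.IsHomogeneous 2)
    (hnr : ∀ s : K, qa q * s ^ 2 + qb q * s + qc q ≠ 0)
    (z : RR q) (α β : L) (hα : α ≠ 0) : P.j hq z ≠ C α * T (-1) + C β := by
  intro hz
  obtain ⟨s₁, h₁⟩ := P.S_mem hq hnr z α β hz 1 0 (Or.inl one_ne_zero)
  obtain ⟨s₂, h₂⟩ := P.S_mem hq hnr z α β hz 0 1 (Or.inr one_ne_zero)
  obtain ⟨s₃, h₃⟩ := P.S_mem hq hnr z α β hz 1 1 (Or.inl one_ne_zero)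
  simp only [map_one, map_zero, mul_zero, sub_zero, mul_one, zero_sub, div_self one_ne_zero] at h₁ h₂ h₃
  have hr0 : P.r ≠ 0 := by
    have := P.r_not_mem hnr 0
    rw [map_zero] at this
    exact Ne.symm this
  have hr1 : 1 - P.r ≠ 0 := by
    have := P.r_not_mem hnr 1
    rw [map_one] at this
    exact sub_ne_zero.mpr this
  have hA : α * (P.r' - P.r) ≠ 0 := mul_ne_zero hα P.δ_ne
  -- relations
  have e₂ : (algebraMap K L s₂ - algebraMap K L s₁) * P.r = α * (P.r' - P.r) := by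
    rw [h₁, h₂]
    field_simp
    ring
  have e₃ : (algebraMap K L s₃ - algebraMap K L s₁) * (1 - P.r) = -(α * (P.r' - P.r)) := by
    rw [h₁, h₃]
    field_simp
    ring
  have e₄ : P.r * (algebraMap K L s₂ - algebraMap K L s₃) =
      algebraMap K L s₁ - algebraMap K L s₃ := by
    linear_combination e₂ + e₃
  by_cases h23 : s₂ = s₃
  · rw [h23, sub_self, mul_zero] at e₄
    have : algebraMap K L s₃ - algebraMap K L s₁ = 0 := by linear_combination e₄
    rw [this, zero_mul] at e₃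
    exact hA (neg_eq_zero.mp e₃.symm)
  · apply P.r_not_mem hnr ((s₁ - s₃) / (s₂ - s₃))
    have hne : algebraMap K L s₂ - algebraMap K L s₃ ≠ 0 := by
      rw [← map_sub]
      exact (map_ne_zero _).mpr (sub_ne_zero.mpr h23)
    rw [map_div₀, map_sub, map_sub]
    field_simp
    linear_combination -e₄

end Roots

end

end Helper91.PuncLine
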