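import Mathlib
import Groth.Agent.Lib.Helper91.PuncLine6

/-!
# Transported automorphisms (S15179)
-/

namespace Helper91.PuncLine

open LaurentPolynomial TensorProduct

attribute [local instance] MvPolynomial.gradedAlgebra

noncomputable section

universe u v

variable {K : Type u} [Field K] {q : MvPolynomial (Fin 2) K} {L : Type v} [Field L] [Algebra K L]

namespace Roots

variable (P : Roots q L)

lemma Θ_one_tmul (hq : q.IsHomogeneous 2) (z : RR q) : P.Θ hq (1 ⊗ₜ z) = P.j hq z := by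
  rw [Θ_tmul, map_one, one_mul]

lemma j_injective [Infinite L] (hq : q.IsHomogeneous 2) : Function.Injective (P.j hq) := by
  intro z₁ z₂ h
  have h1 : P.Θ hq (1 ⊗ₜ z₁) = P.Θ hq (1 ⊗ₜ z₂) := by rw [Θ_one_tmul, Θ_one_tmul, h]
  have h2 := P.Θ_injective hq h1
  exact Algebra.TensorProduct.includeRight_injective (A := L) (algebraMap K L).injective h2

/-- the transported automorphism -/
def ψ [Infinite L] (hq : q.IsHomogeneous 2) (g : RR q ≃ₐ[K] RR q) : L[T;T⁻¹] ≃ₐ[L] L[T;T⁻¹] :=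
  (P.Θe hq).symm.trans
    ((Algebra.TensorProduct.congr (AlgEquiv.refl : L ≃ₐ[L] L) g).trans (P.Θe hq))

lemma ψ_j [Infinite L] (hq : q.IsHomogeneous 2) (g : RR q ≃ₐ[K] RR q) (z : RR q) :
    P.ψ hq g (P.j hq z) = P.j hq (g z) := by
  have h1 : (P.Θe hq).symm (P.j hq z) = 1 ⊗ₜ z := by
    rw [AlgEquiv.symm_apply_eq]
    exact (P.Θ_one_tmul hq z).symm
  unfold ψ
  rw [AlgEquiv.trans_apply, AlgEquiv.trans_apply, h1, Algebra.TensorProduct.congr_apply,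
    Algebra.TensorProduct.map_tmul]
  exact P.Θ_one_tmul hq (g z)

lemma algHom_ext_j (hq : q.IsHomogeneous 2) (ψ₁ ψ₂ : L[T;T⁻¹] →ₐ[L] L[T;T⁻¹])
    (h : ∀ z, ψ₁ (P.j hq z) = ψ₂ (P.j hq z)) : ψ₁ = ψ₂ := by
  apply AlgHom.ext
  intro x
  obtain ⟨w, rfl⟩ := P.Θ_surjective hq x
  induction w using TensorProduct.induction_on with
  | zero => simp
  | tmul l z =>
    rw [Θ_tmul, map_mul, map_mul, h, C_eq_algebraMap, AlgHom.commutes, AlgHom.commutes]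
  | add a b ha hb => rw [map_add, map_add, map_add, ha, hb]

lemma ψ_mul [Infinite L] (hq : q.IsHomogeneous 2) (g h : RR q ≃ₐ[K] RR q) :
    P.ψ hq (g * h) = P.ψ hq g * P.ψ hq h := by
  have : ((P.ψ hq (g * h) : L[T;T⁻¹] ≃ₐ[L] L[T;T⁻¹]) : L[T;T⁻¹] →ₐ[L] L[T;T⁻¹]) =
      ((P.ψ hq g * P.ψ hq h : L[T;T⁻¹] ≃ₐ[L] L[T;T⁻¹]) : L[T;T⁻¹] →ₐ[L] L[T;T⁻¹]) := by
    apply P.algHom_ext_j hq
    intro z
    change P.ψ hq (g * h) (P.j hq z) = P.ψ hq g (P.ψ hq h (P.j hq z))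
    rw [ψ_j, ψ_j, ψ_j]
    rfl
  exact AlgEquiv.ext fun x => DFunLike.congr_fun this x

lemma ψ_one [Infinite L] (hq : q.IsHomogeneous 2) : P.ψ hq 1 = 1 := by
  have : ((P.ψ hq 1 : L[T;T⁻¹] ≃ₐ[L] L[T;T⁻¹]) : L[T;T⁻¹] →ₐ[L] L[T;T⁻¹]) =
      ((1 : L[T;T⁻¹] ≃ₐ[L] L[T;T⁻¹]) : L[T;T⁻¹] →ₐ[L] L[T;T⁻¹]) := by
    apply P.algHom_ext_j hq
    intro z
    change P.ψ hq 1 (P.j hq z) = P.j hq z
    rw [ψ_j]
    rfl
  exact AlgEquiv.ext fun x => DFunLike.congr_fun this x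

/-- the transport as a monoid hom -/
def ψHom [Infinite L] (hq : q.IsHomogeneous 2) :
    (RR q ≃ₐ[K] RR q) →* (L[T;T⁻¹] ≃ₐ[L] L[T;T⁻¹]) where
  toFun := P.ψ hq
  map_one' := P.ψ_one hq
  map_mul' := P.ψ_mul hq

lemma ψHom_apply [Infinite L] (hq : q.IsHomogeneous 2) (g : RR q ≃ₐ[K] RR q) :
    P.ψHom hq g = P.ψ hq g := rfl

lemma ψHom_injective [Infinite L] (hq : q.IsHomogeneous 2) :
    Function.Injective (P.ψHom hq) := by
  intro g h hgh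
  refine AlgEquiv.ext fun z => ?_
  apply P.j_injective hq
  rw [← ψ_j, ← ψ_j]
  rw [ψHom_apply, ψHom_apply] at hgh
  rw [hgh]

/-- `j (y²/q)` explicitly -/
lemma j_e₃_eq (hq : q.IsHomogeneous 2) :
    P.j hq (e₃ hq) = C (P.aL⁻¹ * P.δ⁻¹ * P.δ⁻¹) * (T 1 - 2 + T (-1)) := by
  rw [j_e₃]
  unfold qinv Yt
  simp only [map_mul]
  linear_combination (C P.aL⁻¹ * C P.δ⁻¹ * C P.δ⁻¹ * (T 1 - 2)) * (hC (L := L))

/-- rationality constraint on the multiplier. -/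
theorem sq_eq_one_of_rational [Infinite L] (hq : q.IsHomogeneous 2)
    (hnr : ∀ s : K, qa q * s ^ 2 + qb q * s + qc q ≠ 0)
    (g : RR q ≃ₐ[K] RR q) (l₀ : K)
    (h : P.ψ hq g (T 1) = C (algebraMap K L l₀) * T 1) : l₀ ^ 2 = 1 := by
  by_contra hne
  set l : L := algebraMap K L l₀ with hl
  have hl0 : l ≠ 0 := by
    intro h0
    rw [h0, map_zero, zero_mul] at h
    have h1 : (T 1 : L[T;T⁻¹]) = 0 := by
      have := (P.ψ hq g).injective (h.trans (map_zero _).symm)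
      exact this
    exact (isUnit_T (R := L) 1).ne_zero h1
  have hinv : (C l * T 1) * (C l⁻¹ * T (-1)) = (1 : L[T;T⁻¹]) := by
    have : (C l * T 1) * (C l⁻¹ * T (-1)) = C (l * l⁻¹) * (T 1 * T (-1) : L[T;T⁻¹]) := by
      rw [map_mul]; ring
    rw [this, mul_inv_cancel₀ hl0, ← T_add]; simp
  have hneg : P.ψ hq g (T (-1)) = C l⁻¹ * T (-1) := by
    have := (map_T_of_map_T1 ((P.ψ hq g : L[T;T⁻¹] ≃ₐ[L] L[T;T⁻¹]) : L[T;T⁻¹] →ₐ[L] L[T;T⁻¹])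
      _ _ hinv h 1).2
    simpa using this
  set d : L := P.aL⁻¹ * P.δ⁻¹ * P.δ⁻¹ with hd
  have hd0 : d ≠ 0 :=
    mul_ne_zero (mul_ne_zero (inv_ne_zero P.aL_ne) (inv_ne_zero P.δ_ne)) (inv_ne_zero P.δ_ne)
  have h1 : P.j hq (g (e₃ hq)) = C d * (C l * T 1 - 2 + C l⁻¹ * T (-1)) := by
    rw [← ψ_j, j_e₃_eq, map_mul, map_add, map_sub, h, hneg, C_eq_algebraMap, AlgEquiv.commutes]
    congr 3
    exact map_ofNat _ 2
  have h2 : P.j hq (l₀ • e₃ hq) = C l * (C d * (T 1 - 2 + T (-1))) := by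
    rw [map_smul, j_e₃_eq, Algebra.smul_def, LaurentPolynomial.algebraMap_apply]
  have h3 : P.j hq (g (e₃ hq) - l₀ • e₃ hq) =
      C (d * (l⁻¹ - l)) * T (-1) + C (d * (2 * l - 2)) := by
    rw [map_sub, h1, h2]
    simp only [map_mul, map_sub, map_ofNat]
    ring
  refine P.not_mem_range_j hq hnr _ _ _ ?_ h3
  refine mul_ne_zero hd0 ?_
  intro h4
  apply hne
  have h5 : l ^ 2 = 1 := by
    have : l⁻¹ = l := sub_eq_zero.mp h4
    calc l ^ 2 = l * l := sq l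
      _ = l * l⁻¹ := by rw [this]
      _ = 1 := mul_inv_cancel₀ hl0
  have h6 : algebraMap K L (l₀ ^ 2) = algebraMap K L 1 := by
    rw [map_pow, map_one, ← hl, h5]
  exact (algebraMap K L).injective h6

end Roots

end

end Helper91.PuncLine
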