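import Mathlib
import Groth.Agent.Lib.Helper91.PuncLine7

/-!
# Finite automorphism groups of `P^1` minus a degree-two point (S15179)
-/

namespace Helper91.PuncLine

open LaurentPolynomial

attribute [local instance] MvPolynomial.gradedAlgebra

noncomputable section

universe u v

section Laurent

variable {L : Type v} [Field L]

lemma pow_apply_T1 (ψ : L[T;T⁻¹] ≃ₐ[L] L[T;T⁻¹]) (l : L) (h : ψ (T 1) = C l * T 1) (n : ℕ) :
    (ψ ^ n) (T 1) = C (l ^ n) * T 1 := by
  induction n with
  | zero => simp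
  | succ n ih =>
    rw [pow_succ, AlgEquiv.mul_apply, h, map_mul, C_eq_algebraMap, AlgEquiv.commutes,
      ← C_eq_algebraMap, ih, pow_succ, map_mul]
    ring

lemma eq_one_of_T1 (ψ : L[T;T⁻¹] ≃ₐ[L] L[T;T⁻¹]) (h : ψ (T 1) = T 1) : ψ = 1 := by
  have := algHom_ext_T1 ((ψ : L[T;T⁻¹] ≃ₐ[L] L[T;T⁻¹]) : L[T;T⁻¹] →ₐ[L] L[T;T⁻¹])
    (AlgHom.id L L[T;T⁻¹]) h
  exact AlgEquiv.ext fun x => DFunLike.congr_fun this x

lemma map_Tneg1 (ψ : L[T;T⁻¹] ≃ₐ[L] L[T;T⁻¹]) (l : L) (hl : l ≠ 0)
    (h : ψ (T 1) = C l * T (-1)) : ψ (T (-1)) = C l⁻¹ * T 1 := by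
  have hinv : (C l * T (-1)) * (C l⁻¹ * T 1) = (1 : L[T;T⁻¹]) := by
    have : (C l * T (-1)) * (C l⁻¹ * T 1) = C (l * l⁻¹) * (T (-1) * T 1 : L[T;T⁻¹]) := by
      rw [map_mul]; ring
    rw [this, mul_inv_cancel₀ hl, ← T_add]; simp
  have := (map_T_of_map_T1 ((ψ : L[T;T⁻¹] ≃ₐ[L] L[T;T⁻¹]) : L[T;T⁻¹] →ₐ[L] L[T;T⁻¹])
    _ _ hinv h 1).2
  simpa using this

end Laurent

lemma card_le_of_range_subset {α β : Type*} [Finite α] [DecidableEq β] (F : α → β)
    (hF : Function.Injective F) (S : Finset β) (h : Set.range F ⊆ ↑S) : Nat.card α ≤ S.card := by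
  have h1 : Function.Injective (fun a : α => (⟨F a, h ⟨a, rfl⟩⟩ : S)) := by
    intro a b hab
    exact hF (Subtype.ext_iff.mp hab)
  have := Nat.card_le_card_of_injective _ h1
  simpa using this

variable {K : Type u} [Field K] {q : MvPolynomial (Fin 2) K}

/-- roots in the algebraic closure -/
theorem exists_roots (hq : q.IsHomogeneous 2) (hirr : Irreducible q)
    (hdisc : qb q ^ 2 - 4 * qa q * qc q ≠ 0) : Nonempty (Roots q (AlgebraicClosure K)) := by
  have ha := qa_ne_zero q hq hirr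
  have haL : algebraMap K (AlgebraicClosure K) (qa q) ≠ 0 := (map_ne_zero _).mpr ha
  set aL := algebraMap K (AlgebraicClosure K) (qa q) with haLdef
  set bL := algebraMap K (AlgebraicClosure K) (qb q) with hbLdef
  set cL := algebraMap K (AlgebraicClosure K) (qc q) with hcLdef
  have hdeg : (Polynomial.C aL * Polynomial.X ^ 2 + Polynomial.C bL * Polynomial.X +
      Polynomial.C cL).degree ≠ 0 := by
    rw [Polynomial.degree_quadratic haL]
    norm_num
  obtain ⟨r, hr⟩ := IsAlgClosed.exists_root _ hdeg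
  have hr' : aL * r ^ 2 + bL * r + cL = 0 := by
    simpa [Polynomial.IsRoot] using hr
  have hdL : bL ^ 2 - 4 * aL * cL ≠ 0 := by
    rw [haLdef, hbLdef, hcLdef, ← map_pow, ← map_ofNat (algebraMap K (AlgebraicClosure K)) 4,
      ← map_mul, ← map_mul, ← map_sub]
    exact (map_ne_zero _).mpr hdisc
  refine ⟨{ r := r, r' := -bL / aL - r, hsum := ?_, hprod := ?_, hne := ?_, ha := ha }⟩
  · rw [← hbLdef, ← haLdef]
    field_simp
    ring
  · rw [← hcLdef, ← haLdef]
    field_simp
    linear_combination hr'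
  · intro h
    apply hdL
    have h2 : bL = -2 * aL * r := by
      have h' : r * aL = (-bL / aL - r) * aL := by rw [← h]
      have h'' : (-bL / aL - r) * aL = -bL - r * aL := by field_simp
      have h3 : r * aL = -bL - r * aL := h'.trans h''
      linear_combination h3
    rw [h2] at hr' ⊢
    linear_combination (-4 * aL) * hr'

/-- a `K`-linear ring automorphism as an algebra automorphism -/
def toAlg (g : RR q ≃+* RR q) (hg : ∀ (k : K) (z : RR q), g (k • z) = k • g z) :
    RR q ≃ₐ[K] RR q :=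
  AlgEquiv.ofRingEquiv (f := g) (fun k => by rw [algebraMap_RR, hg, map_one])

@[simp] lemma toAlg_apply (g : RR q ≃+* RR q) (hg : ∀ (k : K) (z : RR q), g (k • z) = k • g z)
    (z : RR q) : toAlg g hg z = g z := rfl

/-- the inclusion of `G` into the algebra automorphisms -/
def Φ (G : Subgroup (RR q ≃+* RR q))
    (hG : ∀ g ∈ G, ∀ (k : K) (z : RR q), g (k • z) = k • g z) : G →* (RR q ≃ₐ[K] RR q) where
  toFun g := toAlg g.1 (hG g.1 g.2)
  map_one' := AlgEquiv.ext fun _ => rfl
  map_mul' _ _ := AlgEquiv.ext fun _ => rfl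

lemma Φ_injective (G : Subgroup (RR q ≃+* RR q))
    (hG : ∀ g ∈ G, ∀ (k : K) (z : RR q), g (k • z) = k • g z) :
    Function.Injective (Φ G hG) := by
  intro g h hgh
  apply Subtype.ext
  apply RingEquiv.ext
  intro z
  exact DFunLike.congr_fun hgh z

theorem main15179 (hK : ∀ n : ℕ, 0 < n → (Polynomial.X ^ n - 1 : Polynomial K).Splits)
    (hq : q.IsHomogeneous 2) (hirr : Irreducible q) (hdisc : qb q ^ 2 - 4 * qa q * qc q ≠ 0)
    (G : Subgroup (RR q ≃+* RR q)) [Finite G]
    (hG : ∀ g ∈ G, ∀ (k : K) (z : RR q), g (k • z) = k • g z) :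
    (∀ g ∈ G, g ^ 2 = 1) ∧ Nat.card G ≤ 4 := by
  classical
  obtain ⟨P⟩ := exists_roots hq hirr hdisc
  have hnr := no_root q hq hirr
  let Ψ : G →* (AlgebraicClosure K)[T;T⁻¹] ≃ₐ[AlgebraicClosure K] (AlgebraicClosure K)[T;T⁻¹] :=
    (P.ψHom hq).comp (Φ G hG)
  have hΨinj : Function.Injective Ψ := (P.ψHom_injective hq).comp (Φ_injective G hG)
  -- case A analysis
  have caseA : ∀ g : G, ∀ l : AlgebraicClosure K, Ψ g (T 1) = C l * T 1 → l ^ 2 = 1 := by
    intro g l hgl
    have hn : 0 < orderOf g := orderOf_pos g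
    have hpow : (Ψ g) ^ (orderOf g) = 1 := by rw [← map_pow, pow_orderOf_eq_one, map_one]
    have h1 := pow_apply_T1 (Ψ g) l hgl (orderOf g)
    rw [hpow] at h1
    have h2 : (C 1 * T 1 : (AlgebraicClosure K)[T;T⁻¹]) = C (l ^ orderOf g) * T 1 := by
      rw [map_one, one_mul]; exact h1
    have h3 : l ^ orderOf g = 1 := ((C_mul_T_inj one_ne_zero h2).2).symm
    have h4 : l ∈ (algebraMap K (AlgebraicClosure K)).range := by
      apply Polynomial.Splits.mem_range_of_isRoot (hK _ hn) (Polynomial.X_pow_sub_C_ne_zero hn 1)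
      simp [Polynomial.IsRoot, h3]
    obtain ⟨l₀, rfl⟩ := h4
    have := P.sq_eq_one_of_rational hq hnr (Φ G hG g) l₀ hgl
    rw [← map_pow, this, map_one]
  have sq_one : ∀ g : G, g ^ 2 = 1 := by
    intro g
    apply hΨinj
    rw [map_pow, map_one]
    obtain ⟨l, hl, h | h⟩ := aut_T1 (Ψ g)
    · have hl2 := caseA g l h
      apply eq_one_of_T1
      rw [pow_apply_T1 _ _ h, hl2, map_one, one_mul]
    · apply eq_one_of_T1
      rw [sq, AlgEquiv.mul_apply, h, map_mul, C_eq_algebraMap, AlgEquiv.commutes,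
        ← C_eq_algebraMap, map_Tneg1 _ _ hl h, ← mul_assoc, ← map_mul, mul_inv_cancel₀ hl,
        map_one, one_mul]
  refine ⟨?_, ?_⟩
  · intro g hg
    have := sq_one ⟨g, hg⟩
    exact congrArg Subtype.val this
  -- counting
  let F : G → (AlgebraicClosure K)[T;T⁻¹] := fun g => Ψ g (T 1)
  have hFinj : Function.Injective F := by
    intro g h hgh
    apply hΨinj
    have := algHom_ext_T1
      ((Ψ g : (AlgebraicClosure K)[T;T⁻¹] ≃ₐ[AlgebraicClosure K] (AlgebraicClosure K)[T;T⁻¹]) :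
        (AlgebraicClosure K)[T;T⁻¹] →ₐ[AlgebraicClosure K] (AlgebraicClosure K)[T;T⁻¹])
      (Ψ h) hgh
    exact AlgEquiv.ext fun x => DFunLike.congr_fun this x
  have hA : ∀ g : G, ∀ l, Ψ g (T 1) = C l * T 1 → F g = T 1 ∨ F g = -T 1 := by
    intro g l h
    have h2 := caseA g l h
    have h3 : (l - 1) * (l + 1) = 0 := by linear_combination h2
    rcases mul_eq_zero.mp h3 with h4 | h4
    · left
      have : l = 1 := by linear_combination h4
      change Ψ g (T 1) = T 1
      rw [h, this, map_one, one_mul]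
    · right
      have : l = -1 := by linear_combination h4
      change Ψ g (T 1) = -T 1
      rw [h, this, map_neg, map_one, neg_one_mul]
  by_cases hex : ∃ g₀ : G, ∃ l₀ : AlgebraicClosure K, l₀ ≠ 0 ∧ Ψ g₀ (T 1) = C l₀ * T (-1)
  · obtain ⟨g₀, l₀, hl₀, hg₀⟩ := hex
    have hsub : Set.range F ⊆
        ↑({T 1, -T 1, C l₀ * T (-1), -(C l₀ * T (-1))} :
          Finset (AlgebraicClosure K)[T;T⁻¹]) := by
      rintro _ ⟨g, rfl⟩
      obtain ⟨l, hl, h | h⟩ := aut_T1 (Ψ g)
      · rcases hA g l h with h' | h' <;> simp [h']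
      · have h1 : Ψ (g₀ * g) (T 1) = C (l * l₀⁻¹) * T 1 := by
          rw [map_mul, AlgEquiv.mul_apply, h, map_mul, C_eq_algebraMap, AlgEquiv.commutes,
            ← C_eq_algebraMap, map_Tneg1 _ _ hl₀ hg₀, map_mul]
          ring
        have h2 := caseA (g₀ * g) _ h1
        have h3 : (l - l₀) * (l + l₀) = 0 := by
          have : (l * l₀⁻¹) ^ 2 * l₀ ^ 2 = l ^ 2 := by
            field_simp
          rw [h2, one_mul] at this
          linear_combination -this
        rcases mul_eq_zero.mp h3 with h4 | h4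
        · have : l = l₀ := by linear_combination h4
          have hF : F g = C l₀ * T (-1) := by rw [← this]; exact h
          simp [hF]
        · have : l = -l₀ := by linear_combination h4
          have hF : F g = -(C l₀ * T (-1)) := by
            change Ψ g (T 1) = _
            rw [h, this, map_neg, neg_mul]
          simp [hF]
    calc Nat.card G ≤ _ := card_le_of_range_subset F hFinj _ hsub
      _ ≤ 4 := Finset.card_le_four
  · have hsub : Set.range F ⊆ ↑({T 1, -T 1} : Finset (AlgebraicClosure K)[T;T⁻¹]) := by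
      rintro _ ⟨g, rfl⟩
      obtain ⟨l, hl, h | h⟩ := aut_T1 (Ψ g)
      · rcases hA g l h with h' | h' <;> simp [h']
      · exact absurd ⟨g, l, hl, h⟩ hex
    calc Nat.card G ≤ _ := card_le_of_range_subset F hFinj _ hsub
      _ ≤ 2 := Finset.card_le_two
      _ ≤ 4 := by norm_num

end

end Helper91.PuncLine
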