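import Mathlib

open Polynomial

namespace Helper91.RamPencil

variable {k : Type*} [Field k]

theorem wronskian_mul_mul (h f g : k[X]) :
    wronskian (h * f) (h * g) = h ^ 2 * wronskian f g := by
  simp only [wronskian, derivative_mul]; ring

theorem wronskian_smul_left (c : k) (f g : k[X]) : wronskian (c • f) g = c • wronskian f g := by
  simp only [wronskian, derivative_smul, smul_mul_assoc, mul_smul_comm, smul_sub]

theorem wronskian_smul_right (c : k) (f g : k[X]) : wronskian f (c • g) = c • wronskian f g := by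
  simp only [wronskian, derivative_smul, smul_mul_assoc, mul_smul_comm, smul_sub]

theorem pow_pred_dvd_wronskian_left {a : k} {μ : ℕ} {u : k[X]} (v : k[X])
    (hu : (X - C a) ^ μ ∣ u) : (X - C a) ^ (μ - 1) ∣ wronskian u v := by
  obtain ⟨q, rfl⟩ := hu
  have h1 : (X - C a) ^ (μ - 1) ∣ (X - C a) ^ μ := pow_dvd_pow _ (Nat.sub_le _ _)
  have h2 : (X - C a) ^ (μ - 1) ∣ derivative ((X - C a) ^ μ * q) := by
    rw [derivative_mul, derivative_pow]
    refine dvd_add ?_ (dvd_mul_of_dvd_left h1 _)
    exact dvd_mul_of_dvd_left (dvd_mul_of_dvd_left (dvd_mul_left _ _) _) _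
  exact dvd_sub (dvd_mul_of_dvd_left (dvd_mul_of_dvd_left h1 _) _) (dvd_mul_of_dvd_left h2 _)

theorem pow_pred_dvd_wronskian_right {a : k} {μ : ℕ} {u : k[X]} (v : k[X])
    (hu : (X - C a) ^ μ ∣ u) : (X - C a) ^ (μ - 1) ∣ wronskian v u := by
  rw [← wronskian_neg_eq]
  exact (dvd_neg).mpr (pow_pred_dvd_wronskian_left v hu)

theorem natDegree_wronskian_le {D : ℕ} (hD : 1 ≤ D) {f g : k[X]} (hf : f.natDegree ≤ D)
    (hg : g.natDegree ≤ D) : (wronskian f g).natDegree ≤ 2 * D - 2 := by
  rw [natDegree_le_iff_coeff_eq_zero]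
  intro N hN
  have hf' : (derivative f).natDegree ≤ D - 1 := (natDegree_derivative_le f).trans (by omega)
  have hg' : (derivative g).natDegree ≤ D - 1 := (natDegree_derivative_le g).trans (by omega)
  rcases Nat.lt_or_ge (2 * D - 1) N with h | h
  · have h1 : (f * derivative g).natDegree < N :=
      (natDegree_mul_le.trans (Nat.add_le_add hf hg')).trans_lt (by omega)
    have h2 : (derivative f * g).natDegree < N :=
      (natDegree_mul_le.trans (Nat.add_le_add hf' hg)).trans_lt (by omega)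
    rw [wronskian, coeff_sub, coeff_eq_zero_of_natDegree_lt h1, coeff_eq_zero_of_natDegree_lt h2,
      sub_zero]
  · have hN' : N = D + (D - 1) := by omega
    have hN'' : N = (D - 1) + D := by omega
    rw [wronskian, coeff_sub]
    conv_lhs => rw [hN', coeff_mul_add_eq_of_natDegree_le hf hg']
    conv_lhs => rw [← hN', hN'', coeff_mul_add_eq_of_natDegree_le hf' hg]
    rw [coeff_derivative, coeff_derivative]
    have : D - 1 + 1 = D := by omega
    rw [this]
    have h3 : ((D - 1 : ℕ) : k) + 1 = (D : k) := by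
      rw [← Nat.cast_one (R := k), ← Nat.cast_add, this]
    rw [h3]; ring

theorem add_le_natDegree_of_pow_dvd {P Q : k} (hPQ : P ≠ Q) {e e' : ℕ} {s : k[X]} (hs : s ≠ 0)
    (h1 : (X - C P) ^ e ∣ s) (h2 : (X - C Q) ^ e' ∣ s) : e + e' ≤ s.natDegree := by
  have hc : IsCoprime ((X - C P) ^ e) ((X - C Q) ^ e') :=
    (isCoprime_X_sub_C_of_isUnit_sub (sub_ne_zero.mpr hPQ).isUnit).pow
  have := natDegree_le_of_dvd (hc.mul_dvd h1 h2) hs
  rwa [natDegree_mul (pow_ne_zero _ (X_sub_C_ne_zero _)) (pow_ne_zero _ (X_sub_C_ne_zero _)),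
    natDegree_pow, natDegree_pow, natDegree_X_sub_C, natDegree_X_sub_C, mul_one, mul_one] at this

end Helper91.RamPencil
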