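import Mathlib
import Groth.Agent.Lib.Helper91.RamPencilBasic

/-!
# Pencils of polynomials with three prescribed ramification points (helper91)

* `sum_le_of_wronskian_ne_zero`: Riemann–Hurwitz type bound from the Wronskian.
* `exists_mul_of_three_points`: two 2-dimensional spaces of polynomials of degree `≤ d` with
  prescribed vanishing `e i` at three points, `∑ e i = 2d+1`, the first base point free, differ by
  multiplication by a polynomial.
* `exists_three_point_sections`: existence of sections by a dimension count.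
-/

open Polynomial

namespace Helper91.RamPencil

variable {k : Type*} [Field k]

theorem pow_pred_dvd_wronskian_of_mem_span {f g u : k[X]} (hu : u ∈ Submodule.span k {f, g})
    (hu0 : u ≠ 0) {a : k} {μ : ℕ} (hd : (X - C a) ^ μ ∣ u) :
    (X - C a) ^ (μ - 1) ∣ wronskian f g := by
  obtain ⟨α, β, rfl⟩ := Submodule.mem_span_pair.mp hu
  by_cases hα : α = 0
  · subst hα
    rw [zero_smul, zero_add] at hd hu0
    have hβ : β ≠ 0 := fun h => hu0 (by rw [h, zero_smul])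
    have h1 := pow_pred_dvd_wronskian_right f hd
    rw [wronskian_smul_right] at h1
    have : wronskian f g = β⁻¹ • (β • wronskian f g) := by rw [smul_smul, inv_mul_cancel₀ hβ, one_smul]
    rw [this]
    rw [smul_eq_C_mul]; exact dvd_mul_of_dvd_right h1 _
  · have h1 := pow_pred_dvd_wronskian_left g hd
    rw [wronskian_add_left, wronskian_smul_left, wronskian_smul_left, wronskian_self_eq_zero,
      smul_zero, add_zero] at h1
    have : wronskian f g = α⁻¹ • (α • wronskian f g) := by rw [smul_smul, inv_mul_cancel₀ hα, one_smul]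
    rw [this]
    rw [smul_eq_C_mul]; exact dvd_mul_of_dvd_right h1 _

theorem sum_le_of_wronskian_ne_zero {D : ℕ} {f g : k[X]} (hf : f.natDegree ≤ D)
    (hg : g.natDegree ≤ D) (hw : wronskian f g ≠ 0) (P : Fin 3 → k) (hP : Function.Injective P)
    (m : Fin 3 → ℕ) (hm : ∀ i, 1 ≤ m i)
    (hu : ∀ i, ∃ u ∈ Submodule.span k {f, g}, u ≠ 0 ∧ (X - C (P i)) ^ (m i) ∣ u) :
    (∑ i, m i) + 2 ≤ 2 * D + 3 := by
  have hD : 1 ≤ D := by
    by_contra h
    have hD0 : D = 0 := by omega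
    subst hD0
    apply hw
    rw [eq_C_of_natDegree_eq_zero (Nat.le_zero.mp hf), eq_C_of_natDegree_eq_zero (Nat.le_zero.mp hg)]
    simp [wronskian]
  have hdeg := natDegree_wronskian_le hD hf hg
  have hdvd : ∀ i ∈ (Finset.univ : Finset (Fin 3)), (X - C (P i)) ^ (m i - 1) ∣ wronskian f g := by
    intro i _
    obtain ⟨u, hu1, hu2, hu3⟩ := hu i
    exact pow_pred_dvd_wronskian_of_mem_span hu1 hu2 hu3
  have hcop : ∀ i ∈ (Finset.univ : Finset (Fin 3)), ∀ j ∈ (Finset.univ : Finset (Fin 3)), i ≠ j →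
      IsCoprime ((X - C (P i)) ^ (m i - 1)) ((X - C (P j)) ^ (m j - 1)) := by
    intro i _ j _ hij
    exact (isCoprime_X_sub_C_of_isUnit_sub (sub_ne_zero.mpr (hP.ne hij)).isUnit).pow
  have hprod := Finset.prod_dvd_of_coprime hcop hdvd
  have h2 := natDegree_le_of_dvd hprod hw
  rw [natDegree_prod_of_monic _ _ (fun i _ => (monic_X_sub_C (P i)).pow _)] at h2
  simp only [natDegree_pow, natDegree_X_sub_C, mul_one] at h2
  have h3 : ∑ i, m i = ∑ i, (m i - 1) + 3 := by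
    have : ∀ i, m i = (m i - 1) + 1 := fun i => by have := hm i; omega
    conv_lhs => rw [Finset.sum_congr rfl (fun i _ => this i)]
    rw [Finset.sum_add_distrib]; simp
  omega


theorem natDegree_le_of_mem {d : ℕ} {V : Submodule k k[X]} (hV : V ≤ degreeLE k d) {s : k[X]}
    (hs : s ∈ V) : s.natDegree ≤ d :=
  natDegree_le_iff_degree_le.mpr (mem_degreeLE.mp (hV hs))

theorem eq_span_pair {d : ℕ} {V : Submodule k k[X]} (hV : V ≤ degreeLE k d)
    (hrk : Module.finrank k V = 2) {P Q : k} (hPQ : P ≠ Q) {e e' : ℕ} (hee' : d < e + e')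
    {x y : k[X]} (hx : x ∈ V) (hy : y ∈ V) (hx0 : x ≠ 0) (hy0 : y ≠ 0)
    (hdx : (X - C P) ^ e ∣ x) (hdy : (X - C Q) ^ e' ∣ y) : V = Submodule.span k {x, y} := by
  have hli : LinearIndependent k ![x, y] := by
    rw [LinearIndependent.pair_iff]
    intro a b hab
    by_cases ha : a = 0
    · subst ha
      rw [zero_smul, zero_add] at hab
      exact ⟨rfl, (smul_eq_zero.mp hab).resolve_right hy0⟩
    · exfalso
      have hxe : x = (-(a⁻¹ * b)) • y := by
        have : a • x = -(b • y) := eq_neg_of_add_eq_zero_left hab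
        calc x = a⁻¹ • (a • x) := by rw [smul_smul, inv_mul_cancel₀ ha, one_smul]
          _ = _ := by rw [this, smul_neg, smul_smul, neg_smul]
      have hdy' : (X - C Q) ^ e' ∣ x := by
        rw [hxe, smul_eq_C_mul]; exact dvd_mul_of_dvd_right hdy _
      have := add_le_natDegree_of_pow_dvd hPQ hx0 hdx hdy'
      have := natDegree_le_of_mem hV hx
      omega
  haveI : FiniteDimensional k V := Module.finite_of_finrank_pos (by omega)
  have hle : Submodule.span k {x, y} ≤ V := by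
    rw [Submodule.span_le]
    rintro z (rfl | rfl)
    · exact hx
    · exact hy
  have hfr : Module.finrank k (Submodule.span k ({x, y} : Set k[X])) = 2 := by
    have := finrank_span_eq_card hli
    have hr : Set.range ![x, y] = {x, y} := by
      ext z
      simp only [Set.mem_range, Fin.exists_fin_two, Set.mem_insert_iff, Set.mem_singleton_iff,
        Matrix.cons_val_zero, Matrix.cons_val_one]
      constructor
      · rintro (h | h)
        · exact Or.inl h.symm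
        · exact Or.inr h.symm
      · rintro (h | h)
        · exact Or.inl h.symm
        · exact Or.inr h.symm
    rw [hr] at this
    simpa using this
  exact (Submodule.eq_of_le_of_finrank_eq hle (by rw [hfr, hrk])).symm

theorem exists_normalized_basis {d : ℕ} (P : Fin 3 → k) (hP : Function.Injective P)
    (e : Fin 3 → ℕ) (hed : ∀ i, e i ≤ d) (hsum : ∑ i, e i = 2 * d + 1)
    (V : Submodule k k[X]) (hV : V ≤ degreeLE k d) (hrk : Module.finrank k V = 2)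
    (hs : ∀ i, ∃ s ∈ V, s ≠ 0 ∧ (X - C (P i)) ^ (e i) ∣ s) :
    ∃ t₁ t₂ : k[X], t₁ ∈ V ∧ t₂ ∈ V ∧ t₁ ≠ 0 ∧ t₂ ≠ 0 ∧ V = Submodule.span k {t₁, t₂} ∧
      (X - C (P 0)) ^ (e 0) ∣ t₁ ∧ (X - C (P 1)) ^ (e 1) ∣ t₂ ∧
      (X - C (P 2)) ^ (e 2) ∣ t₁ - t₂ := by
  obtain ⟨s₀, hs₀V, hs₀0, hs₀d⟩ := hs 0
  obtain ⟨s₁, hs₁V, hs₁0, hs₁d⟩ := hs 1
  obtain ⟨s₂, hs₂V, hs₂0, hs₂d⟩ := hs 2
  have hsum' : e 0 + e 1 + e 2 = 2 * d + 1 := by
    rw [← hsum, Fin.sum_univ_three]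
  have h0 := hed 0; have h1 := hed 1; have h2 := hed 2
  have h01 : P 0 ≠ P 1 := hP.ne (by decide)
  have h02 : P 0 ≠ P 2 := hP.ne (by decide)
  have h12 : P 1 ≠ P 2 := hP.ne (by decide)
  have hspan := eq_span_pair hV hrk h01 (by omega) hs₀V hs₁V hs₀0 hs₁0 hs₀d hs₁d
  have hs₂' := hs₂V
  rw [hspan] at hs₂'
  obtain ⟨α, β, hαβ⟩ := Submodule.mem_span_pair.mp hs₂'
  have hα : α ≠ 0 := by
    rintro rfl
    rw [zero_smul, zero_add] at hαβ
    have hd1 : (X - C (P 1)) ^ (e 1) ∣ s₂ := by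
      rw [← hαβ, smul_eq_C_mul]; exact dvd_mul_of_dvd_right hs₁d _
    have := add_le_natDegree_of_pow_dvd h12 hs₂0 hd1 hs₂d
    have := natDegree_le_of_mem hV hs₂V
    omega
  have hβ : β ≠ 0 := by
    rintro rfl
    rw [zero_smul, add_zero] at hαβ
    have hd0 : (X - C (P 0)) ^ (e 0) ∣ s₂ := by
      rw [← hαβ, smul_eq_C_mul]; exact dvd_mul_of_dvd_right hs₀d _
    have := add_le_natDegree_of_pow_dvd h02 hs₂0 hd0 hs₂d
    have := natDegree_le_of_mem hV hs₂V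
    omega
  have ht₁V : α • s₀ ∈ V := V.smul_mem _ hs₀V
  have ht₂V : (-β) • s₁ ∈ V := V.smul_mem _ hs₁V
  have ht₁0 : α • s₀ ≠ 0 := smul_ne_zero hα hs₀0
  have ht₂0 : (-β) • s₁ ≠ 0 := smul_ne_zero (neg_ne_zero.mpr hβ) hs₁0
  have ht₁d : (X - C (P 0)) ^ (e 0) ∣ α • s₀ := by
    rw [smul_eq_C_mul]; exact dvd_mul_of_dvd_right hs₀d _
  have ht₂d : (X - C (P 1)) ^ (e 1) ∣ (-β) • s₁ := by
    rw [smul_eq_C_mul]; exact dvd_mul_of_dvd_right hs₁d _
  refine ⟨α • s₀, (-β) • s₁, ht₁V, ht₂V, ht₁0, ht₂0,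
    eq_span_pair hV hrk h01 (by omega) ht₁V ht₂V ht₁0 ht₂0 ht₁d ht₂d, ht₁d, ht₂d, ?_⟩
  have : α • s₀ - (-β) • s₁ = s₂ := by rw [← hαβ, neg_smul, sub_neg_eq_add]
  rw [this]; exact hs₂d

theorem exists_mul_of_three_points [IsAlgClosed k] {d : ℕ} (P : Fin 3 → k)
    (hP : Function.Injective P) (e : Fin 3 → ℕ) (hed : ∀ i, e i ≤ d)
    (hsum : ∑ i, e i = 2 * d + 1)
    (V V' : Submodule k k[X]) (hV : V ≤ degreeLE k d) (hV' : V' ≤ degreeLE k d)
    (hrk : Module.finrank k V = 2) (hrk' : Module.finrank k V' = 2)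
    (hbpf : ∀ a : k, ∃ s ∈ V, s.eval a ≠ 0)
    (hs : ∀ i, ∃ s ∈ V, s ≠ 0 ∧ (X - C (P i)) ^ (e i) ∣ s)
    (hs' : ∀ i, ∃ s ∈ V', s ≠ 0 ∧ (X - C (P i)) ^ (e i) ∣ s) :
    ∃ h t₁ t₂ : k[X], h ≠ 0 ∧ V = Submodule.span k {t₁, t₂} ∧
      V' = Submodule.span k {h * t₁, h * t₂} := by
  classical
  obtain ⟨t₁, t₂, ht₁V, ht₂V, ht₁0, ht₂0, hVs, hd0, hd1, hd2⟩ :=
    exists_normalized_basis P hP e hed hsum V hV hrk hs
  obtain ⟨u₁, u₂, hu₁V, hu₂V, hu₁0, hu₂0, hVs', hd0', hd1', hd2'⟩ :=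
    exists_normalized_basis P hP e hed hsum V' hV' hrk' hs'
  set W := t₁ * u₂ - u₁ * t₂ with hW
  have hWdeg : W.natDegree ≤ 2 * d := by
    refine (natDegree_sub_le _ _).trans (max_le ?_ ?_)
    · exact natDegree_mul_le.trans (by
        have := natDegree_le_of_mem hV ht₁V; have := natDegree_le_of_mem hV' hu₂V; omega)
    · exact natDegree_mul_le.trans (by
        have := natDegree_le_of_mem hV' hu₁V; have := natDegree_le_of_mem hV ht₂V; omega)
  have hdvd : ∀ i ∈ (Finset.univ : Finset (Fin 3)), (X - C (P i)) ^ (e i) ∣ W := by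
    intro i _
    fin_cases i
    · exact dvd_sub (dvd_mul_of_dvd_left hd0 _) (dvd_mul_of_dvd_left hd0' _)
    · exact dvd_sub (dvd_mul_of_dvd_right hd1' _) (dvd_mul_of_dvd_right hd1 _)
    · have : W = (t₁ - t₂) * u₂ - (u₁ - u₂) * t₂ := by rw [hW]; ring
      rw [this]
      exact dvd_sub (dvd_mul_of_dvd_left hd2 _) (dvd_mul_of_dvd_left hd2' _)
  have hcop : ∀ i ∈ (Finset.univ : Finset (Fin 3)), ∀ j ∈ (Finset.univ : Finset (Fin 3)), i ≠ j →
      IsCoprime ((X - C (P i)) ^ (e i)) ((X - C (P j)) ^ (e j)) := by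
    intro i _ j _ hij
    exact (isCoprime_X_sub_C_of_isUnit_sub (sub_ne_zero.mpr (hP.ne hij)).isUnit).pow
  have hprod := Finset.prod_dvd_of_coprime hcop hdvd
  have hW0 : W = 0 := by
    apply eq_zero_of_dvd_of_natDegree_lt hprod
    rw [natDegree_prod_of_monic _ _ (fun i _ => (monic_X_sub_C (P i)).pow _)]
    simp only [natDegree_pow, natDegree_X_sub_C, mul_one]
    omega
  have hcross : t₁ * u₂ = u₁ * t₂ := sub_eq_zero.mp hW0
  have hcopt : IsCoprime t₁ t₂ := by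
    by_contra hnc
    have hnu : ¬ IsUnit (EuclideanDomain.gcd t₁ t₂) := by
      rwa [EuclideanDomain.gcd_isUnit_iff]
    have hg0 : EuclideanDomain.gcd t₁ t₂ ≠ 0 := by
      intro h
      rw [EuclideanDomain.gcd_eq_zero_iff] at h
      exact ht₁0 h.1
    have hdeg : (EuclideanDomain.gcd t₁ t₂).degree ≠ 0 := by
      intro h
      exact hnu (isUnit_iff_degree_eq_zero.mpr h)
    obtain ⟨a, ha⟩ := IsAlgClosed.exists_root _ hdeg
    obtain ⟨s, hsV, hsa⟩ := hbpf a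
    rw [hVs] at hsV
    obtain ⟨α, β, rfl⟩ := Submodule.mem_span_pair.mp hsV
    apply hsa
    have e1 : t₁.eval a = 0 :=
      eval_eq_zero_of_dvd_of_eval_eq_zero (EuclideanDomain.gcd_dvd_left t₁ t₂) ha
    have e2 : t₂.eval a = 0 :=
      eval_eq_zero_of_dvd_of_eval_eq_zero (EuclideanDomain.gcd_dvd_right t₁ t₂) ha
    simp [e1, e2]
  have hdiv : t₁ ∣ u₁ := by
    apply hcopt.dvd_of_dvd_mul_right
    rw [← hcross]; exact dvd_mul_right _ _
  obtain ⟨h, hh⟩ := hdiv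
  have hh0 : h ≠ 0 := by
    rintro rfl
    exact hu₁0 (by rw [hh, mul_zero])
  have hu₂ : u₂ = h * t₂ := by
    apply mul_left_cancel₀ ht₁0
    rw [hcross, hh]; ring
  refine ⟨h, t₁, t₂, hh0, hVs, ?_⟩
  rw [hVs', hh, hu₂, mul_comm t₁ h]


theorem finrank_degreeLT (n : ℕ) : Module.finrank k (degreeLT k n) = n := by
  rw [(degreeLTEquiv k n).finrank_eq, Module.finrank_fin_fun]

/-- If `u + v = 0`, `(X-P)^e ∣ u`, `(X-Q)^e' ∣ v`, `deg u ≤ d < e + e'`, then `u = 0`. -/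
theorem eq_zero_of_add_eq_zero {d : ℕ} {P Q : k} (hPQ : P ≠ Q) {e e' : ℕ} (hee' : d < e + e')
    {u v : k[X]} (hu : u.natDegree ≤ d) (h : u + v = 0) (h1 : (X - C P) ^ e ∣ u)
    (h2 : (X - C Q) ^ e' ∣ v) : u = 0 := by
  by_contra hu0
  have hv : v = -u := eq_neg_of_add_eq_zero_right h
  have h2' : (X - C Q) ^ e' ∣ u := by rw [hv] at h2; exact (dvd_neg).mp h2
  have := add_le_natDegree_of_pow_dvd hPQ hu0 h1 h2'
  omega

theorem exists_three_point_sections {d : ℕ} (P : Fin 3 → k) (hP : Function.Injective P)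
    (e : Fin 3 → ℕ) (hed : ∀ i, e i ≤ d) (hsum : ∑ i, e i = 2 * d + 1) :
    ∃ s₁ s₂ : k[X], s₁ ≠ 0 ∧ s₂ ≠ 0 ∧ s₁ + s₂ ≠ 0 ∧ s₁.natDegree ≤ d ∧ s₂.natDegree ≤ d ∧
      (X - C (P 0)) ^ (e 0) ∣ s₁ ∧ (X - C (P 1)) ^ (e 1) ∣ s₂ ∧
      (X - C (P 2)) ^ (e 2) ∣ s₁ + s₂ := by
  have hsum' : e 0 + e 1 + e 2 = 2 * d + 1 := by rw [← hsum, Fin.sum_univ_three]
  have h0 := hed 0; have h1 := hed 1; have h2 := hed 2
  have h01 : P 0 ≠ P 1 := hP.ne (by decide)
  have h02 : P 0 ≠ P 2 := hP.ne (by decide)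
  have h12 : P 1 ≠ P 2 := hP.ne (by decide)
  set A : Fin 3 → k[X] := fun i => (X - C (P i)) ^ (e i) with hA
  have hA0 : ∀ i, A i ≠ 0 := fun i => pow_ne_zero _ (X_sub_C_ne_zero _)
  have hAdeg : ∀ i, (A i).natDegree = e i := fun i => by
    simp only [hA, natDegree_pow, natDegree_X_sub_C, mul_one]
  let n : Fin 3 → ℕ := fun i => d + 1 - e i
  let Φ₀ : (degreeLT k (n 0) × degreeLT k (n 1) × degreeLT k (n 2)) →ₗ[k] k[X] :=
    (LinearMap.mulLeft k (A 0)) ∘ₗ (degreeLT k (n 0)).subtype ∘ₗ LinearMap.fst k _ _ +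
    (LinearMap.mulLeft k (A 1)) ∘ₗ (degreeLT k (n 1)).subtype ∘ₗ LinearMap.fst k _ _ ∘ₗ
      LinearMap.snd k _ _ +
    (LinearMap.mulLeft k (A 2)) ∘ₗ (degreeLT k (n 2)).subtype ∘ₗ LinearMap.snd k _ _ ∘ₗ
      LinearMap.snd k _ _
  have hΦ₀ : ∀ x, Φ₀ x = A 0 * (x.1 : k[X]) + A 1 * (x.2.1 : k[X]) + A 2 * (x.2.2 : k[X]) :=
    fun x => rfl
  have hmem : ∀ (i : Fin 3) (g : k[X]), g ∈ degreeLT k (n i) → A i * g ∈ degreeLT k (d + 1) := by
    intro i g hg
    rw [mem_degreeLT] at hg ⊢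
    by_cases hg0 : g = 0
    · subst hg0; rw [mul_zero, degree_zero]; exact WithBot.bot_lt_coe _
    rw [degree_mul, degree_eq_natDegree (hA0 i), degree_eq_natDegree hg0, hAdeg i]
    rw [degree_eq_natDegree hg0] at hg
    have hg' : g.natDegree < n i := by exact_mod_cast hg
    have : e i + g.natDegree < d + 1 := by
      have := hed i
      simp only [n] at hg'
      omega
    exact_mod_cast this
  have hrange : ∀ x, Φ₀ x ∈ degreeLT k (d + 1) := by
    intro x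
    rw [hΦ₀]
    exact Submodule.add_mem _ (Submodule.add_mem _ (hmem 0 _ x.1.2) (hmem 1 _ x.2.1.2))
      (hmem 2 _ x.2.2.2)
  let Φ := Φ₀.codRestrict (degreeLT k (d + 1)) hrange
  have hker : LinearMap.ker Φ ≠ ⊥ := by
    apply LinearMap.ker_ne_bot_of_finrank_lt
    rw [Module.finrank_prod, Module.finrank_prod, finrank_degreeLT, finrank_degreeLT,
      finrank_degreeLT, finrank_degreeLT]
    simp only [n]
    omega
  obtain ⟨x, hxk, hx0⟩ := Submodule.exists_mem_ne_zero_of_ne_bot hker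
  have hx : A 0 * (x.1 : k[X]) + A 1 * (x.2.1 : k[X]) + A 2 * (x.2.2 : k[X]) = 0 := by
    have : Φ x = 0 := hxk
    have h3 := congrArg Subtype.val this
    simpa [Φ, hΦ₀] using h3
  set s₁ := A 0 * (x.1 : k[X]) with hs₁
  set s₂ := A 1 * (x.2.1 : k[X]) with hs₂
  set s₃ := A 2 * (x.2.2 : k[X]) with hs₃
  have hd : ∀ (i : Fin 3) (g : k[X]), g ∈ degreeLT k (n i) → (A i * g).natDegree ≤ d := by
    intro i g hg
    have := hmem i g hg
    rw [mem_degreeLT] at this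
    by_cases h0 : A i * g = 0
    · rw [h0]; simp
    rw [degree_eq_natDegree h0] at this
    have : (A i * g).natDegree < d + 1 := by exact_mod_cast this
    omega
  have hs₁d : s₁.natDegree ≤ d := hd 0 _ x.1.2
  have hs₂d : s₂.natDegree ≤ d := hd 1 _ x.2.1.2
  have hs₃d : s₃.natDegree ≤ d := hd 2 _ x.2.2.2
  have d1 : A 0 ∣ s₁ := dvd_mul_right _ _
  have d2 : A 1 ∣ s₂ := dvd_mul_right _ _
  have d3 : A 2 ∣ s₃ := dvd_mul_right _ _
  -- if all three vanish then x = 0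
  have hall : ¬ (s₁ = 0 ∧ s₂ = 0 ∧ s₃ = 0) := by
    rintro ⟨z1, z2, z3⟩
    apply hx0
    have g0 : (x.1 : k[X]) = 0 := (mul_eq_zero.mp z1).resolve_left (hA0 0)
    have g1 : (x.2.1 : k[X]) = 0 := (mul_eq_zero.mp z2).resolve_left (hA0 1)
    have g2 : (x.2.2 : k[X]) = 0 := (mul_eq_zero.mp z3).resolve_left (hA0 2)
    ext <;> simp [g0, g1, g2]
  have hs₁0 : s₁ ≠ 0 := by
    intro z1
    have hx' : s₂ + s₃ = 0 := by rw [← hx, z1, zero_add]
    have z2 : s₂ = 0 := eq_zero_of_add_eq_zero h12 (by omega) hs₂d hx' d2 d3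
    have z3 : s₃ = 0 := by rw [z2, zero_add] at hx'; exact hx'
    exact hall ⟨z1, z2, z3⟩
  have hs₂0 : s₂ ≠ 0 := by
    intro z2
    have hx' : s₁ + s₃ = 0 := by rw [← hx, z2, add_zero]
    have z1 : s₁ = 0 := eq_zero_of_add_eq_zero h02 (by omega) hs₁d hx' d1 d3
    have z3 : s₃ = 0 := by rw [z1, zero_add] at hx'; exact hx'
    exact hall ⟨z1, z2, z3⟩
  have hs₃0 : s₃ ≠ 0 := by
    intro z3
    have hx' : s₁ + s₂ = 0 := by rw [← hx, z3, add_zero]
    have z1 : s₁ = 0 := eq_zero_of_add_eq_zero h01 (by omega) hs₁d hx' d1 d2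
    have z2 : s₂ = 0 := by rw [z1, zero_add] at hx'; exact hx'
    exact hall ⟨z1, z2, z3⟩
  have hsum3 : s₁ + s₂ = -s₃ := eq_neg_of_add_eq_zero_left hx
  refine ⟨s₁, s₂, hs₁0, hs₂0, ?_, hs₁d, hs₂d, d1, d2, ?_⟩
  · rw [hsum3]; exact neg_ne_zero.mpr hs₃0
  · rw [hsum3]; exact (dvd_neg).mpr d3

end Helper91.RamPencil
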