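import Groth.Prelude.Def_W4c1limliniiiiRamP1
import Mathlib
import Groth.Agent.Lib.Helper91.RamPencil

/-!
# Three-point ramified pencils: uniqueness, inseparable obstruction, existence (helper91)
-/

open Polynomial W4c1limliniiii

namespace Helper91.RamPencil

variable {k : Type*} [Field k]

theorem wronskian_eq_smul_of_mem_span_pair {t₁ t₂ F G : k[X]}
    (hF : F ∈ Submodule.span k {t₁, t₂}) (hG : G ∈ Submodule.span k {t₁, t₂}) :
    ∃ c : k, wronskian F G = c • wronskian t₁ t₂ := by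
  obtain ⟨a, b, rfl⟩ := Submodule.mem_span_pair.mp hF
  obtain ⟨a', b', rfl⟩ := Submodule.mem_span_pair.mp hG
  refine ⟨a * b' - b * a', ?_⟩
  simp only [wronskian, smul_eq_C_mul, derivative_add, derivative_mul, derivative_C, map_sub,
    map_mul, zero_mul, zero_add]
  ring

theorem exists_dvd_of_hasRamIdx {V : Submodule k k[X]} {a : k} {e : ℕ} (h : HasRamIdx V a e) :
    ∃ s ∈ V, s ≠ 0 ∧ (X - C a) ^ e ∣ s := by
  obtain ⟨⟨s, hsV, hs0, hse⟩, _⟩ := h
  exact ⟨s, hsV, hs0, (le_rootMultiplicity_iff hs0).mp hse⟩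

theorem span_pair_C_mul {c : k} (hc : c ≠ 0) (t₁ t₂ : k[X]) :
    Submodule.span k {C c * t₁, C c * t₂} = Submodule.span k ({t₁, t₂} : Set k[X]) := by
  apply le_antisymm
  · rw [Submodule.span_le]
    rintro z (rfl | rfl)
    · rw [← smul_eq_C_mul]
      exact Submodule.smul_mem _ _ (Submodule.subset_span (Set.mem_insert _ _))
    · rw [← smul_eq_C_mul]
      exact Submodule.smul_mem _ _ (Submodule.subset_span (Set.mem_insert_of_mem _ rfl))
  · rw [Submodule.span_le]
    rintro z (rfl | rfl)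
    · have : c⁻¹ • (C c * z) = z := by
        rw [← smul_eq_C_mul, smul_smul, inv_mul_cancel₀ hc, one_smul]
      have hz : c⁻¹ • (C c * z) ∈ Submodule.span k ({C c * z, C c * t₂} : Set k[X]) :=
        Submodule.smul_mem _ _ (Submodule.subset_span (Set.mem_insert _ _))
      rwa [this] at hz
    · have : c⁻¹ • (C c * z) = z := by
        rw [← smul_eq_C_mul, smul_smul, inv_mul_cancel₀ hc, one_smul]
      have hz : c⁻¹ • (C c * z) ∈ Submodule.span k ({C c * t₁, C c * z} : Set k[X]) :=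
        Submodule.smul_mem _ _ (Submodule.subset_span (Set.mem_insert_of_mem _ rfl))
      rwa [this] at hz

theorem adm_sum {p d : ℕ} {e : Fin 3 → ℕ} (he : Admissible p d e) : ∑ i, e i = 2 * d + 1 := by
  have := he.2
  omega

theorem ramMaps_subsingleton [IsAlgClosed k] (p d : ℕ) (P : Fin 3 → k) (hP : Function.Injective P)
    (e : Fin 3 → ℕ) (he : Admissible p d e) : (ramMaps d P e).Subsingleton := by
  intro V hV V' hV'
  obtain ⟨⟨hVle, hVrk, _, hVbpf⟩, _, hVram⟩ := hV
  obtain ⟨⟨hVle', hVrk', _, hVbpf'⟩, _, hVram'⟩ := hV'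
  obtain ⟨h, t₁, t₂, hh0, hVs, hVs'⟩ := exists_mul_of_three_points P hP e (fun i => (he.1 i).2.1)
    (adm_sum he) V V' hVle hVle' hVrk hVrk' hVbpf (fun i => exists_dvd_of_hasRamIdx (hVram i))
    (fun i => exists_dvd_of_hasRamIdx (hVram' i))
  have hdeg : h.degree = 0 := by
    by_contra hd
    obtain ⟨a, ha⟩ := IsAlgClosed.exists_root h hd
    obtain ⟨s, hs, hsa⟩ := hVbpf' a
    rw [hVs'] at hs
    obtain ⟨α, β, rfl⟩ := Submodule.mem_span_pair.mp hs
    apply hsa
    have : h.eval a = 0 := ha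
    simp [this]
  have hc : h = C (h.coeff 0) := eq_C_of_degree_eq_zero hdeg
  have hc0 : h.coeff 0 ≠ 0 := by
    intro h0; rw [h0, map_zero] at hc; exact hh0 hc
  rw [hVs, hVs', hc, span_pair_C_mul hc0]

theorem ramMaps_eq_empty_of_insep [IsAlgClosed k] (p d : ℕ) (P : Fin 3 → k)
    (hP : Function.Injective P) (e : Fin 3 → ℕ) (he : Admissible p d e)
    (V₀ : Submodule k k[X]) (hV₀le : V₀ ≤ degreeLE k d) (hV₀rk : Module.finrank k V₀ = 2)
    (hV₀ : ¬ IsSeparable V₀)
    (hV₀s : ∀ i, ∃ s ∈ V₀, s ≠ 0 ∧ e i ≤ rootMultiplicity (P i) s) :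
    ramMaps d P e = ∅ := by
  rw [Set.eq_empty_iff_forall_notMem]
  intro V hV
  obtain ⟨⟨hVle, hVrk, _, hVbpf⟩, ⟨F, hF, G, hG, hFG⟩, hVram⟩ := hV
  obtain ⟨h, t₁, t₂, hh0, hVs, hVs'⟩ := exists_mul_of_three_points P hP e (fun i => (he.1 i).2.1)
    (adm_sum he) V V₀ hVle hV₀le hVrk hV₀rk hVbpf (fun i => exists_dvd_of_hasRamIdx (hVram i))
    (fun i => by
      obtain ⟨s, hsV, hs0, hse⟩ := hV₀s i
      exact ⟨s, hsV, hs0, (le_rootMultiplicity_iff hs0).mp hse⟩)
  apply hV₀
  rw [hVs] at hF hG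
  obtain ⟨c, hc⟩ := wronskian_eq_smul_of_mem_span_pair hF hG
  have hw : wronskian t₁ t₂ ≠ 0 := by
    intro h0; apply hFG; rw [hc, h0, smul_zero]
  refine ⟨h * t₁, ?_, h * t₂, ?_, ?_⟩
  · rw [hVs']; exact Submodule.subset_span (Set.mem_insert _ _)
  · rw [hVs']; exact Submodule.subset_span (Set.mem_insert_of_mem _ rfl)
  · rw [wronskian_mul_mul]
    exact mul_ne_zero (pow_ne_zero _ hh0) hw


open scoped Classical in
theorem dvd_of_pow_dvd_X_sub_C_mul {a Q : k} {e : ℕ} (he : 1 ≤ e) {u : k[X]}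
    (h : (X - C Q) ^ e ∣ (X - C a) * u) : (X - C Q) ^ (if Q = a then e - 1 else e) ∣ u := by
  split_ifs with hQ
  · subst hQ
    have : (X - C Q) ^ e = (X - C Q) * (X - C Q) ^ (e - 1) := by
      rw [← pow_succ']; congr 1; omega
    rw [this] at h
    exact (mul_dvd_mul_iff_left (X_sub_C_ne_zero Q)).mp h
  · have hc : IsCoprime ((X - C Q) ^ e) (X - C a) :=
      (isCoprime_X_sub_C_of_isUnit_sub (sub_ne_zero.mpr hQ).isUnit).pow_left
    exact hc.dvd_of_dvd_mul_left h

theorem sum_update_succ (e : Fin 3 → ℕ) (i : Fin 3) :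
    ∑ j, (if j = i then e i + 1 else e j) = ∑ j, e j + 1 := by
  have : ∀ j, (if j = i then e i + 1 else e j) = e j + (if j = i then 1 else 0) := by
    intro j; split_ifs with h
    · rw [h]
    · rfl
  rw [Finset.sum_congr rfl (fun j _ => this j), Finset.sum_add_distrib]
  simp

theorem mem_ramMaps_of_sections {d : ℕ} (P : Fin 3 → k) (hP : Function.Injective P)
    (e : Fin 3 → ℕ) (he2 : ∀ i, 2 ≤ e i) (hed : ∀ i, e i ≤ d) (hsum : ∑ i, e i = 2 * d + 1)
    {s₁ s₂ : k[X]} (hs₁0 : s₁ ≠ 0) (hs₂0 : s₂ ≠ 0) (hs₃0 : s₁ + s₂ ≠ 0)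
    (hs₁d : s₁.natDegree ≤ d) (hs₂d : s₂.natDegree ≤ d)
    (d1 : (X - C (P 0)) ^ (e 0) ∣ s₁) (d2 : (X - C (P 1)) ^ (e 1) ∣ s₂)
    (d3 : (X - C (P 2)) ^ (e 2) ∣ s₁ + s₂) (hw : wronskian s₁ s₂ ≠ 0) :
    Submodule.span k {s₁, s₂} ∈ ramMaps d P e := by
  classical
  have hsum' : e 0 + e 1 + e 2 = 2 * d + 1 := by rw [← hsum, Fin.sum_univ_three]
  have h01 : P 0 ≠ P 1 := hP.ne (by decide)
  have h02 : P 0 ≠ P 2 := hP.ne (by decide)
  have h12 : P 1 ≠ P 2 := hP.ne (by decide)
  have hd2 : 2 ≤ d := (he2 0).trans (hed 0)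
  have he1 : ∀ i, 1 ≤ e i := fun i => le_trans (by norm_num) (he2 i)
  set V₁ := Submodule.span k ({s₁, s₂} : Set k[X]) with hV₁
  have m1 : s₁ ∈ V₁ := Submodule.subset_span (Set.mem_insert _ _)
  have m2 : s₂ ∈ V₁ := Submodule.subset_span (Set.mem_insert_of_mem _ rfl)
  have m3 : s₁ + s₂ ∈ V₁ := V₁.add_mem m1 m2
  have hsec : ∀ i, ∃ u ∈ V₁, u ≠ 0 ∧ (X - C (P i)) ^ (e i) ∣ u := by
    intro i; fin_cases i
    · exact ⟨s₁, m1, hs₁0, d1⟩
    · exact ⟨s₂, m2, hs₂0, d2⟩
    · exact ⟨s₁ + s₂, m3, hs₃0, d3⟩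
  have hVle : V₁ ≤ degreeLE k d := by
    rw [hV₁, Submodule.span_le]
    rintro z (rfl | rfl)
    · exact mem_degreeLE.mpr (natDegree_le_iff_degree_le.mp hs₁d)
    · exact mem_degreeLE.mpr (natDegree_le_iff_degree_le.mp hs₂d)
  -- linear independence
  have hli : LinearIndependent k ![s₁, s₂] := by
    rw [LinearIndependent.pair_iff]
    intro a b hab
    by_contra hne
    apply hw
    by_cases ha : a = 0
    · subst ha
      rw [zero_smul, zero_add] at hab
      have hb : b ≠ 0 := fun hb => hne ⟨rfl, hb⟩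
      exact absurd ((smul_eq_zero.mp hab).resolve_left hb) hs₂0
    · have hxe : s₁ = (-(a⁻¹ * b)) • s₂ := by
        have : a • s₁ = -(b • s₂) := eq_neg_of_add_eq_zero_left hab
        calc s₁ = a⁻¹ • (a • s₁) := by rw [smul_smul, inv_mul_cancel₀ ha, one_smul]
          _ = _ := by rw [this, smul_neg, smul_smul, neg_smul]
      rw [hxe, wronskian_smul_left, wronskian_self_eq_zero, smul_zero]
  have hrk : Module.finrank k V₁ = 2 := by
    have := finrank_span_eq_card hli
    have hr : Set.range ![s₁, s₂] = {s₁, s₂} := by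
      ext z
      simp only [Set.mem_range, Fin.exists_fin_two, Set.mem_insert_iff, Set.mem_singleton_iff,
        Matrix.cons_val_zero, Matrix.cons_val_one]
      constructor
      · rintro (h | h)
        · exact Or.inl h.symm
        · exact Or.inr h.symm
      · rintro (h | h)
        · exact Or.inl h.symm
        · exact Or.inr h.symm
    rw [hr] at this
    simpa using this
  -- degree exactly d
  have hdeg : ∃ s ∈ V₁, s.natDegree = d := by
    by_cases c1 : s₁.natDegree = d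
    · exact ⟨s₁, m1, c1⟩
    by_cases c2 : s₂.natDegree = d
    · exact ⟨s₂, m2, c2⟩
    exfalso
    have hs₁d' : s₁.natDegree ≤ d - 1 := by omega
    have hs₂d' : s₂.natDegree ≤ d - 1 := by omega
    have := sum_le_of_wronskian_ne_zero hs₁d' hs₂d' hw P hP e (fun i => (by have := he2 i; omega))
      hsec
    omega
  -- base point free
  have hbpf : ∀ a : k, ∃ s ∈ V₁, s.eval a ≠ 0 := by
    intro a
    by_contra hcon
    push Not at hcon
    have r1 : s₁.eval a = 0 := hcon s₁ m1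
    have r2 : s₂.eval a = 0 := hcon s₂ m2
    obtain ⟨u₁, hu₁⟩ : X - C a ∣ s₁ := dvd_iff_isRoot.mpr r1
    obtain ⟨u₂, hu₂⟩ : X - C a ∣ s₂ := dvd_iff_isRoot.mpr r2
    have hw' : wronskian u₁ u₂ ≠ 0 := by
      intro h0; apply hw; rw [hu₁, hu₂, wronskian_mul_mul, h0, mul_zero]
    have hu₁0 : u₁ ≠ 0 := by rintro rfl; exact hs₁0 (by rw [hu₁, mul_zero])
    have hu₂0 : u₂ ≠ 0 := by rintro rfl; exact hs₂0 (by rw [hu₂, mul_zero])
    have hu₃0 : u₁ + u₂ ≠ 0 := by
      intro h0; apply hs₃0; rw [hu₁, hu₂, ← mul_add, h0, mul_zero]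
    have hu₁d : u₁.natDegree ≤ d - 1 := by
      have : s₁.natDegree = 1 + u₁.natDegree := by
        rw [hu₁, natDegree_mul (X_sub_C_ne_zero a) hu₁0, natDegree_X_sub_C]
      omega
    have hu₂d : u₂.natDegree ≤ d - 1 := by
      have : s₂.natDegree = 1 + u₂.natDegree := by
        rw [hu₂, natDegree_mul (X_sub_C_ne_zero a) hu₂0, natDegree_X_sub_C]
      omega
    let m : Fin 3 → ℕ := fun i => if P i = a then e i - 1 else e i
    have hm1 : ∀ i, 1 ≤ m i := by
      intro i
      have := he2 i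
      simp only [m]
      split_ifs <;> omega
    have n1 : u₁ ∈ Submodule.span k ({u₁, u₂} : Set k[X]) :=
      Submodule.subset_span (Set.mem_insert _ _)
    have n2 : u₂ ∈ Submodule.span k ({u₁, u₂} : Set k[X]) :=
      Submodule.subset_span (Set.mem_insert_of_mem _ rfl)
    have hsec' : ∀ i, ∃ u ∈ Submodule.span k ({u₁, u₂} : Set k[X]), u ≠ 0 ∧
        (X - C (P i)) ^ (m i) ∣ u := by
      intro i; fin_cases i
      · refine ⟨u₁, n1, hu₁0, ?_⟩
        rw [hu₁] at d1
        exact dvd_of_pow_dvd_X_sub_C_mul (he1 _) d1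
      · refine ⟨u₂, n2, hu₂0, ?_⟩
        rw [hu₂] at d2
        exact dvd_of_pow_dvd_X_sub_C_mul (he1 _) d2
      · refine ⟨u₁ + u₂, Submodule.add_mem _ n1 n2, hu₃0, ?_⟩
        rw [hu₁, hu₂, ← mul_add] at d3
        exact dvd_of_pow_dvd_X_sub_C_mul (he1 _) d3
    have hRH := sum_le_of_wronskian_ne_zero hu₁d hu₂d hw' P hP m hm1 hsec'
    have hmsum : 2 * d ≤ ∑ i, m i := by
      rw [Fin.sum_univ_three]
      simp only [m]
      have := he2 0; have := he2 1; have := he2 2
      by_cases c0 : P 0 = a <;> by_cases c1 : P 1 = a <;> by_cases c2 : P 2 = a <;>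
        simp only [c0, c1, c2, if_true, if_false] <;>
        first
        | omega
        | exact absurd (c0.trans c1.symm) h01
        | exact absurd (c0.trans c2.symm) h02
        | exact absurd (c1.trans c2.symm) h12
    omega
  -- exact ramification
  have hram : ∀ i, HasRamIdx V₁ (P i) (e i) := by
    intro i
    refine ⟨?_, ?_⟩
    · obtain ⟨u, huV, hu0, hud⟩ := hsec i
      exact ⟨u, huV, hu0, (le_rootMultiplicity_iff hu0).mpr hud⟩
    · intro s hsV hs0
      by_contra hcon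
      push Not at hcon
      have hsd : (X - C (P i)) ^ (e i + 1) ∣ s := (le_rootMultiplicity_iff hs0).mp hcon
      let m : Fin 3 → ℕ := fun j => if j = i then e i + 1 else e j
      have hm1 : ∀ j, 1 ≤ m j := by
        intro j
        have := he2 j
        simp only [m]
        split_ifs <;> omega
      have hsec' : ∀ j, ∃ u ∈ Submodule.span k ({s₁, s₂} : Set k[X]), u ≠ 0 ∧
          (X - C (P j)) ^ (m j) ∣ u := by
        intro j
        by_cases hj : j = i
        · subst hj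
          refine ⟨s, hsV, hs0, ?_⟩
          simp only [m, if_true]
          exact hsd
        · obtain ⟨u, huV, hu0, hud⟩ := hsec j
          refine ⟨u, huV, hu0, ?_⟩
          simp only [m, if_neg hj]
          exact hud
      have hRH := sum_le_of_wronskian_ne_zero hs₁d hs₂d hw P hP m hm1 hsec'
      have : ∑ j, m j = ∑ j, e j + 1 := sum_update_succ e i
      omega
  exact ⟨⟨hVle, hrk, hdeg, hbpf⟩, ⟨s₁, m1, s₂, m2, hw⟩, hram⟩


theorem finrank_span_pair_of_pow_dvd {d : ℕ} {P Q : k} (hPQ : P ≠ Q) {e e' : ℕ} (hee' : d < e + e')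
    {x y : k[X]} (hx0 : x ≠ 0) (hy0 : y ≠ 0) (hxd : x.natDegree ≤ d)
    (hdx : (X - C P) ^ e ∣ x) (hdy : (X - C Q) ^ e' ∣ y) :
    Module.finrank k (Submodule.span k ({x, y} : Set k[X])) = 2 := by
  have hli : LinearIndependent k ![x, y] := by
    rw [LinearIndependent.pair_iff]
    intro a b hab
    by_cases ha : a = 0
    · subst ha
      rw [zero_smul, zero_add] at hab
      exact ⟨rfl, (smul_eq_zero.mp hab).resolve_right hy0⟩
    · exfalso
      have hxe : x = (-(a⁻¹ * b)) • y := by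
        have : a • x = -(b • y) := eq_neg_of_add_eq_zero_left hab
        calc x = a⁻¹ • (a • x) := by rw [smul_smul, inv_mul_cancel₀ ha, one_smul]
          _ = _ := by rw [this, smul_neg, smul_smul, neg_smul]
      have hdy' : (X - C Q) ^ e' ∣ x := by
        rw [hxe, smul_eq_C_mul]; exact dvd_mul_of_dvd_right hdy _
      have := add_le_natDegree_of_pow_dvd hPQ hx0 hdx hdy'
      omega
  have := finrank_span_eq_card hli
  have hr : Set.range ![x, y] = {x, y} := by
    ext z
    simp only [Set.mem_range, Fin.exists_fin_two, Set.mem_insert_iff, Set.mem_singleton_iff,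
      Matrix.cons_val_zero, Matrix.cons_val_one]
    constructor
    · rintro (h | h)
      · exact Or.inl h.symm
      · exact Or.inr h.symm
    · rintro (h | h)
      · exact Or.inl h.symm
      · exact Or.inr h.symm
  rw [hr] at this
  simpa using this

/-- The full three-point statement (S13918). -/
theorem three_point_main [IsAlgClosed k] (p d : ℕ) (P : Fin 3 → k) (hP : Function.Injective P)
    (e : Fin 3 → ℕ) (he : Admissible p d e) :
    (ramMaps d P e).Subsingleton ∧
      (ramMaps d P e = ∅ ↔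
        ∃ V : Submodule k k[X], V ≤ Polynomial.degreeLE k d ∧ Module.finrank k V = 2 ∧
          ¬ IsSeparable V ∧
          ∀ i, ∃ s ∈ V, s ≠ 0 ∧ e i ≤ Polynomial.rootMultiplicity (P i) s) := by
  have hed : ∀ i, e i ≤ d := fun i => (he.1 i).2.1
  have he2 : ∀ i, 2 ≤ e i := fun i => (he.1 i).1
  have hsum := adm_sum he
  have hsum' : e 0 + e 1 + e 2 = 2 * d + 1 := by rw [← hsum, Fin.sum_univ_three]
  refine ⟨ramMaps_subsingleton p d P hP e he, ⟨fun hempty => ?_, ?_⟩⟩
  · obtain ⟨s₁, s₂, hs₁0, hs₂0, hs₃0, hs₁d, hs₂d, d1, d2, d3⟩ :=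
      exists_three_point_sections P hP e hed hsum
    by_cases hw : wronskian s₁ s₂ = 0
    · have m1 : s₁ ∈ Submodule.span k ({s₁, s₂} : Set k[X]) :=
        Submodule.subset_span (Set.mem_insert _ _)
      have m2 : s₂ ∈ Submodule.span k ({s₁, s₂} : Set k[X]) :=
        Submodule.subset_span (Set.mem_insert_of_mem _ rfl)
      refine ⟨Submodule.span k {s₁, s₂}, ?_, ?_, ?_, ?_⟩
      · rw [Submodule.span_le]
        rintro z (rfl | rfl)
        · exact mem_degreeLE.mpr (natDegree_le_iff_degree_le.mp hs₁d)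
        · exact mem_degreeLE.mpr (natDegree_le_iff_degree_le.mp hs₂d)
      · have h0 := hed 2
        exact finrank_span_pair_of_pow_dvd (hP.ne (by decide : (0 : Fin 3) ≠ 1)) (by omega)
          hs₁0 hs₂0 hs₁d d1 d2
      · rintro ⟨F, hF, G, hG, hFG⟩
        obtain ⟨c, hc⟩ := wronskian_eq_smul_of_mem_span_pair hF hG
        apply hFG
        rw [hc, hw, smul_zero]
      · intro i; fin_cases i
        · exact ⟨s₁, m1, hs₁0, (le_rootMultiplicity_iff hs₁0).mpr d1⟩
        · exact ⟨s₂, m2, hs₂0, (le_rootMultiplicity_iff hs₂0).mpr d2⟩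
        · exact ⟨s₁ + s₂, Submodule.add_mem _ m1 m2, hs₃0, (le_rootMultiplicity_iff hs₃0).mpr d3⟩
    · exfalso
      have := mem_ramMaps_of_sections P hP e he2 hed hsum hs₁0 hs₂0 hs₃0 hs₁d hs₂d d1 d2 d3 hw
      rw [hempty] at this
      exact this
  · rintro ⟨V₀, h1, h2, h3, h4⟩
    exact ramMaps_eq_empty_of_insep p d P hP e he V₀ h1 h2 h3 h4

end Helper91.RamPencil
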