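import Groth.Prelude.Def_W4c1limliniiiiRamP1
import Mathlib
import Groth.Agent.Lib.Helper91.RamPencilMain

/-!
# Three-point ramified pencils: the count in characteristic `p` (helper91)
-/

open Polynomial W4c1limliniiii

namespace Helper91.RamPencil

variable {k : Type*} [Field k]

theorem natCast_ne_zero_of_lt (p : ℕ) [CharP k p] {d : ℕ} (hp : p = 0 ∨ d < p) {n : ℕ}
    (hn0 : n ≠ 0) (hnd : n ≤ d) : (n : k) ≠ 0 := by
  intro h
  rw [CharP.cast_eq_zero_iff k p] at h
  rcases hp with rfl | hp
  · exact hn0 (Nat.eq_zero_of_zero_dvd h)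
  · have := Nat.le_of_dvd (Nat.pos_of_ne_zero hn0) h
    omega

theorem wronskian_ne_zero_of_natDegree_lt (p : ℕ) [CharP k p] {d : ℕ} (hp : p = 0 ∨ d < p)
    {F G : k[X]} (hFd : F.natDegree ≤ d) (hG0 : G ≠ 0) (hlt : G.natDegree < F.natDegree) :
    wronskian F G ≠ 0 := by
  have hF0 : F ≠ 0 := by rintro rfl; simp at hlt
  set n := F.natDegree with hn
  set m := G.natDegree with hm
  have hn1 : 1 ≤ n := by omega
  have hF' : (derivative F).natDegree ≤ n - 1 := natDegree_derivative_le F
  have hlcF : F.coeff n ≠ 0 := by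
    rw [hn]; exact leadingCoeff_ne_zero.mpr hF0
  have hlcG : G.coeff m ≠ 0 := by
    rw [hm]; exact leadingCoeff_ne_zero.mpr hG0
  have hcF' : (derivative F).coeff (n - 1) = F.coeff n * (n : k) := by
    rw [coeff_derivative]
    have : n - 1 + 1 = n := by omega
    rw [this]
    congr 1
    rw [← Nat.cast_one (R := k), ← Nat.cast_add, this]
  intro hw
  have hcoeff : (wronskian F G).coeff (n - 1 + m) = 0 := by rw [hw, coeff_zero]
  rw [wronskian, coeff_sub, coeff_mul_add_eq_of_natDegree_le hF' le_rfl, hcF'] at hcoeff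
  by_cases hm0 : m = 0
  · have hGc : derivative G = 0 := by
      have hG0' : G.natDegree = 0 := hm0
      rw [eq_C_of_natDegree_eq_zero hG0', derivative_C]
    rw [hGc, mul_zero, coeff_zero, zero_sub, neg_eq_zero] at hcoeff
    rcases mul_eq_zero.mp hcoeff with h | h
    · rcases mul_eq_zero.mp h with h | h
      · exact hlcF h
      · exact natCast_ne_zero_of_lt p hp (by omega) hFd h
    · exact hlcG h
  · have hG' : (derivative G).natDegree ≤ m - 1 := natDegree_derivative_le G
    have hidx : n - 1 + m = n + (m - 1) := by omega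
    have hcG' : (derivative G).coeff (m - 1) = G.coeff m * (m : k) := by
      rw [coeff_derivative]
      have : m - 1 + 1 = m := by omega
      rw [this]
      congr 1
      rw [← Nat.cast_one (R := k), ← Nat.cast_add, this]
    rw [hidx, coeff_mul_add_eq_of_natDegree_le le_rfl hG', hcG'] at hcoeff
    have hnm : ((n - m : ℕ) : k) ≠ 0 := natCast_ne_zero_of_lt p hp (by omega) (by omega)
    apply hnm
    rw [Nat.cast_sub hlt.le]
    have : F.coeff n * G.coeff m * ((n : k) - (m : k)) = 0 := by
      linear_combination -hcoeff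
    rcases mul_eq_zero.mp this with h | h
    · rcases mul_eq_zero.mp h with h | h
      · exact absurd h hlcF
      · exact absurd h hlcG
    · exact h

theorem isSeparable_of_finrank_two (p : ℕ) [CharP k p] {d : ℕ} (hp : p = 0 ∨ d < p)
    {V : Submodule k k[X]} (hV : V ≤ degreeLE k d) (hrk : Module.finrank k V = 2) :
    IsSeparable V := by
  haveI : Module.Finite k V := Module.finite_of_finrank_pos (by omega)
  let b := Module.finBasisOfFinrankEq k V hrk
  set f₀ : k[X] := (b 0 : k[X]) with hf₀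
  set f₁ : k[X] := (b 1 : k[X]) with hf₁
  have hf₀V : f₀ ∈ V := (b 0).2
  have hf₁V : f₁ ∈ V := (b 1).2
  have hli : ∀ a c : k, a • f₀ + c • f₁ = 0 → a = 0 ∧ c = 0 := by
    intro a c h
    have h' : a • b 0 + c • b 1 = 0 := by
      apply Subtype.ext
      simpa using h
    have := LinearIndependent.pair_iff.mp
      (show LinearIndependent k ![b 0, b 1] by
        convert b.linearIndependent using 1
        ext i; fin_cases i <;> rfl) a c h'
    exact this
  have hf₀0 : f₀ ≠ 0 := by
    intro h
    have := hli 1 0 (by rw [h]; simp)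
    exact one_ne_zero this.1
  have hf₁0 : f₁ ≠ 0 := by
    intro h
    have := hli 0 1 (by rw [h]; simp)
    exact one_ne_zero this.2
  have hd₀ := natDegree_le_of_mem hV hf₀V
  have hd₁ := natDegree_le_of_mem hV hf₁V
  rcases lt_trichotomy f₀.natDegree f₁.natDegree with h | h | h
  · exact ⟨f₁, hf₁V, f₀, hf₀V, wronskian_ne_zero_of_natDegree_lt p hp hd₁ hf₀0 h⟩
  · -- equal degrees: reduce
    set c := f₁.leadingCoeff / f₀.leadingCoeff with hc
    set G := f₁ - c • f₀ with hG
    have hGV : G ∈ V := V.sub_mem hf₁V (V.smul_mem _ hf₀V)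
    have hG0 : G ≠ 0 := by
      intro h0
      have := hli (-c) 1 (by rw [neg_smul, one_smul, neg_add_eq_sub]; exact h0)
      exact one_ne_zero this.2
    have hlc : f₁.leadingCoeff = (c • f₀).leadingCoeff := by
      rw [smul_eq_C_mul, leadingCoeff_mul, leadingCoeff_C, hc,
        div_mul_cancel₀ _ (leadingCoeff_ne_zero.mpr hf₀0)]
    have hc0 : c ≠ 0 := div_ne_zero (leadingCoeff_ne_zero.mpr hf₁0) (leadingCoeff_ne_zero.mpr hf₀0)
    have hdeg : f₁.degree = (c • f₀).degree := by
      rw [smul_eq_C_mul, degree_C_mul hc0, degree_eq_natDegree hf₁0, degree_eq_natDegree hf₀0, h]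
    have hlt : G.degree < f₁.degree := degree_sub_lt_left hdeg hf₁0 hlc
    have hlt' : G.natDegree < f₁.natDegree := natDegree_lt_natDegree hG0 hlt
    exact ⟨f₁, hf₁V, G, hGV, wronskian_ne_zero_of_natDegree_lt p hp hd₁ hG0 hlt'⟩
  · exact ⟨f₀, hf₀V, f₁, hf₁V, wronskian_ne_zero_of_natDegree_lt p hp hd₀ hf₁0 h⟩


/-- The inseparable pencil `g · ⟨1, X^p⟩`, `g = (X - P₂)^(d-p)`, obstructing three-point maps. -/
theorem ramMaps_eq_empty_of_lt_char [IsAlgClosed k] (p : ℕ) [CharP k p] (d : ℕ) (P : Fin 3 → k)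
    (hP : Function.Injective P) (e : Fin 3 → ℕ) (he : Admissible p d e)
    (hp0 : p ≠ 0) (h0 : e 0 < p) (h1 : e 1 < p) (hpd : p ≤ d) : ramMaps d P e = ∅ := by
  have hprime : p.Prime := (CharP.char_is_prime_or_zero k p).resolve_right hp0
  haveI : Fact p.Prime := ⟨hprime⟩
  set g : k[X] := (X - C (P 2)) ^ (d - p) with hg
  have hg0 : g ≠ 0 := pow_ne_zero _ (X_sub_C_ne_zero _)
  have hgdeg : g.natDegree = d - p := by
    rw [hg, natDegree_pow, natDegree_X_sub_C, mul_one]
  set V₀ := Submodule.span k ({g, g * X ^ p} : Set k[X]) with hV₀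
  have m1 : g ∈ V₀ := Submodule.subset_span (Set.mem_insert _ _)
  have m2 : g * X ^ p ∈ V₀ := Submodule.subset_span (Set.mem_insert_of_mem _ rfl)
  -- g * (X - C a)^p ∈ V₀
  have hfrob : ∀ a : k, g * (X - C a) ^ p = g * X ^ p - (a ^ p) • g := by
    intro a
    rw [sub_pow_char, ← C_pow, smul_eq_C_mul]; ring
  have hmem : ∀ a : k, g * (X - C a) ^ p ∈ V₀ := by
    intro a
    rw [hfrob]
    exact V₀.sub_mem m2 (V₀.smul_mem _ m1)
  have hne : ∀ a : k, g * (X - C a) ^ p ≠ 0 := fun a =>
    mul_ne_zero hg0 (pow_ne_zero _ (X_sub_C_ne_zero _))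
  apply ramMaps_eq_empty_of_insep p d P hP e he V₀
  · rw [hV₀, Submodule.span_le]
    rintro z (rfl | rfl)
    · exact mem_degreeLE.mpr (natDegree_le_iff_degree_le.mp (by rw [hgdeg]; omega))
    · refine mem_degreeLE.mpr (natDegree_le_iff_degree_le.mp ?_)
      rw [natDegree_mul hg0 (pow_ne_zero _ X_ne_zero), hgdeg, natDegree_X_pow]
      omega
  · -- finrank 2
    have hli : LinearIndependent k ![g, g * X ^ p] := by
      rw [LinearIndependent.pair_iff]
      intro a b hab
      have h2 : g * (C a + C b * X ^ p) = 0 := by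
        rw [← hab, smul_eq_C_mul, smul_eq_C_mul]; ring
      have h3 : C a + C b * X ^ p = 0 := (mul_eq_zero.mp h2).resolve_left hg0
      have ha : a = 0 := by
        have := congrArg (fun q => coeff q 0) h3
        simpa [coeff_X_pow, hp0.symm] using this
      have hb : b = 0 := by
        have := congrArg (fun q => coeff q p) h3
        simpa [coeff_X_pow, coeff_C, hp0] using this
      exact ⟨ha, hb⟩
    have := finrank_span_eq_card hli
    have hr : Set.range ![g, g * X ^ p] = {g, g * X ^ p} := by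
      ext z
      simp only [Set.mem_range, Fin.exists_fin_two, Set.mem_insert_iff, Set.mem_singleton_iff,
        Matrix.cons_val_zero, Matrix.cons_val_one]
      constructor
      · rintro (h | h)
        · exact Or.inl h.symm
        · exact Or.inr h.symm
      · rintro (h | h)
        · exact Or.inl h.symm
        · exact Or.inr h.symm
    rw [hr] at this
    simpa using this
  · -- inseparable
    rintro ⟨F, hF, G, hG, hFG⟩
    obtain ⟨c, hc⟩ := wronskian_eq_smul_of_mem_span_pair hF hG
    apply hFG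
    rw [hc]
    have : wronskian g (g * X ^ p) = 0 := by
      have h1 : wronskian (g * 1) (g * X ^ p) = g ^ 2 * wronskian 1 (X ^ p) :=
        wronskian_mul_mul g 1 (X ^ p)
      rw [mul_one] at h1
      rw [h1]
      have : wronskian (1 : k[X]) (X ^ p) = 0 := by
        simp [wronskian, derivative_X_pow, CharP.cast_eq_zero k p]
      rw [this, mul_zero]
    rw [this, smul_zero]
  · intro i
    fin_cases i
    · refine ⟨g * (X - C (P 0)) ^ p, hmem _, hne _, ?_⟩
      rw [le_rootMultiplicity_iff (hne _)]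
      exact dvd_mul_of_dvd_right (pow_dvd_pow _ h0.le) _
    · refine ⟨g * (X - C (P 1)) ^ p, hmem _, hne _, ?_⟩
      rw [le_rootMultiplicity_iff (hne _)]
      exact dvd_mul_of_dvd_right (pow_dvd_pow _ h1.le) _
    · refine ⟨g * (X - C (P 2)) ^ p, hmem _, hne _, ?_⟩
      rw [le_rootMultiplicity_iff (hne _)]
      have : g * (X - C (P 2)) ^ p = (X - C (P 2)) ^ d := by
        rw [hg, ← pow_add]; congr 1; omega
      rw [this]
      exact pow_dvd_pow _ (he.1 2).2.1


theorem three_point_count [IsAlgClosed k] (p : ℕ) [CharP k p] (d : ℕ) (P : Fin 3 → k)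
    (hP : Function.Injective P) (e : Fin 3 → ℕ) (he : Admissible p d e) :
    (p ≠ 0 → e 0 < p → e 1 < p → p ≤ d → ramMaps d P e = ∅) ∧
      (p = 0 ∨ d < p → ∃ V : Submodule k k[X], ramMaps d P e = {V}) := by
  refine ⟨fun hp0 h0 h1 hpd => ramMaps_eq_empty_of_lt_char p d P hP e he hp0 h0 h1 hpd,
    fun hp => ?_⟩
  have main := three_point_main p d P hP e he
  have hne : (ramMaps d P e).Nonempty := by
    rw [Set.nonempty_iff_ne_empty]
    intro hempty
    obtain ⟨V₀, h1, h2, h3, _⟩ := main.2.mp hempty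
    exact h3 (isSeparable_of_finrank_two p hp h1 h2)
  obtain ⟨V, hV⟩ := hne
  exact ⟨V, main.1.eq_singleton_of_mem hV⟩

end Helper91.RamPencil
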