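import Groth.Prelude.Def_W4c1limliniiiiRamP1
import Mathlib
import Groth.Agent.Lib.Helper91.RamPencilMain

open Polynomial W4c1limliniiii

namespace Helper91.RamPencil

variable {k : Type*} [Field k]

/-- Local formula for the Wronskian at a point where `s` vanishes to order `μ`. -/
theorem wronskian_local_formula (a : k) (μ : ℕ) (hμ : 1 ≤ μ) (s₁ t : k[X]) :
    wronskian ((X - C a) ^ μ * s₁) t =
      (X - C a) ^ (μ - 1) *
        ((X - C a) * (s₁ * derivative t - derivative s₁ * t) - C (μ : k) * (s₁ * t)) := by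
  have hpow : (X - C a) ^ μ = (X - C a) ^ (μ - 1) * (X - C a) := by
    rw [← pow_succ]; congr 1; omega
  simp only [wronskian, derivative_mul, derivative_pow, derivative_sub, derivative_X, derivative_C,
    sub_zero, mul_one]
  rw [hpow]
  ring

theorem wronskian_local_ne_zero (a : k) (μ : ℕ) (hμ : 1 ≤ μ) (hμk : (μ : k) ≠ 0) (s₁ t : k[X])
    (hs₁ : s₁.eval a ≠ 0) (ht : t.eval a ≠ 0) :
    wronskian ((X - C a) ^ μ * s₁) t ≠ 0 ∧
      rootMultiplicity a (wronskian ((X - C a) ^ μ * s₁) t) = μ - 1 := by
  rw [wronskian_local_formula a μ hμ]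
  set B := (X - C a) * (s₁ * derivative t - derivative s₁ * t) - C (μ : k) * (s₁ * t) with hB
  have hBa : B.eval a ≠ 0 := by
    simp only [hB, eval_sub, eval_mul, eval_X, eval_C, sub_self, zero_mul, zero_sub, neg_ne_zero]
    exact mul_ne_zero hμk (mul_ne_zero hs₁ ht)
  have hB0 : B ≠ 0 := by rintro h; rw [h, eval_zero] at hBa; exact hBa rfl
  have hne : (X - C a) ^ (μ - 1) * B ≠ 0 := mul_ne_zero (pow_ne_zero _ (X_sub_C_ne_zero a)) hB0
  refine ⟨hne, ?_⟩
  rw [rootMultiplicity_mul hne, rootMultiplicity_X_sub_C_pow,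
    rootMultiplicity_eq_zero (by simpa [IsRoot.def] using hBa), add_zero]

theorem pow_dvd_wronskian_local (a : k) (μ : ℕ) (hμ : 1 ≤ μ) (hμk : (μ : k) = 0) (s₁ t : k[X]) :
    (X - C a) ^ μ ∣ wronskian ((X - C a) ^ μ * s₁) t := by
  rw [wronskian_local_formula a μ hμ, hμk, map_zero, zero_mul, sub_zero, ← mul_assoc, ← pow_succ]
  have : μ - 1 + 1 = μ := by omega
  rw [this]
  exact dvd_mul_right _ _

theorem wronskian_pair (f g : k[X]) (α β γ δ : k) :
    wronskian (α • f + β • g) (γ • f + δ • g) = (α * δ - β * γ) • wronskian f g := by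
  simp only [wronskian, smul_eq_C_mul, derivative_add, derivative_mul, derivative_C, map_sub,
    map_mul, zero_mul, zero_add]
  ring

theorem linearIndependent_of_wronskian_ne_zero {f g : k[X]} (hw : wronskian f g ≠ 0) :
    LinearIndependent k ![f, g] := by
  rw [LinearIndependent.pair_iff]
  intro α β hab
  have h1 : wronskian (α • f + β • g) ((0 : k) • f + (1 : k) • g) = 0 := by
    rw [hab, wronskian_zero_left]
  have h2 : wronskian ((1 : k) • f + (0 : k) • g) (α • f + β • g) = 0 := by
    rw [hab, wronskian_zero_right]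
  rw [wronskian_pair] at h1 h2
  simp only [mul_one, mul_zero, sub_zero, one_mul, zero_mul] at h1 h2
  exact ⟨(smul_eq_zero.mp h1).resolve_right hw, (smul_eq_zero.mp h2).resolve_right hw⟩

theorem range_pair (x y : k[X]) : Set.range ![x, y] = {x, y} := by
  ext z
  simp only [Set.mem_range, Fin.exists_fin_two, Set.mem_insert_iff, Set.mem_singleton_iff,
    Matrix.cons_val_zero, Matrix.cons_val_one]
  constructor
  · rintro (h | h)
    · exact Or.inl h.symm
    · exact Or.inr h.symm
  · rintro (h | h)
    · exact Or.inl h.symm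
    · exact Or.inr h.symm

theorem finrank_span_pair_of_linearIndependent {x y : k[X]} (hli : LinearIndependent k ![x, y]) :
    Module.finrank k (Submodule.span k ({x, y} : Set k[X])) = 2 := by
  have := finrank_span_eq_card hli
  rw [range_pair] at this
  simpa using this

theorem eq_span_pair_of_linearIndependent {V : Submodule k k[X]}
    (hrk : Module.finrank k V = 2) {x y : k[X]} (hx : x ∈ V) (hy : y ∈ V)
    (hli : LinearIndependent k ![x, y]) : V = Submodule.span k {x, y} := by
  have : FiniteDimensional k V := Module.finite_of_finrank_pos (by omega)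
  have hle : Submodule.span k {x, y} ≤ V := by
    rw [Submodule.span_le]
    rintro z (rfl | rfl)
    · exact hx
    · exact hy
  exact (Submodule.eq_of_le_of_finrank_eq hle
    (by rw [finrank_span_pair_of_linearIndependent hli, hrk])).symm

theorem rootMultiplicity_smul {c : k} (hc : c ≠ 0) (a : k) (w : k[X]) :
    rootMultiplicity a (c • w) = rootMultiplicity a w := by
  by_cases hw : w = 0
  · rw [hw, smul_zero]
  · rw [smul_eq_C_mul, rootMultiplicity_mul (mul_ne_zero (C_ne_zero.mpr hc) hw),
      rootMultiplicity_C, zero_add]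

/-- Core local analysis: the order of vanishing of the Wronskian of a pencil at `a`, in terms of a
section vanishing at `a` and one not vanishing there. -/
theorem wronskian_core {f g s t : k[X]} (_hw : wronskian f g ≠ 0)
    (hs : s ∈ Submodule.span k {f, g}) (ht : t ∈ Submodule.span k {f, g}) (hs0 : s ≠ 0) {a : k}
    (hsa : s.eval a = 0) (hta : t.eval a ≠ 0) :
    ((rootMultiplicity a s : k) ≠ 0 →
        rootMultiplicity a (wronskian f g) = rootMultiplicity a s - 1) ∧
      ((rootMultiplicity a s : k) = 0 → (X - C a) ^ rootMultiplicity a s ∣ wronskian f g) := by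
  obtain ⟨α, β, hαβ⟩ := Submodule.mem_span_pair.mp hs
  obtain ⟨γ, δ, hγδ⟩ := Submodule.mem_span_pair.mp ht
  have hst : wronskian s t = (α * δ - β * γ) • wronskian f g := by
    rw [← hαβ, ← hγδ, wronskian_pair]
  have hc : α * δ - β * γ ≠ 0 := by
    intro h0
    have e1 : δ • s - β • t = 0 := by
      rw [← hαβ, ← hγδ]
      have : δ • (α • f + β • g) - β • (γ • f + δ • g) = (α * δ - β * γ) • f := by
        simp only [smul_add, smul_smul, sub_smul]
        rw [mul_comm δ α, mul_comm δ β]; abel
      rw [this, h0, zero_smul]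
    have e2 : γ • s - α • t = 0 := by
      rw [← hαβ, ← hγδ]
      have : γ • (α • f + β • g) - α • (γ • f + δ • g) = (-(α * δ - β * γ)) • g := by
        simp only [smul_add, smul_smul, sub_smul, neg_smul]
        rw [mul_comm γ α, mul_comm γ β]; abel
      rw [this, h0, neg_zero, zero_smul]
    have e1' := congrArg (eval a) e1
    have e2' := congrArg (eval a) e2
    simp only [eval_sub, eval_smul, hsa, smul_eq_mul, mul_zero, zero_sub, eval_zero,
      neg_eq_zero, mul_eq_zero, hta, or_false] at e1' e2'
    apply hs0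
    rw [← hαβ, e1', e2', zero_smul, zero_smul, add_zero]
  set μ := rootMultiplicity a s with hμdef
  have hμ1 : 1 ≤ μ := by
    have : 0 < rootMultiplicity a s := (rootMultiplicity_pos hs0).mpr hsa
    omega
  obtain ⟨s₁, hs₁, hs₁nd⟩ := exists_eq_pow_rootMultiplicity_mul_and_not_dvd s hs0 a
  have hs₁a : s₁.eval a ≠ 0 := by
    intro h; exact hs₁nd (dvd_iff_isRoot.mpr h)
  have hw' : wronskian f g = (α * δ - β * γ)⁻¹ • wronskian s t := by
    rw [hst, smul_smul, inv_mul_cancel₀ hc, one_smul]
  constructor
  · intro hμk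
    have := (wronskian_local_ne_zero a μ hμ1 hμk s₁ t hs₁a hta).2
    rw [hw', rootMultiplicity_smul (inv_ne_zero hc), hs₁]
    exact this
  · intro hμk
    have := pow_dvd_wronskian_local a μ hμ1 hμk s₁ t
    rw [hw', smul_eq_C_mul, hs₁]
    exact dvd_mul_of_dvd_right this _

end Helper91.RamPencil
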