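import Groth.Prelude.Def_W4c1limliniiiiRamP1
import Mathlib
import Groth.Agent.Lib.Helper91.RamPencilMain
import Groth.Agent.Lib.Helper91.RamPencilLocal

open Polynomial W4c1limliniiii

namespace Helper91.RamPencil

variable {k : Type*} [Field k]

theorem hasRamIdx_of_rootMultiplicity_wronskian (p : ℕ) [CharP k p] {f g : k[X]}
    (hw : wronskian f g ≠ 0) {a : k} (hbpf : ∃ t ∈ Submodule.span k {f, g}, t.eval a ≠ 0)
    {ε : ℕ} (hε1 : 1 ≤ ε) (hεp : ε < p)
    (hord : rootMultiplicity a (wronskian f g) = ε - 1) :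
    HasRamIdx (Submodule.span k {f, g}) a ε := by
  constructor
  · obtain ⟨t, ht, hta⟩ := hbpf
    obtain ⟨γ, δ, hγδ⟩ := Submodule.mem_span_pair.mp ht
    set s : k[X] := (g.eval a) • f + (-(f.eval a)) • g with hs
    have hsV : s ∈ Submodule.span k {f, g} := Submodule.mem_span_pair.mpr ⟨_, _, rfl⟩
    have hsa : s.eval a = 0 := by
      simp only [hs, eval_add, eval_smul, smul_eq_mul]; ring
    have hst : wronskian s t = (t.eval a) • wronskian f g := by
      rw [hs, ← hγδ, wronskian_pair]
      congr 1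
      simp only [eval_add, eval_smul, smul_eq_mul]; ring
    have hs0 : s ≠ 0 := by
      intro h0
      rw [h0, wronskian_zero_left] at hst
      exact (smul_ne_zero hta hw) hst.symm
    obtain ⟨h1, h2⟩ := wronskian_core hw hsV ht hs0 hsa hta
    have hμ1 : 0 < rootMultiplicity a s := (rootMultiplicity_pos hs0).mpr hsa
    refine ⟨s, hsV, hs0, ?_⟩
    by_cases hμk : (rootMultiplicity a s : k) = 0
    · exfalso
      have hd := h2 hμk
      have hle := (le_rootMultiplicity_iff hw).mpr hd
      have hp : p ∣ rootMultiplicity a s := (CharP.cast_eq_zero_iff k p _).mp hμk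
      have := Nat.le_of_dvd hμ1 hp
      omega
    · have := h1 hμk
      omega
  · intro s hsV hs0
    have hd : (X - C a) ^ rootMultiplicity a s ∣ s := pow_rootMultiplicity_dvd s a
    have := pow_pred_dvd_wronskian_of_mem_span hsV hs0 hd
    have hle := (le_rootMultiplicity_iff hw).mpr this
    omega

theorem rootMultiplicity_wronskian_of_hasRamIdx (p : ℕ) [CharP k p] {f g : k[X]}
    (hw : wronskian f g ≠ 0) {a : k} (hbpf : ∃ t ∈ Submodule.span k {f, g}, t.eval a ≠ 0)
    {ε : ℕ} (hε1 : 1 ≤ ε) (hεp : ε < p)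
    (h : HasRamIdx (Submodule.span k {f, g}) a ε) :
    rootMultiplicity a (wronskian f g) = ε - 1 := by
  obtain ⟨⟨s, hsV, hs0, hse⟩, hall⟩ := h
  obtain ⟨t, ht, hta⟩ := hbpf
  have hμ : rootMultiplicity a s = ε := le_antisymm (hall s hsV hs0) hse
  have hsa : s.eval a = 0 := by
    have : 0 < rootMultiplicity a s := by omega
    exact (rootMultiplicity_pos hs0).mp this
  obtain ⟨h1, _⟩ := wronskian_core hw hsV ht hs0 hsa hta
  rw [hμ] at h1
  apply h1
  intro h0
  have hp : p ∣ ε := (CharP.cast_eq_zero_iff k p _).mp h0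
  have := Nat.le_of_dvd (by omega) hp
  omega

theorem wronskian_X_pow_char_mul (p : ℕ) [CharP k p] (G : k[X]) :
    wronskian (X ^ p * G) G = 0 := by
  have hp : (C (p : k) : k[X]) = 0 := by rw [CharP.cast_eq_zero k p, map_zero]
  simp only [wronskian, derivative_mul, derivative_X_pow]
  rw [hp]; ring

theorem natDegree_pair {F G : k[X]} {d : ℕ} (hF : F.natDegree = d) (hG : G.natDegree < d)
    {α : k} (hα : α ≠ 0) (β : k) : (α • F + β • G).natDegree = d := by
  have h1 : (α • F).natDegree = d := by rw [natDegree_smul _ hα, hF]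
  have h2 : (β • G).natDegree < (α • F).natDegree := by
    rw [h1]; exact lt_of_le_of_lt (natDegree_smul_le _ _) hG
  rw [natDegree_add_eq_left_of_natDegree_lt h2, h1]

theorem ramInf_main [IsAlgClosed k] (p : ℕ) [Fact p.Prime] [CharP k p]
    (d n : ℕ) (P : Fin n → k) (e : Fin n → ℕ) (E : ℕ)
    (he : Admissible p d (Fin.cons E e : Fin (n + 1) → ℕ))
    (hlt : ∀ i, e i < p) (hE : p < E) :
    {V : Submodule k k[X] | V ∈ ramMaps d P e ∧ HasRamIdxInf d V E} = ∅ ∨
      {V : Submodule k k[X] | V ∈ ramMaps d P e ∧ HasRamIdxInf d V E}.Infinite := by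
  rcases Set.eq_empty_or_nonempty
    {V : Submodule k k[X] | V ∈ ramMaps d P e ∧ HasRamIdxInf d V E} with h | ⟨V₀, hV₀, hV₀inf⟩
  · left; exact h
  right
  have hp2 : 2 ≤ p := (Fact.out : p.Prime).two_le
  have hEd : E ≤ d := by
    have := (he.1 0).2.1
    simpa using this
  have he2 : ∀ i, 2 ≤ e i := fun i => by
    have := (he.1 i.succ).1
    simpa using this
  obtain ⟨⟨hle, hrk, ⟨F, hFV, hFd⟩, hbpf⟩, ⟨F', hF', G', hG', hFG'⟩, hram⟩ := hV₀
  obtain ⟨⟨G, hGV, hG0, hGd⟩, hinf⟩ := hV₀inf
  have hGd' : G.natDegree + E = d := le_antisymm hGd (hinf G hGV hG0)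
  have hGlt : G.natDegree < d := by omega
  have hli : LinearIndependent k ![F, G] := by
    rw [LinearIndependent.pair_iff]
    intro α β hab
    by_cases hα : α = 0
    · subst hα
      rw [zero_smul, zero_add] at hab
      exact ⟨rfl, (smul_eq_zero.mp hab).resolve_right hG0⟩
    · exfalso
      have := natDegree_pair hFd hGlt hα β
      rw [hab, natDegree_zero] at this
      omega
  have hV₀eq : V₀ = Submodule.span k {F, G} := eq_span_pair_of_linearIndependent hrk hFV hGV hli
  have hW : wronskian F G ≠ 0 := by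
    rw [hV₀eq] at hF' hG'
    obtain ⟨c, hc⟩ := wronskian_eq_smul_of_mem_span_pair hF' hG'
    intro h0; apply hFG'; rw [hc, h0, smul_zero]
  -- the family
  have hXG : (X ^ p * G).natDegree = p + G.natDegree := by
    rw [natDegree_mul (pow_ne_zero _ X_ne_zero) hG0, natDegree_X_pow]
  have hFc : ∀ c : k, (F + c • (X ^ p * G)).natDegree = d := by
    intro c
    have h2 : (c • (X ^ p * G)).natDegree < F.natDegree := by
      rw [hFd]; exact lt_of_le_of_lt (natDegree_smul_le _ _) (by omega)
    rw [natDegree_add_eq_left_of_natDegree_lt h2, hFd]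
  have hWc : ∀ c : k, wronskian (F + c • (X ^ p * G)) G = wronskian F G := by
    intro c
    rw [wronskian_add_left, wronskian_smul_left, wronskian_X_pow_char_mul p, smul_zero, add_zero]
  have hbpfc : ∀ (c : k) (a : k),
      ∃ t ∈ Submodule.span k {F + c • (X ^ p * G), G}, t.eval a ≠ 0 := by
    intro c a
    by_cases hGa : G.eval a = 0
    · refine ⟨F + c • (X ^ p * G), Submodule.subset_span (Set.mem_insert _ _), ?_⟩
      obtain ⟨s, hs, hsa⟩ := hbpf a
      rw [hV₀eq] at hs
      obtain ⟨α, β, rfl⟩ := Submodule.mem_span_pair.mp hs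
      simp only [eval_add, eval_smul, eval_mul, eval_pow, eval_X, hGa, smul_eq_mul, mul_zero,
        add_zero] at hsa ⊢
      exact right_ne_zero_of_mul hsa
    · exact ⟨G, Submodule.subset_span (Set.mem_insert_of_mem _ rfl), hGa⟩
  have hmem : ∀ c : k, Submodule.span k {F + c • (X ^ p * G), G} ∈
      {V : Submodule k k[X] | V ∈ ramMaps d P e ∧ HasRamIdxInf d V E} := by
    intro c
    have m1 : F + c • (X ^ p * G) ∈ Submodule.span k {F + c • (X ^ p * G), G} :=
      Submodule.subset_span (Set.mem_insert _ _)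
    have m2 : G ∈ Submodule.span k {F + c • (X ^ p * G), G} :=
      Submodule.subset_span (Set.mem_insert_of_mem _ rfl)
    have hWc' : wronskian (F + c • (X ^ p * G)) G ≠ 0 := by rw [hWc]; exact hW
    refine ⟨⟨⟨?_, ?_, ⟨_, m1, hFc c⟩, hbpfc c⟩, ⟨_, m1, _, m2, hWc'⟩, ?_⟩, ⟨_, m2, hG0, hGd⟩, ?_⟩
    · rw [Submodule.span_le]
      rintro z (rfl | rfl)
      · exact mem_degreeLE.mpr (degree_le_of_natDegree_le (hFc c).le)
      · exact hle hGV
    · exact finrank_span_pair_of_linearIndependent (linearIndependent_of_wronskian_ne_zero hWc')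
    · intro i
      have h1 : 1 ≤ e i := le_trans (by norm_num) (he2 i)
      apply hasRamIdx_of_rootMultiplicity_wronskian p hWc' (hbpfc c (P i)) h1 (hlt i)
      rw [hWc]
      apply rootMultiplicity_wronskian_of_hasRamIdx p hW _ h1 (hlt i)
      · rw [← hV₀eq]; exact hram i
      · rw [← hV₀eq]; exact hbpf (P i)
    · intro s hs hs0
      obtain ⟨α, β, rfl⟩ := Submodule.mem_span_pair.mp hs
      by_cases hα : α = 0
      · subst hα
        rw [zero_smul, zero_add] at hs0 ⊢
        have hβ : β ≠ 0 := by rintro rfl; exact hs0 (zero_smul _ _)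
        rw [natDegree_smul _ hβ]; omega
      · rw [natDegree_pair (hFc c) hGlt hα β]; omega
  have hinj : Function.Injective
      (fun c : k => Submodule.span k ({F + c • (X ^ p * G), G} : Set k[X])) := by
    intro c c' hcc
    simp only at hcc
    by_contra hne
    have m1 : F + c • (X ^ p * G) ∈ Submodule.span k {F + c' • (X ^ p * G), G} := by
      rw [← hcc]; exact Submodule.subset_span (Set.mem_insert _ _)
    have m1' : F + c' • (X ^ p * G) ∈ Submodule.span k {F + c' • (X ^ p * G), G} :=
      Submodule.subset_span (Set.mem_insert _ _)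
    have hsub : (c - c') • (X ^ p * G) ∈ Submodule.span k {F + c' • (X ^ p * G), G} := by
      have := Submodule.sub_mem _ m1 m1'
      have h2 : F + c • (X ^ p * G) - (F + c' • (X ^ p * G)) = (c - c') • (X ^ p * G) := by
        rw [sub_smul]; abel
      rwa [h2] at this
    have hXGm : X ^ p * G ∈ Submodule.span k {F + c' • (X ^ p * G), G} := by
      have := Submodule.smul_mem _ (c - c')⁻¹ hsub
      rwa [smul_smul, inv_mul_cancel₀ (sub_ne_zero.mpr hne), one_smul] at this
    obtain ⟨α, β, hαβ⟩ := Submodule.mem_span_pair.mp hXGm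
    by_cases hα : α = 0
    · subst hα
      rw [zero_smul, zero_add] at hαβ
      have := congrArg natDegree hαβ
      rw [hXG] at this
      have := natDegree_smul_le β G
      omega
    · have := natDegree_pair (hFc c') hGlt hα β
      rw [hαβ, hXG] at this
      omega
  exact Set.infinite_of_injective_forall_mem hinj hmem

end Helper91.RamPencil
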