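import Groth.Prelude.Def_W4c1limliniiiiRamP1
import Mathlib
import Groth.Agent.Lib.Helper91.RamPencilMain

/-!
# The three Schubert conditions cut out a projective space of pencils (helper91)
-/

open Polynomial W4c1limliniiii

namespace Helper91.RamPencil

variable {k : Type*} [Field k]

theorem eq_zero_of_two_pow_dvd {d : ℕ} {P Q : k} (hPQ : P ≠ Q) {e e' : ℕ} (hee' : d < e + e')
    {s : k[X]} (hsd : s.natDegree ≤ d) (h1 : (X - C P) ^ e ∣ s) (h2 : (X - C Q) ^ e' ∣ s) :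
    s = 0 := by
  by_contra h0
  have := add_le_natDegree_of_pow_dvd hPQ h0 h1 h2
  omega

theorem schubert_three_points [IsAlgClosed k] (p d : ℕ) (P : Fin 3 → k)
    (hP : Function.Injective P) (e : Fin 3 → ℕ) (he : Admissible p d e) :
    ∃ L : Submodule k (k[X] × k[X]), L ≠ ⊥ ∧
      (∀ v ∈ L, v ≠ 0 →
        Submodule.span k {v.1, v.2} ≤ Polynomial.degreeLE k d ∧
          Module.finrank k (Submodule.span k ({v.1, v.2} : Set k[X])) = 2 ∧
          ∀ i, ∃ s ∈ Submodule.span k ({v.1, v.2} : Set k[X]), s ≠ 0 ∧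
            e i ≤ Polynomial.rootMultiplicity (P i) s) ∧
      (∀ V : Submodule k k[X], V ≤ Polynomial.degreeLE k d → Module.finrank k V = 2 →
        (∀ i, ∃ s ∈ V, s ≠ 0 ∧ e i ≤ Polynomial.rootMultiplicity (P i) s) →
          ∃ v ∈ L, v ≠ 0 ∧ Submodule.span k {v.1, v.2} = V) ∧
      (∀ v ∈ L, ∀ w ∈ L, v ≠ 0 → w ≠ 0 →
        Submodule.span k ({v.1, v.2} : Set k[X]) = Submodule.span k {w.1, w.2} →
          ∃ c : k, w = c • v) := by
  have hed : ∀ i, e i ≤ d := fun i => (he.1 i).2.1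
  have hsum := adm_sum he
  have hsum' : e 0 + e 1 + e 2 = 2 * d + 1 := by rw [← hsum, Fin.sum_univ_three]
  have h0 := hed 0; have h1 := hed 1; have h2 := hed 2
  have h01 : P 0 ≠ P 1 := hP.ne (by decide)
  have h02 : P 0 ≠ P 2 := hP.ne (by decide)
  have h12 : P 1 ≠ P 2 := hP.ne (by decide)
  set A : Fin 3 → k[X] := fun i => (X - C (P i)) ^ (e i) with hA
  let L : Submodule k (k[X] × k[X]) :=
    Submodule.comap (LinearMap.fst k k[X] k[X])
        (degreeLE k d ⊓ (Ideal.span {A 0}).restrictScalars k) ⊓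
      Submodule.comap (LinearMap.snd k k[X] k[X])
        (degreeLE k d ⊓ (Ideal.span {A 1}).restrictScalars k) ⊓
      Submodule.comap (LinearMap.fst k k[X] k[X] - LinearMap.snd k k[X] k[X])
        ((Ideal.span {A 2}).restrictScalars k)
  have hL : ∀ v : k[X] × k[X], v ∈ L ↔ (v.1.natDegree ≤ d ∧ A 0 ∣ v.1) ∧
      (v.2.natDegree ≤ d ∧ A 1 ∣ v.2) ∧ A 2 ∣ v.1 - v.2 := by
    intro v
    simp only [L, Submodule.mem_inf, Submodule.mem_comap, LinearMap.fst_apply, LinearMap.snd_apply,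
      LinearMap.sub_apply, Submodule.restrictScalars_mem, Ideal.mem_span_singleton, mem_degreeLE,
      natDegree_le_iff_degree_le, and_assoc]
  -- basic facts about nonzero elements of L
  have hfacts : ∀ v ∈ L, v ≠ 0 → v.1 ≠ 0 ∧ v.2 ≠ 0 ∧ v.1 - v.2 ≠ 0 := by
    intro v hv hv0
    obtain ⟨⟨hFd, hF⟩, ⟨hGd, hG⟩, hFG⟩ := (hL v).mp hv
    have hF0 : v.1 ≠ 0 := by
      intro hz
      have hG2 : A 2 ∣ v.2 := by
        rw [hz, zero_sub] at hFG; exact (dvd_neg).mp hFG
      have := eq_zero_of_two_pow_dvd h12 (by omega) hGd hG hG2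
      exact hv0 (Prod.ext hz this)
    have hG0 : v.2 ≠ 0 := by
      intro hz
      have hF2 : A 2 ∣ v.1 := by
        rw [hz, sub_zero] at hFG; exact hFG
      have := eq_zero_of_two_pow_dvd h02 (by omega) hFd hF hF2
      exact hv0 (Prod.ext this hz)
    refine ⟨hF0, hG0, ?_⟩
    intro hz
    have hFG' : v.1 = v.2 := sub_eq_zero.mp hz
    have hF1 : A 1 ∣ v.1 := by rw [hFG']; exact hG
    exact hF0 (eq_zero_of_two_pow_dvd h01 (by omega) hFd hF hF1)
  refine ⟨L, ?_, ?_, ?_, ?_⟩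
  · -- L ≠ ⊥
    obtain ⟨s₁, s₂, hs₁0, hs₂0, hs₃0, hs₁d, hs₂d, d1, d2, d3⟩ :=
      exists_three_point_sections P hP e hed hsum
    intro hbot
    have hmem : ((s₁, -s₂) : k[X] × k[X]) ∈ L := by
      rw [hL]
      refine ⟨⟨hs₁d, d1⟩, ⟨by rwa [natDegree_neg], (dvd_neg).mpr d2⟩, ?_⟩
      simpa [sub_neg_eq_add] using d3
    rw [hbot, Submodule.mem_bot] at hmem
    exact hs₁0 (congrArg Prod.fst hmem)
  · intro v hv hv0
    obtain ⟨⟨hFd, hF⟩, ⟨hGd, hG⟩, hFG⟩ := (hL v).mp hv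
    obtain ⟨hF0, hG0, hFG0⟩ := hfacts v hv hv0
    have m1 : v.1 ∈ Submodule.span k ({v.1, v.2} : Set k[X]) :=
      Submodule.subset_span (Set.mem_insert _ _)
    have m2 : v.2 ∈ Submodule.span k ({v.1, v.2} : Set k[X]) :=
      Submodule.subset_span (Set.mem_insert_of_mem _ rfl)
    refine ⟨?_, finrank_span_pair_of_pow_dvd h01 (by omega) hF0 hG0 hFd hF hG, ?_⟩
    · rw [Submodule.span_le]
      rintro z (rfl | rfl)
      · exact mem_degreeLE.mpr (natDegree_le_iff_degree_le.mp hFd)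
      · exact mem_degreeLE.mpr (natDegree_le_iff_degree_le.mp hGd)
    · intro i; fin_cases i
      · exact ⟨v.1, m1, hF0, (le_rootMultiplicity_iff hF0).mpr hF⟩
      · exact ⟨v.2, m2, hG0, (le_rootMultiplicity_iff hG0).mpr hG⟩
      · exact ⟨v.1 - v.2, Submodule.sub_mem _ m1 m2, hFG0, (le_rootMultiplicity_iff hFG0).mpr hFG⟩
  · intro V hV hrk hs
    obtain ⟨t₁, t₂, ht₁V, ht₂V, ht₁0, ht₂0, hVs, hd0, hd1, hd2⟩ :=
      exists_normalized_basis P hP e hed hsum V hV hrk (fun i => by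
        obtain ⟨s, hsV, hs0, hse⟩ := hs i
        exact ⟨s, hsV, hs0, (le_rootMultiplicity_iff hs0).mp hse⟩)
    refine ⟨(t₁, t₂), ?_, ?_, hVs.symm⟩
    · rw [hL]
      exact ⟨⟨natDegree_le_of_mem hV ht₁V, hd0⟩, ⟨natDegree_le_of_mem hV ht₂V, hd1⟩, hd2⟩
    · intro hz
      exact ht₁0 (congrArg Prod.fst hz)
  · intro v hv w hw hv0 hw0 hspan
    obtain ⟨⟨hFd, hF⟩, ⟨hGd, hG⟩, hFG⟩ := (hL v).mp hv
    obtain ⟨⟨hFd', hF'⟩, ⟨hGd', hG'⟩, hFG'⟩ := (hL w).mp hw
    obtain ⟨hF0, hG0, hFG0⟩ := hfacts v hv hv0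
    have m1 : w.1 ∈ Submodule.span k ({v.1, v.2} : Set k[X]) := by
      rw [hspan]; exact Submodule.subset_span (Set.mem_insert _ _)
    have m2 : w.2 ∈ Submodule.span k ({v.1, v.2} : Set k[X]) := by
      rw [hspan]; exact Submodule.subset_span (Set.mem_insert_of_mem _ rfl)
    obtain ⟨a, b, hab⟩ := Submodule.mem_span_pair.mp m1
    obtain ⟨a', b', hab'⟩ := Submodule.mem_span_pair.mp m2
    -- b = 0
    have hb : b = 0 := by
      by_contra hb
      have hdv : A 0 ∣ b • v.2 := by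
        have : b • v.2 = w.1 - a • v.1 := by rw [← hab]; ring
        rw [this]
        exact dvd_sub hF' (by rw [smul_eq_C_mul]; exact dvd_mul_of_dvd_right hF _)
      have hdv' : A 0 ∣ v.2 := by
        have : v.2 = b⁻¹ • (b • v.2) := by rw [smul_smul, inv_mul_cancel₀ hb, one_smul]
        rw [this, smul_eq_C_mul]; exact dvd_mul_of_dvd_right hdv _
      exact hG0 (eq_zero_of_two_pow_dvd h01 (by omega) hGd hdv' hG)
    have ha' : a' = 0 := by
      by_contra ha'
      have hdv : A 1 ∣ a' • v.1 := by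
        have : a' • v.1 = w.2 - b' • v.2 := by rw [← hab']; ring
        rw [this]
        exact dvd_sub hG' (by rw [smul_eq_C_mul]; exact dvd_mul_of_dvd_right hG _)
      have hdv' : A 1 ∣ v.1 := by
        have : v.1 = a'⁻¹ • (a' • v.1) := by rw [smul_smul, inv_mul_cancel₀ ha', one_smul]
        rw [this, smul_eq_C_mul]; exact dvd_mul_of_dvd_right hdv _
      exact hF0 (eq_zero_of_two_pow_dvd h01 (by omega) hFd hF hdv')
    subst hb; subst ha'
    rw [zero_smul, add_zero] at hab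
    rw [zero_smul, zero_add] at hab'
    have hac : a = b' := by
      by_contra hne
      have hdv : A 2 ∣ (a - b') • v.2 := by
        have : (a - b') • v.2 = (w.1 - w.2) - a • (v.1 - v.2) := by
          rw [← hab, ← hab']; module
        rw [this]
        exact dvd_sub hFG' (by rw [smul_eq_C_mul]; exact dvd_mul_of_dvd_right hFG _)
      have hdv' : A 2 ∣ v.2 := by
        have hne' : a - b' ≠ 0 := sub_ne_zero.mpr hne
        have : v.2 = (a - b')⁻¹ • ((a - b') • v.2) := by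
          rw [smul_smul, inv_mul_cancel₀ hne', one_smul]
        rw [this, smul_eq_C_mul]; exact dvd_mul_of_dvd_right hdv _
      exact hG0 (eq_zero_of_two_pow_dvd h12 (by omega) hGd hG hdv')
    refine ⟨a, ?_⟩
    refine Prod.ext ?_ ?_
    · simpa using hab.symm
    · rw [hac]; simpa using hab'.symm

end Helper91.RamPencil
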