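import Mathlib

/-!
# Rational maximisers of `ℓ·y / √q(y)` on the orthant
-/

open Matrix

namespace Helper91.RatMax

variable {n : ℕ} (ℓ : Fin n → ℝ) (B : Matrix (Fin n) (Fin n) ℝ)

/-- The quadratic form. -/
def q (y : Fin n → ℝ) : ℝ := y ⬝ᵥ B *ᵥ y

/-- Its polarisation. -/
def D (y h : Fin n → ℝ) : ℝ := h ⬝ᵥ B *ᵥ y + y ⬝ᵥ B *ᵥ h

theorem q_add_smul (y h : Fin n → ℝ) (t : ℝ) :
    q B (y + t • h) = q B y + t * D B y h + t ^ 2 * q B h := by
  simp only [q, D, mulVec_add, mulVec_smul, dotProduct_add, add_dotProduct, smul_dotProduct,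
    dotProduct_smul, smul_eq_mul]
  ring

theorem q_smul (y : Fin n → ℝ) (t : ℝ) : q B (t • y) = t ^ 2 * q B y := by
  simp only [q, mulVec_smul, smul_dotProduct, dotProduct_smul, smul_eq_mul]
  ring

/-- Maximiser in squared form. -/
def IsMax (y : Fin n → ℝ) : Prop :=
  (∀ i, 0 ≤ y i) ∧ 0 < ℓ ⬝ᵥ y ∧
    ∀ z : Fin n → ℝ, (∀ i, 0 ≤ z i) → 0 < ℓ ⬝ᵥ z →
      (ℓ ⬝ᵥ z) ^ 2 * q B y ≤ (ℓ ⬝ᵥ y) ^ 2 * q B z

theorem ne_zero_of_dot_pos (z : Fin n → ℝ) (h : 0 < ℓ ⬝ᵥ z) : z ≠ 0 := by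
  rintro rfl
  simp at h

theorem sum_pos_of (z : Fin n → ℝ) (hz : ∀ i, 0 ≤ z i) (hne : z ≠ 0) : 0 < ∑ i, z i := by
  obtain ⟨i, hi⟩ : ∃ i, z i ≠ 0 := by
    by_contra hcon
    push Not at hcon
    exact hne (funext hcon)
  calc 0 < z i := lt_of_le_of_ne (hz i) (Ne.symm hi)
    _ ≤ ∑ j, z j := Finset.single_le_sum (fun j _ => hz j) (Finset.mem_univ i)

theorem continuous_dot : Continuous fun y : Fin n → ℝ => ℓ ⬝ᵥ y := by
  unfold dotProduct
  fun_prop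

theorem continuous_q : Continuous fun y : Fin n → ℝ => q B y := by
  unfold q dotProduct mulVec dotProduct
  fun_prop

theorem exists_isMax
    (hpos : ∀ y : Fin n → ℝ, (∀ i, 0 ≤ y i) → y ≠ 0 → 0 < q B y)
    (hℓ : ∃ y : Fin n → ℝ, (∀ i, 0 ≤ y i) ∧ 0 < ℓ ⬝ᵥ y) : ∃ y, IsMax ℓ B y := by
  obtain ⟨y0, hy0, hly0⟩ := hℓ
  -- normalisation
  have norm : ∀ z : Fin n → ℝ, (∀ i, 0 ≤ z i) → z ≠ 0 →
      ((∑ i, z i)⁻¹ • z) ∈ stdSimplex ℝ (Fin n) := by
    intro z hz hne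
    have hs := sum_pos_of z hz hne
    refine ⟨fun i => ?_, ?_⟩
    · simp only [Pi.smul_apply, smul_eq_mul]
      exact mul_nonneg (inv_nonneg.mpr hs.le) (hz i)
    · simp only [Pi.smul_apply, smul_eq_mul, ← Finset.mul_sum]
      exact inv_mul_cancel₀ hs.ne'
  have hne0 : y0 ≠ 0 := ne_zero_of_dot_pos ℓ y0 hly0
  have hΔne : (stdSimplex ℝ (Fin n)).Nonempty := ⟨_, norm y0 hy0 hne0⟩
  have hΔpos : ∀ y ∈ stdSimplex ℝ (Fin n), 0 < q B y := by
    intro y hy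
    apply hpos y hy.1
    rintro rfl
    have := hy.2
    simp at this
  let G : (Fin n → ℝ) → ℝ := fun y => (max (ℓ ⬝ᵥ y) 0) ^ 2 / q B y
  have hG : ContinuousOn G (stdSimplex ℝ (Fin n)) := by
    apply ContinuousOn.div
    · exact (((continuous_dot ℓ).max continuous_const).pow 2).continuousOn
    · exact (continuous_q B).continuousOn
    · intro y hy
      exact (hΔpos y hy).ne'
  obtain ⟨ys, hys, hmax⟩ := (isCompact_stdSimplex (𝕜 := ℝ) (Fin n)).exists_isMaxOn hΔne hG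
  have hGval : ∀ z : Fin n → ℝ, (∀ i, 0 ≤ z i) → 0 < ℓ ⬝ᵥ z →
      (ℓ ⬝ᵥ z) ^ 2 / q B z ≤ G ys := by
    intro z hz hlz
    have hne := ne_zero_of_dot_pos ℓ z hlz
    have hs := sum_pos_of z hz hne
    have hmem := norm z hz hne
    have h1 : G ((∑ i, z i)⁻¹ • z) ≤ G ys := hmax hmem
    simp only [G] at h1 ⊢
    have h2 : ℓ ⬝ᵥ ((∑ i, z i)⁻¹ • z) = (∑ i, z i)⁻¹ * (ℓ ⬝ᵥ z) := by
      rw [dotProduct_smul, smul_eq_mul]
    have h3 : 0 < (∑ i, z i)⁻¹ * (ℓ ⬝ᵥ z) := mul_pos (inv_pos.mpr hs) hlz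
    rw [h2, max_eq_left h3.le, q_smul] at h1
    have h4 : ((∑ i, z i)⁻¹ * (ℓ ⬝ᵥ z)) ^ 2 / ((∑ i, z i)⁻¹ ^ 2 * q B z) =
        (ℓ ⬝ᵥ z) ^ 2 / q B z := by
      have : (∑ i, z i)⁻¹ ^ 2 ≠ 0 := pow_ne_zero 2 (inv_pos.mpr hs).ne'
      rw [mul_pow, mul_div_mul_left _ _ this]
    rw [h4] at h1
    exact h1
  have hys_pos : 0 < ℓ ⬝ᵥ ys := by
    have h1 := hGval y0 hy0 hly0
    have h2 : 0 < (ℓ ⬝ᵥ y0) ^ 2 / q B y0 := div_pos (pow_pos hly0 2) (hpos y0 hy0 hne0)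
    have h3 : 0 < G ys := lt_of_lt_of_le h2 h1
    by_contra hcon
    push Not at hcon
    simp only [G, max_eq_right hcon] at h3
    simp at h3
  refine ⟨ys, hys.1, hys_pos, fun z hz hlz => ?_⟩
  have h1 := hGval z hz hlz
  simp only [G, max_eq_left hys_pos.le] at h1
  have hqz := hpos z hz (ne_zero_of_dot_pos ℓ z hlz)
  have hqy := hΔpos ys hys
  rw [div_le_div_iff₀ hqz hqy] at h1
  exact h1


theorem lin_coeff_zero (A C δ : ℝ) (hδ : 0 < δ)
    (h : ∀ t : ℝ, |t| < δ → 0 ≤ t * A + t ^ 2 * C) : A = 0 := by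
  by_contra hA
  have hC : 0 < |C| + 1 := by positivity
  have hAabs : 0 < |A| := abs_pos.mpr hA
  set τ := min (δ / 2) (|A| / (2 * (|C| + 1))) with hτ
  have hτpos : 0 < τ := lt_min (by linarith) (by positivity)
  have hτδ : τ < δ := lt_of_le_of_lt (min_le_left _ _) (by linarith)
  have hτA : τ * (|C| + 1) ≤ |A| / 2 := by
    have h1 : τ ≤ |A| / (2 * (|C| + 1)) := min_le_right _ _
    calc τ * (|C| + 1) ≤ |A| / (2 * (|C| + 1)) * (|C| + 1) :=
          mul_le_mul_of_nonneg_right h1 hC.le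
      _ = |A| / 2 := by field_simp
  have hCle : C ≤ |C| := le_abs_self C
  have hτ2 : τ ^ 2 * C ≤ τ * (|A| / 2) - τ ^ 2 := by
    have h1 : τ ^ 2 * C ≤ τ ^ 2 * |C| := mul_le_mul_of_nonneg_left hCle (by positivity)
    have h2 : τ * (τ * (|C| + 1)) ≤ τ * (|A| / 2) := mul_le_mul_of_nonneg_left hτA hτpos.le
    nlinarith
  rcases lt_or_gt_of_ne hA with hneg | hpos
  · have h1 := h τ (by rw [abs_of_pos hτpos]; exact hτδ)
    have h2 : |A| = -A := abs_of_neg hneg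
    nlinarith
  · have h1 := h (-τ) (by rw [abs_neg, abs_of_pos hτpos]; exact hτδ)
    have h2 : |A| = A := abs_of_pos hpos
    have h3 : (-τ) ^ 2 = τ ^ 2 := by ring
    rw [h3] at h1
    nlinarith

open Filter Topology in
theorem first_order (y : Fin n → ℝ) (hy : IsMax ℓ B y) (h : Fin n → ℝ)
    (hh : ∀ i, y i = 0 → h i = 0) :
    (ℓ ⬝ᵥ y) * D B y h = 2 * (ℓ ⬝ᵥ h) * q B y := by
  obtain ⟨hy0, hly, hmax⟩ := hy
  have hev : ∀ᶠ t in 𝓝 (0 : ℝ), (∀ i, 0 ≤ y i + t * h i) ∧ 0 < ℓ ⬝ᵥ y + t * (ℓ ⬝ᵥ h) := by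
    apply Filter.Eventually.and
    · rw [Filter.eventually_all]
      intro i
      by_cases hyi : y i = 0
      · rw [hyi, hh i hyi]
        simp
      · have hpos : 0 < y i := lt_of_le_of_ne (hy0 i) (Ne.symm hyi)
        have hc : Continuous fun t : ℝ => y i + t * h i := by fun_prop
        have ht := hc.tendsto 0
        simp only [zero_mul, add_zero] at ht
        exact (ht.eventually (lt_mem_nhds hpos)).mono (fun t ht => ht.le)
    · have hc : Continuous fun t : ℝ => ℓ ⬝ᵥ y + t * (ℓ ⬝ᵥ h) := by fun_prop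
      have ht := hc.tendsto 0
      simp only [zero_mul, add_zero] at ht
      exact ht.eventually (lt_mem_nhds hly)
  obtain ⟨δ, hδ, hball⟩ := Metric.eventually_nhds_iff.mp hev
  have key := lin_coeff_zero
    ((ℓ ⬝ᵥ y) ^ 2 * D B y h - 2 * (ℓ ⬝ᵥ y) * (ℓ ⬝ᵥ h) * q B y)
    ((ℓ ⬝ᵥ y) ^ 2 * q B h - (ℓ ⬝ᵥ h) ^ 2 * q B y) δ hδ ?_
  · have h1 : (ℓ ⬝ᵥ y) * ((ℓ ⬝ᵥ y) * D B y h - 2 * (ℓ ⬝ᵥ h) * q B y) = 0 := by
      linear_combination key
    have h2 := (mul_eq_zero.mp h1).resolve_left hly.ne'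
    linarith
  · intro t ht
    have hb := hball (by rwa [Real.dist_eq, sub_zero])
    have hz : ∀ i, 0 ≤ (y + t • h) i := by
      intro i
      simpa using hb.1 i
    have hlz : ℓ ⬝ᵥ (y + t • h) = ℓ ⬝ᵥ y + t * (ℓ ⬝ᵥ h) := by
      rw [dotProduct_add, dotProduct_smul, smul_eq_mul]
    have h3 := hmax (y + t • h) hz (by rw [hlz]; exact hb.2)
    rw [hlz, q_add_smul] at h3
    have e : t * ((ℓ ⬝ᵥ y) ^ 2 * D B y h - 2 * (ℓ ⬝ᵥ y) * (ℓ ⬝ᵥ h) * q B y) +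
        t ^ 2 * ((ℓ ⬝ᵥ y) ^ 2 * q B h - (ℓ ⬝ᵥ h) ^ 2 * q B y) =
        (ℓ ⬝ᵥ y) ^ 2 * (q B y + t * D B y h + t ^ 2 * q B h) -
          (ℓ ⬝ᵥ y + t * (ℓ ⬝ᵥ h)) ^ 2 * q B y := by ring
    rw [e]
    linarith


open Classical in
/-- The support of a vector. -/
noncomputable def supp (y : Fin n → ℝ) : Finset (Fin n) := Finset.univ.filter (fun i => 0 < y i)

theorem mem_supp (y : Fin n → ℝ) (i : Fin n) : i ∈ supp y ↔ 0 < y i := by
  simp [supp]

theorem exists_min_isMax (hex : ∃ y, IsMax ℓ B y) :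
    ∃ y, IsMax ℓ B y ∧ ∀ y', IsMax ℓ B y' → (supp y).card ≤ (supp y').card := by
  classical
  have hP : ∃ k, ∃ y, IsMax ℓ B y ∧ (supp y).card = k := by
    obtain ⟨y, hy⟩ := hex
    exact ⟨_, y, hy, rfl⟩
  obtain ⟨y, hy, hk⟩ := Nat.find_spec hP
  refine ⟨y, hy, fun y' hy' => ?_⟩
  rw [hk]
  exact Nat.find_min' hP ⟨y', hy', rfl⟩

theorem D_eq (y z : Fin n → ℝ) :
    D B y z = ∑ i, y i * ∑ j, (B i j + B j i) * z j := by
  have h1 : z ⬝ᵥ B *ᵥ y = ∑ i, y i * ∑ j, B j i * z j := by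
    simp only [dotProduct, mulVec, Finset.mul_sum]
    rw [Finset.sum_comm]
    refine Finset.sum_congr rfl (fun i _ => Finset.sum_congr rfl (fun j _ => ?_))
    ring
  have h2 : y ⬝ᵥ B *ᵥ z = ∑ i, y i * ∑ j, B i j * z j := by
    simp only [dotProduct, mulVec]
  rw [D, h1, h2, ← Finset.sum_add_distrib]
  refine Finset.sum_congr rfl (fun i _ => ?_)
  rw [← mul_add, ← Finset.sum_add_distrib]
  congr 1
  refine Finset.sum_congr rfl (fun j _ => ?_)
  ring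

theorem D_self (z : Fin n → ℝ) : D B z z = 2 * q B z := by
  simp only [D, q]
  ring

theorem core_contra
    (hpos : ∀ y : Fin n → ℝ, (∀ i, 0 ≤ y i) → y ≠ 0 → 0 < q B y)
    (y : Fin n → ℝ) (hy : IsMax ℓ B y)
    (hmin : ∀ y', IsMax ℓ B y' → (supp y).card ≤ (supp y').card)
    (z : Fin n → ℝ) (hzs : ∀ i, y i = 0 → z i = 0)
    (hzk : ∀ i, 0 < y i → ∑ j, (B i j + B j i) * z j = 0)
    (hneg : ∃ i, z i < 0) : False := by
  classical
  have hy' := hy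
  obtain ⟨hy0, hly, hmax⟩ := hy
  have hterm : ∀ (w : Fin n → ℝ), (∀ i, y i = 0 → w i = 0) →
      ∑ i, w i * ∑ j, (B i j + B j i) * z j = 0 := by
    intro w hw
    apply Finset.sum_eq_zero
    intro i _
    by_cases hyi : y i = 0
    · rw [hw i hyi, zero_mul]
    · rw [hzk i (lt_of_le_of_ne (hy0 i) (Ne.symm hyi)), mul_zero]
  have hD : D B y z = 0 := by
    rw [D_eq]
    exact hterm y (fun i hi => hi)
  have hqz : q B z = 0 := by
    have h1 : D B z z = 0 := by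
      rw [D_eq]
      exact hterm z hzs
    rw [D_self] at h1
    linarith
  have hqy : 0 < q B y := hpos y hy0 (ne_zero_of_dot_pos ℓ y hly)
  have hlz : ℓ ⬝ᵥ z = 0 := by
    have h1 := first_order ℓ B y hy' z hzs
    rw [hD, mul_zero] at h1
    have h2 : (ℓ ⬝ᵥ z) * q B y = 0 := by linarith
    exact (mul_eq_zero.mp h2).resolve_right hqy.ne'
  -- the step length
  let I : Finset (Fin n) := Finset.univ.filter (fun i => z i < 0)
  have hI : I.Nonempty := by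
    obtain ⟨i, hi⟩ := hneg
    exact ⟨i, by simp [I, hi]⟩
  obtain ⟨is, his, hts⟩ := Finset.exists_mem_eq_inf' hI (fun i => y i / (-z i))
  set ts := I.inf' hI (fun i => y i / (-z i)) with htsdef
  have hzis : z is < 0 := by
    have := his
    simp only [I, Finset.mem_filter, Finset.mem_univ, true_and] at this
    exact this
  have hyis : 0 < y is := by
    by_contra hcon
    have h0 : y is = 0 := le_antisymm (not_lt.mp hcon) (hy0 is)
    have := hzs is h0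
    linarith
  have htspos : 0 < ts := by
    rw [hts]
    exact div_pos hyis (by linarith)
  have htsle : ∀ i, z i < 0 → ts * (-z i) ≤ y i := by
    intro i hi
    have h1 : ts ≤ y i / (-z i) := Finset.inf'_le _ (by simp [I, hi])
    have h2 : 0 < -z i := by linarith
    exact (le_div_iff₀ h2).mp h1
  set y' : Fin n → ℝ := y + ts • z with hy'def
  have hy'i : ∀ i, y' i = y i + ts * z i := by
    intro i
    simp [hy'def]
  have hy'0 : ∀ i, 0 ≤ y' i := by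
    intro i
    rw [hy'i]
    by_cases hi : z i < 0
    · have := htsle i hi
      linarith
    · push Not at hi
      have := mul_nonneg htspos.le hi
      have := hy0 i
      linarith
  have hy'is : y' is = 0 := by
    rw [hy'i, hts]
    have hne : z is ≠ 0 := hzis.ne
    have hne' : -z is ≠ 0 := neg_ne_zero.mpr hne
    field_simp
    ring
  have hly' : ℓ ⬝ᵥ y' = ℓ ⬝ᵥ y := by
    rw [hy'def, dotProduct_add, dotProduct_smul, hlz, smul_zero, add_zero]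
  have hqy' : q B y' = q B y := by
    rw [hy'def, q_add_smul, hD, hqz]
    ring
  have hmax' : IsMax ℓ B y' := by
    refine ⟨hy'0, by rw [hly']; exact hly, fun w hw hlw => ?_⟩
    rw [hly', hqy']
    exact hmax w hw hlw
  have hsub : supp y' ⊂ supp y := by
    rw [Finset.ssubset_iff_of_subset]
    · refine ⟨is, (mem_supp y is).mpr hyis, ?_⟩
      rw [mem_supp, hy'is]
      exact lt_irrefl 0
    · intro i hi
      rw [mem_supp] at hi ⊢
      by_contra hcon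
      have h0 : y i = 0 := le_antisymm (not_lt.mp hcon) (hy0 i)
      rw [hy'i, h0, hzs i h0] at hi
      simp at hi
  have := Finset.card_lt_card hsub
  have := hmin y' hmax'
  omega

theorem no_kernel
    (hpos : ∀ y : Fin n → ℝ, (∀ i, 0 ≤ y i) → y ≠ 0 → 0 < q B y)
    (y : Fin n → ℝ) (hy : IsMax ℓ B y)
    (hmin : ∀ y', IsMax ℓ B y' → (supp y).card ≤ (supp y').card)
    (z : Fin n → ℝ) (hzs : ∀ i, y i = 0 → z i = 0)
    (hzk : ∀ i, 0 < y i → ∑ j, (B i j + B j i) * z j = 0) : z = 0 := by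
  by_contra hz0
  obtain ⟨i, hi⟩ : ∃ i, z i ≠ 0 := by
    by_contra hcon
    push Not at hcon
    exact hz0 (funext hcon)
  rcases lt_or_gt_of_ne hi with hneg | hpos'
  · exact core_contra ℓ B hpos y hy hmin z hzs hzk ⟨i, hneg⟩
  · refine core_contra ℓ B hpos y hy hmin (-z) (fun j hj => ?_) (fun j hj => ?_) ⟨i, ?_⟩
    · simp [hzs j hj]
    · have := hzk j hj
      simp only [Pi.neg_apply, mul_neg, Finset.sum_neg_distrib, this, neg_zero]
    · simpa using hpos'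


theorem isMax_smul (y : Fin n → ℝ) (hy : IsMax ℓ B y) (c : ℝ) (hc : 0 < c) :
    IsMax ℓ B (c • y) := by
  obtain ⟨hy0, hly, hmax⟩ := hy
  refine ⟨fun i => ?_, ?_, fun z hz hlz => ?_⟩
  · simp only [Pi.smul_apply, smul_eq_mul]
    exact mul_nonneg hc.le (hy0 i)
  · rw [dotProduct_smul, smul_eq_mul]
    exact mul_pos hc hly
  · rw [dotProduct_smul, smul_eq_mul, q_smul]
    have := hmax z hz hlz
    have hc2 : 0 ≤ c ^ 2 := by positivity
    nlinarith [mul_le_mul_of_nonneg_left this hc2]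

theorem final_form
    (hpos : ∀ y : Fin n → ℝ, (∀ i, 0 ≤ y i) → y ≠ 0 → 0 < q B y)
    (x : Fin n → ℝ) (hx : IsMax ℓ B x) (y : Fin n → ℝ) (hy0 : ∀ i, 0 ≤ y i) (hyne : y ≠ 0) :
    ℓ ⬝ᵥ y / Real.sqrt (q B y) ≤ ℓ ⬝ᵥ x / Real.sqrt (q B x) := by
  obtain ⟨hx0, hlx, hmax⟩ := hx
  have hqx : 0 < q B x := hpos x hx0 (ne_zero_of_dot_pos ℓ x hlx)
  have hqy : 0 < q B y := hpos y hy0 hyne
  have hsx : 0 < Real.sqrt (q B x) := Real.sqrt_pos.mpr hqx
  have hsy : 0 < Real.sqrt (q B y) := Real.sqrt_pos.mpr hqy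
  by_cases hly : 0 < ℓ ⬝ᵥ y
  · rw [div_le_div_iff₀ hsy hsx]
    have h1 := hmax y hy0 hly
    have hl : 0 ≤ ℓ ⬝ᵥ y * Real.sqrt (q B x) := mul_nonneg hly.le hsx.le
    have hr : 0 ≤ ℓ ⬝ᵥ x * Real.sqrt (q B y) := mul_nonneg hlx.le hsy.le
    rw [← pow_le_pow_iff_left₀ hl hr (by norm_num : (2 : ℕ) ≠ 0), mul_pow, mul_pow,
      Real.sq_sqrt hqx.le, Real.sq_sqrt hqy.le]
    exact h1
  · push Not at hly
    calc ℓ ⬝ᵥ y / Real.sqrt (q B y) ≤ 0 := div_nonpos_of_nonpos_of_nonneg hly hsy.le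
      _ ≤ ℓ ⬝ᵥ x / Real.sqrt (q B x) := div_nonneg hlx.le hsx.le


theorem D_single (y : Fin n → ℝ) (i : Fin n) :
    D B y (Pi.single i 1) = ∑ j, (B i j + B j i) * y j := by
  classical
  have h1 : D B y (Pi.single i 1) = D B (Pi.single i 1) y := by
    simp only [D]
    ring
  rw [h1, D_eq]
  simp only [Pi.single_apply, ite_mul, one_mul, zero_mul, Finset.sum_ite_eq', Finset.mem_univ,
    if_true]

theorem main19138 (n : ℕ) (ℓq : Fin n → ℚ)
    (Bq : Matrix (Fin n) (Fin n) ℚ)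
    (hnn : ∀ y : Fin n → ℝ, 0 ≤ y ⬝ᵥ (Bq.map (fun r : ℚ => (r : ℝ))) *ᵥ y)
    (hpos : ∀ y : Fin n → ℝ, (∀ i, 0 ≤ y i) → y ≠ 0 →
      0 < y ⬝ᵥ (Bq.map (fun r : ℚ => (r : ℝ))) *ᵥ y)
    (hℓ : ∃ y : Fin n → ℝ, (∀ i, 0 ≤ y i) ∧ 0 < (fun i => (ℓq i : ℝ)) ⬝ᵥ y) :
    ∃ x : Fin n → ℚ, (∀ i, 0 ≤ x i) ∧ x ≠ 0 ∧
      ∀ y : Fin n → ℝ, (∀ i, 0 ≤ y i) → y ≠ 0 →
        (fun i => (ℓq i : ℝ)) ⬝ᵥ y /
            Real.sqrt (y ⬝ᵥ (Bq.map (fun r : ℚ => (r : ℝ))) *ᵥ y) ≤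
          (fun i => (ℓq i : ℝ)) ⬝ᵥ (fun i => (x i : ℝ)) /
            Real.sqrt ((fun i => (x i : ℝ)) ⬝ᵥ (Bq.map (fun r : ℚ => (r : ℝ))) *ᵥ
              (fun i => (x i : ℝ))) := by
  classical
  set ℓ : Fin n → ℝ := fun i => (ℓq i : ℝ) with hℓdef
  set B : Matrix (Fin n) (Fin n) ℝ := Bq.map (fun r : ℚ => (r : ℝ)) with hBdef
  have hpos' : ∀ y : Fin n → ℝ, (∀ i, 0 ≤ y i) → y ≠ 0 → 0 < q B y := hpos
  obtain ⟨y, hy, hmin⟩ := exists_min_isMax ℓ B (exists_isMax ℓ B hpos' hℓ)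
  obtain ⟨hy0, hly, hmax⟩ := id hy
  have hqy : 0 < q B y := hpos' y hy0 (ne_zero_of_dot_pos ℓ y hly)
  let T : Matrix (Fin n) (Fin n) ℚ := fun i j =>
    if 0 < y i ∧ 0 < y j then Bq i j + Bq j i else if i = j then 1 else 0
  let ℓ' : Fin n → ℚ := fun i => if 0 < y i then ℓq i else 0
  let Tr : Matrix (Fin n) (Fin n) ℝ := fun i j => ((T i j : ℚ) : ℝ)
  have hTr : ∀ i j, Tr i j =
      if 0 < y i ∧ 0 < y j then B i j + B j i else if i = j then 1 else 0 := by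
    intro i j
    simp only [Tr, T, hBdef, Matrix.map_apply]
    split_ifs <;> simp
  have hrow0 : ∀ (z : Fin n → ℝ) (i : Fin n), ¬ 0 < y i → (Tr *ᵥ z) i = z i := by
    intro z i hi
    simp only [mulVec, dotProduct, hTr, hi, false_and, if_false, ite_mul, one_mul, zero_mul,
      Finset.sum_ite_eq, Finset.mem_univ, if_true]
  have hrow1 : ∀ (z : Fin n → ℝ) (i : Fin n), 0 < y i → (∀ j, y j = 0 → z j = 0) →
      (Tr *ᵥ z) i = ∑ j, (B i j + B j i) * z j := by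
    intro z i hi hz
    simp only [mulVec, dotProduct]
    refine Finset.sum_congr rfl (fun j _ => ?_)
    by_cases hj : 0 < y j
    · rw [hTr, if_pos ⟨hi, hj⟩]
    · have hj0 : y j = 0 := le_antisymm (not_lt.mp hj) (hy0 j)
      rw [hz j hj0, mul_zero, mul_zero]
  have hker : ∀ z : Fin n → ℝ, Tr *ᵥ z = 0 → z = 0 := by
    intro z hz
    have hz0 : ∀ j, y j = 0 → z j = 0 := by
      intro j hj
      have := congrFun hz j
      rw [hrow0 z j (by rw [hj]; exact lt_irrefl _)] at this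
      simpa using this
    apply no_kernel ℓ B hpos' y hy hmin z hz0
    intro i hi
    have := congrFun hz i
    rw [hrow1 z i hi hz0] at this
    simpa using this
  set lam : ℝ := 2 * q B y / (ℓ ⬝ᵥ y) with hlam
  have hlampos : 0 < lam := by positivity
  have hTy : Tr *ᵥ y = lam • (fun i => ((ℓ' i : ℚ) : ℝ)) := by
    ext i
    by_cases hi : 0 < y i
    · rw [hrow1 y i hi (fun j hj => hj)]
      have hfo := first_order ℓ B y hy (Pi.single i 1) (by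
        intro j hj
        have hji : j ≠ i := by
          rintro rfl
          rw [hj] at hi
          exact lt_irrefl _ hi
        simp [Pi.single_apply, hji])
      rw [D_single, dotProduct_single, mul_one] at hfo
      simp only [Pi.smul_apply, smul_eq_mul, ℓ', if_pos hi]
      rw [hlam]
      field_simp
      linarith
    · rw [hrow0 y i hi]
      have hi0 : y i = 0 := le_antisymm (not_lt.mp hi) (hy0 i)
      have hl0 : ℓ' i = 0 := if_neg hi
      simp only [Pi.smul_apply, smul_eq_mul, hl0, Rat.cast_zero, mul_zero, hi0]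
  have hdetr : Tr.det ≠ 0 := by
    intro h0
    obtain ⟨v, hv, hv0⟩ := Matrix.exists_mulVec_eq_zero_iff.mpr h0
    exact hv (hker v hv0)
  have hdet : T.det ≠ 0 := by
    intro h0
    apply hdetr
    have h1 : Tr = (Rat.castHom ℝ).mapMatrix T := by
      ext i j
      simp [Tr]
    rw [h1, ← RingHom.map_det, h0, map_zero]
  set x : Fin n → ℚ := T⁻¹ *ᵥ ℓ' with hxdef
  have hTx : T *ᵥ x = ℓ' := by
    rw [hxdef, Matrix.mulVec_mulVec, Matrix.mul_nonsing_inv _ (isUnit_iff_ne_zero.mpr hdet),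
      Matrix.one_mulVec]
  set xr : Fin n → ℝ := fun i => (x i : ℝ) with hxr
  have hTxr : Tr *ᵥ xr = fun i => ((ℓ' i : ℚ) : ℝ) := by
    ext i
    have := congrFun hTx i
    simp only [mulVec, dotProduct] at this ⊢
    rw [← this]
    push_cast
    rfl
  have hyx : y = lam • xr := by
    have h0 : Tr *ᵥ (y - lam • xr) = 0 := by
      rw [Matrix.mulVec_sub, Matrix.mulVec_smul, hTy, hTxr, sub_self]
    exact sub_eq_zero.mp (hker _ h0)
  have hxr' : xr = lam⁻¹ • y := by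
    rw [hyx, smul_smul, inv_mul_cancel₀ hlampos.ne', one_smul]
  have hxmax : IsMax ℓ B xr := by
    rw [hxr']
    exact isMax_smul ℓ B y hy _ (inv_pos.mpr hlampos)
  refine ⟨x, fun i => ?_, ?_, fun y' hy'0 hy'ne => ?_⟩
  · have h1 : (0 : ℝ) ≤ ((x i : ℚ) : ℝ) := hxmax.1 i
    exact_mod_cast h1
  · intro hx0
    have h1 : xr = 0 := by
      ext i
      simp [hxr, hx0]
    have h2 := hxmax.2.1
    rw [h1] at h2
    simp at h2
  · exact final_form ℓ B hpos' xr hxmax y' hy'0 hy'ne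

end Helper91.RatMax
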