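import Groth.Prelude.Def_W4c2filtblowupsingRees
import Mathlib

/-!
# Rees algebras of valuation filtrations are integrally closed
-/

open Polynomial

namespace Helper91.ReesNormal

/-- The function `n ↦ 2^(-q n)` on `ℤ ∪ {∞}`. -/
noncomputable def phi (q : ℕ) (a : WithTop ℤ) : ℝ :=
  if a = ⊤ then 0 else (2 : ℝ) ^ (-(q : ℤ) * a.untopD 0)

@[simp] theorem phi_top (q : ℕ) : phi q ⊤ = 0 := by simp [phi]

@[simp] theorem phi_coe (q : ℕ) (n : ℤ) : phi q (n : WithTop ℤ) = (2 : ℝ) ^ (-(q : ℤ) * n) := by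
  simp [phi]

theorem phi_nonneg (q : ℕ) (a : WithTop ℤ) : 0 ≤ phi q a := by
  induction a using WithTop.recTopCoe with
  | top => simp
  | coe n => rw [phi_coe]; positivity

theorem phi_add (q : ℕ) (a b : WithTop ℤ) : phi q (a + b) = phi q a * phi q b := by
  induction a using WithTop.recTopCoe with
  | top => simp
  | coe n =>
    induction b using WithTop.recTopCoe with
    | top => simp
    | coe k =>
      rw [← WithTop.coe_add, phi_coe, phi_coe, phi_coe, ← zpow_add₀ (by norm_num : (2 : ℝ) ≠ 0)]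
      congr 1
      ring

theorem phi_eq_zero_iff (q : ℕ) (a : WithTop ℤ) : phi q a = 0 ↔ a = ⊤ := by
  induction a using WithTop.recTopCoe with
  | top => simp
  | coe n =>
    rw [phi_coe]
    simp only [WithTop.coe_ne_top, iff_false]
    positivity

theorem phi_anti (q : ℕ) {a b : WithTop ℤ} (h : a ≤ b) : phi q b ≤ phi q a := by
  induction b using WithTop.recTopCoe with
  | top => rw [phi_top]; exact phi_nonneg q a
  | coe k =>
    induction a using WithTop.recTopCoe with
    | top => exact absurd h (by simp)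
    | coe n =>
      rw [phi_coe, phi_coe]
      have hnk : n ≤ k := WithTop.coe_le_coe.mp h
      apply zpow_le_zpow_right₀ (by norm_num)
      have : (0 : ℤ) ≤ q := Int.natCast_nonneg q
      nlinarith

theorem phi_min (q : ℕ) (a b : WithTop ℤ) : phi q (min a b) = max (phi q a) (phi q b) := by
  rcases le_total a b with h | h
  · rw [min_eq_left h, max_eq_left (phi_anti q h)]
  · rw [min_eq_right h, max_eq_right (phi_anti q h)]

variable {K : Type*} [Field K]

/-- The real absolute value `x ↦ 2^(-q v(x))`. -/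
noncomputable def absOf (v : AddValuation K (WithTop ℤ)) (q : ℕ) : AbsoluteValue K ℝ where
  toFun x := phi q (v x)
  map_mul' x y := by rw [AddValuation.map_mul, phi_add]
  nonneg' x := phi_nonneg q _
  eq_zero' x := by rw [phi_eq_zero_iff, AddValuation.top_iff]
  add_le' x y := by
    have h1 : phi q (v (x + y)) ≤ phi q (min (v x) (v y)) := phi_anti q (AddValuation.map_add v x y)
    rw [phi_min] at h1
    have h2 := phi_nonneg q (v x)
    have h3 := phi_nonneg q (v y)
    exact h1.trans (max_le (by linarith) (by linarith))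

theorem absOf_apply (v : AddValuation K (WithTop ℤ)) (q : ℕ) (x : K) :
    absOf v q x = phi q (v x) := rfl

theorem absOf_nonarch (v : AddValuation K (WithTop ℤ)) (q : ℕ) :
    IsNonarchimedean (absOf v q) := by
  intro x y
  have h1 : phi q (v (x + y)) ≤ phi q (min (v x) (v y)) := phi_anti q (AddValuation.map_add v x y)
  rw [phi_min] at h1
  exact h1


theorem cond_iff (v : AddValuation K (WithTop ℤ)) (p q : ℕ) (hq : 0 < q) (k : ℕ) (x : K) :
    ((k * p : ℕ) : WithTop ℤ) ≤ (q : WithTop ℤ) * v x ↔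
      absOf v q x * ((2 : ℝ) ^ p) ^ k ≤ 1 := by
  rw [absOf_apply]
  generalize v x = a
  induction a using WithTop.recTopCoe with
  | top =>
    have hq' : (q : WithTop ℤ) ≠ 0 := by
      exact_mod_cast hq.ne'
    rw [WithTop.mul_top hq']
    simp
  | coe n =>
    rw [phi_coe]
    have h1 : ((k * p : ℕ) : WithTop ℤ) = (((k * p : ℕ) : ℤ) : WithTop ℤ) := by
      norm_cast
    have h2 : (q : WithTop ℤ) * (n : WithTop ℤ) = (((q : ℤ) * n : ℤ) : WithTop ℤ) := by
      norm_cast
    rw [h1, h2, WithTop.coe_le_coe]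
    have h3 : ((2 : ℝ) ^ p) ^ k = (2 : ℝ) ^ (((k * p : ℕ) : ℤ)) := by
      rw [← pow_mul, zpow_natCast, mul_comm]
    rw [h3, ← zpow_add₀ (by norm_num : (2 : ℝ) ≠ 0)]
    rw [zpow_le_one_iff_right₀ (by norm_num : (1 : ℝ) < 2)]
    constructor <;> intro h <;> linarith


theorem gaussNorm_le_one_iff (v : AbsoluteValue K ℝ) (c : ℝ) (hc : 0 ≤ c) (g : K[X]) :
    g.gaussNorm v c ≤ 1 ↔ ∀ k, v (g.coeff k) * c ^ k ≤ 1 := by
  constructor
  · intro h k
    exact (le_gaussNorm v g hc k).trans h
  · intro h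
    obtain ⟨i, hi⟩ := exists_eq_gaussNorm v c g
    rw [hi]
    exact h i

/-- An element satisfying a monic equation with coefficients of norm `≤ 1` has norm `≤ 1`. -/
theorem norm_le_one_of_monic_eq {B : Type*} [CommRing B] (N : B → ℝ) (hN0 : N 0 = 0)
    (hN1 : N 1 = 1) (hmul : ∀ x y, N (x * y) = N x * N y) (hnn : ∀ x, 0 ≤ N x)
    (hna : IsNonarchimedean N) (hneg : ∀ x, N (-x) = N x) (x : B) (n : ℕ) (s : ℕ → B)
    (hs : ∀ j, N (s j) ≤ 1) (heq : x ^ n + ∑ j ∈ Finset.range n, s j * x ^ j = 0) :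
    N x ≤ 1 := by
  by_contra hlt
  push Not at hlt
  have hpow : ∀ j : ℕ, N (x ^ j) = N x ^ j := by
    intro j
    induction j with
    | zero => simp [hN1]
    | succ j ih => rw [pow_succ, hmul, ih, pow_succ]
  rcases Nat.eq_zero_or_pos n with rfl | hn
  · simp only [pow_zero, Finset.range_zero, Finset.sum_empty, add_zero] at heq
    rw [heq, hN0] at hN1
    exact zero_ne_one hN1
  · have h1 : x ^ n = -∑ j ∈ Finset.range n, s j * x ^ j := eq_neg_of_add_eq_zero_left heq
    have h2 : N x ^ n = N (∑ j ∈ Finset.range n, s j * x ^ j) := by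
      rw [← hpow, h1, hneg]
    obtain ⟨j, hj, hle⟩ := IsNonarchimedean.finset_image_add_of_nonempty hna
      (fun j => s j * x ^ j) (Finset.nonempty_range_iff.mpr hn.ne')
    rw [← h2] at hle
    simp only [hmul, hpow] at hle
    have hj' : j ≤ n - 1 := by
      have := Finset.mem_range.mp hj
      omega
    have h3 : N (s j) * N x ^ j ≤ N x ^ (n - 1) := by
      calc N (s j) * N x ^ j ≤ 1 * N x ^ j := by
            apply mul_le_mul_of_nonneg_right (hs j)
            exact pow_nonneg (hnn x) j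
        _ = N x ^ j := one_mul _
        _ ≤ N x ^ (n - 1) := pow_le_pow_right₀ hlt.le hj'
    have h4 : N x ^ n = N x ^ (n - 1) * N x := by
      rw [← pow_succ]
      congr 1
      omega
    have h5 : 0 < N x ^ (n - 1) := pow_pos (lt_trans one_pos hlt) _
    have h6 : N x ^ (n - 1) * N x ≤ N x ^ (n - 1) * 1 := by
      rw [← h4, mul_one]
      exact hle.trans h3
    have := le_of_mul_le_mul_left h6 h5
    linarith


section Main

universe u

variable (A K : Type u) [CommRing A] [IsDomain A] [Field K] [Algebra A K] [IsFractionRing A K]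
  (ι : Type) (v : ι → AddValuation K (WithTop ℤ)) (p q : ι → ℕ) (hq : ∀ i, 0 < q i)
  (𝓕 : FiltBl.IdealFiltration A)
  (hF : ∀ (k : ℕ) (x : A), x ∈ 𝓕.F k ↔
      ∀ i, ((k * p i : ℕ) : WithTop ℤ) ≤ (q i : WithTop ℤ) * v i (algebraMap A K x))

include hq hF in
theorem mem_rees_iff (f : A[X]) :
    f ∈ 𝓕.rees ↔ ∀ i, (f.map (algebraMap A K)).gaussNorm (absOf (v i) (q i)) ((2 : ℝ) ^ p i) ≤ 1 := by
  have hc : ∀ i, (0 : ℝ) ≤ (2 : ℝ) ^ p i := fun i => by positivity
  constructor
  · intro hf i
    rw [gaussNorm_le_one_iff _ _ (hc i)]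
    intro k
    rw [coeff_map, ← cond_iff (v i) (p i) (q i) (hq i)]
    exact (hF k _).mp (hf k) i
  · intro h k
    rw [hF]
    intro i
    rw [cond_iff (v i) (p i) (q i) (hq i), ← coeff_map]
    exact (gaussNorm_le_one_iff _ _ (hc i) _).mp (h i) k

include hq hF in
theorem mem_rees_of_isIntegral (f : A[X]) (hf : IsIntegral 𝓕.rees f) : f ∈ 𝓕.rees := by
  rw [mem_rees_iff A K ι v p q hq 𝓕 hF]
  intro i
  have hc : (0 : ℝ) < (2 : ℝ) ^ p i := by positivity
  obtain ⟨P, hPmonic, hPeval⟩ := hf
  set μ : A[X] →+* K[X] := mapRingHom (algebraMap A K) with hμ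
  set N : K[X] → ℝ := fun g => g.gaussNorm (absOf (v i) (q i)) ((2 : ℝ) ^ p i) with hN
  have hna := absOf_nonarch (v i) (q i)
  have hNmul : ∀ x y, N (x * y) = N x * N y := fun x y => gaussNorm_mul hna hc x y
  have hN1 : N 1 = 1 := by
    have : (1 : K[X]) = C 1 := by simp
    simp only [hN]
    rw [this, gaussNorm_C]
    simp
  have hNneg : ∀ x, N (-x) = N x := by
    intro x
    have h1 : -x = C (-1) * x := by simp
    rw [h1, hNmul]
    have : N (C (-1)) = 1 := by
      simp only [hN]
      rw [gaussNorm_C]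
      simp
    rw [this, one_mul]
  have key := norm_le_one_of_monic_eq N (by simp [hN]) hN1 hNmul
    (fun x => gaussNorm_nonneg _ _ hc.le) (isNonarchimedean_gaussNorm _ hna hc.le) hNneg
    (μ f) P.natDegree (fun j => μ (P.coeff j : A[X])) ?_ ?_
  · exact key
  · intro j
    have hmem : ((P.coeff j : 𝓕.rees) : A[X]) ∈ 𝓕.rees := (P.coeff j).2
    exact (mem_rees_iff A K ι v p q hq 𝓕 hF _).mp hmem i
  · have h1 := congrArg μ hPeval
    rw [map_zero, eval₂_eq_sum_range, map_sum, Finset.sum_range_succ] at h1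
    simp only [map_mul, map_pow] at h1
    rw [hPmonic.coeff_natDegree] at h1
    rw [add_comm] at h1
    have h2 : μ ((algebraMap (↥𝓕.rees) A[X]) 1) = 1 := by simp
    rw [h2, one_mul] at h1
    exact h1

end Main


section Final

universe u

theorem main14652 (A K : Type u) [CommRing A] [IsDomain A]
    [IsNoetherianRing A] [IsIntegrallyClosed A] [Field K] [Algebra A K] [IsFractionRing A K]
    (ι : Type) [Finite ι] (v : ι → AddValuation K (WithTop ℤ))
    (hv : ∀ (i : ι) (x : A), 0 ≤ v i (algebraMap A K x)) (p q : ι → ℕ) (hp : ∀ i, 0 < p i)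
    (hq : ∀ i, 0 < q i) (𝓕 : FiltBl.IdealFiltration A)
    (hF : ∀ (k : ℕ) (x : A), x ∈ 𝓕.F k ↔
      ∀ i, ((k * p i : ℕ) : WithTop ℤ) ≤ (q i : WithTop ℤ) * v i (algebraMap A K x)) :
    IsIntegrallyClosed 𝓕.rees := by
  let S := ↥𝓕.rees
  let M := FractionRing A[X]
  let g : S →+* M := (algebraMap A[X] M).comp (algebraMap S A[X])
  have hg : Function.Injective g := by
    intro a b hab
    have h1 : algebraMap S A[X] a = algebraMap S A[X] b :=
      IsFractionRing.injective A[X] M hab
    exact Subtype.ext h1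
  have hgalg : g = algebraMap S M := rfl
  let ψ : FractionRing S →+* M := IsFractionRing.lift hg
  have hψ : ∀ s : S, ψ (algebraMap S (FractionRing S) s) = g s := fun s =>
    IsFractionRing.lift_algebraMap hg s
  rw [isIntegrallyClosed_iff (FractionRing S)]
  intro z hz
  -- transfer integrality to `M`
  have hz' : IsIntegral S (ψ z) := by
    obtain ⟨P, hPm, hPe⟩ := hz
    refine ⟨P, hPm, ?_⟩
    have h1 := congrArg ψ hPe
    rw [map_zero, hom_eval₂] at h1
    have h2 : ψ.comp (algebraMap S (FractionRing S)) = algebraMap S M := by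
      ext s
      exact hψ s
    rw [h2] at h1
    exact h1
  have hz'' : IsIntegral A[X] (ψ z) := hz'.tower_top
  obtain ⟨f, hf⟩ := IsIntegrallyClosed.isIntegral_iff.mp hz''
  have hfint : IsIntegral S f := by
    rw [← hf] at hz'
    exact (isIntegral_algebraMap_iff (IsFractionRing.injective A[X] M)).mp hz'
  have hfmem : f ∈ 𝓕.rees := mem_rees_of_isIntegral A K ι v p q hq 𝓕 hF f hfint
  refine ⟨⟨f, hfmem⟩, ?_⟩
  apply ψ.injective
  rw [hψ, ← hf]
  rfl

end Final

end Helper91.ReesNormal
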