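import Mathlib

/-!
# Lifting direct summands over a square-zero extension (helper91)

Everything is phrased in the "G-picture": an `R ⧸ 𝔫`-submodule `Fb` of `(R ⧸ 𝔫) ⊗ H` corresponds to
the `R`-submodule `G = π⁻¹ Fb` of `H` containing `𝔫 H`, where `π x = 1 ⊗ x`.
-/

namespace Helper91.SqZero

open Submodule LinearMap TensorProduct

section Proj

variable {R : Type*} [CommRing R] {M : Type*} [AddCommGroup M] [Module R M]

/-- A submodule with projective quotient is the image of a projection. -/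
theorem exists_isProj (p : Submodule R M) [Module.Projective R (M ⧸ p)] :
    ∃ e : M →ₗ[R] M, LinearMap.IsProj p e := by
  obtain ⟨t, ht⟩ :=
    Module.projective_lifting_property p.mkQ LinearMap.id (Submodule.mkQ_surjective p)
  have ht' : ∀ y, p.mkQ (t y) = y := fun y => LinearMap.congr_fun ht y
  refine ⟨LinearMap.id - t ∘ₗ p.mkQ, ⟨fun x => ?_, fun x hx => ?_⟩⟩
  · rw [← Submodule.Quotient.mk_eq_zero p]
    have h1 := ht' (p.mkQ x)
    simp only [Submodule.mkQ_apply] at h1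
    simp [Submodule.Quotient.mk_sub, h1]
  · have h0 : p.mkQ x = 0 := by simpa using hx
    simp [h0]

theorem projective_of_isProj {p : Submodule R M} {e : M →ₗ[R] M} (he : LinearMap.IsProj p e)
    [Module.Projective R M] : Module.Projective R p :=
  Module.Projective.of_split p.subtype he.codRestrict (by
    ext x
    simp)

theorem smul_top_inf_le {p : Submodule R M} {e : M →ₗ[R] M} (he : LinearMap.IsProj p e)
    (𝔫 : Ideal R) {a : M} (ha : a ∈ p) (ha' : a ∈ 𝔫 • (⊤ : Submodule R M)) : a ∈ 𝔫 • p := by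
  have h1 : e a ∈ map e (𝔫 • (⊤ : Submodule R M)) := mem_map_of_mem ha'
  rw [Submodule.map_smul''] at h1
  rw [he.map_id a ha] at h1
  refine Submodule.smul_mono le_rfl ?_ h1
  rintro _ ⟨x, -, rfl⟩
  exact he.map_mem x

theorem map_smul_top_le {M' : Type*} [AddCommGroup M'] [Module R M'] (φ : M →ₗ[R] M') (𝔫 : Ideal R)
    {a : M} (ha : a ∈ 𝔫 • (⊤ : Submodule R M)) : φ a ∈ 𝔫 • (⊤ : Submodule R M') := by
  have h1 : φ a ∈ map φ (𝔫 • (⊤ : Submodule R M)) := mem_map_of_mem ha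
  rw [Submodule.map_smul''] at h1
  exact Submodule.smul_mono le_rfl le_top h1

end Proj


section Core

variable {R : Type*} [CommRing R]
  {H₁ H H₂ : Type*} [AddCommGroup H₁] [Module R H₁] [AddCommGroup H] [Module R H]
  [AddCommGroup H₂] [Module R H₂]

/-- The data of a split short exact sequence with direct summands `F₁ ⊆ H₁`, `F₂ ⊆ H₂`. -/
structure Setup (f : H₁ →ₗ[R] H) (g : H →ₗ[R] H₂) (F₁ : Submodule R H₁) (F₂ : Submodule R H₂) where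
  hf : Function.Injective f
  hfg : Function.Exact f g
  e₁ : H₁ →ₗ[R] H₁
  he₁ : LinearMap.IsProj F₁ e₁
  e₂ : H₂ →ₗ[R] H₂
  he₂ : LinearMap.IsProj F₂ e₂
  s : H₂ →ₗ[R] H
  hs : ∀ y, g (s y) = y

variable {f : H₁ →ₗ[R] H} {g : H →ₗ[R] H₂} {F₁ : Submodule R H₁} {F₂ : Submodule R H₂}

namespace Setup

variable (S : Setup f g F₁ F₂)

include S in
theorem gf (a : H₁) : g (f a) = 0 := S.hfg.apply_apply_eq_zero a

include S in
theorem exists_of_g_eq_zero {x : H} (hx : g x = 0) : ∃ a, f a = x := (S.hfg x).mp hx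

include S in
theorem hg : Function.Surjective g := fun y => ⟨S.s y, S.hs y⟩

/-- The retraction of `f` attached to the section `s`. -/
noncomputable def r : H →ₗ[R] H₁ :=
  (LinearEquiv.ofInjective f S.hf).symm.toLinearMap ∘ₗ
    (LinearMap.id - S.s ∘ₗ g).codRestrict (LinearMap.range f) (fun x => by
      obtain ⟨a, ha⟩ := S.exists_of_g_eq_zero (x := x - S.s (g x)) (by simp [S.hs])
      exact ⟨a, by simpa using ha⟩)

theorem f_r (x : H) : f (S.r x) = x - S.s (g x) := by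
  simp [r]

theorem r_f (a : H₁) : S.r (f a) = a := by
  apply S.hf
  rw [S.f_r, S.gf]
  simp

include S in
theorem r_smul_top (𝔫 : Ideal R) {n : H₁} (hn : f n ∈ 𝔫 • (⊤ : Submodule R H)) :
    n ∈ 𝔫 • (⊤ : Submodule R H₁) := by
  have := map_smul_top_le S.r 𝔫 hn
  rwa [S.r_f] at this

end Setup

/-- The submodule `f(F₁) + σ(F₂)` attached to a lift `σ : F₂ → H`. -/
def FF (f : H₁ →ₗ[R] H) (F₁ : Submodule R H₁) {F₂ : Submodule R H₂} (σ : F₂ →ₗ[R] H) :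
    Submodule R H := map f F₁ ⊔ LinearMap.range σ

theorem mem_FF {σ : F₂ →ₗ[R] H} {x : H} :
    x ∈ FF f F₁ σ ↔ ∃ a ∈ F₁, ∃ b : F₂, f a + σ b = x := by
  unfold FF
  rw [Submodule.mem_sup]
  constructor
  · rintro ⟨y, ⟨a, ha, rfl⟩, z, ⟨b, rfl⟩, rfl⟩
    exact ⟨a, ha, b, rfl⟩
  · rintro ⟨a, ha, b, rfl⟩
    exact ⟨f a, mem_map_of_mem ha, σ b, LinearMap.mem_range_self σ b, rfl⟩

theorem map_f_le_FF (σ : F₂ →ₗ[R] H) : map f F₁ ≤ FF f F₁ σ := le_sup_left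

theorem sigma_mem_FF (σ : F₂ →ₗ[R] H) (b : F₂) : σ b ∈ FF (f := f) F₁ σ :=
  (le_sup_right : LinearMap.range σ ≤ FF f F₁ σ) (LinearMap.mem_range_self σ b)

variable (S : Setup f g F₁ F₂)

include S in
theorem FF_inf_range {σ : F₂ →ₗ[R] H} (hσ : ∀ b : F₂, g (σ b) = b) :
    FF f F₁ σ ⊓ LinearMap.range f = map f F₁ := by
  apply le_antisymm
  · rintro x ⟨hx, ⟨c, rfl⟩⟩
    obtain ⟨a, ha, b, hab⟩ := mem_FF.mp hx
    have h1 := congrArg g hab
    rw [map_add, S.gf, S.gf, hσ, zero_add] at h1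
    have hb : b = 0 := Subtype.ext h1
    rw [hb, map_zero, add_zero] at hab
    rw [← hab]
    exact mem_map_of_mem ha
  · refine le_inf (map_f_le_FF σ) ?_
    rintro _ ⟨a, -, rfl⟩
    exact LinearMap.mem_range_self f a

include S in
theorem FF_map_g {σ : F₂ →ₗ[R] H} (hσ : ∀ b : F₂, g (σ b) = b) :
    map g (FF f F₁ σ) = F₂ := by
  apply le_antisymm
  · rintro _ ⟨x, hx, rfl⟩
    obtain ⟨a, ha, b, rfl⟩ := mem_FF.mp hx
    rw [map_add, S.gf, hσ, zero_add]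
    exact b.2
  · intro y hy
    exact ⟨σ ⟨y, hy⟩, sigma_mem_FF σ _, hσ ⟨y, hy⟩⟩

include S in
theorem FF_isCompl {σ : F₂ →ₗ[R] H} (hσ : ∀ b : F₂, g (σ b) = b) :
    ∃ C : Submodule R H, IsCompl (FF f F₁ σ) C := by
  refine ⟨map f (LinearMap.ker S.e₁) ⊔ map S.s (LinearMap.ker S.e₂), ?_, ?_⟩
  · rw [Submodule.disjoint_def]
    intro x hx hx'
    obtain ⟨a, ha, b, hab⟩ := mem_FF.mp hx
    obtain ⟨y, ⟨c, hc, rfl⟩, z, ⟨d, hd, rfl⟩, hyz⟩ := Submodule.mem_sup.mp hx'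
    have h1 : g (f a + σ b) = g (f c + S.s d) := by rw [hab, hyz]
    rw [map_add, map_add, S.gf, S.gf, hσ, S.hs, zero_add, zero_add] at h1
    have hd0 : d = 0 := by
      have h2 : S.e₂ d = d := S.he₂.map_id d (h1 ▸ b.2)
      rw [← h2]
      exact hd
    have hb0 : b = 0 := Subtype.ext (h1.trans hd0)
    rw [hb0, map_zero, add_zero] at hab
    rw [hd0, map_zero, add_zero] at hyz
    have hac : a = c := S.hf (hab.trans hyz.symm)
    have ha0 : a = 0 := by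
      have h2 : S.e₁ a = a := S.he₁.map_id a ha
      rw [← h2, hac]
      exact hc
    rw [← hab, ha0, map_zero]
  · rw [codisjoint_iff, eq_top_iff]
    intro x _
    set y := g x with hy
    set b : F₂ := ⟨S.e₂ y, S.he₂.map_mem y⟩ with hb
    have hker : g (x - (σ b + S.s (y - S.e₂ y))) = 0 := by
      rw [map_sub, map_add, hσ, S.hs]
      simp [hb, hy]
    obtain ⟨a, ha⟩ := S.exists_of_g_eq_zero hker
    have hx : x = (f (S.e₁ a) + σ b) + (f (a - S.e₁ a) + S.s (y - S.e₂ y)) := by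
      rw [map_sub, ha]
      abel
    rw [hx]
    refine Submodule.add_mem_sup (mem_FF.mpr ⟨S.e₁ a, S.he₁.map_mem a, b, rfl⟩) ?_
    refine Submodule.add_mem_sup (mem_map_of_mem ?_) (mem_map_of_mem ?_)
    · rw [LinearMap.mem_ker, map_sub, S.he₁.map_id _ (S.he₁.map_mem a), sub_self]
    · rw [LinearMap.mem_ker, map_sub, S.he₂.map_id _ (S.he₂.map_mem y), sub_self]

include S in
/-- Every `F` with `F ∩ H₁ = F₁` and `g(F) = F₂` is of the form `FF σ`. -/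
theorem exists_FF [Module.Projective R F₂] {F : Submodule R H}
    (h1 : F ⊓ LinearMap.range f = map f F₁) (h2 : map g F = F₂) :
    ∃ σ : F₂ →ₗ[R] H, (∀ b : F₂, g (σ b) = b) ∧ (∀ b, σ b ∈ F) ∧ F = FF f F₁ σ := by
  let gF : F →ₗ[R] F₂ := (g ∘ₗ F.subtype).codRestrict F₂ (fun x => by
    rw [← h2]; exact mem_map_of_mem x.2)
  have gF_surj : Function.Surjective gF := by
    intro b
    have hb : (b : H₂) ∈ map g F := by rw [h2]; exact b.2
    obtain ⟨x, hxF, hx⟩ := hb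
    exact ⟨⟨x, hxF⟩, Subtype.ext hx⟩
  obtain ⟨τ, hτ⟩ := Module.projective_lifting_property gF LinearMap.id gF_surj
  have hσg : ∀ b : F₂, g ((F.subtype ∘ₗ τ) b) = b := fun b => by
    have := LinearMap.congr_fun hτ b
    exact congrArg Subtype.val this
  refine ⟨F.subtype ∘ₗ τ, hσg, fun b => (τ b).2, ?_⟩
  apply le_antisymm
  · intro x hx
    have hgx : g x ∈ F₂ := by rw [← h2]; exact mem_map_of_mem hx
    set b : F₂ := ⟨g x, hgx⟩
    have hker : x - (F.subtype ∘ₗ τ) b ∈ F ⊓ LinearMap.range f := by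
      refine ⟨F.sub_mem hx (τ b).2, ?_⟩
      obtain ⟨a, ha⟩ := S.exists_of_g_eq_zero (x := x - (F.subtype ∘ₗ τ) b) (by
        rw [map_sub, hσg b, sub_self])
      exact ⟨a, ha⟩
    rw [h1] at hker
    obtain ⟨a, ha, hax⟩ := hker
    exact mem_FF.mpr ⟨a, ha, b, by rw [hax]; abel⟩
  · intro x hx
    obtain ⟨a, ha, b, rfl⟩ := mem_FF.mp hx
    refine F.add_mem ?_ (τ b).2
    have : f a ∈ F ⊓ LinearMap.range f := by rw [h1]; exact mem_map_of_mem ha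
    exact this.1

theorem FF_le_of_sub_mem {σ σ' : F₂ →ₗ[R] H}
    (h : ∀ b : F₂, ∃ a ∈ F₁, σ' b = σ b + f a) : FF f F₁ σ' ≤ FF f F₁ σ := by
  intro x hx
  obtain ⟨a, ha, b, rfl⟩ := mem_FF.mp hx
  obtain ⟨a', ha', hb⟩ := h b
  exact mem_FF.mpr ⟨a + a', F₁.add_mem ha ha', b, by rw [hb, map_add]; abel⟩

theorem FF_eq_of_sub_mem {σ σ' : F₂ →ₗ[R] H}
    (h : ∀ b : F₂, ∃ a ∈ F₁, σ' b = σ b + f a) : FF f F₁ σ' = FF f F₁ σ := by
  apply le_antisymm (FF_le_of_sub_mem h)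
  apply FF_le_of_sub_mem
  intro b
  obtain ⟨a, ha, hb⟩ := h b
  exact ⟨-a, F₁.neg_mem ha, by rw [hb, map_neg]; abel⟩

include S in
theorem map_phi_FF (u : H₂ →ₗ[R] H₁) {σ : F₂ →ₗ[R] H} (hσ : ∀ b : F₂, g (σ b) = b) :
    map (LinearMap.id + f ∘ₗ u ∘ₗ g) (FF f F₁ σ) = FF f F₁ (σ + f ∘ₗ u ∘ₗ F₂.subtype) := by
  apply le_antisymm
  · rintro _ ⟨x, hx, rfl⟩
    obtain ⟨a, ha, b, rfl⟩ := mem_FF.mp hx
    refine mem_FF.mpr ⟨a, ha, b, ?_⟩
    simp only [LinearMap.add_apply, LinearMap.id_apply, LinearMap.comp_apply, map_add, S.gf, hσ,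
      Submodule.subtype_apply, map_zero]
    abel
  · intro x hx
    obtain ⟨a, ha, b, rfl⟩ := mem_FF.mp hx
    refine ⟨f a + σ b, mem_FF.mpr ⟨a, ha, b, rfl⟩, ?_⟩
    simp only [LinearMap.add_apply, LinearMap.id_apply, LinearMap.comp_apply, map_add, S.gf, hσ,
      Submodule.subtype_apply, map_zero]
    abel


/-- Membership in the set `L` of lifts (in the `G`-picture). -/
def InL (f : H₁ →ₗ[R] H) (g : H →ₗ[R] H₂) (F₁ : Submodule R H₁) (F₂ : Submodule R H₂)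
    (N G : Submodule R H) (F : Submodule R H) : Prop :=
  (∃ C : Submodule R H, IsCompl F C) ∧ F ⊓ LinearMap.range f = map f F₁ ∧ F ⊔ N = G ∧
    map g F = F₂

include S in
theorem core_exists [Module.Projective R F₂] (G N : Submodule R H) (hNG : N ≤ G)
    (ha : map f F₁ ≤ G) (hb : G ⊓ LinearMap.range f ≤ map f F₁ ⊔ N)
    (hc : F₂ ≤ map g G) (hd : map g G ≤ F₂ ⊔ map g N) :
    ∃ F : Submodule R H, InL f g F₁ F₂ N G F := by
  let K : Submodule R H := G ⊓ comap g F₂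
  let gK : K →ₗ[R] F₂ := (g ∘ₗ K.subtype).codRestrict F₂ (fun x => x.2.2)
  have gK_surj : Function.Surjective gK := by
    intro b
    obtain ⟨x, hxG, hx⟩ := hc b.2
    exact ⟨⟨x, hxG, by show g x ∈ F₂; rw [hx]; exact b.2⟩, Subtype.ext hx⟩
  obtain ⟨τ, hτ⟩ := Module.projective_lifting_property gK LinearMap.id gK_surj
  set σ : F₂ →ₗ[R] H := K.subtype ∘ₗ τ with hσdef
  have hσG : ∀ b, σ b ∈ G := fun b => (τ b).2.1
  have hσg : ∀ b : F₂, g (σ b) = b := fun b => by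
    have := LinearMap.congr_fun hτ b
    exact congrArg Subtype.val this
  refine ⟨FF f F₁ σ, FF_isCompl S hσg, FF_inf_range S hσg, ?_, FF_map_g S hσg⟩
  apply le_antisymm
  · refine sup_le ?_ hNG
    intro x hx
    obtain ⟨a, ha', b, rfl⟩ := mem_FF.mp hx
    exact G.add_mem (ha (mem_map_of_mem ha')) (hσG b)
  · intro x hx
    have h1 : g x ∈ F₂ ⊔ map g N := hd (mem_map_of_mem hx)
    obtain ⟨y, hy, z, ⟨m, hm, rfl⟩, hyz⟩ := Submodule.mem_sup.mp h1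
    set b : F₂ := ⟨y, hy⟩ with hbdef
    have h2 : x - σ b - m ∈ G ⊓ LinearMap.range f := by
      refine ⟨G.sub_mem (G.sub_mem hx (hσG b)) (hNG hm), ?_⟩
      obtain ⟨a, ha⟩ := S.exists_of_g_eq_zero (x := x - σ b - m) (by
        rw [map_sub, map_sub, hσg b, ← hyz]; simp [hbdef])
      exact ⟨a, ha⟩
    obtain ⟨y', ⟨a, ha', rfl⟩, n, hn, hyn⟩ := Submodule.mem_sup.mp (hb h2)
    have hx' : x = (f a + σ b) + (n + m) := by
      have : x = (f a + n) + σ b + m := by rw [hyn]; abel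
      rw [this]; abel
    rw [hx']
    exact Submodule.add_mem_sup (mem_FF.mpr ⟨a, ha', b, rfl⟩) (N.add_mem hn hm)

include S in
theorem core_torsor [Module.Projective R F₂] (𝔫 : Ideal R) (G : Submodule R H)
    (hb : G ⊓ LinearMap.range f ≤ map f F₁ ⊔ 𝔫 • (⊤ : Submodule R H))
    {F F' : Submodule R H} (hF : InL f g F₁ F₂ (𝔫 • (⊤ : Submodule R H)) G F)
    (hF' : InL f g F₁ F₂ (𝔫 • (⊤ : Submodule R H)) G F') :
    (∀ u : H₂ →ₗ[R] H₁, (∀ y, u y ∈ 𝔫 • (⊤ : Submodule R H₁)) →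
        InL f g F₁ F₂ (𝔫 • (⊤ : Submodule R H)) G (map (LinearMap.id + f ∘ₗ u ∘ₗ g) F)) ∧
    (∀ u : H₂ →ₗ[R] H₁, (∀ y, u y ∈ 𝔫 • (⊤ : Submodule R H₁)) →
        (map (LinearMap.id + f ∘ₗ u ∘ₗ g) F = F ↔ ∀ y ∈ F₂, u y ∈ 𝔫 • F₁)) ∧
    (∃ u : H₂ →ₗ[R] H₁, (∀ y, u y ∈ 𝔫 • (⊤ : Submodule R H₁)) ∧
        F' = map (LinearMap.id + f ∘ₗ u ∘ₗ g) F) := by
  obtain ⟨σ, hσg, hσF, rfl⟩ := exists_FF S hF.2.1 hF.2.2.2
  obtain ⟨σ', hσ'g, hσ'F, rfl⟩ := exists_FF S hF'.2.1 hF'.2.2.2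
  refine ⟨fun u hu => ?_, fun u hu => ?_, ?_⟩
  · rw [map_phi_FF S u hσg]
    have hσn : ∀ b : F₂, g ((σ + f ∘ₗ u ∘ₗ F₂.subtype) b) = b := fun b => by
      simp [hσg, S.gf]
    refine ⟨FF_isCompl S hσn, FF_inf_range S hσn, ?_, FF_map_g S hσn⟩
    rw [← hF.2.2.1]
    apply le_antisymm
    · refine sup_le ?_ le_sup_right
      intro x hx
      obtain ⟨a, ha, b, rfl⟩ := mem_FF.mp hx
      have : f a + (σ + f ∘ₗ u ∘ₗ F₂.subtype) b = (f a + σ b) + f (u b) := by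
        simp only [LinearMap.add_apply, LinearMap.comp_apply, Submodule.subtype_apply]; abel
      rw [this]
      exact Submodule.add_mem_sup (mem_FF.mpr ⟨a, ha, b, rfl⟩) (map_smul_top_le f 𝔫 (hu b))
    · refine sup_le ?_ le_sup_right
      intro x hx
      obtain ⟨a, ha, b, rfl⟩ := mem_FF.mp hx
      have : f a + σ b = (f a + (σ + f ∘ₗ u ∘ₗ F₂.subtype) b) + f (- u b) := by
        simp only [LinearMap.add_apply, LinearMap.comp_apply, Submodule.subtype_apply, map_neg]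
        abel
      rw [this]
      exact Submodule.add_mem_sup (mem_FF.mpr ⟨a, ha, b, rfl⟩)
        (map_smul_top_le f 𝔫 (Submodule.neg_mem _ (hu b)))
  · rw [map_phi_FF S u hσg]
    constructor
    · intro h y hy
      set b : F₂ := ⟨y, hy⟩ with hbdef
      have h1 : (σ + f ∘ₗ u ∘ₗ F₂.subtype) b ∈ FF f F₁ σ := by
        rw [← h]; exact sigma_mem_FF _ b
      have h2 : f (u y) ∈ FF f F₁ σ ⊓ LinearMap.range f := by
        refine ⟨?_, LinearMap.mem_range_self f _⟩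
        have : f (u y) = (σ + f ∘ₗ u ∘ₗ F₂.subtype) b - σ b := by
          simp only [LinearMap.add_apply, LinearMap.comp_apply, Submodule.subtype_apply, hbdef]
          abel
        rw [this]; exact Submodule.sub_mem _ h1 (sigma_mem_FF σ b)
      rw [FF_inf_range S hσg] at h2
      obtain ⟨a, ha, hau⟩ := h2
      have : u y ∈ F₁ := by rw [← S.hf hau]; exact ha
      exact smul_top_inf_le S.he₁ 𝔫 this (hu y)
    · intro h
      apply FF_eq_of_sub_mem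
      intro b
      refine ⟨u b, ?_, by simp⟩
      exact Submodule.smul_le_right (h b b.2)
  · set v : F₂ →ₗ[R] H₁ := S.r ∘ₗ (σ' - σ) with hv
    have hfv : ∀ b : F₂, f (v b) = σ' b - σ b := fun b => by
      simp only [hv, LinearMap.comp_apply, LinearMap.sub_apply]
      rw [S.f_r, map_sub, hσ'g, hσg, sub_self, map_zero, sub_zero]
    have hvmem : ∀ b : F₂, ∃ a ∈ F₁, v b - a ∈ 𝔫 • (⊤ : Submodule R H₁) := by
      intro b
      have h1 : f (v b) ∈ G ⊓ LinearMap.range f := by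
        refine ⟨?_, LinearMap.mem_range_self f _⟩
        rw [hfv]
        refine G.sub_mem ?_ ?_
        · rw [← hF'.2.2.1]; exact Submodule.mem_sup_left (sigma_mem_FF σ' b)
        · rw [← hF.2.2.1]; exact Submodule.mem_sup_left (sigma_mem_FF σ b)
      obtain ⟨y, ⟨a, ha, rfl⟩, n, hn, hyn⟩ := Submodule.mem_sup.mp (hb h1)
      refine ⟨a, ha, S.r_smul_top 𝔫 ?_⟩
      rw [map_sub, ← hyn]; simpa using hn
    set u : H₂ →ₗ[R] H₁ := (LinearMap.id - S.e₁) ∘ₗ v ∘ₗ S.he₂.codRestrict with hu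
    have hub : ∀ b : F₂, u b = v b - S.e₁ (v b) := fun b => by
      simp [hu]
    refine ⟨u, fun y => ?_, ?_⟩
    · obtain ⟨a, ha, hm⟩ := hvmem (S.he₂.codRestrict y)
      have : u y = ((LinearMap.id : H₁ →ₗ[R] H₁) - S.e₁) (v (S.he₂.codRestrict y) - a) := by
        simp [hu, S.he₁.map_id a ha]
      rw [this]
      exact map_smul_top_le _ 𝔫 hm
    · rw [map_phi_FF S u hσg]
      apply FF_eq_of_sub_mem
      intro b
      refine ⟨S.e₁ (v b), S.he₁.map_mem _, ?_⟩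
      simp only [LinearMap.add_apply, LinearMap.comp_apply, Submodule.subtype_apply]
      rw [hub, map_sub, hfv]; abel

end Core


section BC

variable {R : Type*} [CommRing R] (𝔫 : Ideal R)
  {H₁ H H₂ : Type*} [AddCommGroup H₁] [Module R H₁] [AddCommGroup H] [Module R H]
  [AddCommGroup H₂] [Module R H₂]

/-- `π x = 1 ⊗ x`. -/
noncomputable def pi (H : Type*) [AddCommGroup H] [Module R H] : H →ₗ[R] (R ⧸ 𝔫) ⊗[R] H :=
  TensorProduct.mk R (R ⧸ 𝔫) H 1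

@[simp] theorem pi_apply (x : H) : pi 𝔫 H x = (1 : R ⧸ 𝔫) ⊗ₜ[R] x := rfl

theorem pi_eq : pi 𝔫 H =
    (TensorProduct.quotTensorEquivQuotSMul H 𝔫).symm ∘ₗ (𝔫 • (⊤ : Submodule R H)).mkQ :=
  (TensorProduct.quotTensorEquivQuotSMul_symm_comp_mkQ 𝔫).symm

theorem ker_pi : LinearMap.ker (pi 𝔫 H) = 𝔫 • (⊤ : Submodule R H) := by
  rw [pi_eq, LinearEquiv.ker_comp, Submodule.ker_mkQ]

theorem pi_surjective : Function.Surjective (pi 𝔫 H) := by
  rw [pi_eq]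
  exact (TensorProduct.quotTensorEquivQuotSMul H 𝔫).symm.surjective.comp
    (Submodule.mkQ_surjective _)

theorem baseChange_restrictScalars (F : Submodule R H) :
    (F.baseChange (R ⧸ 𝔫)).restrictScalars R = map (pi 𝔫 H) F := by
  rw [Submodule.baseChange_eq_span,
    Submodule.restrictScalars_span R (R ⧸ 𝔫) Ideal.Quotient.mk_surjective]
  exact Submodule.span_eq _

theorem mem_baseChange_iff (F : Submodule R H) (y : (R ⧸ 𝔫) ⊗[R] H) :
    y ∈ F.baseChange (R ⧸ 𝔫) ↔ ∃ x ∈ F, pi 𝔫 H x = y := by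
  rw [← Submodule.restrictScalars_mem R, baseChange_restrictScalars]
  rfl

theorem baseChange_eq_iff (F : Submodule R H) (Fb : Submodule (R ⧸ 𝔫) ((R ⧸ 𝔫) ⊗[R] H)) :
    F.baseChange (R ⧸ 𝔫) = Fb ↔
      F ⊔ 𝔫 • (⊤ : Submodule R H) = comap (pi 𝔫 H) (Fb.restrictScalars R) := by
  rw [← ker_pi 𝔫, ← Submodule.comap_map_eq]
  constructor
  · intro h; rw [← baseChange_restrictScalars, h]
  · intro h
    apply Submodule.restrictScalars_injective R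
    rw [baseChange_restrictScalars]
    have := congrArg (map (pi 𝔫 H)) h
    rwa [Submodule.map_comap_eq_of_surjective (pi_surjective 𝔫),
      Submodule.map_comap_eq_of_surjective (pi_surjective 𝔫)] at this

theorem pi_comp (φ : H₁ →ₗ[R] H) (a : H₁) :
    φ.baseChange (R ⧸ 𝔫) (pi 𝔫 H₁ a) = pi 𝔫 H (φ a) := by
  simp [pi]

theorem translate (f : H₁ →ₗ[R] H) (g : H →ₗ[R] H₂) (hg : Function.Surjective g)
    (F₁ : Submodule R H₁) (F₂ : Submodule R H₂)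
    (Fb : Submodule (R ⧸ 𝔫) ((R ⧸ 𝔫) ⊗[R] H))
    (h1 : Fb ⊓ LinearMap.range (f.baseChange (R ⧸ 𝔫)) =
      Submodule.map (f.baseChange (R ⧸ 𝔫)) (F₁.baseChange (R ⧸ 𝔫)))
    (h2 : Submodule.map (g.baseChange (R ⧸ 𝔫)) Fb = F₂.baseChange (R ⧸ 𝔫)) :
    (𝔫 • (⊤ : Submodule R H) ≤ comap (pi 𝔫 H) (Fb.restrictScalars R)) ∧
    map f F₁ ≤ comap (pi 𝔫 H) (Fb.restrictScalars R) ∧
    comap (pi 𝔫 H) (Fb.restrictScalars R) ⊓ LinearMap.range f ≤
      map f F₁ ⊔ 𝔫 • (⊤ : Submodule R H) ∧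
    F₂ ≤ map g (comap (pi 𝔫 H) (Fb.restrictScalars R)) ∧
    map g (comap (pi 𝔫 H) (Fb.restrictScalars R)) ≤ F₂ ⊔ map g (𝔫 • (⊤ : Submodule R H)) := by
  have hN : 𝔫 • (⊤ : Submodule R H) ≤ comap (pi 𝔫 H) (Fb.restrictScalars R) := by
    rw [← ker_pi 𝔫]; exact LinearMap.ker_le_comap _
  have hmemG : ∀ x : H, x ∈ comap (pi 𝔫 H) (Fb.restrictScalars R) ↔ pi 𝔫 H x ∈ Fb :=
    fun x => Iff.rfl
  have hkerg : ∀ z : H₂, pi 𝔫 H₂ z = 0 → ∃ m ∈ 𝔫 • (⊤ : Submodule R H), g m = z := by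
    intro z hz
    have h3 : z ∈ 𝔫 • (⊤ : Submodule R H₂) := by rw [← ker_pi 𝔫]; exact hz
    have h4 : (𝔫 • (⊤ : Submodule R H₂)) = map g (𝔫 • (⊤ : Submodule R H)) := by
      rw [Submodule.map_smul'', Submodule.map_top, LinearMap.range_eq_top.mpr hg]
    rw [h4] at h3
    exact h3
  refine ⟨hN, ?_, ?_, ?_, ?_⟩
  · rintro _ ⟨a, ha, rfl⟩
    rw [hmemG, ← pi_comp]
    have : f.baseChange (R ⧸ 𝔫) (pi 𝔫 H₁ a) ∈
        Submodule.map (f.baseChange (R ⧸ 𝔫)) (F₁.baseChange (R ⧸ 𝔫)) :=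
      mem_map_of_mem ((mem_baseChange_iff 𝔫 F₁ _).mpr ⟨a, ha, rfl⟩)
    rw [← h1] at this
    exact this.1
  · rintro x ⟨hxG, ⟨a, rfl⟩⟩
    have h3 : pi 𝔫 H (f a) ∈ Fb ⊓ LinearMap.range (f.baseChange (R ⧸ 𝔫)) :=
      ⟨(hmemG _).mp hxG, ⟨pi 𝔫 H₁ a, pi_comp 𝔫 f a⟩⟩
    rw [h1] at h3
    obtain ⟨y, hy, hy'⟩ := h3
    obtain ⟨a', ha', rfl⟩ := (mem_baseChange_iff 𝔫 F₁ y).mp hy
    rw [pi_comp] at hy'
    have h4 : f a - f a' ∈ 𝔫 • (⊤ : Submodule R H) := by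
      rw [← ker_pi 𝔫, LinearMap.mem_ker, map_sub, hy', sub_self]
    have : f a = f a' + (f a - f a') := by abel
    rw [this]
    exact Submodule.add_mem_sup (mem_map_of_mem ha') h4
  · intro b hb
    have h3 : pi 𝔫 H₂ b ∈ F₂.baseChange (R ⧸ 𝔫) := (mem_baseChange_iff 𝔫 F₂ _).mpr ⟨b, hb, rfl⟩
    rw [← h2] at h3
    obtain ⟨y, hy, hy'⟩ := h3
    obtain ⟨x, rfl⟩ := pi_surjective 𝔫 y
    rw [pi_comp] at hy'
    obtain ⟨m, hm, hm'⟩ := hkerg (g x - b) (by rw [map_sub, hy', sub_self])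
    refine ⟨x - m, Submodule.sub_mem _ ((hmemG x).mpr hy) (hN hm), ?_⟩
    rw [map_sub, hm']; abel
  · rintro _ ⟨x, hx, rfl⟩
    have h3 : g.baseChange (R ⧸ 𝔫) (pi 𝔫 H x) ∈ Submodule.map (g.baseChange (R ⧸ 𝔫)) Fb :=
      mem_map_of_mem ((hmemG x).mp hx)
    rw [h2] at h3
    obtain ⟨b, hb, hb'⟩ := (mem_baseChange_iff 𝔫 F₂ _).mp h3
    rw [pi_comp] at hb'
    obtain ⟨m, hm, hm'⟩ := hkerg (g x - b) (by rw [map_sub, hb', sub_self])
    have : g x = b + g m := by rw [hm']; abel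
    rw [this]
    exact Submodule.add_mem_sup hb (mem_map_of_mem hm)

end BC

section Final

variable {R : Type*} [CommRing R]
  {H₁ H H₂ : Type*} [AddCommGroup H₁] [Module R H₁] [AddCommGroup H] [Module R H]
  [AddCommGroup H₂] [Module R H₂]

theorem exists_setup [Module.Projective R H₂]
    (f : H₁ →ₗ[R] H) (g : H →ₗ[R] H₂) (hf : Function.Injective f) (hg : Function.Surjective g)
    (hfg : Function.Exact f g)
    (F₁ : Submodule R H₁) (F₂ : Submodule R H₂) [Module.Projective R (H₁ ⧸ F₁)]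
    [Module.Projective R (H₂ ⧸ F₂)] : Nonempty (Setup f g F₁ F₂) := by
  obtain ⟨e₁, he₁⟩ := exists_isProj F₁
  obtain ⟨e₂, he₂⟩ := exists_isProj F₂
  obtain ⟨s, hs⟩ := Module.projective_lifting_property g LinearMap.id hg
  exact ⟨⟨hf, hfg, e₁, he₁, e₂, he₂, s, fun y => LinearMap.congr_fun hs y⟩⟩

theorem main16419 [Module.Projective R H₂]
    (f : H₁ →ₗ[R] H) (g : H →ₗ[R] H₂) (hf : Function.Injective f) (hg : Function.Surjective g)
    (hfg : Function.Exact f g)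
    (F₁ : Submodule R H₁) (F₂ : Submodule R H₂) [Module.Projective R (H₁ ⧸ F₁)]
    [Module.Projective R (H₂ ⧸ F₂)]
    (𝔫 : Ideal R)
    (Fb : Submodule (R ⧸ 𝔫) ((R ⧸ 𝔫) ⊗[R] H))
    (h1 : Fb ⊓ LinearMap.range (f.baseChange (R ⧸ 𝔫)) =
      Submodule.map (f.baseChange (R ⧸ 𝔫)) (F₁.baseChange (R ⧸ 𝔫)))
    (h2 : Submodule.map (g.baseChange (R ⧸ 𝔫)) Fb = F₂.baseChange (R ⧸ 𝔫)) :
    ∃ F : Submodule R H, (∃ C : Submodule R H, IsCompl F C) ∧
      F ⊓ LinearMap.range f = Submodule.map f F₁ ∧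
      F.baseChange (R ⧸ 𝔫) = Fb ∧ Submodule.map g F = F₂ := by
  obtain ⟨S⟩ := exists_setup f g hf hg hfg F₁ F₂
  haveI : Module.Projective R F₂ := projective_of_isProj S.he₂
  obtain ⟨hN, ha, hb, hc, hd⟩ := translate 𝔫 f g hg F₁ F₂ Fb h1 h2
  obtain ⟨F, hC, hF1, hF2, hF3⟩ := core_exists S _ _ hN ha hb hc hd
  exact ⟨F, hC, hF1, (baseChange_eq_iff 𝔫 F Fb).mpr hF2, hF3⟩

theorem main16420 [Module.Projective R H₂]
    (f : H₁ →ₗ[R] H) (g : H →ₗ[R] H₂) (hf : Function.Injective f) (hg : Function.Surjective g)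
    (hfg : Function.Exact f g)
    (F₁ : Submodule R H₁) (F₂ : Submodule R H₂) [Module.Projective R (H₁ ⧸ F₁)]
    [Module.Projective R (H₂ ⧸ F₂)]
    (𝔫 : Ideal R)
    (Fb : Submodule (R ⧸ 𝔫) ((R ⧸ 𝔫) ⊗[R] H))
    (h1 : Fb ⊓ LinearMap.range (f.baseChange (R ⧸ 𝔫)) =
      Submodule.map (f.baseChange (R ⧸ 𝔫)) (F₁.baseChange (R ⧸ 𝔫)))
    (h2 : Submodule.map (g.baseChange (R ⧸ 𝔫)) Fb = F₂.baseChange (R ⧸ 𝔫))
    (F F' : Submodule R H)
    (hF : (∃ C : Submodule R H, IsCompl (F) C) ∧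
      (F) ⊓ LinearMap.range f = Submodule.map f F₁ ∧
      Submodule.baseChange (R ⧸ 𝔫) (F) = Fb ∧ Submodule.map g (F) = F₂)
    (hF' : (∃ C : Submodule R H, IsCompl (F') C) ∧
      (F') ⊓ LinearMap.range f = Submodule.map f F₁ ∧
      Submodule.baseChange (R ⧸ 𝔫) (F') = Fb ∧ Submodule.map g (F') = F₂) :
    (∀ u : H₂ →ₗ[R] H₁, (∀ y : H₂, u y ∈ 𝔫 • (⊤ : Submodule R H₁)) →
      (∃ C : Submodule R H, IsCompl (Submodule.map (LinearMap.id + f ∘ₗ u ∘ₗ g) F) C) ∧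
      (Submodule.map (LinearMap.id + f ∘ₗ u ∘ₗ g) F) ⊓ LinearMap.range f = Submodule.map f F₁ ∧
      Submodule.baseChange (R ⧸ 𝔫) (Submodule.map (LinearMap.id + f ∘ₗ u ∘ₗ g) F) = Fb ∧
        Submodule.map g (Submodule.map (LinearMap.id + f ∘ₗ u ∘ₗ g) F) = F₂) ∧
    (∀ u : H₂ →ₗ[R] H₁, (∀ y : H₂, u y ∈ 𝔫 • (⊤ : Submodule R H₁)) →
      (Submodule.map (LinearMap.id + f ∘ₗ u ∘ₗ g) F = F ↔ ∀ y ∈ F₂, u y ∈ 𝔫 • F₁)) ∧
    (∃ u : H₂ →ₗ[R] H₁, (∀ y : H₂, u y ∈ 𝔫 • (⊤ : Submodule R H₁)) ∧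
      F' = Submodule.map (LinearMap.id + f ∘ₗ u ∘ₗ g) F) := by
  obtain ⟨S⟩ := exists_setup f g hf hg hfg F₁ F₂
  haveI : Module.Projective R F₂ := projective_of_isProj S.he₂
  obtain ⟨hN, ha, hb, hc, hd⟩ := translate 𝔫 f g hg F₁ F₂ Fb h1 h2
  obtain ⟨k1, k2, k3⟩ := core_torsor S 𝔫 _ hb (F := F) (F' := F')
    ⟨hF.1, hF.2.1, (baseChange_eq_iff 𝔫 F Fb).mp hF.2.2.1, hF.2.2.2⟩
    ⟨hF'.1, hF'.2.1, (baseChange_eq_iff 𝔫 F' Fb).mp hF'.2.2.1, hF'.2.2.2⟩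
  refine ⟨fun u hu => ?_, k2, k3⟩
  obtain ⟨c1, c2, c3, c4⟩ := k1 u hu
  exact ⟨c1, c2, (baseChange_eq_iff 𝔫 _ Fb).mpr c3, c4⟩

end Final

end Helper91.SqZero
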