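import Mathlib
import Groth.Agent.Lib.Helper91.BasePacking

/-!
# Stable point configurations and multisets of bases (S12552)
-/

namespace Helper91.StableConfig

open Finset Helper91.Rado

universe u

variable {K : Type u} [Field K] {V : Type u} [AddCommGroup V] [Module K V] [FiniteDimensional K V]

/-- double counting for multisets of finsets -/
lemma sum_card_filter_mem {E : Type*} [DecidableEq E] (I : Finset E) (P : Multiset (Finset E)) :
    ∑ j ∈ I, Multiset.card (P.filter (fun S => j ∈ S)) = (P.map (fun S => (S ∩ I).card)).sum := by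
  induction P using Multiset.induction_on with
  | empty => simp
  | cons a P ih =>
    rw [Multiset.map_cons, Multiset.sum_cons, ← ih]
    have : ∀ j, Multiset.card ((a ::ₘ P).filter (fun S => j ∈ S)) =
        (if j ∈ a then 1 else 0) + Multiset.card (P.filter (fun S => j ∈ S)) := by
      intro j
      by_cases hj : j ∈ a
      · rw [Multiset.filter_cons_of_pos (p := fun S => j ∈ S) P hj, Multiset.card_cons, if_pos hj,
          add_comm]
      · rw [Multiset.filter_cons_of_neg (p := fun S => j ∈ S) P hj, if_neg hj, zero_add]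
    simp_rw [this]
    rw [Finset.sum_add_distrib]
    congr 1
    rw [Finset.sum_boole]
    simp only [Nat.cast_id]
    congr 1
    ext j
    simp [and_comm]

lemma sum_weights (m : ℕ) (i : Fin (m + 1)) (a b : ℕ) :
    ∑ j : Fin (m + 1), (if j = i then a else b) = a + m * b := by
  rw [← Finset.add_sum_erase Finset.univ _ (Finset.mem_univ i), if_pos rfl]
  congr 1
  rw [Finset.sum_congr rfl (fun j hj => if_neg (Finset.ne_of_mem_erase hj)), Finset.sum_const,
    Finset.card_erase_of_mem (Finset.mem_univ i), Finset.card_univ, Fintype.card_fin, smul_eq_mul]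
  simp

theorem forward (m : ℕ) (x : Fin (m + 1) → V) (hx : ∀ i, x i ≠ 0)
    (hst : ∀ L : Submodule K V, L ≠ ⊥ → L ≠ ⊤ →
      Set.ncard {i : Fin (m + 1) | x i ∈ L} * Module.finrank K V <
        Module.finrank K L * (m + 1)) :
    ∃ N N₀ : ℕ, 0 < N₀ ∧ N₀ ≤ N ∧
      ∀ i : Fin (m + 1), ∃ P : Multiset (Finset (Fin (m + 1))), P ≠ 0 ∧
        (∀ S ∈ P, S.card = Module.finrank K V ∧ LinearIndependent K (fun j : S => x j)) ∧
        ∀ j : Fin (m + 1),
          Multiset.card (P.filter (fun S => j ∈ S)) = if j = i then N - N₀ else N := by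
  classical
  set r := Module.finrank K V with hr
  have hVnt : Nontrivial V := ⟨⟨x 0, 0, hx 0⟩⟩
  have hrpos : 0 < r := Module.finrank_pos
  refine ⟨r * (r + 1), r, hrpos, by nlinarith, ?_⟩
  intro i
  set N := r * (r + 1) with hN
  set k := (m + 1) * (r + 1) - 1 with hk
  have hk1 : k + 1 = (m + 1) * (r + 1) := by
    have : 1 ≤ (m + 1) * (r + 1) := Nat.mul_pos (Nat.succ_pos m) (Nat.succ_pos r)
    omega
  have hkpos : 0 < k := by
    have : 2 ≤ (m + 1) * (r + 1) := by nlinarith
    omega
  have hNsub : N - r = r * r := by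
    rw [hN]
    have : r * (r + 1) = r * r + r := by ring
    omega
  set w : Fin (m + 1) → ℕ := fun j => if j = i then N - r else N with hw
  have hwle : ∀ j, w j ≤ N := by
    intro j
    simp only [hw]
    split_ifs
    · exact Nat.sub_le _ _
    · exact le_rfl
  have htot : ∑ e, w e = k * r := by
    rw [sum_weights, hNsub]
    have h2 : (k + 1) * r = (m + 1) * (r + 1) * r := by rw [hk1]
    have h3 : r * r + m * N + r = (k + 1) * r := by rw [h2, hN]; ring
    have h4 : (k + 1) * r = k * r + r := by ring
    omega
  have hcond : ∀ A : Finset (Fin (m + 1)), ∑ e ∈ A, w e ≤ k * linρ K x A := by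
    intro A
    rcases A.eq_empty_or_nonempty with rfl | hAne
    · simp
    set L := Submodule.span K (x '' (A : Set (Fin (m + 1)))) with hL
    have hρ : linρ K x A = Module.finrank K L := rfl
    have hLbot : L ≠ ⊥ := by
      obtain ⟨e, he⟩ := hAne
      intro h
      have : x e ∈ L := Submodule.subset_span ⟨e, Finset.mem_coe.mpr he, rfl⟩
      rw [h, Submodule.mem_bot] at this
      exact hx e this
    by_cases hLtop : L = ⊤
    · rw [hρ, hLtop, finrank_top, ← htot]
      exact Finset.sum_le_sum_of_subset (Finset.subset_univ A)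
    · have h1 := hst L hLbot hLtop
      have hsetfin : {i : Fin (m + 1) | x i ∈ L} =
          ↑(Finset.univ.filter fun i : Fin (m + 1) => x i ∈ L) := by
        ext; simp
      rw [hsetfin, Set.ncard_coe_finset] at h1
      have hAsub : A ⊆ Finset.univ.filter fun i : Fin (m + 1) => x i ∈ L := by
        intro e he
        rw [Finset.mem_filter]
        exact ⟨Finset.mem_univ _, Submodule.subset_span ⟨e, Finset.mem_coe.mpr he, rfl⟩⟩
      have hAcard := Finset.card_le_card hAsub
      set nL := (Finset.univ.filter fun i : Fin (m + 1) => x i ∈ L).card with hnL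
      set ρ := Module.finrank K L with hρdef
      rw [hρ]
      have hρle : ρ ≤ r := Submodule.finrank_le L
      -- bound
      have h2 : ∑ e ∈ A, w e ≤ A.card * N := by
        calc ∑ e ∈ A, w e ≤ ∑ _e ∈ A, N := Finset.sum_le_sum fun e _ => hwle e
          _ = A.card * N := by rw [Finset.sum_const, smul_eq_mul]
      have h3 : A.card * r + 1 ≤ ρ * (m + 1) := by
        have : A.card * r ≤ nL * r := Nat.mul_le_mul_right _ hAcard
        omega
      have h4 : (A.card * r + 1) * (r + 1) ≤ ρ * (m + 1) * (r + 1) :=
        Nat.mul_le_mul_right _ h3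
      have h5 : k * ρ + ρ = ρ * (m + 1) * (r + 1) := by
        have : k * ρ + ρ = (k + 1) * ρ := by ring
        rw [this, hk1]; ring
      have h6 : A.card * N + (r + 1) = (A.card * r + 1) * (r + 1) := by rw [hN]; ring
      have h7 : k * ρ = ρ * k := mul_comm _ _
      nlinarith
  obtain ⟨S, hS1, hS2⟩ := base_packing (K := K) x w k htot hcond
  refine ⟨(Finset.univ : Finset (Fin k)).val.map S, ?_, ?_, ?_⟩
  · intro h
    have := congrArg Multiset.card h
    rw [Multiset.card_map, Multiset.card_zero] at this
    have h2 : Multiset.card (Finset.univ : Finset (Fin k)).val = k := by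
      rw [Finset.card_val, Finset.card_univ, Fintype.card_fin]
    omega
  · intro S' hS'
    rw [Multiset.mem_map] at hS'
    obtain ⟨c, _, rfl⟩ := hS'
    exact hS1 c
  · intro j
    rw [Multiset.filter_map, Multiset.card_map, ← Finset.filter_val, Finset.card_val]
    exact hS2 j

theorem backward (m : ℕ) (x : Fin (m + 1) → V)
    (h : ∃ N N₀ : ℕ, 0 < N₀ ∧ N₀ ≤ N ∧
      ∀ i : Fin (m + 1), ∃ P : Multiset (Finset (Fin (m + 1))), P ≠ 0 ∧
        (∀ S ∈ P, S.card = Module.finrank K V ∧ LinearIndependent K (fun j : S => x j)) ∧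
        ∀ j : Fin (m + 1),
          Multiset.card (P.filter (fun S => j ∈ S)) = if j = i then N - N₀ else N) :
    ∀ L : Submodule K V, L ≠ ⊥ → L ≠ ⊤ →
      Set.ncard {i : Fin (m + 1) | x i ∈ L} * Module.finrank K V <
        Module.finrank K L * (m + 1) := by
  classical
  obtain ⟨N, N₀, hN₀, hN₀N, hP⟩ := h
  intro L hLbot hLtop
  set r := Module.finrank K V with hr
  set ρ := Module.finrank K L with hρ
  have hρlt : ρ < r := Submodule.finrank_lt hLtop
  have hρpos : 0 < ρ := by
    rw [hρ, Module.finrank_pos_iff]
    exact Submodule.nontrivial_iff_ne_bot.mpr hLbot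
  have hsetfin : {i : Fin (m + 1) | x i ∈ L} =
      ↑(Finset.univ.filter fun i : Fin (m + 1) => x i ∈ L) := by
    ext; simp
  rw [hsetfin, Set.ncard_coe_finset]
  set I := Finset.univ.filter fun i : Fin (m + 1) => x i ∈ L with hI
  -- key bound on each basis
  have hbound : ∀ (S : Finset (Fin (m + 1))), LinearIndependent K (fun j : S => x j) →
      (S ∩ I).card ≤ ρ := by
    intro S hS
    have hsub : ∀ j : (S ∩ I : Finset (Fin (m + 1))), x j ∈ L := by
      intro j
      have h' : (j : Fin (m + 1)) ∈ Finset.univ.filter (fun i : Fin (m + 1) => x i ∈ L) :=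
        (Finset.mem_inter.mp j.2).2
      exact (Finset.mem_filter.mp h').2
    have hli : LinearIndependent K (fun j : (S ∩ I : Finset (Fin (m + 1))) => (⟨x j, hsub j⟩ : L)) := by
      apply LinearIndependent.of_comp L.subtype
      have : (L.subtype ∘ fun j : (S ∩ I : Finset (Fin (m + 1))) => (⟨x j, hsub j⟩ : L)) =
          (fun j : S => x j) ∘ (fun j : (S ∩ I : Finset (Fin (m + 1))) =>
            (⟨j.1, (Finset.mem_inter.mp j.2).1⟩ : S)) := by
        ext j; rfl
      rw [this]
      apply hS.comp
      intro a b hab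
      have h2 := congrArg Subtype.val hab
      exact Subtype.ext (by simpa using h2)
    have := hli.fintype_card_le_finrank
    rw [Fintype.card_coe] at this
    exact this
  by_cases hall : ∀ i : Fin (m + 1), i ∈ I
  · -- all points in L: impossible
    obtain ⟨P, hP0, hPb, _⟩ := hP 0
    obtain ⟨S, hS⟩ := Multiset.exists_mem_of_ne_zero hP0
    obtain ⟨hcard, hli⟩ := hPb S hS
    have h1 := hbound S hli
    have h2 : S ∩ I = S := by
      apply Finset.inter_eq_left.mpr
      intro j _
      exact hall j
    rw [h2, hcard] at h1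
    omega
  · push Not at hall
    obtain ⟨i, hi⟩ := hall
    obtain ⟨P, hP0, hPb, hPm⟩ := hP i
    -- count over I
    have h1 : ∑ j ∈ I, Multiset.card (P.filter (fun S => j ∈ S)) = I.card * N := by
      rw [Finset.sum_congr rfl (fun j hj => by
        rw [hPm j, if_neg (fun h => hi (by rw [← h]; exact hj))]), Finset.sum_const, smul_eq_mul]
    have h2 : (P.map (fun S => (S ∩ I).card)).sum ≤ Multiset.card P * ρ := by
      have : ∀ y ∈ P.map (fun S => (S ∩ I).card), y ≤ ρ := by
        intro y hy
        rw [Multiset.mem_map] at hy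
        obtain ⟨S, hS, rfl⟩ := hy
        exact hbound S (hPb S hS).2
      have := Multiset.sum_le_card_nsmul _ _ this
      rwa [Multiset.card_map, smul_eq_mul] at this
    have h3 : ∑ j ∈ (Finset.univ : Finset (Fin (m + 1))),
        Multiset.card (P.filter (fun S => j ∈ S)) = (N - N₀) + m * N := by
      rw [Finset.sum_congr rfl (fun j _ => hPm j)]
      exact sum_weights m i _ _
    have h4 : (P.map (fun S => (S ∩ (Finset.univ : Finset (Fin (m + 1)))).card)).sum =
        Multiset.card P * r := by
      have : P.map (fun S => (S ∩ (Finset.univ : Finset (Fin (m + 1)))).card) =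
          P.map (fun _ => r) := by
        apply Multiset.map_congr rfl
        intro S hS
        rw [Finset.inter_univ, (hPb S hS).1]
      rw [this, Multiset.map_const', Multiset.sum_replicate, smul_eq_mul]
    rw [sum_card_filter_mem] at h1 h3
    rw [h3] at h4
    rw [h1] at h2
    -- arithmetic
    have h5 : I.card * N * r ≤ ρ * ((N - N₀) + m * N) := by
      calc I.card * N * r ≤ Multiset.card P * ρ * r := Nat.mul_le_mul_right _ h2
        _ = ρ * (Multiset.card P * r) := by ring
        _ = ρ * ((N - N₀) + m * N) := by rw [h4]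
    have h6 : (N - N₀) + m * N < (m + 1) * N := by
      have : N - N₀ < N := by omega
      have : (m + 1) * N = N + m * N := by ring
      omega
    have h7 : ρ * ((N - N₀) + m * N) < ρ * ((m + 1) * N) := Nat.mul_lt_mul_of_pos_left h6 hρpos
    have hNpos : 0 < N := by omega
    by_contra hcon
    push Not at hcon
    have h8 : ρ * (m + 1) * N ≤ I.card * r * N := Nat.mul_le_mul_right _ hcon
    have h9 : I.card * r * N = I.card * N * r := by ring
    have h10 : ρ * ((m + 1) * N) = ρ * (m + 1) * N := by ring
    omega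

theorem main12552 (m : ℕ) (x : Fin (m + 1) → V) (hx : ∀ i, x i ≠ 0) :
    (∀ L : Submodule K V, L ≠ ⊥ → L ≠ ⊤ →
        Set.ncard {i : Fin (m + 1) | x i ∈ L} * Module.finrank K V <
          Module.finrank K L * (m + 1)) ↔
      ∃ N N₀ : ℕ, 0 < N₀ ∧ N₀ ≤ N ∧
        ∀ i : Fin (m + 1), ∃ P : Multiset (Finset (Fin (m + 1))), P ≠ 0 ∧
          (∀ S ∈ P, S.card = Module.finrank K V ∧ LinearIndependent K (fun j : S => x j)) ∧
          ∀ j : Fin (m + 1),
            Multiset.card (P.filter (fun S => j ∈ S)) = if j = i then N - N₀ else N :=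
  ⟨forward m x hx, backward m x⟩

end Helper91.StableConfig
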