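import Mathlib

/-!
# A basis of degree-`n` forms adapted to a quadric with unit `X_j²` coefficient
-/

open MvPolynomial

namespace Helper91.TernForm

variable {R : Type*} [CommRing R] {σ : Type*} [DecidableEq σ]

theorem degree_eq_of_coeff_ne_zero {q : MvPolynomial σ R} {n : ℕ} (hq : q.IsHomogeneous n)
    {s : σ →₀ ℕ} (hs : coeff s q ≠ 0) : s.degree = n := by
  have := hq hs
  rw [Finsupp.degree_eq_weight_one]
  exact this

theorem eq_single_of_degree_two {s : σ →₀ ℕ} {j : σ} (hs : s.degree = 2) (hj : 2 ≤ s j) :
    s = Finsupp.single j 2 := by
  have h1 : Finsupp.single j (s j) + s.erase j = s := Finsupp.single_add_erase j s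
  have h2 : (Finsupp.single j (s j) + s.erase j).degree = 2 := by rw [h1]; exact hs
  rw [map_add, Finsupp.degree_single] at h2
  have h3 : (s.erase j).degree = 0 := by omega
  have h4 : s j = 2 := by omega
  have h5 : s.erase j = 0 := (Finsupp.degree_eq_zero_iff _).mp h3
  rw [← h1, h5, h4, add_zero]

/-- Key lemma: if `q * g` has no monomial divisible by `X_j²`, then `g = 0`. -/
theorem eq_zero_of_mul_eq (j : σ) (q : MvPolynomial σ R) (hq : q.IsHomogeneous 2)
    (hqj : IsUnit (q.coeff (Finsupp.single j 2))) (g h : MvPolynomial σ R)
    (hh : ∀ s ∈ h.support, s j < 2) (heq : q * g = h) : g = 0 := by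
  by_contra hg
  have hne : g.support.Nonempty := by
    rw [Finset.nonempty_iff_ne_empty, Ne, MvPolynomial.support_eq_empty]
    exact hg
  obtain ⟨m, hm, hmax⟩ := Finset.exists_max_image g.support (fun s => s j) hne
  have hc : coeff (m + Finsupp.single j 2) (q * g) = coeff (Finsupp.single j 2) q * coeff m g := by
    rw [coeff_mul]
    apply Finset.sum_eq_single (Finsupp.single j 2, m)
    · rintro ⟨s, s'⟩ hmem hne'
      rw [Finset.HasAntidiagonal.mem_antidiagonal] at hmem
      simp only at hmem
      by_contra hprod
      have hs : coeff s q ≠ 0 := fun h0 => hprod (by rw [h0, zero_mul])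
      have hs' : coeff s' g ≠ 0 := fun h0 => hprod (by rw [h0, mul_zero])
      have hdeg := degree_eq_of_coeff_ne_zero hq hs
      have hle := hmax s' (MvPolynomial.mem_support_iff.mpr hs')
      have hj : s j + s' j = m j + 2 := by
        have := congrArg (fun f => f j) hmem
        simpa using this
      have hs2 : s = Finsupp.single j 2 := eq_single_of_degree_two hdeg (by omega)
      apply hne'
      rw [hs2] at hmem
      have : s' = m := by
        rw [add_comm] at hmem
        exact add_right_cancel hmem
      rw [hs2, this]
    · intro hnot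
      exfalso
      apply hnot
      rw [Finset.HasAntidiagonal.mem_antidiagonal]
      exact add_comm _ _
  have hzero : coeff (m + Finsupp.single j 2) h = 0 := by
    by_contra hne'
    have := hh _ (MvPolynomial.mem_support_iff.mpr hne')
    simp at this
  rw [heq, hzero] at hc
  have hm0 : coeff m g = 0 := by
    have := hc.symm
    exact (hqj.mul_right_eq_zero).mp this
  exact (MvPolynomial.mem_support_iff.mp hm) hm0


theorem monomial_mem_span (j : σ) (q : MvPolynomial σ R) (hq : q.IsHomogeneous 2)
    (hqj : IsUnit (q.coeff (Finsupp.single j 2))) (n : ℕ) :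
    ∀ d : ℕ, ∀ m : σ →₀ ℕ, m.degree = n → m j ≤ d →
      monomial m (1 : R) ∈ Submodule.span R (Set.range (Sum.elim
        (fun m : {m : σ →₀ ℕ // m.degree = n ∧ m j < 2} => monomial m.1 (1 : R))
        (fun m : {m : σ →₀ ℕ // m.degree + 2 = n} => q * monomial m.1 (1 : R)))) := by
  intro d
  induction d with
  | zero =>
    intro m hdeg hj
    exact Submodule.subset_span ⟨Sum.inl ⟨m, hdeg, by omega⟩, rfl⟩
  | succ d ih =>
    intro m hdeg hj
    by_cases h2 : m j < 2
    · exact Submodule.subset_span ⟨Sum.inl ⟨m, hdeg, h2⟩, rfl⟩
    · have h2' : 2 ≤ m j := not_lt.mp h2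
      set m' := m - Finsupp.single j 2 with hm'
      have hm : Finsupp.single j 2 + m' = m := by
        ext i
        by_cases hi : i = j
        · subst hi
          simp [hm', Finsupp.tsub_apply]
          omega
        · simp [hm', Finsupp.tsub_apply, Finsupp.single_apply, Ne.symm hi]
      have hdeg' : m'.degree + 2 = n := by
        rw [← hdeg, ← hm, map_add, Finsupp.degree_single]
        ring
      have hmj : m' j + 2 = m j := by
        have := congrArg (fun f => f j) hm
        simp at this
        omega
      obtain ⟨u, hu⟩ := hqj
      set q' := q - monomial (Finsupp.single j 2) (u : R) with hq'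
      have hq'mem : q' * monomial m' (1 : R) ∈ Submodule.span R (Set.range (Sum.elim
          (fun m : {m : σ →₀ ℕ // m.degree = n ∧ m j < 2} => monomial m.1 (1 : R))
          (fun m : {m : σ →₀ ℕ // m.degree + 2 = n} => q * monomial m.1 (1 : R)))) := by
        have hsum : q' * monomial m' (1 : R) =
            ∑ s ∈ q'.support, monomial s (coeff s q') * monomial m' (1 : R) := by
          rw [← Finset.sum_mul, ← MvPolynomial.as_sum]
        rw [hsum]
        apply Submodule.sum_mem
        intro s hs
        rw [monomial_mul, mul_one]
        have hcs : coeff s q' ≠ 0 := MvPolynomial.mem_support_iff.mp hs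
        have hne : s ≠ Finsupp.single j 2 := by
          rintro rfl
          apply hcs
          rw [hq', coeff_sub, coeff_monomial, if_pos rfl, hu, sub_self]
        have hcq : coeff s q ≠ 0 := by
          intro h0
          apply hcs
          rw [hq', coeff_sub, coeff_monomial, if_neg (Ne.symm hne), h0, sub_zero]
        have hsdeg := degree_eq_of_coeff_ne_zero hq hcq
        have hsj : s j ≤ 1 := by
          by_contra hcon
          exact hne (eq_single_of_degree_two hsdeg (by omega))
        have h3 : monomial (s + m') (coeff s q') = coeff s q' • monomial (s + m') (1 : R) := by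
          rw [smul_monomial, smul_eq_mul, mul_one]
        rw [h3]
        apply Submodule.smul_mem
        apply ih
        · rw [map_add, hsdeg, ← hdeg']
          ring
        · rw [Finsupp.add_apply]
          omega
      have hqmem : q * monomial m' (1 : R) ∈ Submodule.span R (Set.range (Sum.elim
          (fun m : {m : σ →₀ ℕ // m.degree = n ∧ m j < 2} => monomial m.1 (1 : R))
          (fun m : {m : σ →₀ ℕ // m.degree + 2 = n} => q * monomial m.1 (1 : R)))) :=
        Submodule.subset_span ⟨Sum.inr ⟨m', hdeg'⟩, rfl⟩
      have hu' : (u : R) • monomial m (1 : R) = q * monomial m' (1 : R) - q' * monomial m' 1 := by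
        rw [← sub_mul, hq', sub_sub_cancel, monomial_mul, hm, mul_one, smul_monomial, smul_eq_mul,
          mul_one]
      have h4 : monomial m (1 : R) = ((u⁻¹ : Rˣ) : R) • ((u : R) • monomial m (1 : R)) := by
        rw [smul_smul, Units.inv_mul, one_smul]
      rw [h4, hu']
      exact Submodule.smul_mem _ _ (Submodule.sub_mem _ hqmem hq'mem)

theorem main18994 (j : σ) (q : MvPolynomial σ R) (hq : q.IsHomogeneous 2)
    (hqj : IsUnit (q.coeff (Finsupp.single j 2))) (n : ℕ) :
    LinearIndependent R (Sum.elim
        (fun m : {m : σ →₀ ℕ // m.degree = n ∧ m j < 2} => monomial m.1 (1 : R))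
        (fun m : {m : σ →₀ ℕ // m.degree + 2 = n} => q * monomial m.1 (1 : R))) ∧
      Submodule.span R (Set.range (Sum.elim
        (fun m : {m : σ →₀ ℕ // m.degree = n ∧ m j < 2} => monomial m.1 (1 : R))
        (fun m : {m : σ →₀ ℕ // m.degree + 2 = n} => q * monomial m.1 (1 : R)))) =
        homogeneousSubmodule σ R n := by
  constructor
  · have hmono : ∀ (P : (σ →₀ ℕ) → Prop),
        LinearIndependent R (fun m : {m : σ →₀ ℕ // P m} => monomial m.1 (1 : R)) := by
      intro P
      have := ((basisMonomials σ R).linearIndependent).comp
        (fun m : {m : σ →₀ ℕ // P m} => m.1) Subtype.val_injective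
      simpa [Function.comp_def] using this
    have hker : LinearMap.ker (LinearMap.mulLeft R q) = ⊥ := by
      rw [LinearMap.ker_eq_bot']
      intro g hg
      exact eq_zero_of_mul_eq j q hq hqj g 0 (by simp) hg
    have h2 := (hmono (fun m => m.degree + 2 = n)).map' (LinearMap.mulLeft R q) hker
    apply LinearIndependent.sum_type (hmono _) h2
    have hsuppAll : ∀ x ∈ Submodule.span R (Set.range
        (fun m : {m : σ →₀ ℕ // m.degree = n ∧ m j < 2} => monomial m.1 (1 : R))),
        ∀ s ∈ x.support, s j < 2 := by
      intro x hx1
      induction hx1 using Submodule.span_induction with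
      | mem y hy =>
        obtain ⟨m, rfl⟩ := hy
        intro s hs
        have := MvPolynomial.support_monomial_subset hs
        rw [Finset.mem_singleton] at this
        rw [this]
        exact m.2.2
      | zero => simp
      | add y z _ _ hy hz =>
        intro s hs
        rcases Finset.mem_union.mp (MvPolynomial.support_add hs) with h | h
        · exact hy s h
        · exact hz s h
      | smul a y _ hy =>
        intro s hs
        exact hy s (MvPolynomial.support_smul hs)
    rw [Submodule.disjoint_def]
    intro x hx1 hx2
    have hsupp := hsuppAll x hx1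
    rw [Set.range_comp, ← Submodule.map_span] at hx2
    obtain ⟨g, _, hg⟩ := hx2
    have hg0 := eq_zero_of_mul_eq j q hq hqj g x hsupp hg
    rw [← hg, hg0]
    simp
  · apply le_antisymm
    · rw [Submodule.span_le]
      rintro _ ⟨i, rfl⟩
      rcases i with m | m
      · exact isHomogeneous_monomial _ m.2.1
      · have h1 : IsHomogeneous (monomial m.1 (1 : R)) m.1.degree := isHomogeneous_monomial _ rfl
        have h2 := hq.mul h1
        rw [add_comm, m.2] at h2
        exact h2
    · intro f hf
      rw [MvPolynomial.as_sum f]
      apply Submodule.sum_mem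
      intro s hs
      have hcs : coeff s f ≠ 0 := MvPolynomial.mem_support_iff.mp hs
      have hsdeg := degree_eq_of_coeff_ne_zero hf hcs
      have h3 : monomial s (coeff s f) = coeff s f • monomial s (1 : R) := by
        rw [smul_monomial, smul_eq_mul, mul_one]
      rw [h3]
      exact Submodule.smul_mem _ _ (monomial_mem_span j q hq hqj n (s j) s hsdeg le_rfl)

end Helper91.TernForm
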