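import Groth.Prelude.Def_W4c5modbuncurvesppStab
import Mathlib
import Groth.Agent.Lib.Helper91.TreeAcyc

open PhiStab LabGraph Groth.Agent.Lib.Helper87 Helper91.TreeLib Helper91.PhiStabLib

universe u

namespace Helper91.TreeLib

variable {V E : Type u} [Fintype V] [Fintype E] [DecidableEq V] [DecidableEq E]

theorem mem_bd_of_ends {ends : E → V × V} {S : Finset V} {e : E} {x y : V}
    (he : ends e = (x, y) ∨ ends e = (y, x)) (hx : x ∈ S) (hy : y ∉ S) : e ∈ bd ends S := by
  simp only [bd, Finset.mem_filter, Finset.mem_univ, true_and]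
  rcases he with he | he <;> rw [he] <;> simp [hx, hy]

theorem exists_spanning_tree_one_cut (ends : E → V × V) (hconn : LabGraph.Connected ends)
    {S : Finset V} (hS : IsElementary ends S) :
    ∃ T : Finset E, DualGr.IsTree (spanEnds ends T) ∧ (T ∩ bd ends S).card = 1 := by
  classical
  rw [isElementary_iff] at hS
  obtain ⟨hS1, hS2⟩ := hS
  set 𝓕 : Finset (Finset E) :=
    Finset.univ.filter (fun F => Acyc ends F ∧ (F ∩ bd ends S).card ≤ 1) with h𝓕
  have hne : 𝓕.Nonempty := ⟨∅, by simp [h𝓕, acyc_empty]⟩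
  obtain ⟨F, hFmem, hFmax⟩ := 𝓕.exists_maximal hne
  simp only [h𝓕, Finset.mem_filter, Finset.mem_univ, true_and] at hFmem
  obtain ⟨hFac, hFcard⟩ := hFmem
  have hins : ∀ e, e ∉ F → ¬ Reach ends F (ends e).1 (ends e).2 →
      (e ∉ bd ends S ∨ F ∩ bd ends S = ∅) → False := by
    intro e heF hnr hcase
    have hmem : insert e F ∈ 𝓕 := by
      simp only [h𝓕, Finset.mem_filter, Finset.mem_univ, true_and]
      refine ⟨acyc_insert ends F hFac e hnr, ?_⟩
      rcases hcase with hc | hc
      · rw [Finset.insert_inter_of_notMem hc]; exact hFcard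
      · by_cases heb : e ∈ bd ends S
        · rw [Finset.insert_inter_of_mem heb, hc]; simp
        · rw [Finset.insert_inter_of_notMem heb]; exact hFcard
    exact heF (hFmax hmem (Finset.subset_insert e F) (Finset.mem_insert_self e F))
  -- no F-path crosses S without an F-edge in bd S
  have hcrossF : ∀ x y, x ∈ S → y ∉ S → Reach ends F x y → (F ∩ bd ends S).Nonempty := by
    intro x y hx hy hr
    obtain ⟨x', y', ⟨e', he'F, he'⟩, hx', hy'⟩ := exists_crossing (S : Set V) hr hx hy
    exact ⟨e', Finset.mem_inter.mpr ⟨he'F, mem_bd_of_ends he' hx' hy'⟩⟩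
  obtain ⟨s, hs⟩ := hS1.1
  obtain ⟨s', hs'⟩ := hS2.1
  have hs'S : s' ∉ S := Finset.mem_compl.mp hs'
  -- Step 1
  have hstep1 : (F ∩ bd ends S).Nonempty := by
    by_contra hemp
    rw [Finset.not_nonempty_iff_eq_empty] at hemp
    obtain ⟨x, y, ⟨e₀, he₀⟩, hx, hy⟩ := exists_crossing (S : Set V) (hconn.2 s s') hs hs'S
    have he₀bd : e₀ ∈ bd ends S := mem_bd_of_ends he₀ hx hy
    have he₀F : e₀ ∉ F := by
      intro h
      have : e₀ ∈ F ∩ bd ends S := Finset.mem_inter.mpr ⟨h, he₀bd⟩
      rw [hemp] at this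
      exact absurd this (Finset.notMem_empty _)
    have hnr : ¬ Reach ends F (ends e₀).1 (ends e₀).2 := by
      intro hr
      have hxy : Reach ends F x y := by
        rcases he₀ with h | h
        · rw [h] at hr; exact hr
        · rw [h] at hr; exact hr.symm
      have := hcrossF x y hx hy hxy
      rw [hemp] at this
      exact Finset.not_nonempty_empty this
    exact hins e₀ he₀F hnr (Or.inr hemp)
  have hcard1 : (F ∩ bd ends S).card = 1 :=
    le_antisymm hFcard (Finset.card_pos.mpr hstep1)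
  -- Step 3: connectivity inside a part R whose inner edges avoid bd S
  have hpart : ∀ R : Finset V, conn ends R →
      (∀ e, (ends e).1 ∈ R → (ends e).2 ∈ R → e ∉ bd ends S) →
      ∀ x ∈ R, ∀ y ∈ R, Reach ends F x y := by
    intro R hR hRbd x hx y hy
    by_contra hnot
    obtain ⟨z, z', ⟨hz, hz', e', he'⟩, hxz, hxz'⟩ :=
      exists_crossing {z | Reach ends F x z} (hR.2 x hx y hy) Relation.ReflTransGen.refl hnot
    have hzz' : ¬ Reach ends F z z' := fun h => hxz' (Relation.ReflTransGen.trans hxz h)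
    have he'F : e' ∉ F := by
      intro h
      exact hzz' (Relation.ReflTransGen.single ⟨e', h, he'⟩)
    have hnr : ¬ Reach ends F (ends e').1 (ends e').2 := by
      intro hr
      rcases he' with h | h
      · rw [h] at hr; exact hzz' hr
      · rw [h] at hr; exact hzz' hr.symm
    have hnbd : e' ∉ bd ends S := by
      apply hRbd
      · rcases he' with h | h <;> rw [h] <;> assumption
      · rcases he' with h | h <;> rw [h] <;> assumption
    exact hins e' he'F hnr (Or.inl hnbd)
  have hinS := hpart S hS1 (fun e h1 h2 => by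
    simp only [bd, Finset.mem_filter, Finset.mem_univ, true_and]; tauto)
  have hinSc := hpart Sᶜ hS2 (fun e h1 h2 => by
    simp only [bd, Finset.mem_filter, Finset.mem_univ, true_and]
    rw [Finset.mem_compl] at h1 h2; tauto)
  -- Step 4
  obtain ⟨e₁, he₁⟩ := hstep1
  rw [Finset.mem_inter] at he₁
  obtain ⟨he₁F, he₁bd⟩ := he₁
  have hpq : ∃ p q, p ∈ S ∧ q ∉ S ∧ Reach ends F p q := by
    simp only [bd, Finset.mem_filter, Finset.mem_univ, true_and] at he₁bd
    rcases he₁bd with ⟨h1, h2⟩ | ⟨h1, h2⟩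
    · exact ⟨_, _, h1, h2, Relation.ReflTransGen.single ⟨e₁, he₁F, Or.inl rfl⟩⟩
    · exact ⟨_, _, h2, h1, Relation.ReflTransGen.single ⟨e₁, he₁F, Or.inr rfl⟩⟩
  obtain ⟨p, q, hp, hq, hpq⟩ := hpq
  have hqc : q ∈ Sᶜ := Finset.mem_compl.mpr hq
  have hall : ∀ v, Reach ends F v p := by
    intro v
    by_cases hv : v ∈ S
    · exact hinS v hv p hp
    · exact Relation.ReflTransGen.trans (hinSc v (Finset.mem_compl.mpr hv) q hqc) hpq.symm
  refine ⟨F, ⟨connected_spanEnds ends F ⟨s⟩ (fun v w =>
    Relation.ReflTransGen.trans (hall v) (hall w).symm), isForest_of_acyc ends F hFac⟩, hcard1⟩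

theorem main18376 (ends : E → V × V)
    (hconn : LabGraph.Connected ends) (b : ℤ) (φ₁ φ₂ : V → ℝ) (h₁ : (∑ v : V, φ₁ v) = (b : ℝ))
    (h₂ : (∑ v : V, φ₂ v) = (b : ℝ)) (hnd : Nondegenerate ends φ₁) :
    (∀ (m : V → ℤ) (N : Finset E), totDeg m N = b → IsStable ends φ₁ m N → IsSemistable ends φ₂ m N) ↔
      InClosedPolytope ends φ₁ φ₂ := by
  constructor
  · intro H S hS d hd
    obtain ⟨T, hT, hcard⟩ := exists_spanning_tree_one_cut ends hconn hS
    obtain ⟨m, ⟨htot, hstab⟩, _⟩ := main18375 ends T hT b φ₁ h₁ hnd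
    have hsemi := H m Tᶜ htot hstab
    obtain ⟨hne, hnu⟩ := isElementary_nonempty_ne_univ ends hS
    have hS' : IsElementary ends Sᶜ := by
      rw [IsElementary, compl_compl]; exact ⟨hS.2, hS.1⟩
    obtain ⟨hcne, hcnu⟩ := isElementary_nonempty_ne_univ ends hS'
    have s1 := hstab S hne hnu
    have s2 := hstab Sᶜ hcne hcnu
    have s3 := hsemi S hne hnu
    have hdeg : (∑ v : V, φ₁ v) = (totDeg m Tᶜ : ℝ) := by rw [h₁, htot]
    have hsum := beta_add_compl ends φ₁ m Tᶜ hdeg S
    simp only [beta, kappa] at hsum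
    have hbdcard : (bd ends S).card = (T ∩ bd ends S).card + (Tᶜ ∩ bd ends S).card := by
      have := card_inter_union (bd ends S) T Tᶜ disjoint_compl_right
      rw [Finset.union_compl, Finset.inter_univ] at this
      rw [this, Finset.inter_comm, Finset.inter_comm (bd ends S) Tᶜ]
    have hcut : (LabGraph.cut ends S : ℝ) = 1 + ((Tᶜ ∩ bd ends S).card : ℝ) := by
      rw [cut_eq, hbdcard, hcard]; push_cast; ring
    rw [cut_compl] at s2
    rw [cut_compl] at hsum
    simp only [ell] at hd ⊢
    have hlt : ((degOn ends m Tᶜ S : ℤ) : ℝ) - (d : ℝ) < 1 := by linarith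
    have hlt' : degOn ends m Tᶜ S - d < 1 := by exact_mod_cast hlt
    have hle : degOn ends m Tᶜ S ≤ d := by omega
    have hle' : ((degOn ends m Tᶜ S : ℤ) : ℝ) ≤ (d : ℝ) := by exact_mod_cast hle
    linarith
  · intro H m N htot hstab
    have hdeg : (∑ v : V, φ₂ v) = (totDeg m N : ℝ) := by rw [h₂, htot]
    rw [(main18374 ends φ₂ m N hconn hdeg).1]
    intro S hS
    obtain ⟨hne, hnu⟩ := isElementary_nonempty_ne_univ ends hS
    have s1 := hstab S hne hnu
    have := H S hS (degOn ends m N S) (by simp only [ell]; linarith)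
    simp only [ell] at this
    linarith

end Helper91.TreeLib
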