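import Mathlib
import Groth.Prelude.Def_W4c5m1nsnscurvesC
import Groth.Agent.Lib.Helper91.Diamond

/-!
# Gröbner-type rewriting system for the affine curve over U_n (S18246)
-/

namespace Helper91.UCurveGB

open MvPolynomial W4c5m1nsnscurves Helper91.Diamond

variable {R : Type*} [CommRing R] {m : ℕ}

/-- the rewriting rules -/
inductive Rule (m : ℕ) : Type
  | p1 (i : Fin m)
  | p2 (i : Fin m)
  | p3 (i j : Fin m) (h : i ≠ j)
  | cub

/-- weights of the variables -/
def wt : CVar m → ℕ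
  | .x2 => 3
  | .x3 => 4
  | .xi _ => 5

/-- leading exponents -/
noncomputable def μ : Rule m → (CVar m →₀ ℕ)
  | .p1 i => Finsupp.single .x2 1 + Finsupp.single (.xi i) 1
  | .p2 i => Finsupp.single .x3 1 + Finsupp.single (.xi i) 1
  | .p3 i j _ => Finsupp.single (.xi i) 1 + Finsupp.single (.xi j) 1
  | .cub => Finsupp.single .x2 1 + Finsupp.single .x3 2

/-- leading monomials -/
noncomputable def lm : Rule m → MvPolynomial (CVar m) R
  | .p1 i => X .x2 * X (.xi i)
  | .p2 i => X .x3 * X (.xi i)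
  | .p3 i j _ => X (.xi i) * X (.xi j)
  | .cub => X .x2 * X .x3 ^ 2

theorem lm_eq (r : Rule m) : (monomial (μ r) 1 : MvPolynomial (CVar m) R) = lm r := by
  cases r <;> simp only [μ, lm, X, monomial_pow, monomial_mul, one_mul, one_pow, smul_eq_mul,
    Finsupp.smul_single, mul_one]

variable (v : UGen m → R) (d : R)

/-- right-hand sides -/
noncomputable def t : Rule m → MvPolynomial (CVar m) R
  | .p1 i => X .x2 * X .x3 + C (v (.ci i)) * X (.xi i) + C (v (.cbi i)) * X .x2 - C (v .c)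
  | .p2 i => X .x2 * X .x3 + C (v .a + v (.ci i) + v (.cbi i)) * (X (.xi i) - C (v (.cbi i)))
      + C (v .cb) - C (v .c)
  | .p3 i j h => X .x2 * X .x3 + C (v (.cij i j h)) * X (.xi j)
      + C (v (.cij j i (Ne.symm h))) * X (.xi i) - C (v .c)
  | .cub => X .x2 ^ 2 * X .x3 + C (v .a) * (X .x2 * X .x3) + C (v .cb - v .c) * X .x2
      + C (v .c) * X .x3 + C d

/-- the relations -/
noncomputable def F (r : Rule m) : MvPolynomial (CVar m) R := lm r - t v d r

section overlaps

variable {v d} {i j k : Fin m} {hij : i ≠ j} {hik : i ≠ k} {hjk : j ≠ k}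

-- ov1: ('p1', 'i') ('p2', 'i') lcm x2*x3*xi
theorem ov1 : (X CVar.x3) * t v d (Rule.p1 i) - (X CVar.x2) * t v d (Rule.p2 i) =
    (C ((1)) * (1)) * F v d (Rule.cub)
    + (C ((-1) * v .a + (-1) * v (.cbi i) + (-1) * v (.ci i)) * (1)) * F v d (Rule.p1 i)
    + (C (v (.ci i)) * (1)) * F v d (Rule.p2 i)
    + C (v .a * v .c + (-1) * v .a * v (.cbi i) * v (.ci i) + v .c * v (.cbi i) + v .cb * v (.ci i) + (-1) * v (.cbi i) * v (.cbi i) * v (.ci i) + (-1) * v (.cbi i) * v (.ci i) * v (.ci i) + d) * (1) := by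
  simp only [t, F, lm]
  simp only [map_add, map_sub, map_mul, map_neg, map_one, map_ofNat]
  ring

-- ov2: ('p1', 'i') ('p1', 'j') lcm x2*xi*xj
theorem ov2 : (X (CVar.xi j)) * t v d (Rule.p1 i) - (X (CVar.xi i)) * t v d (Rule.p1 j) =
    (C ((-1) * v (.cbi j)) * (1) + C ((-1)) * (X CVar.x3)) * F v d (Rule.p1 i)
    + (C (v (.cbi i)) * (1) + C ((1)) * (X CVar.x3)) * F v d (Rule.p1 j)
    + (C ((-1) * v (.ci i)) * (1)) * F v d (Rule.p2 i)
    + (C (v (.ci j)) * (1)) * F v d (Rule.p2 j)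
    + (C (v (.ci i) + (-1) * v (.ci j)) * (1)) * F v d (Rule.p3 i j hij)
    + C (v .a * v (.cbi i) * v (.ci i) + (-1) * v .a * v (.cbi j) * v (.ci j) + (-1) * v .c * v (.cbi i) + v .c * v (.cbi j) + (-1) * v .cb * v (.ci i) + v .cb * v (.ci j) + v (.cbi i) * v (.cbi i) * v (.ci i) + v (.cbi i) * v (.ci i) * v (.ci i) + (-1) * v (.cbi j) * v (.cbi j) * v (.ci j) + (-1) * v (.cbi j) * v (.ci j) * v (.ci j)) * (1)
    + C (v .a * v (.ci j) + (-1) * v .c + v (.cbi i) * v (.ci j) + v (.cbi j) * v (.ci j) + v (.ci i) * v (.cij i j hij) + (-1) * v (.cij i j hij) * v (.ci j) + v (.ci j) * v (.ci j)) * (X (CVar.xi j))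
    + C ((-1) * v .a * v (.ci i) + v .c + (-1) * v (.cbi i) * v (.ci i) + (-1) * v (.cbi j) * v (.ci i) + (-1) * v (.ci i) * v (.ci i) + v (.ci i) * v (.cij j i hij.symm) + (-1) * v (.ci j) * v (.cij j i hij.symm)) * (X (CVar.xi i)) := by
  simp only [t, F, lm]
  simp only [map_add, map_sub, map_mul, map_neg, map_one, map_ofNat]
  ring

-- ov3: ('p2', 'i') ('p2', 'j') lcm x3*xi*xj
theorem ov3 : (X (CVar.xi j)) * t v d (Rule.p2 i) - (X (CVar.xi i)) * t v d (Rule.p2 j) =
    (C ((-1)) * (X CVar.x3)) * F v d (Rule.p1 i)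
    + (C ((1)) * (X CVar.x3)) * F v d (Rule.p1 j)
    + (C ((-1) * v (.ci i)) * (1)) * F v d (Rule.p2 i)
    + (C (v (.ci j)) * (1)) * F v d (Rule.p2 j)
    + (C (v (.cbi i) + (-1) * v (.cbi j) + v (.ci i) + (-1) * v (.ci j)) * (1)) * F v d (Rule.p3 i j hij)
    + C (v .a * v (.cbi i) * v (.ci i) + (-1) * v .a * v (.cbi j) * v (.ci j) + (-1) * v .c * v (.cbi i) + v .c * v (.cbi j) + (-1) * v .cb * v (.ci i) + v .cb * v (.ci j) + v (.cbi i) * v (.cbi i) * v (.ci i) + v (.cbi i) * v (.ci i) * v (.ci i) + (-1) * v (.cbi j) * v (.cbi j) * v (.ci j) + (-1) * v (.cbi j) * v (.ci j) * v (.ci j)) * (1)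
    + C ((-1) * v .a * v (.cbi i) + v .a * v (.ci j) + (-1) * v .c + v .cb + (-1) * v (.cbi i) * v (.cbi i) + (-1) * v (.cbi i) * v (.ci i) + v (.cbi i) * v (.cij i j hij) + (-1) * v (.cbi j) * v (.cij i j hij) + v (.cbi j) * v (.ci j) + v (.ci i) * v (.cij i j hij) + (-1) * v (.cij i j hij) * v (.ci j) + v (.ci j) * v (.ci j)) * (X (CVar.xi j))
    + C (v .a * v (.cbi j) + (-1) * v .a * v (.ci i) + v .c + (-1) * v .cb + (-1) * v (.cbi i) * v (.ci i) + v (.cbi i) * v (.cij j i hij.symm) + v (.cbi j) * v (.cbi j) + v (.cbi j) * v (.ci j) + (-1) * v (.cbi j) * v (.cij j i hij.symm) + (-1) * v (.ci i) * v (.ci i) + v (.ci i) * v (.cij j i hij.symm) + (-1) * v (.ci j) * v (.cij j i hij.symm)) * (X (CVar.xi i)) := by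
  simp only [t, F, lm]
  simp only [map_add, map_sub, map_mul, map_neg, map_one, map_ofNat]
  ring

-- ov4: ('p1', 'i') ('p3', 'i', 'j') lcm x2*xi*xj
theorem ov4 : (X (CVar.xi j)) * t v d (Rule.p1 i) - (X CVar.x2) * t v d (Rule.p3 i j hij) =
    (C (v (.cbi i) + (-1) * v (.cij i j hij)) * (1) + C ((1)) * (X CVar.x3)) * F v d (Rule.p1 j)
    + (C ((1)) * (1)) * F v d (Rule.cub)
    + (C ((-1) * v (.cij j i hij.symm)) * (1)) * F v d (Rule.p1 i)
    + (C (v (.ci j)) * (1)) * F v d (Rule.p2 j)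
    + (C (v (.ci i)) * (1)) * F v d (Rule.p3 i j hij)
    + C ((-1) * v .a * v (.cbi j) * v (.ci j) + (-1) * v .c * v (.cbi i) + (-1) * v .c * v (.ci i) + v .c * v (.cij i j hij) + (-1) * v .c * v (.ci j) + v .c * v (.cij j i hij.symm) + v .cb * v (.ci j) + (-1) * v (.cbi j) * v (.cbi j) * v (.ci j) + (-1) * v (.cbi j) * v (.ci j) * v (.ci j) + d) * (1)
    + C (v .a * v (.ci j) + (-1) * v .c + v (.cbi i) * v (.ci j) + v (.cbi j) * v (.ci j) + v (.ci i) * v (.cij i j hij) + (-1) * v (.cij i j hij) * v (.ci j) + v (.ci j) * v (.ci j)) * (X (CVar.xi j))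
    + C (v .cb + v (.cbi i) * v (.cbi j) + (-1) * v (.cbi i) * v (.cij j i hij.symm) + (-1) * v (.cbi j) * v (.cij i j hij)) * (X CVar.x2)
    + C (v .a + v (.cbi i) + v (.cbi j) + v (.ci i) + (-1) * v (.cij i j hij) + v (.ci j) + (-1) * v (.cij j i hij.symm)) * (X CVar.x2 * X CVar.x3) := by
  simp only [t, F, lm]
  simp only [map_add, map_sub, map_mul, map_neg, map_one, map_ofNat]
  ring

-- ov5: ('p2', 'i') ('p3', 'i', 'j') lcm x3*xi*xj
theorem ov5 : (X (CVar.xi j)) * t v d (Rule.p2 i) - (X CVar.x3) * t v d (Rule.p3 i j hij) =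
    (C ((1)) * (X CVar.x3)) * F v d (Rule.p1 j)
    + (C ((-1) * v (.cij j i hij.symm)) * (1)) * F v d (Rule.p2 i)
    + (C ((-1) * v (.cij i j hij) + v (.ci j)) * (1)) * F v d (Rule.p2 j)
    + (C (v .a + v (.cbi i) + v (.ci i)) * (1)) * F v d (Rule.p3 i j hij)
    + C ((-1) * v .a * v .c + v .a * v (.cbi i) * v (.cij j i hij.symm) + v .a * v (.cbi j) * v (.cij i j hij) + (-1) * v .a * v (.cbi j) * v (.ci j) + (-1) * v .c * v (.cbi i) + (-1) * v .c * v (.ci i) + v .c * v (.cij i j hij) + (-1) * v .c * v (.ci j) + v .c * v (.cij j i hij.symm) + (-1) * v .cb * v (.cij i j hij) + v .cb * v (.ci j) + (-1) * v .cb * v (.cij j i hij.symm) + v (.cbi i) * v (.cbi i) * v (.cij j i hij.symm) + v (.cbi i) * v (.ci i) * v (.cij j i hij.symm) + v (.cbi j) * v (.cbi j) * v (.cij i j hij) + (-1) * v (.cbi j) * v (.cbi j) * v (.ci j) + v (.cbi j) * v (.cij i j hij) * v (.ci j) + (-1) * v (.cbi j) * v (.ci j) * v (.ci j)) * (1)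
    + C ((-1) * v .a * v (.cbi i) + v .a * v (.ci j) + (-1) * v .c + v .cb + (-1) * v (.cbi i) * v (.cbi i) + (-1) * v (.cbi i) * v (.ci i) + v (.cbi i) * v (.cij i j hij) + (-1) * v (.cbi j) * v (.cij i j hij) + v (.cbi j) * v (.ci j) + v (.ci i) * v (.cij i j hij) + (-1) * v (.cij i j hij) * v (.ci j) + v (.ci j) * v (.ci j)) * (X (CVar.xi j))
    + C (v .a + v (.cbi i) + v (.cbi j) + v (.ci i) + (-1) * v (.cij i j hij) + v (.ci j) + (-1) * v (.cij j i hij.symm)) * (X CVar.x2 * X CVar.x3) := by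
  simp only [t, F, lm]
  simp only [map_add, map_sub, map_mul, map_neg, map_one, map_ofNat]
  ring

-- ov6: ('p3', 'i', 'j') ('p3', 'i', 'k') lcm xi*xj*xk
theorem ov6 : (X (CVar.xi k)) * t v d (Rule.p3 i j hij) - (X (CVar.xi j)) * t v d (Rule.p3 i k hik) =
    (C ((-1)) * (X CVar.x3)) * F v d (Rule.p1 j)
    + (C ((1)) * (X CVar.x3)) * F v d (Rule.p1 k)
    + (C ((-1) * v (.ci j)) * (1)) * F v d (Rule.p2 j)
    + (C (v (.ci k)) * (1)) * F v d (Rule.p2 k)
    + (C ((-1) * v (.cij k i hik.symm)) * (1)) * F v d (Rule.p3 i j hij)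
    + (C (v (.cij j i hij.symm)) * (1)) * F v d (Rule.p3 i k hik)
    + (C (v (.cij i j hij) + (-1) * v (.cij i k hik)) * (1)) * F v d (Rule.p3 j k hjk)
    + C (v .a * v (.cbi j) * v (.ci j) + (-1) * v .a * v (.cbi k) * v (.ci k) + (-1) * v .c * v (.cij i j hij) + v .c * v (.cij i k hik) + v .c * v (.ci j) + (-1) * v .c * v (.cij j i hij.symm) + (-1) * v .c * v (.ci k) + v .c * v (.cij k i hik.symm) + (-1) * v .cb * v (.ci j) + v .cb * v (.ci k) + v (.cbi j) * v (.cbi j) * v (.ci j) + v (.cbi j) * v (.ci j) * v (.ci j) + (-1) * v (.cbi k) * v (.cbi k) * v (.ci k) + (-1) * v (.cbi k) * v (.ci k) * v (.ci k)) * (1)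
    + C (v .a * v (.ci k) + (-1) * v .c + v (.cbi k) * v (.ci k) + v (.cij i j hij) * v (.cij j k hjk) + v (.cij i k hik) * v (.cij j i hij.symm) + (-1) * v (.cij i k hik) * v (.cij j k hjk) + v (.ci k) * v (.ci k)) * (X (CVar.xi k))
    + C ((-1) * v .a * v (.ci j) + v .c + (-1) * v (.cbi j) * v (.ci j) + (-1) * v (.cij i j hij) * v (.cij k i hik.symm) + v (.cij i j hij) * v (.cij k j hjk.symm) + (-1) * v (.cij i k hik) * v (.cij k j hjk.symm) + (-1) * v (.ci j) * v (.ci j)) * (X (CVar.xi j))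
    + C ((-1) * v (.cbi j) + v (.cbi k) + v (.cij i j hij) + (-1) * v (.cij i k hik) + (-1) * v (.ci j) + v (.cij j i hij.symm) + v (.ci k) + (-1) * v (.cij k i hik.symm)) * (X CVar.x2 * X CVar.x3) := by
  simp only [t, F, lm]
  simp only [map_add, map_sub, map_mul, map_neg, map_one, map_ofNat]
  ring

-- ov7: ('p1', 'i') ('cub',) lcm x2*x3^2*xi
theorem ov7 : (X CVar.x3 ^ 2) * t v d (Rule.p1 i) - (X (CVar.xi i)) * t v d (Rule.cub) =
    (C (v .c + (-1) * v .cb) * (1) + C ((-1) * v .a + (-1) * v (.ci i)) * (X CVar.x3) + C ((-1)) * (X CVar.x2 * X CVar.x3)) * F v d (Rule.p1 i)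
    + (C (v (.cbi i)) * (1) + C ((1)) * (X CVar.x3)) * F v d (Rule.cub)
    + (C ((-1) * v .c + v (.cbi i) * v (.ci i)) * (1) + C (v (.ci i)) * (X CVar.x3)) * F v d (Rule.p2 i)
    + C (v .a * v .c * v (.cbi i) + (-1) * v .a * v (.cbi i) * v (.cbi i) * v (.ci i) + v .c * v (.cbi i) * v (.cbi i) + v .cb * v (.cbi i) * v (.ci i) + (-1) * v (.cbi i) * v (.cbi i) * v (.cbi i) * v (.ci i) + (-1) * v (.cbi i) * v (.cbi i) * v (.ci i) * v (.ci i) + v (.cbi i) * d) * (1)
    + C ((-1) * v .a * v .c + v .a * v (.cbi i) * v (.ci i) + (-1) * v .c * v (.cbi i) + (-1) * v .cb * v (.ci i) + v (.cbi i) * v (.cbi i) * v (.ci i) + v (.cbi i) * v (.ci i) * v (.ci i) + (-1) * d) * (X (CVar.xi i))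
    + C (v .a * v .c + (-1) * v .a * v (.cbi i) * v (.ci i) + v .c * v (.cbi i) + v .cb * v (.ci i) + (-1) * v (.cbi i) * v (.cbi i) * v (.ci i) + (-1) * v (.cbi i) * v (.ci i) * v (.ci i) + d) * (X CVar.x3) := by
  simp only [t, F, lm]
  simp only [map_add, map_sub, map_mul, map_neg, map_one, map_ofNat]
  ring

-- ov8: ('p2', 'i') ('cub',) lcm x2*x3^2*xi
theorem ov8 : (X CVar.x2 * X CVar.x3) * t v d (Rule.p2 i) - (X (CVar.xi i)) * t v d (Rule.cub) =
    (C (v (.cbi i)) * (1)) * F v d (Rule.cub)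
    + (C (v .c + (-1) * v .cb) * (1) + C (v (.cbi i)) * (X CVar.x3) + C ((-1)) * (X CVar.x2 * X CVar.x3)) * F v d (Rule.p1 i)
    + (C ((-1) * v .c + v (.cbi i) * v (.ci i)) * (1)) * F v d (Rule.p2 i)
    + C (v .a * v .c * v (.cbi i) + (-1) * v .a * v (.cbi i) * v (.cbi i) * v (.ci i) + v .c * v (.cbi i) * v (.cbi i) + v .cb * v (.cbi i) * v (.ci i) + (-1) * v (.cbi i) * v (.cbi i) * v (.cbi i) * v (.ci i) + (-1) * v (.cbi i) * v (.cbi i) * v (.ci i) * v (.ci i) + v (.cbi i) * d) * (1)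
    + C ((-1) * v .a * v .c + v .a * v (.cbi i) * v (.ci i) + (-1) * v .c * v (.cbi i) + (-1) * v .cb * v (.ci i) + v (.cbi i) * v (.cbi i) * v (.ci i) + v (.cbi i) * v (.ci i) * v (.ci i) + (-1) * d) * (X (CVar.xi i)) := by
  simp only [t, F, lm]
  simp only [map_add, map_sub, map_mul, map_neg, map_one, map_ofNat]
  ring


end overlaps

/-! ### weight bounds -/

/-- all monomials have weight at most `N` -/
def Wle (N : ℕ) (p : MvPolynomial (CVar m) R) : Prop := ∀ c ∈ p.support, Φ wt c ≤ N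

theorem Wle_mono {N N' : ℕ} {p : MvPolynomial (CVar m) R} (h : N ≤ N') (hp : Wle N p) : Wle N' p :=
  fun c hc => (hp c hc).trans h

theorem Wle_C (r : R) (N : ℕ) : Wle N (C r : MvPolynomial (CVar m) R) := by
  intro c hc
  have h1 : c ∈ ({0} : Finset (CVar m →₀ ℕ)) := support_monomial_subset hc
  rw [Finset.mem_singleton] at h1
  rw [h1, Φ_zero]; exact Nat.zero_le _

theorem Wle_one (N : ℕ) : Wle N (1 : MvPolynomial (CVar m) R) := by
  have := Wle_C (m := m) (1 : R) N
  rwa [map_one] at this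

theorem Wle_X (y : CVar m) (N : ℕ) (h : wt y ≤ N) : Wle N (X y : MvPolynomial (CVar m) R) := by
  intro c hc
  have h1 : c ∈ ({Finsupp.single y 1} : Finset (CVar m →₀ ℕ)) := support_monomial_subset hc
  rw [Finset.mem_singleton] at h1
  rw [h1, Φ_single, one_mul]; exact h

theorem Wle_add {N : ℕ} {p q : MvPolynomial (CVar m) R} (hp : Wle N p) (hq : Wle N q) :
    Wle N (p + q) := by
  classical
  intro c hc
  rcases Finset.mem_union.mp (support_add hc) with h | h
  exacts [hp c h, hq c h]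

theorem Wle_neg {N : ℕ} {p : MvPolynomial (CVar m) R} (hp : Wle N p) : Wle N (-p) := by
  intro c hc
  rw [support_neg] at hc
  exact hp c hc

theorem Wle_sub {N : ℕ} {p q : MvPolynomial (CVar m) R} (hp : Wle N p) (hq : Wle N q) :
    Wle N (p - q) := by
  rw [sub_eq_add_neg]; exact Wle_add hp (Wle_neg hq)

theorem Wle_mul {a b : ℕ} {p q : MvPolynomial (CVar m) R} (hp : Wle a p) (hq : Wle b q) :
    Wle (a + b) (p * q) := by
  classical
  intro c hc
  have h1 := support_mul p q hc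
  rw [Finset.mem_add] at h1
  obtain ⟨x, hx, y, hy, rfl⟩ := h1
  rw [Φ_add]
  exact add_le_add (hp x hx) (hq y hy)

theorem Wle_CM (r : R) {p : MvPolynomial (CVar m) R} {N : ℕ} (hp : Wle N p) : Wle N (C r * p) := by
  have := Wle_mul (Wle_C r 0) hp
  rwa [zero_add] at this

theorem Wle_XX (y z : CVar m) (N : ℕ) (h : wt y + wt z ≤ N) :
    Wle N (X y * X z : MvPolynomial (CVar m) R) :=
  Wle_mono h (Wle_mul (Wle_X y _ le_rfl) (Wle_X z _ le_rfl))

theorem Wle_X2X (y z : CVar m) (N : ℕ) (h : wt y + wt y + wt z ≤ N) :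
    Wle N (X y ^ 2 * X z : MvPolynomial (CVar m) R) := by
  rw [pow_two]
  exact Wle_mono h (Wle_mul (Wle_mul (Wle_X y _ le_rfl) (Wle_X y _ le_rfl)) (Wle_X z _ le_rfl))

/-- solve weight bound goals -/
macro "wle" : tactic => `(tactic| repeat' (first
  | with_reducible exact Wle_C _ _ | with_reducible exact Wle_one _
  | with_reducible exact Wle_X _ _ (by simp [wt])
  | with_reducible exact Wle_XX _ _ _ (by simp [wt])
  | with_reducible exact Wle_X2X _ _ _ (by simp [wt])
  | with_reducible apply Wle_add | with_reducible apply Wle_sub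
  | with_reducible apply Wle_CM | with_reducible apply Wle_neg))

@[simp] theorem Φμ_p1 (i : Fin m) : Φ wt (μ (Rule.p1 i)) = 8 := by
  simp [μ, Φ_add, Φ_single, wt]

@[simp] theorem Φμ_p2 (i : Fin m) : Φ wt (μ (Rule.p2 i)) = 9 := by
  simp [μ, Φ_add, Φ_single, wt]

@[simp] theorem Φμ_p3 (i j : Fin m) (h : i ≠ j) : Φ wt (μ (Rule.p3 i j h)) = 10 := by
  simp [μ, Φ_add, Φ_single, wt]

@[simp] theorem Φμ_cub : Φ wt (μ (Rule.cub : Rule m)) = 11 := by
  simp [μ, Φ_add, Φ_single, wt]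

theorem Wle_t_p1 (i : Fin m) : Wle 7 (t v d (.p1 i)) := by
  unfold t; wle

theorem Wle_t_p2 (i : Fin m) : Wle 7 (t v d (.p2 i)) := by
  unfold t; wle

theorem Wle_t_p3 (i j : Fin m) (h : i ≠ j) : Wle 7 (t v d (.p3 i j h)) := by
  unfold t; wle

theorem Wle_t_cub : Wle 10 (t v d (.cub : Rule m)) := by
  unfold t; wle

/-- the rewriting system -/
noncomputable def S : RS (CVar m) R (Rule m) where
  μ := μ
  t := t v d
  wt := wt
  dec := by
    intro r c hc
    cases r with
    | p1 i =>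
      have := Wle_t_p1 v d i c hc
      rw [Φμ_p1]; omega
    | p2 i =>
      have := Wle_t_p2 v d i c hc
      rw [Φμ_p2]; omega
    | p3 i j hij =>
      have := Wle_t_p3 v d i j hij c hc
      rw [Φμ_p3]; omega
    | cub =>
      have := Wle_t_cub v d c hc
      rw [Φμ_cub]; omega

@[simp] theorem S_μ (r : Rule m) : (S v d).μ r = μ r := rfl
@[simp] theorem S_t (r : Rule m) : (S v d).t r = t v d r := rfl
@[simp] theorem S_wt : (S v d).wt = wt := rfl

theorem f_eq (r : Rule m) : (S v d).f r = F v d r := by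
  show monomial (μ r) 1 - t v d r = _
  rw [lm_eq]; rfl

theorem mul_F_mem (cof : MvPolynomial (CVar m) R) (r : Rule m) (a N : ℕ) (h : Wle a cof)
    (hlt : a + Φ wt (μ r) < N) : cof * F v d r ∈ (S v d).Ilt N := by
  rw [← f_eq]
  apply RS.mul_f_mem_Ilt
  intro c hc
  have := h c hc
  show Φ wt c + Φ wt (μ r) < N
  omega

/-! ### the relations on the parameters -/

/-- the relations of `U_n` on the values -/
structure Rel (v : UGen m → R) : Prop where
  lin : ∀ i j (h : i ≠ j), v (.cij i j h) + v (.cij j i h.symm)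
    = v .a + v (.ci i) + v (.cbi i) + v (.ci j) + v (.cbi j)
  qc : ∀ i j (h : i ≠ j), v (.cij j i h.symm) * v (.ci j) + v (.cij i j h) * v (.ci i)
    - v (.ci i) * v (.ci j) - v .c = 0
  qcb : ∀ i j (h : i ≠ j), v (.cij j i h.symm) * v (.cbi i) + v (.cij i j h) * v (.cbi j)
    - v (.cbi i) * v (.cbi j) - v .cb = 0
  cub : ∀ i j k (hij : i ≠ j) (hjk : j ≠ k) (hik : i ≠ k),
    v (.cij i j hij) * v (.cij j k hjk) + v (.cij j i hij.symm) * v (.cij i k hik)
      - v (.cij i k hik) * v (.cij j k hjk) + (v .a + v (.ci k) + v (.cbi k)) * v (.ci k) - v .c = 0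

/-- the constant term of the cubic -/
def Dv (v : UGen m → R) (i : Fin m) : R :=
  v .a * v .c - v .a * v (.cbi i) * v (.ci i) + v .c * v (.cbi i) + v .cb * v (.ci i)
    - v (.cbi i) * v (.cbi i) * v (.ci i) - v (.cbi i) * v (.ci i) * v (.ci i)

theorem Dv_eq (h : Rel v) (i j : Fin m) : Dv v i = Dv v j := by
  by_cases hij : i = j
  · rw [hij]
  · have h1 := h.lin i j hij
    have h2 := h.qc i j hij
    have h3 := h.qcb i j hij
    unfold Dv
    grind

/-! ### confluence -/

theorem xi_ne {i j : Fin m} (h : i ≠ j) : CVar.xi i ≠ CVar.xi j := fun e => h (CVar.xi.inj e)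

theorem single_disj (x y : CVar m) (hxy : x ≠ y) (a b : ℕ) :
    ∀ u, (Finsupp.single x a : CVar m →₀ ℕ) u = 0 ∨ (Finsupp.single y b : CVar m →₀ ℕ) u = 0 := by
  classical
  intro u
  by_cases h : u = x
  · right; rw [h, Finsupp.single_apply, if_neg hxy.symm]
  · left; rw [Finsupp.single_apply, if_neg (Ne.symm h)]

theorem pair_disj (x y z w : CVar m) (a b c e : ℕ) (h1 : x ≠ z) (h2 : x ≠ w) (h3 : y ≠ z)
    (h4 : y ≠ w) :
    ∀ u, (Finsupp.single x a + Finsupp.single y b : CVar m →₀ ℕ) u = 0 ∨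
      (Finsupp.single z c + Finsupp.single w e : CVar m →₀ ℕ) u = 0 := by
  classical
  intro u
  simp only [Finsupp.add_apply, Finsupp.single_apply]
  by_cases hx : x = u
  · right; subst hx; simp [h1.symm, h2.symm]
  · by_cases hy : y = u
    · right; subst hy; simp [h3.symm, h4.symm]
    · left; simp [hx, hy]

theorem single_pair_disj (x z w : CVar m) (a c e : ℕ) (h1 : x ≠ z) (h2 : x ≠ w) :
    ∀ u, (Finsupp.single x a : CVar m →₀ ℕ) u = 0 ∨
      (Finsupp.single z c + Finsupp.single w e : CVar m →₀ ℕ) u = 0 := by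
  classical
  intro u
  simp only [Finsupp.add_apply, Finsupp.single_apply]
  by_cases hx : x = u
  · right; subst hx; simp [h1.symm, h2.symm]
  · left; simp [hx]

theorem mul_F_mem' (cof : MvPolynomial (CVar m) R) (r : Rule m) (N : ℕ)
    (hlt : Φ wt (μ r) < N) (h : Wle (N - 1 - Φ wt (μ r)) cof) :
    cof * F v d r ∈ (S v d).Ilt N :=
  mul_F_mem v d cof r _ N h (by omega)

theorem C_mul_mem_of_eq_zero (ρ : R) (p : MvPolynomial (CVar m) R)
    (V : Submodule R (MvPolynomial (CVar m) R)) (hρ : ρ = 0) : C ρ * p ∈ V := by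
  rw [hρ, map_zero, zero_mul]; exact zero_mem _

variable {v d}

theorem confl_ov1 (h : Rel v) (i₀ : Fin m) (hd : d = - Dv v i₀) (i : Fin m) :
    (S v d).Confl (.p1 i) (.p2 i) := by
  apply RS.Confl.of_split (S v d) (Finsupp.single (.xi i) 1) (Finsupp.single .x2 1)
    (Finsupp.single .x3 1) (add_comm _ _) (add_comm _ _) (single_disj _ _ (by simp) _ _) 12
    (by simp [Φ_add, Φ_single, wt])
  show X .x3 * t v d (.p1 i) - X .x2 * t v d (.p2 i) ∈ _
  rw [ov1]
  have hDi : Dv v i = -d := by rw [hd, neg_neg]; exact Dv_eq v h i i₀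
  unfold Dv at hDi
  repeat' with_reducible apply Submodule.add_mem
  all_goals first
    | with_reducible exact mul_F_mem' v d _ _ 12 (by simp) (by wle)
    | (with_reducible apply C_mul_mem_of_eq_zero; grind)

theorem confl_ov2 (h : Rel v) (i₀ : Fin m) (hd : d = - Dv v i₀) (i j : Fin m) (hij : i ≠ j) :
    (S v d).Confl (.p1 i) (.p1 j) := by
  apply RS.Confl.of_split (S v d) (Finsupp.single .x2 1) (Finsupp.single (.xi i) 1)
    (Finsupp.single (.xi j) 1) rfl rfl (single_disj _ _ (xi_ne hij) _ _) 13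
    (by simp [Φ_add, Φ_single, wt])
  show X (.xi j) * t v d (.p1 i) - X (.xi i) * t v d (.p1 j) ∈ _
  rw [ov2 (hij := hij)]
  have hDi : Dv v i = -d := by rw [hd, neg_neg]; exact Dv_eq v h i i₀
  unfold Dv at hDi
  have hDj : Dv v j = -d := by rw [hd, neg_neg]; exact Dv_eq v h j i₀
  unfold Dv at hDj
  have hlij := h.lin i j hij
  have hqij := h.qc i j hij
  have hbij := h.qcb i j hij
  repeat' with_reducible apply Submodule.add_mem
  all_goals first
    | with_reducible exact mul_F_mem' v d _ _ 13 (by simp) (by wle)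
    | (with_reducible apply C_mul_mem_of_eq_zero; grind)

theorem confl_ov3 (h : Rel v) (i₀ : Fin m) (hd : d = - Dv v i₀) (i j : Fin m) (hij : i ≠ j) :
    (S v d).Confl (.p2 i) (.p2 j) := by
  apply RS.Confl.of_split (S v d) (Finsupp.single .x3 1) (Finsupp.single (.xi i) 1)
    (Finsupp.single (.xi j) 1) rfl rfl (single_disj _ _ (xi_ne hij) _ _) 14
    (by simp [Φ_add, Φ_single, wt])
  show X (.xi j) * t v d (.p2 i) - X (.xi i) * t v d (.p2 j) ∈ _
  rw [ov3 (hij := hij)]
  have hDi : Dv v i = -d := by rw [hd, neg_neg]; exact Dv_eq v h i i₀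
  unfold Dv at hDi
  have hDj : Dv v j = -d := by rw [hd, neg_neg]; exact Dv_eq v h j i₀
  unfold Dv at hDj
  have hlij := h.lin i j hij
  have hqij := h.qc i j hij
  have hbij := h.qcb i j hij
  repeat' with_reducible apply Submodule.add_mem
  all_goals first
    | with_reducible exact mul_F_mem' v d _ _ 14 (by simp) (by wle)
    | (with_reducible apply C_mul_mem_of_eq_zero; grind)

theorem confl_ov4 (h : Rel v) (i₀ : Fin m) (hd : d = - Dv v i₀) (i j : Fin m) (hij : i ≠ j) :
    (S v d).Confl (.p1 i) (.p3 i j hij) := by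
  apply RS.Confl.of_split (S v d) (Finsupp.single (.xi i) 1) (Finsupp.single .x2 1)
    (Finsupp.single (.xi j) 1) (add_comm _ _) rfl (single_disj _ _ (by simp) _ _) 13
    (by simp [Φ_add, Φ_single, wt])
  show X (.xi j) * t v d (.p1 i) - X .x2 * t v d (.p3 i j hij) ∈ _
  rw [ov4]
  have hDi : Dv v i = -d := by rw [hd, neg_neg]; exact Dv_eq v h i i₀
  unfold Dv at hDi
  have hDj : Dv v j = -d := by rw [hd, neg_neg]; exact Dv_eq v h j i₀
  unfold Dv at hDj
  have hlij := h.lin i j hij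
  have hqij := h.qc i j hij
  have hbij := h.qcb i j hij
  repeat' with_reducible apply Submodule.add_mem
  all_goals first
    | with_reducible exact mul_F_mem' v d _ _ 13 (by simp) (by wle)
    | (with_reducible apply C_mul_mem_of_eq_zero; grind)

theorem confl_ov5 (h : Rel v) (i₀ : Fin m) (hd : d = - Dv v i₀) (i j : Fin m) (hij : i ≠ j) :
    (S v d).Confl (.p2 i) (.p3 i j hij) := by
  apply RS.Confl.of_split (S v d) (Finsupp.single (.xi i) 1) (Finsupp.single .x3 1)
    (Finsupp.single (.xi j) 1) (add_comm _ _) rfl (single_disj _ _ (by simp) _ _) 14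
    (by simp [Φ_add, Φ_single, wt])
  show X (.xi j) * t v d (.p2 i) - X .x3 * t v d (.p3 i j hij) ∈ _
  rw [ov5]
  have hDi : Dv v i = -d := by rw [hd, neg_neg]; exact Dv_eq v h i i₀
  unfold Dv at hDi
  have hDj : Dv v j = -d := by rw [hd, neg_neg]; exact Dv_eq v h j i₀
  unfold Dv at hDj
  have hlij := h.lin i j hij
  have hqij := h.qc i j hij
  have hbij := h.qcb i j hij
  repeat' with_reducible apply Submodule.add_mem
  all_goals first
    | with_reducible exact mul_F_mem' v d _ _ 14 (by simp) (by wle)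
    | (with_reducible apply C_mul_mem_of_eq_zero; grind)

theorem confl_ov6 (h : Rel v) (i₀ : Fin m) (hd : d = - Dv v i₀) (i j k : Fin m) (hij : i ≠ j)
    (hik : i ≠ k) (hjk : j ≠ k) :
    (S v d).Confl (.p3 i j hij) (.p3 i k hik) := by
  apply RS.Confl.of_split (S v d) (Finsupp.single (.xi i) 1) (Finsupp.single (.xi j) 1)
    (Finsupp.single (.xi k) 1) rfl rfl (single_disj _ _ (xi_ne hjk) _ _) 15
    (by simp [Φ_add, Φ_single, wt])
  show X (.xi k) * t v d (.p3 i j hij) - X (.xi j) * t v d (.p3 i k hik) ∈ _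
  rw [ov6 (hjk := hjk)]
  have hDj : Dv v j = -d := by rw [hd, neg_neg]; exact Dv_eq v h j i₀
  unfold Dv at hDj
  have hDk : Dv v k = -d := by rw [hd, neg_neg]; exact Dv_eq v h k i₀
  unfold Dv at hDk
  have hlij := h.lin i j hij
  have hqij := h.qc i j hij
  have hbij := h.qcb i j hij
  have hlik := h.lin i k hik
  have hqik := h.qc i k hik
  have hbik := h.qcb i k hik
  have hljk := h.lin j k hjk
  have hqjk := h.qc j k hjk
  have hbjk := h.qcb j k hjk
  have hc1 := h.cub i j k hij hjk hik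
  have hc2 := h.cub i k j hik hjk.symm hij
  repeat' with_reducible apply Submodule.add_mem
  all_goals first
    | with_reducible exact mul_F_mem' v d _ _ 15 (by simp) (by wle)
    | (with_reducible apply C_mul_mem_of_eq_zero
       first
        | linear_combination (-(v .c)) * hlij + (v .c) * hlik - hDj + hDk
        | linear_combination hc1
        | linear_combination (-1) * hc2
        | linear_combination hlij - hlik)

theorem confl_ov7 (h : Rel v) (i₀ : Fin m) (hd : d = - Dv v i₀) (i : Fin m) :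
    (S v d).Confl (.p1 i) .cub := by
  apply RS.Confl.of_split (S v d) (Finsupp.single .x2 1) (Finsupp.single (.xi i) 1)
    (Finsupp.single .x3 2) rfl rfl (single_disj _ _ (by simp) _ _) 16
    (by simp [Φ_add, Φ_single, wt])
  rw [← X_pow_eq_monomial]
  show X .x3 ^ 2 * t v d (.p1 i) - X (.xi i) * t v d .cub ∈ _
  rw [ov7]
  have hDi : Dv v i = -d := by rw [hd, neg_neg]; exact Dv_eq v h i i₀
  unfold Dv at hDi
  repeat' with_reducible apply Submodule.add_mem
  all_goals first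
    | with_reducible exact mul_F_mem' v d _ _ 16 (by simp) (by wle)
    | (with_reducible apply C_mul_mem_of_eq_zero
       first
        | linear_combination (v (.cbi i)) * hDi
        | linear_combination (-1) * hDi
        | linear_combination hDi)

theorem confl_ov8 (h : Rel v) (i₀ : Fin m) (hd : d = - Dv v i₀) (i : Fin m) :
    (S v d).Confl (.p2 i) .cub := by
  have e1 : (S v d).μ (Rule.cub)
      = Finsupp.single .x3 1 + (Finsupp.single .x2 1 + Finsupp.single .x3 1) := by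
    show (Finsupp.single .x2 1 + Finsupp.single .x3 2 : CVar m →₀ ℕ) = _
    rw [add_left_comm, ← Finsupp.single_add]
  have e2 : (monomial (Finsupp.single .x2 1 + Finsupp.single .x3 1) 1 : MvPolynomial (CVar m) R)
      = X .x2 * X .x3 := by
    simp only [X, monomial_mul, mul_one]
  apply RS.Confl.of_split (S v d) (r := Rule.p2 i) (s := Rule.cub) (Finsupp.single .x3 1)
    (Finsupp.single (.xi i) 1) (Finsupp.single .x2 1 + Finsupp.single .x3 1) rfl e1
    (single_pair_disj _ _ _ _ _ _ (by simp) (by simp)) 16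
    (by simp [Φ_add, Φ_single, wt])
  rw [e2]
  show X .x2 * X .x3 * t v d (.p2 i) - X (.xi i) * t v d .cub ∈ _
  rw [ov8]
  have hDi : Dv v i = -d := by rw [hd, neg_neg]; exact Dv_eq v h i i₀
  unfold Dv at hDi
  repeat' with_reducible apply Submodule.add_mem
  all_goals first
    | with_reducible exact mul_F_mem' v d _ _ 16 (by simp) (by wle)
    | (with_reducible apply C_mul_mem_of_eq_zero
       first
        | linear_combination (v (.cbi i)) * hDi
        | linear_combination (-1) * hDi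
        | linear_combination hDi)

theorem μ_p3_swap (i j : Fin m) (h : i ≠ j) : μ (Rule.p3 i j h) = μ (Rule.p3 j i h.symm) :=
  add_comm _ _

theorem t_p3_swap (i j : Fin m) (h : i ≠ j) :
    t v d (Rule.p3 i j h) = t v d (Rule.p3 j i h.symm) := by
  simp only [t]; ring

variable (v d) in
theorem Sμ_p3_swap (i j : Fin m) (h : i ≠ j) (h' : j ≠ i) :
    (S v d).μ (Rule.p3 i j h) = (S v d).μ (Rule.p3 j i h') :=
  add_comm _ _

variable (v d) in
theorem St_p3_swap (i j : Fin m) (h : i ≠ j) (h' : j ≠ i) :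
    (S v d).t (Rule.p3 i j h) = (S v d).t (Rule.p3 j i h') :=
  t_p3_swap (v := v) (d := d) i j h

section all

variable (h : Rel v) (i₀ : Fin m) (hd : d = - Dv v i₀)
include h hd

theorem confl_p1_p1 (i j : Fin m) : (S v d).Confl (.p1 i) (.p1 j) := by
  by_cases hij : i = j
  · subst hij; exact RS.Confl.of_eq (S v d) rfl rfl
  · exact confl_ov2 h i₀ hd i j hij

theorem confl_p2_p2 (i j : Fin m) : (S v d).Confl (.p2 i) (.p2 j) := by
  by_cases hij : i = j
  · subst hij; exact RS.Confl.of_eq (S v d) rfl rfl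
  · exact confl_ov3 h i₀ hd i j hij

theorem confl_p1_p2 (i j : Fin m) : (S v d).Confl (.p1 i) (.p2 j) := by
  by_cases hij : i = j
  · subst hij; exact confl_ov1 h i₀ hd i
  · exact RS.Confl.of_disjoint (S v d)
      (pair_disj .x2 (.xi i) .x3 (.xi j) 1 1 1 1 (by simp) (by simp) (by simp) (xi_ne hij))

theorem confl_p1_p3 (i j k : Fin m) (hjk : j ≠ k) : (S v d).Confl (.p1 i) (.p3 j k hjk) := by
  by_cases hij : i = j
  · subst hij; exact confl_ov4 h i₀ hd i k hjk
  · by_cases hik : i = k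
    · subst hik
      exact (confl_ov4 h i₀ hd i j hjk.symm).congr (S v d) rfl rfl (Sμ_p3_swap v d _ _ _ _)
        (St_p3_swap v d _ _ _ _)
    · exact RS.Confl.of_disjoint (S v d)
        (pair_disj .x2 (.xi i) (.xi j) (.xi k) 1 1 1 1 (by simp) (by simp) (xi_ne hij) (xi_ne hik))

theorem confl_p2_p3 (i j k : Fin m) (hjk : j ≠ k) : (S v d).Confl (.p2 i) (.p3 j k hjk) := by
  by_cases hij : i = j
  · subst hij; exact confl_ov5 h i₀ hd i k hjk
  · by_cases hik : i = k
    · subst hik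
      exact (confl_ov5 h i₀ hd i j hjk.symm).congr (S v d) rfl rfl (Sμ_p3_swap v d _ _ _ _)
        (St_p3_swap v d _ _ _ _)
    · exact RS.Confl.of_disjoint (S v d)
        (pair_disj .x3 (.xi i) (.xi j) (.xi k) 1 1 1 1 (by simp) (by simp) (xi_ne hij) (xi_ne hik))

omit h hd in
theorem confl_p3_cub (i j : Fin m) (hij : i ≠ j) : (S v d).Confl (.p3 i j hij) .cub :=
  RS.Confl.of_disjoint (S v d)
    (pair_disj (.xi i) (.xi j) .x2 .x3 1 1 1 2 (by simp) (by simp) (by simp) (by simp))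

theorem confl_p3_p3 (i j : Fin m) (hij : i ≠ j) (k l : Fin m) (hkl : k ≠ l) :
    (S v d).Confl (.p3 i j hij) (.p3 k l hkl) := by
  by_cases hik : i = k
  · subst hik
    by_cases hjl : j = l
    · subst hjl; exact RS.Confl.of_eq (S v d) rfl rfl
    · exact confl_ov6 h i₀ hd i j l hij hkl hjl
  · by_cases hil : i = l
    · subst hil
      by_cases hjk : j = k
      · subst hjk
        exact RS.Confl.of_eq (S v d) (Sμ_p3_swap v d _ _ _ _) (St_p3_swap v d _ _ _ _)
      · exact (confl_ov6 h i₀ hd i j k hij hik hjk).congr (S v d) rfl rfl (Sμ_p3_swap v d _ _ _ _)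
          (St_p3_swap v d _ _ _ _)
    · by_cases hjk : j = k
      · subst hjk
        exact (confl_ov6 h i₀ hd j i l hij.symm hkl hil).congr (S v d) (Sμ_p3_swap v d _ _ _ _)
          (St_p3_swap v d _ _ _ _) rfl rfl
      · by_cases hjl : j = l
        · subst hjl
          exact (confl_ov6 h i₀ hd j i k hij.symm hkl.symm hik).congr (S v d) (Sμ_p3_swap v d _ _ _ _)
            (St_p3_swap v d _ _ _ _) (Sμ_p3_swap v d _ _ _ _) (St_p3_swap v d _ _ _ _)
        · exact RS.Confl.of_disjoint (S v d)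
            (pair_disj (.xi i) (.xi j) (.xi k) (.xi l) 1 1 1 1 (xi_ne hik) (xi_ne hil) (xi_ne hjk)
              (xi_ne hjl))

theorem confl_all (r s : Rule m) : (S v d).Confl r s := by
  cases r with
  | p1 i =>
    cases s with
    | p1 j => exact confl_p1_p1 h i₀ hd i j
    | p2 j => exact confl_p1_p2 h i₀ hd i j
    | p3 j k hjk => exact confl_p1_p3 h i₀ hd i j k hjk
    | cub => exact confl_ov7 h i₀ hd i
  | p2 i =>
    cases s with
    | p1 j => exact (confl_p1_p2 h i₀ hd j i).symm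
    | p2 j => exact confl_p2_p2 h i₀ hd i j
    | p3 j k hjk => exact confl_p2_p3 h i₀ hd i j k hjk
    | cub => exact confl_ov8 h i₀ hd i
  | p3 i j hij =>
    cases s with
    | p1 k => exact (confl_p1_p3 h i₀ hd k i j hij).symm
    | p2 k => exact (confl_p2_p3 h i₀ hd k i j hij).symm
    | p3 k l hkl => exact confl_p3_p3 h i₀ hd i j hij k l hkl
    | cub => exact confl_p3_cub i j hij
  | cub =>
    cases s with
    | p1 k => exact (confl_ov7 h i₀ hd k).symm
    | p2 k => exact (confl_ov8 h i₀ hd k).symm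
    | p3 k l hkl => exact (confl_p3_cub k l hkl).symm
    | cub => exact RS.Confl.of_eq (S v d) rfl rfl

end all

/-! ### the ideal -/

theorem F_cub_eq (i : Fin m) : F v d Rule.cub =
    (C (v .a + v (.ci i) + v (.cbi i)) - X .x3) * F v d (.p1 i)
      + (X .x2 - C (v (.ci i))) * F v d (.p2 i) - C (Dv v i + d) := by
  simp only [F, t, lm, Dv]
  simp only [map_add, map_sub, map_mul, map_neg, map_one]
  ring

theorem span_F_eq (i₀ : Fin m) (hd : d = - Dv v i₀) :
    Ideal.span (Set.range (F v d)) = Ideal.span (CRel R m v) := by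
  apply le_antisymm
  · rw [Ideal.span_le]
    rintro _ ⟨r, rfl⟩
    have h1 : ∀ i, F v d (.p1 i) ∈ Ideal.span (CRel R m v) := fun i =>
      Ideal.subset_span (Or.inl (Or.inl ⟨i, rfl⟩))
    have h2 : ∀ i, F v d (.p2 i) ∈ Ideal.span (CRel R m v) := fun i =>
      Ideal.subset_span (Or.inl (Or.inr ⟨i, rfl⟩))
    cases r with
    | p1 i => exact h1 i
    | p2 i => exact h2 i
    | p3 i j hij => exact Ideal.subset_span (Or.inr ⟨⟨(i, j), hij⟩, rfl⟩)
    | cub =>
      show F v d Rule.cub ∈ _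
      rw [F_cub_eq i₀, hd, add_neg_cancel, map_zero, sub_zero]
      exact Ideal.add_mem _ (Ideal.mul_mem_left _ _ (h1 i₀)) (Ideal.mul_mem_left _ _ (h2 i₀))
  · rw [Ideal.span_le]
    rintro p ((⟨i, rfl⟩ | ⟨i, rfl⟩) | ⟨q, rfl⟩)
    · exact Ideal.subset_span ⟨.p1 i, rfl⟩
    · exact Ideal.subset_span ⟨.p2 i, rfl⟩
    · exact Ideal.subset_span ⟨.p3 q.1.1 q.1.2 q.2, rfl⟩

theorem S_I_eq (i₀ : Fin m) (hd : d = - Dv v i₀) : (S v d).I = Ideal.span (CRel R m v) := by
  rw [← span_F_eq i₀ hd]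
  unfold RS.I
  congr 1
  ext p
  simp only [Set.mem_range, f_eq]

end Helper91.UCurveGB
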