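import Mathlib
import Groth.Prelude.Def_W4c5m1nsnscurvesC
import Groth.Agent.Lib.Helper91.UCurveGB

/-!
# The monomial basis of the affine curve over U_n (S18246)
-/

namespace Helper91.UCurveBasis

open MvPolynomial W4c5m1nsnscurves Helper91.Diamond Helper91.UCurveGB

variable {R : Type*} [CommRing R] {m : ℕ}

/-- the index type of the monomial family -/
abbrev Idx (m : ℕ) := Option (ℕ ⊕ (CVar m × ℕ))

/-- exponent vectors of the monomial family -/
noncomputable def cexp : Idx m → (CVar m →₀ ℕ)
  | none => 0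
  | some (.inl k) => Finsupp.single .x2 (k + 1) + Finsupp.single .x3 1
  | some (.inr (y, k)) => Finsupp.single y (k + 1)

theorem cmon_eq (v : UGen m → R) (idx : Idx m) :
    cmon R m v idx = Ideal.Quotient.mk _ (monomial (cexp idx) 1) := by
  rcases idx with _ | k | ⟨y, k⟩
  · simp only [cmon, cexp]
    rw [show (monomial (0 : CVar m →₀ ℕ) (1 : R)) = 1 from rfl, map_one]
  · simp only [cmon, cexp]
    congr 1
    rw [X_pow_eq_monomial]
    simp only [X, monomial_mul, mul_one]
  · simp only [cmon, cexp, X_pow_eq_monomial]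

theorem cexp_injective : Function.Injective (cexp (m := m)) := by
  classical
  intro a b hab
  rcases a with _ | k | ⟨y, k⟩ <;> rcases b with _ | k' | ⟨y', k'⟩
  · rfl
  · have := DFunLike.congr_fun hab .x3
    simp [cexp] at this
  · have := DFunLike.congr_fun hab y'
    simp [cexp] at this
  · have := DFunLike.congr_fun hab .x3
    simp [cexp] at this
  · have := DFunLike.congr_fun hab .x2
    simp [cexp] at this
    rw [this]
  · exfalso
    have h2 := DFunLike.congr_fun hab .x2
    have h3 := DFunLike.congr_fun hab .x3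
    simp only [cexp, Finsupp.add_apply, Finsupp.single_apply] at h2 h3
    by_cases hy : y' = .x2
    · subst hy; simp at h3
    · simp [hy] at h2
  · have := DFunLike.congr_fun hab y
    simp [cexp] at this
  · exfalso
    have h2 := DFunLike.congr_fun hab .x2
    have h3 := DFunLike.congr_fun hab .x3
    simp only [cexp, Finsupp.add_apply, Finsupp.single_apply] at h2 h3
    by_cases hy : y = .x2
    · subst hy; simp at h3
    · simp [hy] at h2
  · simp only [cexp] at hab
    rw [Finsupp.single_eq_single_iff] at hab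
    rcases hab with ⟨rfl, h⟩ | ⟨h, -⟩
    · have : k = k' := by omega
      rw [this]
    · omega

theorem pair_le (x y : CVar m) (hxy : x ≠ y) (a b : ℕ) (c : CVar m →₀ ℕ) (hx : a ≤ c x)
    (hy : b ≤ c y) : Finsupp.single x a + Finsupp.single y b ≤ c := by
  classical
  rw [Finsupp.le_def]
  intro u
  simp only [Finsupp.add_apply, Finsupp.single_apply]
  by_cases h1 : x = u
  · subst h1; rw [if_pos rfl, if_neg hxy.symm, add_zero]; exact hx
  · by_cases h2 : y = u
    · subst h2; rw [if_neg h1, if_pos rfl, zero_add]; exact hy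
    · rw [if_neg h1, if_neg h2]; exact Nat.zero_le _

theorem single_pos (y u : CVar m) (n : ℕ) (h : 1 ≤ (Finsupp.single y n : CVar m →₀ ℕ) u) :
    y = u := by
  classical
  by_contra hne
  rw [Finsupp.single_apply, if_neg hne] at h
  omega

theorem μ_two (r : Rule m) : ∃ u1 u2 : CVar m, u1 ≠ u2 ∧ 1 ≤ μ r u1 ∧ 1 ≤ μ r u2 := by
  classical
  cases r with
  | p1 i => exact ⟨.x2, .xi i, by simp, by simp [μ], by simp [μ]⟩
  | p2 i => exact ⟨.x3, .xi i, by simp, by simp [μ], by simp [μ]⟩
  | p3 i j hij => exact ⟨.xi i, .xi j, xi_ne hij, by simp [μ, hij.symm], by simp [μ, hij]⟩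
  | cub => exact ⟨.x2, .x3, by simp, by simp [μ], by simp [μ]⟩

variable (v : UGen m → R) (d : R)

theorem cexp_normal (idx : Idx m) : (S v d).Normal (cexp idx) := by
  classical
  intro r hle
  rw [Finsupp.le_def] at hle
  rcases idx with _ | k | ⟨y, k⟩
  · cases r with
    | p1 i => have := hle .x2; simp [μ, cexp] at this
    | p2 i => have := hle .x3; simp [μ, cexp] at this
    | p3 i j hij => have := hle (.xi i); simp [μ, cexp] at this
    | cub => have := hle .x2; simp [μ, cexp] at this
  · cases r with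
    | p1 i => have := hle (.xi i); simp [μ, cexp] at this
    | p2 i => have := hle (.xi i); simp [μ, cexp] at this
    | p3 i j hij => have := hle (.xi i); simp [μ, cexp] at this
    | cub => have := hle .x3; simp [μ, cexp] at this
  · obtain ⟨u1, u2, hne, h1, h2⟩ := μ_two r
    have e1 := single_pos y u1 (k + 1) (le_trans h1 (hle u1))
    have e2 := single_pos y u2 (k + 1) (le_trans h2 (hle u2))
    exact hne (e1.symm.trans e2)

theorem normal_exists (c : CVar m →₀ ℕ) (hc : (S v d).Normal c) : ∃ idx, cexp idx = c := by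
  classical
  have n1 : ∀ i, ¬ (1 ≤ c .x2 ∧ 1 ≤ c (.xi i)) := fun i ⟨h1, h2⟩ =>
    hc (.p1 i) (pair_le _ _ (by simp) _ _ _ h1 h2)
  have n2 : ∀ i, ¬ (1 ≤ c .x3 ∧ 1 ≤ c (.xi i)) := fun i ⟨h1, h2⟩ =>
    hc (.p2 i) (pair_le _ _ (by simp) _ _ _ h1 h2)
  have n3 : ∀ i j, i ≠ j → ¬ (1 ≤ c (.xi i) ∧ 1 ≤ c (.xi j)) := fun i j hij ⟨h1, h2⟩ =>
    hc (.p3 i j hij) (pair_le _ _ (xi_ne hij) _ _ _ h1 h2)
  have n4 : ¬ (1 ≤ c .x2 ∧ 2 ≤ c .x3) := fun ⟨h1, h2⟩ =>
    hc .cub (pair_le _ _ (by simp) _ _ _ h1 h2)
  by_cases hex : ∃ i, 1 ≤ c (.xi i)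
  · obtain ⟨i, hi⟩ := hex
    refine ⟨some (.inr (.xi i, c (.xi i) - 1)), ?_⟩
    ext u
    simp only [cexp, Finsupp.single_apply]
    cases u with
    | x2 =>
      have := n1 i
      rw [if_neg (by simp)]; omega
    | x3 =>
      have := n2 i
      rw [if_neg (by simp)]; omega
    | xi l =>
      by_cases hl : i = l
      · subst hl; rw [if_pos rfl]; omega
      · have := n3 i l hl
        rw [if_neg (fun e => hl (CVar.xi.inj e))]; omega
  · have hx : ∀ i, c (.xi i) = 0 := by
      intro i
      by_contra h0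
      exact hex ⟨i, by omega⟩
    by_cases h3 : c .x3 = 0
    · by_cases h2 : c .x2 = 0
      · refine ⟨none, ?_⟩
        ext u
        simp only [cexp, Finsupp.coe_zero, Pi.zero_apply]
        cases u with
        | x2 => exact h2.symm
        | x3 => exact h3.symm
        | xi l => exact (hx l).symm
      · refine ⟨some (.inr (.x2, c .x2 - 1)), ?_⟩
        ext u
        simp only [cexp, Finsupp.single_apply]
        cases u with
        | x2 => rw [if_pos rfl]; omega
        | x3 => rw [if_neg (by simp)]; omega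
        | xi l => rw [if_neg (by simp)]; exact (hx l).symm
    · by_cases h2 : c .x2 = 0
      · refine ⟨some (.inr (.x3, c .x3 - 1)), ?_⟩
        ext u
        simp only [cexp, Finsupp.single_apply]
        cases u with
        | x2 => rw [if_neg (by simp)]; omega
        | x3 => rw [if_pos rfl]; omega
        | xi l => rw [if_neg (by simp)]; exact (hx l).symm
      · refine ⟨some (.inl (c .x2 - 1)), ?_⟩
        ext u
        simp only [cexp, Finsupp.add_apply, Finsupp.single_apply]
        cases u with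
        | x2 => rw [if_pos rfl, if_neg (by simp)]; omega
        | x3 => rw [if_neg (by simp), if_pos rfl]; omega
        | xi l => rw [if_neg (by simp), if_neg (by simp)]; exact (hx l).symm

/-! ### the monomials form a basis when the relations hold -/

section basis

variable {v}
variable (hm : 1 ≤ m) (h : Rel v)
include hm h

theorem indep_of_rel : LinearIndependent R (cmon R m v) := by
  classical
  set i₀ : Fin m := ⟨0, hm⟩ with hi₀
  set d : R := - Dv v i₀ with hd
  have hI := S_I_eq (v := v) (d := d) i₀ hd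
  have hli : LinearIndependent R (fun idx : Idx m => (monomial (cexp idx) (1 : R))) := by
    have e : (fun idx : Idx m => (monomial (cexp idx) (1 : R)))
        = (basisMonomials (CVar m) R) ∘ cexp := by
      funext idx
      simp [coe_basisMonomials]
    rw [e]
    exact (basisMonomials (CVar m) R).linearIndependent.comp cexp cexp_injective
  set f : MvPolynomial (CVar m) R →ₗ[R] CurveAlg R m v :=
    (Ideal.Quotient.mkₐ R (Ideal.span (CRel R m v))).toLinearMap with hf
  have hmap := hli.map (f := f) (by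
    rw [Submodule.disjoint_def]
    intro p hp hk
    have hV : p ∈ (S v d).V := by
      refine (Submodule.span_le (p := (S v d).V)).mpr ?_ hp
      rintro _ ⟨idx, rfl⟩
      exact (S v d).monomial_mem_V _ (cexp_normal v d idx) 1
    have hpI : p ∈ (S v d).I := by
      rw [hI]
      have : f p = 0 := hk
      rw [hf] at this
      exact Ideal.Quotient.eq_zero_iff_mem.mp this
    exact (S v d).indep (confl_all h i₀ hd) p hpI hV)
  have e : cmon R m v = f ∘ (fun idx : Idx m => (monomial (cexp idx) (1 : R))) := by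
    funext idx
    rw [cmon_eq]
    rfl
  rw [e]
  exact hmap

omit h in
theorem span_of_rel : Submodule.span R (Set.range (cmon R m v)) = ⊤ := by
  classical
  set i₀ : Fin m := ⟨0, hm⟩ with hi₀
  set d : R := - Dv v i₀ with hd
  have hI := S_I_eq (v := v) (d := d) i₀ hd
  rw [eq_top_iff]
  rintro x -
  obtain ⟨p, rfl⟩ := Ideal.Quotient.mk_surjective x
  obtain ⟨q, hq, hpq⟩ := (S v d).spanning p
  rw [hI] at hpq
  have e : Ideal.Quotient.mk (Ideal.span (CRel R m v)) p
      = (Ideal.Quotient.mkₐ R (Ideal.span (CRel R m v))).toLinearMap q := by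
    have := Ideal.Quotient.eq.mpr hpq
    rw [this]; rfl
  rw [e]
  apply lin_mem_of_support
  intro c hc
  obtain ⟨idx, rfl⟩ := normal_exists v d c (hq c hc)
  apply Submodule.subset_span
  refine ⟨idx, ?_⟩
  rw [cmon_eq]; rfl

end basis

/-! ### the relations hold when the monomials are independent -/

theorem four_zero {ι M : Type*} [AddCommGroup M] [Module R M] (w : ι → M)
    (hli : LinearIndependent R w) (i1 i2 i3 i4 : ι) (h12 : i1 ≠ i2) (h13 : i1 ≠ i3) (h14 : i1 ≠ i4)
    (h23 : i2 ≠ i3) (h24 : i2 ≠ i4) (h34 : i3 ≠ i4) (r1 r2 r3 r4 : R)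
    (h : r1 • w i1 + r2 • w i2 + r3 • w i3 + r4 • w i4 = 0) :
    r1 = 0 ∧ r2 = 0 ∧ r3 = 0 ∧ r4 = 0 := by
  classical
  rw [linearIndependent_iff] at hli
  have hl := hli (Finsupp.single i1 r1 + Finsupp.single i2 r2 + Finsupp.single i3 r3
    + Finsupp.single i4 r4) (by
      simp only [map_add, Finsupp.linearCombination_single]; exact h)
  have e1 := DFunLike.congr_fun hl i1
  have e2 := DFunLike.congr_fun hl i2
  have e3 := DFunLike.congr_fun hl i3
  have e4 := DFunLike.congr_fun hl i4
  simp only [Finsupp.add_apply, Finsupp.single_apply, Finsupp.coe_zero, Pi.zero_apply] at e1 e2 e3 e4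
  simp only [if_true, if_neg h12, if_neg h13, if_neg h14, if_neg h23, if_neg h24, if_neg h34,
    if_neg h12.symm, if_neg h13.symm, if_neg h14.symm, if_neg h23.symm, if_neg h24.symm,
    if_neg h34.symm, add_zero, zero_add] at e1 e2 e3 e4
  exact ⟨e1, e2, e3, e4⟩

variable {v} in
theorem rho_zero (hli : LinearIndependent R (cmon R m v)) (y z : CVar m) (hyz : y ≠ z)
    (A : MvPolynomial (CVar m) R) (ρ0 ρ1 ρ2 ρ3 : R)
    (hmem : A + C ρ0 * 1 + C ρ1 * X y + C ρ2 * X z + C ρ3 * (X .x2 * X .x3)
      ∈ Ideal.span (CRel R m v))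
    (hA : A ∈ Ideal.span (CRel R m v)) : ρ0 = 0 ∧ ρ1 = 0 ∧ ρ2 = 0 ∧ ρ3 = 0 := by
  have h1 : C ρ0 * 1 + C ρ1 * X y + C ρ2 * X z + C ρ3 * (X .x2 * X .x3)
      ∈ Ideal.span (CRel R m v) := by
    have := Ideal.sub_mem _ hmem hA
    have e : A + C ρ0 * 1 + C ρ1 * X y + C ρ2 * X z + C ρ3 * (X .x2 * X .x3) - A
        = C ρ0 * 1 + C ρ1 * X y + C ρ2 * X z + C ρ3 * (X .x2 * X .x3) := by ring
    rwa [e] at this
  have h2 := Ideal.Quotient.eq_zero_iff_mem.mpr h1
  have hs : ∀ (ρ : R) (p : MvPolynomial (CVar m) R),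
      Ideal.Quotient.mk (Ideal.span (CRel R m v)) (C ρ * p)
        = ρ • Ideal.Quotient.mk (Ideal.span (CRel R m v)) p := by
    intro ρ p
    rw [← smul_eq_C_mul]; rfl
  rw [map_add, map_add, map_add, hs, hs, hs, hs] at h2
  refine four_zero (cmon R m v) hli none (some (.inr (y, 0))) (some (.inr (z, 0))) (some (.inl 0))
    (by simp) (by simp) (by simp) (by simp [hyz]) (by simp) (by simp) ρ0 ρ1 ρ2 ρ3 ?_
  rw [← h2]
  simp only [cmon, zero_add, pow_one, map_one]

variable {v} in
theorem rel_of_indep (hm : 1 ≤ m) (hli : LinearIndependent R (cmon R m v)) : Rel v := by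
  set i₀ : Fin m := ⟨0, hm⟩ with hi₀
  set d : R := - Dv v i₀ with hd
  have hI : ∀ r, F v d r ∈ Ideal.span (CRel R m v) := by
    intro r
    rw [← span_F_eq (v := v) (d := d) i₀ hd]
    exact Ideal.subset_span ⟨r, rfl⟩
  have pair : ∀ i j (hij : i ≠ j),
      (v (.cij i j hij) + v (.cij j i hij.symm)
        = v .a + v (.ci i) + v (.cbi i) + v (.ci j) + v (.cbi j)) ∧
      (v (.cij j i hij.symm) * v (.ci j) + v (.cij i j hij) * v (.ci i)
        - v (.ci i) * v (.ci j) - v .c = 0) ∧
      (v (.cij j i hij.symm) * v (.cbi i) + v (.cij i j hij) * v (.cbi j)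
        - v (.cbi i) * v (.cbi j) - v .cb = 0) := by
    intro i j hij
    have hL : X (.xi j) * t v d (.p1 i) - X .x2 * t v d (.p3 i j hij)
        ∈ Ideal.span (CRel R m v) := by
      have e : X (.xi j) * t v d (.p1 i) - X .x2 * t v d (.p3 i j hij)
          = X .x2 * F v d (.p3 i j hij) - X (.xi j) * F v d (.p1 i) := by
        simp only [F, lm]; ring
      rw [e]
      exact Ideal.sub_mem _ (Ideal.mul_mem_left _ _ (hI _)) (Ideal.mul_mem_left _ _ (hI _))
    rw [ov4] at hL
    obtain ⟨-, h1, h2, h3⟩ := rho_zero hli (.xi j) .x2 (by simp) _ _ _ _ _ hL (by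
      repeat' with_reducible apply Ideal.add_mem
      all_goals exact Ideal.mul_mem_left _ _ (hI _))
    refine ⟨by linear_combination (-1) * h3, ?_, by linear_combination (-1) * h2⟩
    linear_combination h1 - (v (.ci j)) * h3
  refine ⟨fun i j hij => (pair i j hij).1, fun i j hij => (pair i j hij).2.1,
    fun i j hij => (pair i j hij).2.2, ?_⟩
  intro i j k hij hjk hik
  have hL : X (.xi k) * t v d (.p3 i j hij) - X (.xi j) * t v d (.p3 i k hik)
      ∈ Ideal.span (CRel R m v) := by
    have e : X (.xi k) * t v d (.p3 i j hij) - X (.xi j) * t v d (.p3 i k hik)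
        = X (.xi j) * F v d (.p3 i k hik) - X (.xi k) * F v d (.p3 i j hij) := by
      simp only [F, lm]; ring
    rw [e]
    exact Ideal.sub_mem _ (Ideal.mul_mem_left _ _ (hI _)) (Ideal.mul_mem_left _ _ (hI _))
  rw [ov6 (hjk := hjk)] at hL
  obtain ⟨-, h1, -, -⟩ := rho_zero hli (.xi k) (.xi j) (xi_ne hjk.symm) _ _ _ _ _ hL (by
    repeat' with_reducible apply Ideal.add_mem
    all_goals exact Ideal.mul_mem_left _ _ (hI _))
  linear_combination h1

theorem rel_iff_URel : Rel v ↔ ∀ p ∈ URel R m, MvPolynomial.eval v p = 0 := by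
  constructor
  · intro h p hp
    rcases hp with ((⟨q, rfl⟩ | ⟨q, rfl⟩) | ⟨q, rfl⟩) | ⟨q, rfl⟩
    · have := h.lin q.1.1 q.1.2 q.2
      simp only [map_sub, map_add, eval_X]
      linear_combination this
    · have := h.qc q.1.1 q.1.2 q.2
      simp only [map_sub, map_add, map_mul, eval_X]
      linear_combination this
    · have := h.qcb q.1.1 q.1.2 q.2
      simp only [map_sub, map_add, map_mul, eval_X]
      linear_combination this
    · have := h.cub q.1.1 q.1.2.1 q.1.2.2 q.2.1 q.2.2.1 q.2.2.2
      simp only [map_sub, map_add, map_mul, eval_X]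
      linear_combination this
  · intro hU
    refine ⟨?_, ?_, ?_, ?_⟩
    · intro i j hij
      have := hU _ (Or.inl (Or.inl (Or.inl ⟨⟨(i, j), hij⟩, rfl⟩)))
      simp only [map_sub, map_add, eval_X] at this
      linear_combination this
    · intro i j hij
      have := hU _ (Or.inl (Or.inl (Or.inr ⟨⟨(i, j), hij⟩, rfl⟩)))
      simp only [map_sub, map_add, map_mul, eval_X] at this
      linear_combination this
    · intro i j hij
      have := hU _ (Or.inl (Or.inr ⟨⟨(i, j), hij⟩, rfl⟩))
      simp only [map_sub, map_add, map_mul, eval_X] at this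
      linear_combination this
    · intro i j k hij hjk hik
      have := hU _ (Or.inr ⟨⟨(i, j, k), hij, hjk, hik⟩, rfl⟩)
      simp only [map_sub, map_add, map_mul, eval_X] at this
      linear_combination this

theorem main18246 (hm : 1 ≤ m) :
    (LinearIndependent R (cmon R m v) ∧ Submodule.span R (Set.range (cmon R m v)) = ⊤) ↔
      (∀ p ∈ URel R m, MvPolynomial.eval v p = 0) := by
  rw [← rel_iff_URel]
  constructor
  · rintro ⟨hli, -⟩
    exact rel_of_indep hm hli
  · intro h
    exact ⟨indep_of_rel hm h, span_of_rel hm⟩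

end Helper91.UCurveBasis
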