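import Groth.Prelude.Def_W4c5m1nsnscurvesU
import Mathlib

/-!
# The Zariski cotangent space of `U_n` at the origin
-/

open W4c5m1nsnscurves MvPolynomial

namespace Helper91.UTangent

universe u
variable (k : Type u) [Field k] (m : ℕ)

/-- Admissible first-order weights on the generators. -/
structure Adm (lam : UGen m → k) : Prop where
  hc : lam .c = 0
  hcb : lam .cb = 0
  hlin : ∀ (i j : Fin m) (h : i ≠ j), lam (.cij i j h) + lam (.cij j i h.symm) =
    lam .a + lam (.ci i) + lam (.cbi i) + lam (.ci j) + lam (.cbi j)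

theorem aeval_rel_eq_zero (lam : UGen m → k) (h : Adm k m lam) (p : MvPolynomial (UGen m) k)
    (hp : p ∈ URel k m) :
    aeval (fun g => lam g • (DualNumber.eps : DualNumber k)) p = 0 := by
  have hee : ∀ a b : k, (a • (DualNumber.eps : DualNumber k)) * (b • DualNumber.eps) = 0 := by
    intro a b
    rw [smul_mul_smul_comm, DualNumber.eps_mul_eps, smul_zero]
  simp only [URel, Set.mem_union, Set.mem_range] at hp
  rcases hp with ((⟨q, rfl⟩ | ⟨q, rfl⟩) | ⟨q, rfl⟩) | ⟨q, rfl⟩
  · simp only [map_sub, map_add, aeval_X]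
    rw [← add_smul, ← add_smul, ← add_smul, ← add_smul, ← add_smul, ← sub_smul,
      h.hlin q.1.1 q.1.2 q.2, sub_self, zero_smul]
  · simp only [map_sub, map_add, map_mul, aeval_X, hee, h.hc, zero_smul]
    simp
  · simp only [map_sub, map_add, map_mul, aeval_X, hee, h.hcb, zero_smul]
    simp
  · simp only [map_sub, map_add, map_mul, aeval_X, hee, h.hc, zero_smul, add_mul]
    simp

/-- The first-order deformation attached to admissible weights. -/
noncomputable def dualHom (lam : UGen m → k) (h : Adm k m lam) : URing k m →ₐ[k] DualNumber k :=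
  Ideal.Quotient.liftₐ (Ideal.span (URel k m))
    (aeval (fun g => lam g • (DualNumber.eps : DualNumber k)))
    (fun p hp => by
      induction hp using Submodule.span_induction with
      | mem q hq => exact aeval_rel_eq_zero k m lam h q hq
      | zero => simp
      | add x y _ _ hx hy => rw [map_add, hx, hy, add_zero]
      | smul r x _ hx => rw [smul_eq_mul, map_mul, hx, mul_zero])

theorem dualHom_ugen (lam : UGen m → k) (h : Adm k m lam) (g : UGen m) :
    dualHom k m lam h (ugen k m g) = lam g • (DualNumber.eps : DualNumber k) := by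
  unfold dualHom ugen
  rw [Ideal.Quotient.liftₐ_apply]
  erw [Ideal.Quotient.lift_mk]
  simp


section Relations

variable (R : Type u) [CommRing R]

theorem rel_lin (i j : Fin m) (h : i ≠ j) :
    ugen R m (.cij i j h) + ugen R m (.cij j i h.symm) =
      ugen R m .a + ugen R m (.ci i) + ugen R m (.cbi i) + ugen R m (.ci j) + ugen R m (.cbi j) := by
  have hmem : (X (.cij i j h) + X (.cij j i h.symm) -
      (X .a + X (.ci i) + X (.cbi i) + X (.ci j) + X (.cbi j)) : MvPolynomial (UGen m) R) ∈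
      URel R m := Or.inl (Or.inl (Or.inl ⟨⟨(i, j), h⟩, rfl⟩))
  have := Ideal.Quotient.eq_zero_iff_mem.mpr (Ideal.subset_span hmem)
  simp only [map_sub, map_add] at this
  exact sub_eq_zero.mp this

theorem rel_c (i j : Fin m) (h : i ≠ j) :
    ugen R m (.cij j i h.symm) * ugen R m (.ci j) + ugen R m (.cij i j h) * ugen R m (.ci i) -
      ugen R m (.ci i) * ugen R m (.ci j) = ugen R m .c := by
  have hmem : (X (.cij j i h.symm) * X (.ci j) + X (.cij i j h) * X (.ci i) -
      X (.ci i) * X (.ci j) - X .c : MvPolynomial (UGen m) R) ∈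
      URel R m := Or.inl (Or.inl (Or.inr ⟨⟨(i, j), h⟩, rfl⟩))
  have := Ideal.Quotient.eq_zero_iff_mem.mpr (Ideal.subset_span hmem)
  simp only [map_sub, map_add, map_mul] at this
  exact sub_eq_zero.mp this

theorem rel_cb (i j : Fin m) (h : i ≠ j) :
    ugen R m (.cij j i h.symm) * ugen R m (.cbi i) + ugen R m (.cij i j h) * ugen R m (.cbi j) -
      ugen R m (.cbi i) * ugen R m (.cbi j) = ugen R m .cb := by
  have hmem : (X (.cij j i h.symm) * X (.cbi i) + X (.cij i j h) * X (.cbi j) -
      X (.cbi i) * X (.cbi j) - X .cb : MvPolynomial (UGen m) R) ∈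
      URel R m := Or.inl (Or.inr ⟨⟨(i, j), h⟩, rfl⟩)
  have := Ideal.Quotient.eq_zero_iff_mem.mpr (Ideal.subset_span hmem)
  simp only [map_sub, map_add, map_mul] at this
  exact sub_eq_zero.mp this

end Relations

theorem ugen_mem (g : UGen m) : ugen k m g ∈ uorigin k m :=
  Ideal.subset_span ⟨g, rfl⟩

theorem dualHom_fst_of_mem (lam : UGen m → k) (h : Adm k m lam) (y : URing k m)
    (hy : y ∈ uorigin k m) : (dualHom k m lam h y).fst = 0 := by
  unfold uorigin at hy
  induction hy using Submodule.span_induction with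
  | mem x hx =>
    obtain ⟨g, rfl⟩ := hx
    rw [dualHom_ugen]
    simp
  | zero => simp
  | add x y _ _ hx hy => rw [map_add, TrivSqZeroExt.fst_add, hx, hy, add_zero]
  | smul r x _ hx => rw [smul_eq_mul, map_mul, TrivSqZeroExt.fst_mul, hx, mul_zero]

theorem dualHom_eq_zero_of_mem_sq (lam : UGen m → k) (h : Adm k m lam) (y : URing k m)
    (hy : y ∈ uorigin k m ^ 2) : dualHom k m lam h y = 0 := by
  rw [pow_two] at hy
  refine Submodule.mul_induction_on hy (fun a ha b hb => ?_) (fun x y hx hy => ?_)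
  · rw [map_mul]
    have h1 := dualHom_fst_of_mem k m lam h a ha
    have h2 := dualHom_fst_of_mem k m lam h b hb
    apply TrivSqZeroExt.ext
    · simp [h1]
    · simp [h1, h2]
  · rw [map_add, hx, hy, add_zero]


/-- Pairs `i < j`. -/
abbrev LPair (m : ℕ) : Type := {q : Fin m × Fin m // q.1 < q.2}

/-- Index type of the minimal generators. -/
abbrev J (m : ℕ) : Type := Unit ⊕ (Fin m ⊕ (Fin m ⊕ LPair m))

/-- The minimal generators. -/
def gens : J m → UGen m
  | .inl _ => .a
  | .inr (.inl i) => .ci i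
  | .inr (.inr (.inl i)) => .cbi i
  | .inr (.inr (.inr q)) => .cij q.1.1 q.1.2 (ne_of_lt q.2)

/-- Weights on all generators extending given weights on the minimal ones. -/
def lamOf (μ : J m → k) : UGen m → k
  | .a => μ (.inl ())
  | .c => 0
  | .cb => 0
  | .ci i => μ (.inr (.inl i))
  | .cbi i => μ (.inr (.inr (.inl i)))
  | .cij i j h => if hlt : i < j then μ (.inr (.inr (.inr ⟨(i, j), hlt⟩))) else
      μ (.inl ()) + μ (.inr (.inl i)) + μ (.inr (.inr (.inl i))) + μ (.inr (.inl j)) +
        μ (.inr (.inr (.inl j))) -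
        μ (.inr (.inr (.inr ⟨(j, i), lt_of_le_of_ne (not_lt.mp hlt) h.symm⟩)))

theorem lamOf_adm (μ : J m → k) : Adm k m (lamOf k m μ) where
  hc := rfl
  hcb := rfl
  hlin := by
    intro i j h
    rcases lt_or_gt_of_ne h with hlt | hgt
    · have hnot : ¬ j < i := not_lt.mpr hlt.le
      simp only [lamOf, hlt, hnot, dif_pos, dif_neg, not_false_eq_true]
      ring
    · have hnot : ¬ i < j := not_lt.mpr hgt.le
      simp only [lamOf, hgt, hnot, dif_pos, dif_neg, not_false_eq_true]
      ring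

theorem lamOf_gens (μ : J m → k) (j : J m) : lamOf k m μ (gens m j) = μ j := by
  rcases j with _ | i | i | q
  · rfl
  · rfl
  · rfl
  · simp only [gens, lamOf, q.2, dif_pos]

/-- The classes of the minimal generators in the cotangent space. -/
noncomputable def w (j : J m) : (uorigin k m).Cotangent :=
  (uorigin k m).toCotangent ⟨ugen k m (gens m j), ugen_mem k m _⟩

theorem toCot_smul (t : k) (x : uorigin k m) :
    t • (uorigin k m).toCotangent x = (uorigin k m).toCotangent (t • x) := rfl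

/-- `toCotangent` as a `k`-linear map. -/
noncomputable def toCotK : (uorigin k m) →ₗ[k] (uorigin k m).Cotangent where
  toFun := (uorigin k m).toCotangent
  map_add' := map_add _
  map_smul' := fun _ _ => rfl

theorem w_linearIndependent : LinearIndependent k (w k m) := by
  classical
  rw [Fintype.linearIndependent_iff]
  intro t ht j0
  have h1 : ∑ j, t j • w k m j =
      toCotK k m (∑ j, t j • (⟨ugen k m (gens m j), ugen_mem k m _⟩ : uorigin k m)) := by
    rw [map_sum]
    refine Finset.sum_congr rfl (fun j _ => ?_)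
    rw [map_smul]
    rfl
  rw [h1] at ht
  have h2 : ((∑ j, t j • (⟨ugen k m (gens m j), ugen_mem k m _⟩ : uorigin k m) : uorigin k m) :
      URing k m) ∈ uorigin k m ^ 2 := (Ideal.toCotangent_eq_zero _ _).mp ht
  have h3 : ((∑ j, t j • (⟨ugen k m (gens m j), ugen_mem k m _⟩ : uorigin k m) : uorigin k m) :
      URing k m) = ∑ j, t j • ugen k m (gens m j) := by
    rw [Submodule.coe_sum]
    rfl
  rw [h3] at h2
  have h4 := dualHom_eq_zero_of_mem_sq k m (lamOf k m (Pi.single j0 1)) (lamOf_adm k m _) _ h2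
  rw [map_sum] at h4
  simp only [map_smul, dualHom_ugen, lamOf_gens] at h4
  have h5 := congrArg TrivSqZeroExt.snd h4
  simp only [TrivSqZeroExt.snd_sum, TrivSqZeroExt.snd_smul, DualNumber.snd_eps,
    TrivSqZeroExt.snd_zero, smul_eq_mul] at h5
  simpa [Pi.single_apply] using h5


theorem exists_const_sub_mem (r : URing k m) :
    ∃ c : k, r - algebraMap k (URing k m) c ∈ uorigin k m := by
  obtain ⟨p, rfl⟩ := Ideal.Quotient.mk_surjective r
  induction p using MvPolynomial.induction_on with
  | C a =>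
    refine ⟨a, ?_⟩
    have : (Ideal.Quotient.mk (Ideal.span (URel k m)) (C a)) = algebraMap k (URing k m) a := rfl
    rw [this, sub_self]
    exact zero_mem _
  | add p q hp hq =>
    obtain ⟨c, hc⟩ := hp
    obtain ⟨d, hd⟩ := hq
    refine ⟨c + d, ?_⟩
    rw [map_add, map_add]
    have := add_mem hc hd
    convert this using 1
    ring
  | mul_X p g hp =>
    refine ⟨0, ?_⟩
    rw [map_zero, sub_zero, map_mul]
    exact Ideal.mul_mem_left _ _ (ugen_mem k m g)

theorem toCot_eq_zero_of_sq (x : URing k m) (hx : x ∈ uorigin k m) (hx2 : x ∈ uorigin k m ^ 2) :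
    (uorigin k m).toCotangent ⟨x, hx⟩ = 0 :=
  (Ideal.toCotangent_eq_zero _ _).mpr hx2

theorem smul_toCot_mem (Sp : Submodule k (uorigin k m).Cotangent) (r : URing k m)
    (x : uorigin k m) (hx : (uorigin k m).toCotangent x ∈ Sp) :
    (uorigin k m).toCotangent (r • x) ∈ Sp := by
  obtain ⟨c, hc⟩ := exists_const_sub_mem k m r
  have h1 : r • x = c • x + (⟨(r - algebraMap k (URing k m) c) * x.1,
      Ideal.mul_mem_left _ _ x.2⟩ : uorigin k m) := by
    apply Subtype.ext
    change r * x.1 = c • x.1 + (r - algebraMap k (URing k m) c) * x.1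
    have hsm : c • x.1 = algebraMap k (URing k m) c * x.1 := Algebra.smul_def c x.1
    rw [hsm]
    ring
  rw [h1, map_add]
  have h2 : (uorigin k m).toCotangent (⟨(r - algebraMap k (URing k m) c) * x.1,
      Ideal.mul_mem_left _ _ x.2⟩ : uorigin k m) = 0 := by
    apply toCot_eq_zero_of_sq
    rw [pow_two]
    exact Ideal.mul_mem_mul hc x.2
  rw [h2, add_zero, ← toCot_smul]
  exact Sp.smul_mem c hx

theorem ugen_c_mem_sq (hm : 2 ≤ m) : ugen k m .c ∈ uorigin k m ^ 2 := by
  have h01 : (⟨0, by omega⟩ : Fin m) ≠ ⟨1, by omega⟩ := by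
    intro h
    simp [Fin.ext_iff] at h
  rw [← rel_c m k _ _ h01, pow_two]
  refine sub_mem (add_mem ?_ ?_) ?_ <;>
    exact Ideal.mul_mem_mul (ugen_mem k m _) (ugen_mem k m _)

theorem ugen_cb_mem_sq (hm : 2 ≤ m) : ugen k m .cb ∈ uorigin k m ^ 2 := by
  have h01 : (⟨0, by omega⟩ : Fin m) ≠ ⟨1, by omega⟩ := by
    intro h
    simp [Fin.ext_iff] at h
  rw [← rel_cb m k _ _ h01, pow_two]
  refine sub_mem (add_mem ?_ ?_) ?_ <;>
    exact Ideal.mul_mem_mul (ugen_mem k m _) (ugen_mem k m _)

theorem toCot_ugen_mem (hm : 2 ≤ m) (g : UGen m) :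
    (uorigin k m).toCotangent ⟨ugen k m g, ugen_mem k m g⟩ ∈
      Submodule.span k (Set.range (w k m)) := by
  rcases g with _ | _ | _ | i | i | ⟨i, j, h⟩
  · exact Submodule.subset_span ⟨.inl (), rfl⟩
  · rw [toCot_eq_zero_of_sq k m _ _ (ugen_c_mem_sq k m hm)]
    exact zero_mem _
  · rw [toCot_eq_zero_of_sq k m _ _ (ugen_cb_mem_sq k m hm)]
    exact zero_mem _
  · exact Submodule.subset_span ⟨.inr (.inl i), rfl⟩
  · exact Submodule.subset_span ⟨.inr (.inr (.inl i)), rfl⟩
  · by_cases hlt : i < j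
    · exact Submodule.subset_span ⟨.inr (.inr (.inr ⟨(i, j), hlt⟩)), rfl⟩
    · have hgt : j < i := lt_of_le_of_ne (not_lt.mp hlt) h.symm
      have h1 : (⟨ugen k m (.cij i j h), ugen_mem k m _⟩ : uorigin k m) =
          ⟨ugen k m .a, ugen_mem k m _⟩ + ⟨ugen k m (.ci i), ugen_mem k m _⟩ +
            ⟨ugen k m (.cbi i), ugen_mem k m _⟩ + ⟨ugen k m (.ci j), ugen_mem k m _⟩ +
            ⟨ugen k m (.cbi j), ugen_mem k m _⟩ -
            ⟨ugen k m (.cij j i h.symm), ugen_mem k m _⟩ := by
        apply Subtype.ext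
        change ugen k m (.cij i j h) = ugen k m .a + ugen k m (.ci i) + ugen k m (.cbi i) +
          ugen k m (.ci j) + ugen k m (.cbi j) - ugen k m (.cij j i h.symm)
        rw [← rel_lin m k i j h]
        ring
      rw [h1, map_sub, map_add, map_add, map_add, map_add]
      refine sub_mem (add_mem (add_mem (add_mem (add_mem ?_ ?_) ?_) ?_) ?_) ?_
      · exact Submodule.subset_span ⟨.inl (), rfl⟩
      · exact Submodule.subset_span ⟨.inr (.inl i), rfl⟩
      · exact Submodule.subset_span ⟨.inr (.inr (.inl i)), rfl⟩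
      · exact Submodule.subset_span ⟨.inr (.inl j), rfl⟩
      · exact Submodule.subset_span ⟨.inr (.inr (.inl j)), rfl⟩
      · exact Submodule.subset_span ⟨.inr (.inr (.inr ⟨(j, i), hgt⟩)), rfl⟩

theorem w_span (hm : 2 ≤ m) : ⊤ ≤ Submodule.span k (Set.range (w k m)) := by
  intro z _
  obtain ⟨⟨x, hx⟩, rfl⟩ := Ideal.toCotangent_surjective _ z
  refine Submodule.span_induction
    (p := fun x hx => (uorigin k m).toCotangent ⟨x, hx⟩ ∈ Submodule.span k (Set.range (w k m)))
    ?_ ?_ ?_ ?_ hx
  · rintro _ ⟨g, rfl⟩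
    exact toCot_ugen_mem k m hm g
  · have : (⟨0, zero_mem _⟩ : uorigin k m) = 0 := rfl
    change (uorigin k m).toCotangent ⟨0, _⟩ ∈ _
    rw [this, map_zero]
    exact zero_mem _
  · intro x y hx hy h1 h2
    have : (⟨x + y, add_mem hx hy⟩ : uorigin k m) = ⟨x, hx⟩ + ⟨y, hy⟩ := rfl
    change (uorigin k m).toCotangent ⟨x + y, _⟩ ∈ _
    rw [this, map_add]
    exact add_mem h1 h2
  · intro r x hx h1
    have : (⟨r • x, Submodule.smul_mem _ r hx⟩ : uorigin k m) = r • ⟨x, hx⟩ := rfl
    change (uorigin k m).toCotangent ⟨r • x, _⟩ ∈ _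
    rw [this]
    exact smul_toCot_mem k m _ r _ h1

theorem card_lpair : 2 * Fintype.card (LPair m) + m = m * m := by
  classical
  have h0 : Fintype.card (Fin m × Fin m) = m * m := by simp
  have hswap : (Finset.univ.filter (fun q : Fin m × Fin m => q.1 < q.2)).card =
      (Finset.univ.filter (fun q : Fin m × Fin m => q.2 < q.1)).card := by
    apply Finset.card_bij (fun q _ => q.swap)
    · intro q hq
      simpa using hq
    · intro a _ b _ h
      exact Prod.swap_injective h
    · intro b hb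
      exact ⟨b.swap, by simpa using hb, by simp⟩
  have hdiag : (Finset.univ.filter (fun q : Fin m × Fin m => q.1 = q.2)).card = m := by
    have : Finset.univ.filter (fun q : Fin m × Fin m => q.1 = q.2) =
        Finset.univ.image (fun i : Fin m => (i, i)) := by
      ext ⟨a, b⟩
      simp only [Finset.mem_filter, Finset.mem_univ, true_and, Finset.mem_image, Prod.mk.injEq]
      constructor
      · rintro rfl
        exact ⟨a, rfl, rfl⟩
      · rintro ⟨c, rfl, rfl⟩
        rfl
    rw [this, Finset.card_image_of_injective _ (fun a b h => by simpa using h)]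
    simp
  have hpart : (Finset.univ.filter (fun q : Fin m × Fin m => q.1 < q.2)).card +
      (Finset.univ.filter (fun q : Fin m × Fin m => q.2 < q.1)).card +
      (Finset.univ.filter (fun q : Fin m × Fin m => q.1 = q.2)).card = m * m := by
    rw [← h0, Finset.card_filter, Finset.card_filter, Finset.card_filter, ← Finset.sum_add_distrib,
      ← Finset.sum_add_distrib, Fintype.card_eq_sum_ones]
    refine Finset.sum_congr rfl (fun q _ => ?_)
    rcases lt_trichotomy q.1 q.2 with h | h | h
    · simp [h, h.not_gt, h.ne]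
    · simp [h]
    · simp [h, h.not_gt, h.ne']
  rw [Fintype.card_subtype]
  omega

theorem card_J : Fintype.card (J m) = (m + 2) * (m + 1) / 2 := by
  have h := card_lpair m
  simp only [J, Fintype.card_sum, Fintype.card_unit, Fintype.card_fin]
  have h2 : (m + 2) * (m + 1) = 2 * (1 + (m + (m + Fintype.card (LPair m)))) := by
    have : (m + 2) * (m + 1) = m * m + 3 * m + 2 := by ring
    rw [this, ← h]
    ring
  rw [h2, Nat.mul_div_cancel_left _ (by norm_num)]

theorem finrank_cotangent (hm : 2 ≤ m) :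
    Module.finrank k (uorigin k m).Cotangent = (m + 2) * (m + 1) / 2 := by
  rw [Module.finrank_eq_card_basis (Module.Basis.mk (w_linearIndependent k m) (w_span k m hm)),
    card_J]


/-- The set of minimal generators over `ℤ`. -/
def genSet : Set (URing ℤ m) :=
  {ugen ℤ m .a} ∪ Set.range (fun i : Fin m => ugen ℤ m (.ci i)) ∪
    Set.range (fun i : Fin m => ugen ℤ m (.cbi i)) ∪
    Set.range (fun q : {q : Fin m × Fin m // q.1 < q.2} =>
      ugen ℤ m (.cij q.1.1 q.1.2 (ne_of_lt q.2)))

theorem a_mem_adjoin : ugen ℤ m .a ∈ Algebra.adjoin ℤ (genSet m) :=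
  Algebra.subset_adjoin (Or.inl (Or.inl (Or.inl rfl)))

theorem ci_mem_adjoin (i : Fin m) : ugen ℤ m (.ci i) ∈ Algebra.adjoin ℤ (genSet m) :=
  Algebra.subset_adjoin (Or.inl (Or.inl (Or.inr ⟨i, rfl⟩)))

theorem cbi_mem_adjoin (i : Fin m) : ugen ℤ m (.cbi i) ∈ Algebra.adjoin ℤ (genSet m) :=
  Algebra.subset_adjoin (Or.inl (Or.inr ⟨i, rfl⟩))

theorem cij_mem_adjoin (i j : Fin m) (h : i ≠ j) :
    ugen ℤ m (.cij i j h) ∈ Algebra.adjoin ℤ (genSet m) := by
  by_cases hlt : i < j
  · exact Algebra.subset_adjoin (Or.inr ⟨⟨(i, j), hlt⟩, rfl⟩)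
  · have hgt : j < i := lt_of_le_of_ne (not_lt.mp hlt) h.symm
    have h1 : ugen ℤ m (.cij i j h) = ugen ℤ m .a + ugen ℤ m (.ci i) + ugen ℤ m (.cbi i) +
          ugen ℤ m (.ci j) + ugen ℤ m (.cbi j) - ugen ℤ m (.cij j i h.symm) := by
      rw [← rel_lin m ℤ i j h]
      ring
    rw [h1]
    refine sub_mem (add_mem (add_mem (add_mem (add_mem ?_ ?_) ?_) ?_) ?_) ?_
    · exact a_mem_adjoin m
    · exact ci_mem_adjoin m i
    · exact cbi_mem_adjoin m i
    · exact ci_mem_adjoin m j
    · exact cbi_mem_adjoin m j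
    · exact Algebra.subset_adjoin (Or.inr ⟨⟨(j, i), hgt⟩, rfl⟩)

theorem ugen_mem_adjoin (hm : 2 ≤ m) (g : UGen m) :
    ugen ℤ m g ∈ Algebra.adjoin ℤ (genSet m) := by
  have h01 : (⟨0, by omega⟩ : Fin m) ≠ ⟨1, by omega⟩ := by
    intro h
    simp [Fin.ext_iff] at h
  rcases g with _ | _ | _ | i | i | ⟨i, j, h⟩
  · exact a_mem_adjoin m
  · rw [← rel_c m ℤ _ _ h01]
    refine sub_mem (add_mem ?_ ?_) ?_
    · exact mul_mem (cij_mem_adjoin m _ _ _) (ci_mem_adjoin m _)
    · exact mul_mem (cij_mem_adjoin m _ _ _) (ci_mem_adjoin m _)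
    · exact mul_mem (ci_mem_adjoin m _) (ci_mem_adjoin m _)
  · rw [← rel_cb m ℤ _ _ h01]
    refine sub_mem (add_mem ?_ ?_) ?_
    · exact mul_mem (cij_mem_adjoin m _ _ _) (cbi_mem_adjoin m _)
    · exact mul_mem (cij_mem_adjoin m _ _ _) (cbi_mem_adjoin m _)
    · exact mul_mem (cbi_mem_adjoin m _) (cbi_mem_adjoin m _)
  · exact ci_mem_adjoin m i
  · exact cbi_mem_adjoin m i
  · exact cij_mem_adjoin m i j h

theorem adjoin_eq_top (hm : 2 ≤ m) : Algebra.adjoin ℤ (genSet m) = ⊤ := by
  rw [eq_top_iff]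
  intro x hx
  clear hx
  obtain ⟨p, rfl⟩ := Ideal.Quotient.mk_surjective x
  induction p using MvPolynomial.induction_on with
  | C a =>
    have : (Ideal.Quotient.mk (Ideal.span (URel ℤ m)) (C a)) = algebraMap ℤ (URing ℤ m) a := rfl
    rw [this]
    exact Subalgebra.algebraMap_mem _ a
  | add p q hp hq =>
    rw [map_add]
    exact add_mem hp hq
  | mul_X p g hp =>
    rw [map_mul]
    exact mul_mem hp (ugen_mem_adjoin m hm g)

theorem main18248 (hm : 2 ≤ m) :
    (∀ (k : Type u) [Field k], Module.finrank k (uorigin k m).Cotangent = (m + 2) * (m + 1) / 2) ∧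
    Algebra.adjoin ℤ ({ugen ℤ m .a} ∪ Set.range (fun i : Fin m => ugen ℤ m (.ci i)) ∪
        Set.range (fun i : Fin m => ugen ℤ m (.cbi i)) ∪
        Set.range (fun q : {q : Fin m × Fin m // q.1 < q.2} =>
          ugen ℤ m (.cij q.1.1 q.1.2 (ne_of_lt q.2)))) = ⊤ :=
  ⟨fun k _ => finrank_cotangent k m hm, adjoin_eq_top m hm⟩

end Helper91.UTangent
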