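import Groth.Prelude.Def_W4c5m1nsnscurvesC
import Groth.Prelude.Def_W4c5m1nsnscurvesI
import Groth.Agent.Lib.Helper91.UTangent
import Mathlib

/-!
# `O(C_n) ≅ O(U_{n+1})`
-/

open W4c5m1nsnscurves MvPolynomial

namespace Helper91.UCurveIso

open Helper91.UTangent

universe u
variable (R : Type u) [CommRing R] (m : ℕ)

theorem rel_cubic (i j k : Fin m) (hij : i ≠ j) (hjk : j ≠ k) (hik : i ≠ k) :
    ugen R m (.cij i j hij) * ugen R m (.cij j k hjk) +
      ugen R m (.cij j i hij.symm) * ugen R m (.cij i k hik) -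
      ugen R m (.cij i k hik) * ugen R m (.cij j k hjk) +
      (ugen R m .a + ugen R m (.ci k) + ugen R m (.cbi k)) * ugen R m (.ci k) = ugen R m .c := by
  have hmem : (X (.cij i j hij) * X (.cij j k hjk) +
      X (.cij j i hij.symm) * X (.cij i k hik) -
      X (.cij i k hik) * X (.cij j k hjk) +
      (X .a + X (.ci k) + X (.cbi k)) * X (.ci k) - X .c : MvPolynomial (UGen m) R) ∈
      URel R m := Or.inr ⟨⟨(i, j, k), ⟨hij, hjk, hik⟩⟩, rfl⟩
  have := Ideal.Quotient.eq_zero_iff_mem.mpr (Ideal.subset_span hmem)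
  simp only [map_sub, map_add, map_mul] at this
  exact sub_eq_zero.mp this

theorem uincl_ugen (g : UGen m) : uincl R m (ugen R m g) = ugen R (m + 1) g.castSucc := by
  unfold uincl ugen
  rw [Ideal.Quotient.liftₐ_apply]
  erw [Ideal.Quotient.lift_mk]
  simp

/-- Abbreviation for the curve algebra over `URing R m`. -/
abbrev CA : Type u := CurveAlg (URing R m) m (ugen R m)

/-- Class of a variable. -/
noncomputable def cvar (y : CVar m) : CA R m :=
  Ideal.Quotient.mk (Ideal.span (CRel (URing R m) m (ugen R m))) (X y)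

/-- The structure map. -/
noncomputable def iota : URing R m →+* CA R m :=
  (Ideal.Quotient.mk (Ideal.span (CRel (URing R m) m (ugen R m)))).comp C

theorem iota_eq_algebraMap (r : URing R m) :
    iota R m r = algebraMap (URing R m) (CA R m) r := rfl

theorem crel1 (i : Fin m) :
    cvar R m .x2 * cvar R m (.xi i) =
      cvar R m .x2 * cvar R m .x3 + iota R m (ugen R m (.ci i)) * cvar R m (.xi i) +
        iota R m (ugen R m (.cbi i)) * cvar R m .x2 - iota R m (ugen R m .c) := by
  have hmem : (X .x2 * X (.xi i) -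
      (X .x2 * X .x3 + C (ugen R m (.ci i)) * X (.xi i) + C (ugen R m (.cbi i)) * X .x2 -
        C (ugen R m .c)) : MvPolynomial (CVar m) (URing R m)) ∈
      CRel (URing R m) m (ugen R m) := Or.inl (Or.inl ⟨i, rfl⟩)
  have := Ideal.Quotient.eq_zero_iff_mem.mpr (Ideal.subset_span hmem)
  simp only [map_sub, map_add, map_mul] at this
  exact sub_eq_zero.mp this

theorem crel2 (i : Fin m) :
    cvar R m .x3 * cvar R m (.xi i) =
      cvar R m .x2 * cvar R m .x3 +
        (iota R m (ugen R m .a) + iota R m (ugen R m (.ci i)) + iota R m (ugen R m (.cbi i))) *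
          (cvar R m (.xi i) - iota R m (ugen R m (.cbi i))) +
        iota R m (ugen R m .cb) - iota R m (ugen R m .c) := by
  have hmem : (X .x3 * X (.xi i) -
      (X .x2 * X .x3 + C (ugen R m .a + ugen R m (.ci i) + ugen R m (.cbi i)) *
        (X (.xi i) - C (ugen R m (.cbi i))) +
        C (ugen R m .cb) - C (ugen R m .c)) : MvPolynomial (CVar m) (URing R m)) ∈
      CRel (URing R m) m (ugen R m) := Or.inl (Or.inr ⟨i, rfl⟩)
  have := Ideal.Quotient.eq_zero_iff_mem.mpr (Ideal.subset_span hmem)
  simp only [map_sub, map_add, map_mul] at this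
  exact sub_eq_zero.mp this

theorem crel3 (i j : Fin m) (h : i ≠ j) :
    cvar R m (.xi i) * cvar R m (.xi j) =
      cvar R m .x2 * cvar R m .x3 + iota R m (ugen R m (.cij i j h)) * cvar R m (.xi j) +
        iota R m (ugen R m (.cij j i h.symm)) * cvar R m (.xi i) - iota R m (ugen R m .c) := by
  have hmem : (X (.xi i) * X (.xi j) -
      (X .x2 * X .x3 + C (ugen R m (.cij i j h)) * X (.xi j) +
        C (ugen R m (.cij j i h.symm)) * X (.xi i) - C (ugen R m .c)) :
        MvPolynomial (CVar m) (URing R m)) ∈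
      CRel (URing R m) m (ugen R m) := Or.inr ⟨⟨(i, j), h⟩, rfl⟩
  have := Ideal.Quotient.eq_zero_iff_mem.mpr (Ideal.subset_span hmem)
  simp only [map_sub, map_add, map_mul] at this
  exact sub_eq_zero.mp this


/-- Images of the generators of `URing R (m+1)` in the curve algebra. -/
noncomputable def bwdGen : UGen (m + 1) → CA R m
  | .a => iota R m (ugen R m .a)
  | .c => iota R m (ugen R m .c)
  | .cb => iota R m (ugen R m .cb)
  | .ci i => if h : i = Fin.last m then cvar R m .x2 else iota R m (ugen R m (.ci (i.castPred h)))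
  | .cbi i => if h : i = Fin.last m then cvar R m .x3 - iota R m (ugen R m .a) - cvar R m .x2
      else iota R m (ugen R m (.cbi (i.castPred h)))
  | .cij i j h =>
    if hi : i = Fin.last m then
      (if hj : j = Fin.last m then 0 else
        iota R m (ugen R m (.ci (j.castPred hj))) + iota R m (ugen R m (.cbi (j.castPred hj))) +
          cvar R m .x3 - cvar R m (.xi (j.castPred hj)))
    else
      (if hj : j = Fin.last m then cvar R m (.xi (i.castPred hi)) else
        iota R m (ugen R m (.cij (i.castPred hi) (j.castPred hj)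
          (fun e => h (Fin.castPred_inj.mp e)))))

@[simp] theorem bwdGen_a : bwdGen R m .a = iota R m (ugen R m .a) := rfl
@[simp] theorem bwdGen_c : bwdGen R m .c = iota R m (ugen R m .c) := rfl
@[simp] theorem bwdGen_cb : bwdGen R m .cb = iota R m (ugen R m .cb) := rfl

@[simp] theorem bwdGen_ci_last : bwdGen R m (.ci (Fin.last m)) = cvar R m .x2 := by
  simp [bwdGen]

@[simp] theorem bwdGen_ci_cast (i : Fin m) :
    bwdGen R m (.ci i.castSucc) = iota R m (ugen R m (.ci i)) := by
  simp [bwdGen, Fin.castSucc_ne_last]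

@[simp] theorem bwdGen_cbi_last :
    bwdGen R m (.cbi (Fin.last m)) = cvar R m .x3 - iota R m (ugen R m .a) - cvar R m .x2 := by
  simp [bwdGen]

@[simp] theorem bwdGen_cbi_cast (i : Fin m) :
    bwdGen R m (.cbi i.castSucc) = iota R m (ugen R m (.cbi i)) := by
  simp [bwdGen, Fin.castSucc_ne_last]

@[simp] theorem bwdGen_cij_cl (i : Fin m) (h : i.castSucc ≠ Fin.last m) :
    bwdGen R m (.cij i.castSucc (Fin.last m) h) = cvar R m (.xi i) := by
  simp [bwdGen, Fin.castSucc_ne_last]

@[simp] theorem bwdGen_cij_lc (j : Fin m) (h : Fin.last m ≠ j.castSucc) :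
    bwdGen R m (.cij (Fin.last m) j.castSucc h) =
      iota R m (ugen R m (.ci j)) + iota R m (ugen R m (.cbi j)) +
          cvar R m .x3 - cvar R m (.xi j) := by
  simp [bwdGen, Fin.castSucc_ne_last]

@[simp] theorem bwdGen_cij_cc (i j : Fin m) (h : i.castSucc ≠ j.castSucc) :
    bwdGen R m (.cij i.castSucc j.castSucc h) =
      iota R m (ugen R m (.cij i j (fun e => h (by rw [e])))) := by
  simp [bwdGen, Fin.castSucc_ne_last]


/-- The backward map on polynomials. -/
noncomputable def bwdPoly : MvPolynomial (UGen (m + 1)) R →+* CA R m :=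
  eval₂Hom ((iota R m).comp (algebraMap R (URing R m))) (bwdGen R m)

@[simp] theorem bwdPoly_X (g : UGen (m + 1)) : bwdPoly R m (X g) = bwdGen R m g := by
  simp [bwdPoly]

theorem iota_lin (i j : Fin m) (h : i ≠ j) :
    iota R m (ugen R m (.cij i j h)) + iota R m (ugen R m (.cij j i h.symm)) =
      iota R m (ugen R m .a) + iota R m (ugen R m (.ci i)) + iota R m (ugen R m (.cbi i)) +
        iota R m (ugen R m (.ci j)) + iota R m (ugen R m (.cbi j)) := by
  have := congrArg (iota R m) (rel_lin m R i j h)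
  simpa only [map_add] using this

theorem iota_c (i j : Fin m) (h : i ≠ j) :
    iota R m (ugen R m (.cij j i h.symm)) * iota R m (ugen R m (.ci j)) +
      iota R m (ugen R m (.cij i j h)) * iota R m (ugen R m (.ci i)) -
      iota R m (ugen R m (.ci i)) * iota R m (ugen R m (.ci j)) = iota R m (ugen R m .c) := by
  have := congrArg (iota R m) (rel_c m R i j h)
  simpa only [map_add, map_sub, map_mul] using this

theorem iota_cb (i j : Fin m) (h : i ≠ j) :
    iota R m (ugen R m (.cij j i h.symm)) * iota R m (ugen R m (.cbi i)) +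
      iota R m (ugen R m (.cij i j h)) * iota R m (ugen R m (.cbi j)) -
      iota R m (ugen R m (.cbi i)) * iota R m (ugen R m (.cbi j)) = iota R m (ugen R m .cb) := by
  have := congrArg (iota R m) (rel_cb m R i j h)
  simpa only [map_add, map_sub, map_mul] using this

theorem iota_cubic (i j k : Fin m) (hij : i ≠ j) (hjk : j ≠ k) (hik : i ≠ k) :
    iota R m (ugen R m (.cij i j hij)) * iota R m (ugen R m (.cij j k hjk)) +
      iota R m (ugen R m (.cij j i hij.symm)) * iota R m (ugen R m (.cij i k hik)) -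
      iota R m (ugen R m (.cij i k hik)) * iota R m (ugen R m (.cij j k hjk)) +
      (iota R m (ugen R m .a) + iota R m (ugen R m (.ci k)) + iota R m (ugen R m (.cbi k))) *
        iota R m (ugen R m (.ci k)) = iota R m (ugen R m .c) := by
  have := congrArg (iota R m) (rel_cubic R m i j k hij hjk hik)
  simpa only [map_add, map_sub, map_mul] using this

theorem bwdPoly_rel (p : MvPolynomial (UGen (m + 1)) R) (hp : p ∈ URel R (m + 1)) :
    bwdPoly R m p = 0 := by
  simp only [URel, Set.mem_union, Set.mem_range] at hp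
  rcases hp with ((⟨⟨⟨i, j⟩, h⟩, rfl⟩ | ⟨⟨⟨i, j⟩, h⟩, rfl⟩) | ⟨⟨⟨i, j⟩, h⟩, rfl⟩) |
    ⟨⟨⟨i, j, k⟩, hij, hjk, hik⟩, rfl⟩
  · -- linear
    dsimp only at h ⊢
    simp only [map_sub, map_add, bwdPoly_X]
    obtain ⟨i, rfl⟩ | rfl := i.eq_castSucc_or_eq_last <;>
      obtain ⟨j, rfl⟩ | rfl := j.eq_castSucc_or_eq_last
    · simp only [bwdGen_cij_cc, bwdGen_ci_cast, bwdGen_cbi_cast, bwdGen_a]
      have h' : i ≠ j := fun e => h (by rw [e])
      linear_combination iota_lin R m i j h'
    · simp only [bwdGen_cij_cl, bwdGen_cij_lc, bwdGen_ci_cast, bwdGen_cbi_cast, bwdGen_a,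
        bwdGen_ci_last, bwdGen_cbi_last]
      ring
    · simp only [bwdGen_cij_cl, bwdGen_cij_lc, bwdGen_ci_cast, bwdGen_cbi_cast, bwdGen_a,
        bwdGen_ci_last, bwdGen_cbi_last]
      ring
    · exact absurd rfl h
  · -- quadratic c
    dsimp only at h ⊢
    simp only [map_sub, map_add, map_mul, bwdPoly_X]
    obtain ⟨i, rfl⟩ | rfl := i.eq_castSucc_or_eq_last <;>
      obtain ⟨j, rfl⟩ | rfl := j.eq_castSucc_or_eq_last
    · simp only [bwdGen_cij_cc, bwdGen_ci_cast, bwdGen_c]
      have h' : i ≠ j := fun e => h (by rw [e])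
      linear_combination iota_c R m i j h'
    · simp only [bwdGen_cij_cl, bwdGen_cij_lc, bwdGen_ci_cast, bwdGen_c, bwdGen_ci_last]
      linear_combination (-1 : CA R m) * crel1 R m i
    · simp only [bwdGen_cij_cl, bwdGen_cij_lc, bwdGen_ci_cast, bwdGen_c, bwdGen_ci_last]
      linear_combination (-1 : CA R m) * crel1 R m j
    · exact absurd rfl h
  · -- quadratic cb
    dsimp only at h ⊢
    simp only [map_sub, map_add, map_mul, bwdPoly_X]
    obtain ⟨i, rfl⟩ | rfl := i.eq_castSucc_or_eq_last <;>
      obtain ⟨j, rfl⟩ | rfl := j.eq_castSucc_or_eq_last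
    · simp only [bwdGen_cij_cc, bwdGen_cbi_cast, bwdGen_cb]
      have h' : i ≠ j := fun e => h (by rw [e])
      linear_combination iota_cb R m i j h'
    · simp only [bwdGen_cij_cl, bwdGen_cij_lc, bwdGen_cbi_cast, bwdGen_cb, bwdGen_cbi_last]
      linear_combination crel2 R m i - crel1 R m i
    · simp only [bwdGen_cij_cl, bwdGen_cij_lc, bwdGen_cbi_cast, bwdGen_cb, bwdGen_cbi_last]
      linear_combination crel2 R m j - crel1 R m j
    · exact absurd rfl h
  · -- cubic
    dsimp only at hij hjk hik ⊢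
    simp only [map_sub, map_add, map_mul, bwdPoly_X]
    obtain ⟨i, rfl⟩ | rfl := i.eq_castSucc_or_eq_last <;>
      obtain ⟨j, rfl⟩ | rfl := j.eq_castSucc_or_eq_last <;>
      obtain ⟨k, rfl⟩ | rfl := k.eq_castSucc_or_eq_last
    · simp only [bwdGen_cij_cc, bwdGen_ci_cast, bwdGen_cbi_cast, bwdGen_a, bwdGen_c]
      have hij' : i ≠ j := fun e => hij (by rw [e])
      have hjk' : j ≠ k := fun e => hjk (by rw [e])
      have hik' : i ≠ k := fun e => hik (by rw [e])
      linear_combination iota_cubic R m i j k hij' hjk' hik'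
    · simp only [bwdGen_cij_cc, bwdGen_cij_cl, bwdGen_ci_last, bwdGen_cbi_last, bwdGen_a, bwdGen_c]
      have hij' : i ≠ j := fun e => hij (by rw [e])
      linear_combination (-1 : CA R m) * crel3 R m i j hij'
    · simp only [bwdGen_cij_cc, bwdGen_cij_cl, bwdGen_cij_lc, bwdGen_ci_cast, bwdGen_cbi_cast,
        bwdGen_a, bwdGen_c]
      have hik' : i ≠ k := fun e => hik (by rw [e])
      linear_combination crel2 R m i - crel3 R m i k hik' +
        (iota R m (ugen R m (.cbi i)) - iota R m (ugen R m (.ci k)) - cvar R m (.xi i)) *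
          iota_lin R m i k hik' - iota_cb R m i k hik' + iota_c R m i k hik'
    · exact absurd rfl hjk
    · simp only [bwdGen_cij_cc, bwdGen_cij_cl, bwdGen_cij_lc, bwdGen_ci_cast, bwdGen_cbi_cast,
        bwdGen_a, bwdGen_c]
      have hjk' : j ≠ k := fun e => hjk (by rw [e])
      linear_combination crel2 R m j - crel3 R m j k hjk' +
        (iota R m (ugen R m (.cbi j)) - iota R m (ugen R m (.ci k)) - cvar R m (.xi j)) *
          iota_lin R m j k hjk' - iota_cb R m j k hjk' + iota_c R m j k hjk'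
    · exact absurd rfl hik
    · exact absurd rfl hij
    · exact absurd rfl hij


/-- The backward map. -/
noncomputable def bwd : URing R (m + 1) →+* CA R m :=
  Ideal.Quotient.lift (Ideal.span (URel R (m + 1))) (bwdPoly R m) (fun p hp => by
    induction hp using Submodule.span_induction with
    | mem q hq => exact bwdPoly_rel R m q hq
    | zero => simp
    | add x y _ _ hx hy => rw [map_add, hx, hy, add_zero]
    | smul r x _ hx => rw [smul_eq_mul, map_mul, hx, mul_zero])

theorem bwd_ugen (g : UGen (m + 1)) : bwd R m (ugen R (m + 1) g) = bwdGen R m g := by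
  change bwd R m (Ideal.Quotient.mk (Ideal.span (URel R (m + 1))) (X g)) = _
  unfold bwd
  rw [Ideal.Quotient.lift_mk, bwdPoly_X]

theorem bwd_algebraMap (r : R) :
    bwd R m (algebraMap R (URing R (m + 1)) r) = iota R m (algebraMap R (URing R m) r) := by
  have : algebraMap R (URing R (m + 1)) r = Ideal.Quotient.mk (Ideal.span (URel R (m + 1))) (C r) :=
    rfl
  rw [this]
  unfold bwd
  rw [Ideal.Quotient.lift_mk]
  simp [bwdPoly]

/-- Images of the variables of the curve algebra. -/
noncomputable def fwdVar : CVar m → URing R (m + 1)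
  | .x2 => ugen R (m + 1) (.ci (Fin.last m))
  | .x3 => ugen R (m + 1) .a + ugen R (m + 1) (.ci (Fin.last m)) +
      ugen R (m + 1) (.cbi (Fin.last m))
  | .xi i => ugen R (m + 1) (.cij i.castSucc (Fin.last m) (Fin.castSucc_lt_last i).ne)

/-- The forward map on polynomials. -/
noncomputable def fwdPoly : MvPolynomial (CVar m) (URing R m) →+* URing R (m + 1) :=
  eval₂Hom (uincl R m : URing R m →+* URing R (m + 1)) (fwdVar R m)

@[simp] theorem fwdPoly_X (y : CVar m) : fwdPoly R m (X y) = fwdVar R m y := by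
  simp [fwdPoly]

@[simp] theorem fwdPoly_C (r : URing R m) : fwdPoly R m (C r) = uincl R m r := by
  simp [fwdPoly]

theorem fwdPoly_rel (p : MvPolynomial (CVar m) (URing R m))
    (hp : p ∈ CRel (URing R m) m (ugen R m)) : fwdPoly R m p = 0 := by
  simp only [CRel, Set.mem_union, Set.mem_range] at hp
  rcases hp with (⟨i, rfl⟩ | ⟨i, rfl⟩) | ⟨⟨⟨i, j⟩, h⟩, rfl⟩
  · simp only [map_sub, map_add, map_mul, fwdPoly_X, fwdPoly_C, uincl_ugen, fwdVar,
      UGen.castSucc]
    have hne : i.castSucc ≠ Fin.last m := (Fin.castSucc_lt_last i).ne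
    have hl := rel_lin (m + 1) R i.castSucc (Fin.last m) hne
    have hc := rel_c (m + 1) R i.castSucc (Fin.last m) hne
    linear_combination ugen R (m + 1) (.ci (Fin.last m)) * hl - hc
  · simp only [map_sub, map_add, map_mul, fwdPoly_X, fwdPoly_C, uincl_ugen, fwdVar,
      UGen.castSucc]
    have hne : i.castSucc ≠ Fin.last m := (Fin.castSucc_lt_last i).ne
    have hl := rel_lin (m + 1) R i.castSucc (Fin.last m) hne
    have hc := rel_c (m + 1) R i.castSucc (Fin.last m) hne
    have hcb := rel_cb (m + 1) R i.castSucc (Fin.last m) hne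
    linear_combination (ugen R (m + 1) (.ci (Fin.last m)) - ugen R (m + 1) (.cbi i.castSucc)) * hl
      + hcb - hc
  · dsimp only at h ⊢
    simp only [map_sub, map_add, map_mul, fwdPoly_X, fwdPoly_C, uincl_ugen, fwdVar,
      UGen.castSucc]
    have hi : i.castSucc ≠ Fin.last m := (Fin.castSucc_lt_last i).ne
    have hj : j.castSucc ≠ Fin.last m := (Fin.castSucc_lt_last j).ne
    have hij : i.castSucc ≠ j.castSucc := fun e => h (Fin.castSucc_injective _ e)
    have hcub := rel_cubic R (m + 1) i.castSucc j.castSucc (Fin.last m) hij hj hi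
    linear_combination (-1 : URing R (m + 1)) * hcub

/-- The forward map. -/
noncomputable def fwd : CA R m →+* URing R (m + 1) :=
  Ideal.Quotient.lift (Ideal.span (CRel (URing R m) m (ugen R m))) (fwdPoly R m) (fun p hp => by
    induction hp using Submodule.span_induction with
    | mem q hq => exact fwdPoly_rel R m q hq
    | zero => simp
    | add x y _ _ hx hy => rw [map_add, hx, hy, add_zero]
    | smul r x _ hx => rw [smul_eq_mul, map_mul, hx, mul_zero])

theorem fwd_cvar (y : CVar m) : fwd R m (cvar R m y) = fwdVar R m y := by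
  unfold fwd cvar
  rw [Ideal.Quotient.lift_mk, fwdPoly_X]

theorem fwd_iota (r : URing R m) : fwd R m (iota R m r) = uincl R m r := by
  unfold fwd iota
  rw [RingHom.comp_apply, Ideal.Quotient.lift_mk, fwdPoly_C]


theorem bwd_comp_uincl :
    (bwd R m).comp (uincl R m : URing R m →+* URing R (m + 1)) = iota R m := by
  apply Ideal.Quotient.ringHom_ext
  apply MvPolynomial.ringHom_ext
  · intro r
    change bwd R m (uincl R m (algebraMap R (URing R m) r)) =
      iota R m (algebraMap R (URing R m) r)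
    rw [AlgHom.commutes, bwd_algebraMap]
  · intro g
    change bwd R m (uincl R m (ugen R m g)) = iota R m (ugen R m g)
    rw [uincl_ugen, bwd_ugen]
    cases g <;> simp [UGen.castSucc]

theorem bwd_uincl (r : URing R m) : bwd R m (uincl R m r) = iota R m r :=
  RingHom.congr_fun (bwd_comp_uincl R m) r

theorem fwd_bwdGen (g : UGen (m + 1)) : fwd R m (bwdGen R m g) = ugen R (m + 1) g := by
  rcases g with _ | _ | _ | i | i | ⟨i, j, h⟩
  · rw [bwdGen_a, fwd_iota, uincl_ugen]
    rfl
  · rw [bwdGen_c, fwd_iota, uincl_ugen]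
    rfl
  · rw [bwdGen_cb, fwd_iota, uincl_ugen]
    rfl
  · obtain ⟨i, rfl⟩ | rfl := i.eq_castSucc_or_eq_last
    · rw [bwdGen_ci_cast, fwd_iota, uincl_ugen]
      rfl
    · rw [bwdGen_ci_last, fwd_cvar]
      rfl
  · obtain ⟨i, rfl⟩ | rfl := i.eq_castSucc_or_eq_last
    · rw [bwdGen_cbi_cast, fwd_iota, uincl_ugen]
      rfl
    · rw [bwdGen_cbi_last, map_sub, map_sub, fwd_cvar, fwd_cvar, fwd_iota, uincl_ugen]
      simp only [fwdVar, UGen.castSucc]
      ring
  · obtain ⟨i, rfl⟩ | rfl := i.eq_castSucc_or_eq_last <;>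
      obtain ⟨j, rfl⟩ | rfl := j.eq_castSucc_or_eq_last
    · rw [bwdGen_cij_cc, fwd_iota, uincl_ugen]
      rfl
    · rw [bwdGen_cij_cl, fwd_cvar]
      rfl
    · rw [bwdGen_cij_lc, map_sub, map_add, map_add, fwd_cvar, fwd_cvar, fwd_iota, fwd_iota,
        uincl_ugen, uincl_ugen]
      simp only [fwdVar, UGen.castSucc]
      have hl := rel_lin (m + 1) R j.castSucc (Fin.last m) h.symm
      linear_combination (-1 : URing R (m + 1)) * hl
    · exact absurd rfl h

theorem fwd_comp_bwd : (fwd R m).comp (bwd R m) = RingHom.id (URing R (m + 1)) := by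
  apply Ideal.Quotient.ringHom_ext
  apply MvPolynomial.ringHom_ext
  · intro r
    change fwd R m (bwd R m (algebraMap R (URing R (m + 1)) r)) =
      algebraMap R (URing R (m + 1)) r
    rw [bwd_algebraMap, fwd_iota, AlgHom.commutes]
  · intro g
    change fwd R m (bwd R m (ugen R (m + 1) g)) = ugen R (m + 1) g
    rw [bwd_ugen, fwd_bwdGen]

theorem bwd_comp_fwd : (bwd R m).comp (fwd R m) = RingHom.id (CA R m) := by
  apply Ideal.Quotient.ringHom_ext
  apply MvPolynomial.ringHom_ext
  · intro r
    change bwd R m (fwd R m (iota R m r)) = iota R m r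
    rw [fwd_iota, bwd_uincl]
  · intro y
    change bwd R m (fwd R m (cvar R m y)) = cvar R m y
    rw [fwd_cvar]
    cases y with
    | x2 => simp only [fwdVar, bwd_ugen, bwdGen_ci_last]
    | x3 =>
      simp only [fwdVar, map_add, bwd_ugen, bwdGen_ci_last, bwdGen_cbi_last, bwdGen_a]
      ring
    | xi i => simp only [fwdVar, bwd_ugen, bwdGen_cij_cl]

/-- The isomorphism `O(C_n) ≅ O(U_{n+1})`. -/
noncomputable def equiv : CA R m ≃+* URing R (m + 1) :=
  RingEquiv.ofRingHom (fwd R m) (bwd R m) (fwd_comp_bwd R m) (bwd_comp_fwd R m)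

theorem main18252 :
    ∃ e : CurveAlg (URing R m) m (ugen R m) ≃+* URing R (m + 1),
      (∀ r : URing R m, e (algebraMap (URing R m) (CurveAlg (URing R m) m (ugen R m)) r) =
        uincl R m r) ∧
      e (Ideal.Quotient.mk (Ideal.span (CRel (URing R m) m (ugen R m))) (MvPolynomial.X CVar.x2)) =
        ugen R (m + 1) (UGen.ci (Fin.last m)) ∧
      e (Ideal.Quotient.mk (Ideal.span (CRel (URing R m) m (ugen R m))) (MvPolynomial.X CVar.x3)) =
        ugen R (m + 1) UGen.a + ugen R (m + 1) (UGen.ci (Fin.last m)) +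
          ugen R (m + 1) (UGen.cbi (Fin.last m)) ∧
      ∀ i : Fin m, e (Ideal.Quotient.mk (Ideal.span (CRel (URing R m) m (ugen R m)))
          (MvPolynomial.X (CVar.xi i))) =
        ugen R (m + 1) (UGen.cij i.castSucc (Fin.last m) (Fin.castSucc_lt_last i).ne) := by
  refine ⟨equiv R m, ?_, ?_, ?_, ?_⟩
  · intro r
    exact fwd_iota R m r
  · exact fwd_cvar R m .x2
  · exact fwd_cvar R m .x3
  · intro i
    exact fwd_cvar R m (.xi i)

end Helper91.UCurveIso
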