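import Mathlib
import Groth.Prelude.Def_W4c5m1nsnscurvesC
import Groth.Prelude.Def_W4c5m1nsnscurvesI
import Groth.Agent.Lib.Helper91.UCurveBasis
import Groth.Agent.Lib.Helper91.UCurveIso

/-!
# The grading of `O(U_n)` (S18249), part A
-/

namespace Helper91.UHilb

open MvPolynomial W4c5m1nsnscurves

universe u

section general

variable {R : Type*} [CommRing R] {M : Type*} [AddCommGroup M] [Module R M]

/-- A basis of homogeneous elements of an internally graded module restricts to bases of the
pieces. -/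
theorem piece_le_span (ℳ : ℕ → Submodule R M) (hI : DirectSum.IsInternal ℳ) {B : Type*}
    (b : Module.Basis B R M) (deg : B → ℕ) (hmem : ∀ β, b β ∈ ℳ (deg β)) (d : ℕ) :
    ℳ d ≤ Submodule.span R (b '' {β | deg β = d}) := by
  classical
  have hI' : Function.Bijective (DirectSum.coeLinearMap ℳ) := hI
  set e : (DirectSum ℕ fun i => ℳ i) ≃ₗ[R] M := LinearEquiv.ofBijective (DirectSum.coeLinearMap ℳ) hI'
    with he
  set P : M →ₗ[R] M := (ℳ d).subtype ∘ₗ (DirectSum.component R ℕ (fun i => ℳ i) d) ∘ₗ e.symm.toLinearMap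
    with hP
  have hsymm : ∀ (i : ℕ) (x : M) (hx : x ∈ ℳ i),
      e.symm x = DirectSum.lof R ℕ (fun i => ℳ i) i ⟨x, hx⟩ := by
    intro i x hx
    apply e.injective
    rw [e.apply_symm_apply, he, LinearEquiv.ofBijective_apply, DirectSum.coeLinearMap_lof]
  have hP1 : ∀ x ∈ ℳ d, P x = x := by
    intro x hx
    rw [hP, LinearMap.comp_apply, LinearMap.comp_apply, LinearEquiv.coe_toLinearMap, hsymm d x hx,
      DirectSum.component.lof_self]
    rfl
  have hP0 : ∀ (i : ℕ), i ≠ d → ∀ x ∈ ℳ i, P x = 0 := by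
    intro i hid x hx
    rw [hP, LinearMap.comp_apply, LinearMap.comp_apply, LinearEquiv.coe_toLinearMap, hsymm i x hx,
      DirectSum.component.of, dif_neg hid]
    rfl
  have hall : ∀ x : M, P x ∈ Submodule.span R (b '' {β | deg β = d}) := by
    intro x
    have htop : x ∈ Submodule.span R (Set.range b) := by rw [b.span_eq]; trivial
    refine (Submodule.span_le (p := (Submodule.span R (b '' {β | deg β = d})).comap P)).mpr ?_ htop
    rintro _ ⟨β, rfl⟩
    rw [SetLike.mem_coe, Submodule.mem_comap]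
    by_cases hβ : deg β = d
    · rw [hP1 _ (hβ ▸ hmem β)]
      exact Submodule.subset_span ⟨β, hβ, rfl⟩
    · rw [hP0 _ hβ _ (hmem β)]
      exact zero_mem _
  intro x hx
  rw [← hP1 x hx]
  exact hall x

theorem finrank_piece (ℳ : ℕ → Submodule R M) (hI : DirectSum.IsInternal ℳ) {B : Type*}
    [StrongRankCondition R]
    (b : Module.Basis B R M) (deg : B → ℕ) (hmem : ∀ β, b β ∈ ℳ (deg β)) (d : ℕ) :
    Module.finrank R (ℳ d) = Nat.card {β // deg β = d} := by
  classical
  -- the restricted family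
  set w : {β // deg β = d} → ℳ d := fun β => ⟨b β.1, by have h := hmem β.1; rw [β.2] at h; exact h⟩ with hw
  have hli : LinearIndependent R w := by
    have h1 : LinearIndependent R (fun β : {β // deg β = d} => b β.1) :=
      b.linearIndependent.comp _ Subtype.val_injective
    exact LinearIndependent.of_comp (ℳ d).subtype h1
  have hsp : ⊤ ≤ Submodule.span R (Set.range w) := by
    rintro ⟨x, hx⟩ -
    have h2 := piece_le_span ℳ hI b deg hmem d hx
    have h3 : Submodule.span R (b '' {β | deg β = d})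
        = (Submodule.span R (Set.range w)).map (ℳ d).subtype := by
      rw [Submodule.map_span]
      congr 1
      ext y
      constructor
      · rintro ⟨β, hβ, rfl⟩
        exact ⟨w ⟨β, hβ⟩, ⟨⟨β, hβ⟩, rfl⟩, rfl⟩
      · rintro ⟨_, ⟨β, rfl⟩, rfl⟩
        exact ⟨β.1, β.2, rfl⟩
    rw [h3] at h2
    obtain ⟨y, hy, hyx⟩ := h2
    have : y = ⟨x, hx⟩ := Subtype.ext hyx
    rw [← this]; exact hy
  exact Module.finrank_eq_nat_card_basis (Module.Basis.mk hli hsp)

end general

variable (R : Type u) [CommRing R] (m : ℕ)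

attribute [local instance] MvPolynomial.weightedGradedAlgebra

/-- the weighted grading of the polynomial ring -/
abbrev 𝒜 : ℕ → Submodule R (MvPolynomial (UGen m) R) :=
  weightedHomogeneousSubmodule R (uwt (m := m))

theorem upiece_eq : upiece R m = GrQuot.quot (𝒜 R m) (Ideal.span (URel R m)) := rfl

variable {m} in
theorem isWH_X (g : UGen m) (n : ℕ) (h : uwt g = n) :
    IsWeightedHomogeneous (uwt (m := m)) (X g : MvPolynomial (UGen m) R) n :=
  h ▸ isWeightedHomogeneous_X R _ g

variable {R m} in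
theorem mul11 {p q : MvPolynomial (UGen m) R} (hp : IsWeightedHomogeneous (uwt (m := m)) p 1)
    (hq : IsWeightedHomogeneous (uwt (m := m)) q 1) :
    IsWeightedHomogeneous (uwt (m := m)) (p * q) 2 := hp.mul hq

/-- solve homogeneity goals -/
macro "whom" : tactic => `(tactic| repeat' (first
  | with_reducible apply IsWeightedHomogeneous.add
  | with_reducible apply IsWeightedHomogeneous.sub
  | with_reducible apply mul11
  | exact isWH_X _ _ _ rfl))

theorem URel_homogeneous : (Ideal.span (URel R m)).IsHomogeneous (𝒜 R m) := by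
  apply Ideal.homogeneous_span
  rintro x (((⟨q, rfl⟩ | ⟨q, rfl⟩) | ⟨q, rfl⟩) | ⟨q, rfl⟩)
  · refine ⟨1, ?_⟩
    show IsWeightedHomogeneous _ _ 1
    whom
  · refine ⟨2, ?_⟩
    show IsWeightedHomogeneous _ _ 2
    whom
  · refine ⟨2, ?_⟩
    show IsWeightedHomogeneous _ _ 2
    whom
  · refine ⟨2, ?_⟩
    show IsWeightedHomogeneous _ _ 2
    whom

instance isHomog : GrQuot.IsHomog (𝒜 R m) (Ideal.span (URel R m)) :=
  (GrQuot.isHomog_iff _ _).mpr (URel_homogeneous R m)

theorem upiece_isInternal : DirectSum.IsInternal (upiece R m) := by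
  rw [upiece_eq]
  let _ := GrQuot.decomposition (𝒜 R m) (Ideal.span (URel R m))
  exact DirectSum.Decomposition.isInternal _

instance upiece_gradedMonoid : SetLike.GradedMonoid (upiece R m) := by
  haveI : SetLike.GradedMonoid (𝒜 R m) := WeightedHomogeneousSubmodule.gradedMonoid
  exact GrQuot.gradedMonoid _ _

theorem ugen_mem_upiece (g : UGen m) : ugen R m g ∈ upiece R m (uwt g) :=
  GrQuot.mk_mem_quot _ _ (isWeightedHomogeneous_X R _ g)

theorem ugen_mem_upiece' (g : UGen m) (n : ℕ) (h : uwt g = n) : ugen R m g ∈ upiece R m n :=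
  h ▸ ugen_mem_upiece R m g

theorem uwt_castSucc (g : UGen m) : uwt g.castSucc = uwt g := by
  cases g <;> rfl

theorem uincl_mem_upiece (d : ℕ) (x : URing R m) (hx : x ∈ upiece R m d) :
    uincl R m x ∈ upiece R (m + 1) d := by
  obtain ⟨p, hp, rfl⟩ := (GrQuot.mem_quot_iff _ _ _ _).mp hx
  have e : uincl R m (Ideal.Quotient.mk _ p)
      = Ideal.Quotient.mk (Ideal.span (URel R (m + 1))) (rename UGen.castSucc p) := by
    unfold uincl
    rw [Ideal.Quotient.liftₐ_apply]
    erw [Ideal.Quotient.lift_mk]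
  rw [e]
  apply GrQuot.mk_mem_quot
  intro c hc
  obtain ⟨u, rfl, hu⟩ := coeff_rename_ne_zero _ _ _ hc
  have h1 := hp hu
  rw [← h1, Finsupp.weight_apply, Finsupp.weight_apply,
    Finsupp.sum_mapDomain_index (h_zero := by intro g; simp)
      (h_add := by intro g a b; simp [add_mul])]
  simp only [uwt_castSucc]

end Helper91.UHilb
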