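import Mathlib
import Groth.Prelude.Def_W4c5m1nsnscurvesC

/-!
# Counting for the Hilbert series of `O(U_n)` (S18249)
-/

namespace Helper91.UHilb

open W4c5m1nsnscurves

/-- a degree function with finite fibres, given explicitly -/
structure GIdx (B : Type) where
  deg : B → ℕ
  fib : ℕ → Finset B
  mem_fib : ∀ d β, β ∈ fib d ↔ deg β = d

namespace GIdx

variable {B C : Type}

/-- the generating series of the fibre cardinalities -/
noncomputable def hs (G : GIdx B) : PowerSeries ℤ := PowerSeries.mk fun d => ((G.fib d).card : ℤ)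

theorem coeff_hs (G : GIdx B) (d : ℕ) : PowerSeries.coeff d G.hs = ((G.fib d).card : ℤ) := by
  unfold hs; rw [PowerSeries.coeff_mk]

theorem card_eq (G : GIdx B) (d : ℕ) : Nat.card {β // G.deg β = d} = (G.fib d).card := by
  classical
  have : Fintype {β // G.deg β = d} := Fintype.subtype (G.fib d) (G.mem_fib d)
  rw [Nat.card_eq_fintype_card, Fintype.card_of_subtype (G.fib d) (G.mem_fib d)]

open Classical in
/-- product of graded index types -/
noncomputable def prod (G : GIdx B) (H : GIdx C) : GIdx (B × C) where
  deg p := G.deg p.1 + H.deg p.2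
  fib d := (Finset.HasAntidiagonal.antidiagonal d).biUnion fun ij => G.fib ij.1 ×ˢ H.fib ij.2
  mem_fib := by
    intro d p
    simp only [Finset.mem_biUnion, Finset.mem_product, G.mem_fib, H.mem_fib,
      Prod.exists]
    constructor
    · rintro ⟨i, j, hij, h1, h2⟩
      rw [h1, h2]; exact Finset.HasAntidiagonal.mem_antidiagonal.mp hij
    · intro h
      exact ⟨_, _, Finset.HasAntidiagonal.mem_antidiagonal.mpr h, rfl, rfl⟩

theorem hs_prod (G : GIdx B) (H : GIdx C) : (G.prod H).hs = G.hs * H.hs := by
  classical
  ext d
  rw [coeff_hs, PowerSeries.coeff_mul]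
  simp only [coeff_hs]
  unfold prod
  simp only
  rw [Finset.card_biUnion]
  · push_cast
    simp only [Finset.card_product, Nat.cast_mul]
  · intro x hx y hy hxy
    rw [Function.onFun, Finset.disjoint_left]
    rintro ⟨β, γ⟩ h1 h2
    simp only [Finset.mem_product, G.mem_fib, H.mem_fib] at h1 h2
    apply hxy
    ext
    · rw [← h1.1, ← h2.1]
    · rw [← h1.2, ← h2.2]

/-- `ℕ` with the identity degree -/
def natId : GIdx ℕ where
  deg k := k
  fib d := {d}
  mem_fib := by intro d k; simp

/-- `ℕ` with the doubled degree -/
def natDouble : GIdx ℕ where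
  deg k := 2 * k
  fib d := if Even d then {d / 2} else ∅
  mem_fib := by
    intro d k
    by_cases h : Even d
    · rw [if_pos h, Finset.mem_singleton]
      obtain ⟨r, rfl⟩ := h
      omega
    · rw [if_neg h]
      simp only [Finset.notMem_empty, false_iff]
      intro hk
      exact h ⟨k, by omega⟩

/-- the series `1 / (1 - t)` -/
noncomputable def u : PowerSeries ℤ := PowerSeries.mk fun _ => (1 : ℤ)

/-- the series `1 / (1 - t^2)` -/
noncomputable def u₂ : PowerSeries ℤ := PowerSeries.mk fun d => if Even d then (1 : ℤ) else 0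

theorem hs_natId : natId.hs = u := by
  ext d
  rw [coeff_hs]
  simp [natId, u]

theorem hs_natDouble : natDouble.hs = u₂ := by
  ext d
  rw [coeff_hs]
  unfold natDouble u₂
  simp only [PowerSeries.coeff_mk]
  by_cases h : Even d
  · rw [if_pos h, if_pos h]; simp
  · rw [if_neg h, if_neg h]; simp

theorem u₂_mul : u₂ * (1 + PowerSeries.X) = u := by
  ext d
  rw [mul_add, mul_one, map_add]
  cases d with
  | zero => simp [u, u₂]
  | succ d =>
    rw [PowerSeries.coeff_succ_mul_X]
    simp only [u, u₂, PowerSeries.coeff_mk]
    by_cases h : Even d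
    · rw [if_pos h, if_neg (by rw [Nat.even_add_one]; exact not_not.mpr h)]; simp
    · rw [if_neg h, if_pos (by rw [Nat.even_add_one]; exact h)]; simp

end GIdx

/-- `CVar m ≃ Option (Option (Fin m))` -/
def cvarEquiv (m : ℕ) : CVar m ≃ Option (Option (Fin m)) where
  toFun
    | .x2 => none
    | .x3 => some none
    | .xi i => some (some i)
  invFun
    | none => .x2
    | some none => .x3
    | some (some i) => .xi i
  left_inv := by intro y; cases y <;> rfl
  right_inv := by intro o; rcases o with _ | _ | i <;> rfl

noncomputable instance (m : ℕ) : Fintype (CVar m) := Fintype.ofEquiv _ (cvarEquiv m).symm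

theorem card_cvar (m : ℕ) : Fintype.card (CVar m) = m + 2 := by
  rw [Fintype.card_congr (cvarEquiv m)]; simp

/-- the parametrisation of the fibre of degree `d + 2` -/
def idxMap (m d : ℕ) : Option (CVar m) → Option (ℕ ⊕ (CVar m × ℕ))
  | none => some (.inl d)
  | some y => some (.inr (y, d + 1))

theorem idxMap_injective (m d : ℕ) : Function.Injective (idxMap m d) := by
  intro a b hab
  cases a <;> cases b <;> simp [idxMap] at hab ⊢
  exact hab

open Classical in
/-- the graded index type of the monomial basis of the curve algebra -/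
noncomputable def idxG (m : ℕ) : GIdx (Option (ℕ ⊕ (CVar m × ℕ))) where
  deg
    | none => 0
    | some (.inl k) => k + 2
    | some (.inr (_, k)) => k + 1
  fib
    | 0 => {none}
    | 1 => Finset.univ.image (fun y : CVar m => some (.inr (y, 0)))
    | (d + 2) => Finset.univ.image (idxMap m d)
  mem_fib := by
    intro d idx
    match d, idx with
    | 0, none => simp
    | 0, some (.inl k) => simp
    | 0, some (.inr (y, k)) => simp
    | 1, none => simp
    | 1, some (.inl k) => simp
    | 1, some (.inr (y, k)) =>
      simp only [Finset.mem_image, Finset.mem_univ, true_and, Option.some.injEq, Sum.inr.injEq,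
        Prod.mk.injEq]
      constructor
      · rintro ⟨y', -, hk⟩; omega
      · intro hk; exact ⟨y, rfl, by omega⟩
    | d + 2, none =>
      simp only [Finset.mem_image, Finset.mem_univ, true_and]
      constructor
      · rintro ⟨o, ho⟩
        cases o <;> simp [idxMap] at ho
      · intro h; omega
    | d + 2, some (.inl k) =>
      simp only [Finset.mem_image, Finset.mem_univ, true_and]
      constructor
      · rintro ⟨o, ho⟩
        cases o with
        | none => simp [idxMap] at ho; omega
        | some y => simp [idxMap] at ho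
      · intro h
        exact ⟨none, by simp [idxMap]; omega⟩
    | d + 2, some (.inr (y, k)) =>
      simp only [Finset.mem_image, Finset.mem_univ, true_and]
      constructor
      · rintro ⟨o, ho⟩
        cases o with
        | none => simp [idxMap] at ho
        | some y' => simp [idxMap] at ho; omega
      · intro h
        exact ⟨some y, by simp [idxMap]; omega⟩

@[simp] theorem idxG_deg_none (m : ℕ) : (idxG m).deg none = 0 := rfl

@[simp] theorem idxG_deg_inl (m k : ℕ) : (idxG m).deg (some (.inl k)) = k + 2 := rfl

@[simp] theorem idxG_deg_inr (m : ℕ) (y : CVar m) (k : ℕ) :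
    (idxG m).deg (some (.inr (y, k))) = k + 1 := rfl

/-- the numerator `1 + k t + t^2` -/
noncomputable def q (k : ℕ) : PowerSeries ℤ :=
  1 + PowerSeries.C (k : ℤ) * PowerSeries.X + PowerSeries.X ^ 2

open GIdx in
theorem hs_idxG (m : ℕ) : (idxG m).hs = q (m + 1) * u := by
  classical
  ext d
  rw [coeff_hs]
  have e : q (m + 1) * u = u + PowerSeries.C ((m + 1 : ℕ) : ℤ) * (PowerSeries.X * u)
      + PowerSeries.X ^ 2 * u := by
    unfold q; ring
  rw [e, map_add, map_add, PowerSeries.coeff_C_mul, PowerSeries.coeff_X_pow_mul']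
  match d with
  | 0 =>
    simp [idxG, u]
  | 1 =>
    have h1 : ((idxG m).fib 1).card = m + 2 := by
      show (Finset.univ.image (fun y : CVar m => (some (.inr (y, 0)) : Option (ℕ ⊕ (CVar m × ℕ))))).card = _
      rw [Finset.card_image_of_injective, Finset.card_univ, card_cvar]
      intro a b hab
      simpa using hab
    rw [h1, show (1 : ℕ) = 0 + 1 from rfl, PowerSeries.coeff_succ_X_mul]
    simp [u]
    ring
  | d + 2 =>
    have h1 : ((idxG m).fib (d + 2)).card = m + 3 := by
      show (Finset.univ.image (idxMap m d)).card = _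
      rw [Finset.card_image_of_injective _ (idxMap_injective m d), Finset.card_univ,
        Fintype.card_option, card_cvar]
    rw [h1, show d + 2 = (d + 1) + 1 from rfl, PowerSeries.coeff_succ_X_mul]
    simp [u]
    ring

open GIdx in
/-- the expected Hilbert series, starting from `m = 1` -/
noncomputable def Hs (m : ℕ) : PowerSeries ℤ :=
  u * (u₂ * (u₂ * (u * u))) * ∏ k ∈ Finset.Icc 2 m, (q k * u)

open GIdx in
theorem Hs_one : Hs 1 = u * (u₂ * (u₂ * (u * u))) := by
  simp [Hs]

open GIdx in
theorem Hs_succ (m : ℕ) (hm : 1 ≤ m) : Hs (m + 1) = Hs m * (q (m + 1) * u) := by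
  unfold Hs
  rw [Finset.prod_Icc_succ_top (by omega)]
  ring

open GIdx in
theorem Hs_eq_uhilb (m : ℕ) (hm : 2 ≤ m) : Hs m = uhilb m := by
  induction m, hm using Nat.le_induction with
  | base =>
    have hq : q 2 = (1 + PowerSeries.X) ^ 2 := by
      unfold q
      simp only [Nat.cast_ofNat, map_ofNat]
      ring
    have e1 : Hs 2 = u ^ 4 * (u₂ * (1 + PowerSeries.X)) ^ 2 := by
      unfold Hs
      rw [Finset.Icc_self, Finset.prod_singleton, hq]
      ring
    rw [e1, u₂_mul]
    unfold uhilb
    rw [show Finset.Icc 3 2 = ∅ from rfl, Finset.prod_empty, mul_one]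
    show u ^ 4 * u ^ 2 = u ^ (2 + 4)
    ring
  | succ m hm ih =>
    rw [Hs_succ m (by omega), ih]
    unfold uhilb
    rw [Finset.prod_Icc_succ_top (by omega)]
    show u ^ (m + 4) * _ * (q (m + 1) * u) = u ^ (m + 1 + 4) * (_ * q (m + 1))
    ring

end Helper91.UHilb
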