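import Mathlib
import Groth.Prelude.Def_W4c5m1nsnscurvesC
import Groth.Prelude.Def_W4c5m1nsnscurvesI
import Groth.Agent.Lib.Helper91.UHilbA
import Groth.Agent.Lib.Helper91.UHilbCount

/-!
# Freeness and Hilbert series of `O(U_n)` (S18249)
-/

namespace Helper91.UHilb

open MvPolynomial W4c5m1nsnscurves

universe u

variable (R : Type u) [CommRing R]

/-! ### the base case `m = 1` -/

section base

instance : IsEmpty (DPair 1) := ⟨fun q => q.2 (Subsingleton.elim _ _)⟩

instance : IsEmpty (DTriple 1) := ⟨fun q => q.2.1 (Subsingleton.elim _ _)⟩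

theorem URel_one : URel R 1 = ∅ := by
  unfold URel
  simp only [Set.range_eq_empty, Set.union_empty]

theorem span_URel_one : Ideal.span (URel R 1) = ⊥ := by
  rw [URel_one, Ideal.span_empty]

/-- the index type of the monomials for `m = 1` -/
abbrev B₁ : Type := ℕ × (ℕ × (ℕ × (ℕ × ℕ)))

/-- exponent vectors for `m = 1` -/
noncomputable def E₁ : (UGen 1 →₀ ℕ) ≃ B₁ where
  toFun f := (f .a, f .c, f .cb, f (.ci 0), f (.cbi 0))
  invFun n := Finsupp.single .a n.1 + (Finsupp.single .c n.2.1 + (Finsupp.single .cb n.2.2.1 +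
    (Finsupp.single (.ci 0) n.2.2.2.1 + Finsupp.single (.cbi 0) n.2.2.2.2)))
  left_inv := by
    classical
    intro f
    ext g
    cases g with
    | a => simp [Finsupp.single_apply]
    | c => simp [Finsupp.single_apply]
    | cb => simp [Finsupp.single_apply]
    | ci i =>
      obtain rfl : i = 0 := Subsingleton.elim _ _
      simp [Finsupp.single_apply]
    | cbi i =>
      obtain rfl : i = 0 := Subsingleton.elim _ _
      simp [Finsupp.single_apply]
    | cij i j h => exact absurd (Subsingleton.elim _ _) h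
  right_inv := by
    classical
    rintro ⟨n1, n2, n3, n4, n5⟩
    simp [Finsupp.single_apply]

/-- the graded index structure for `m = 1` -/
noncomputable def G₁ : GIdx B₁ :=
  GIdx.natId.prod (GIdx.natDouble.prod (GIdx.natDouble.prod (GIdx.natId.prod GIdx.natId)))

theorem hs_G₁ : G₁.hs = Hs 1 := by
  unfold G₁
  rw [GIdx.hs_prod, GIdx.hs_prod, GIdx.hs_prod, GIdx.hs_prod, GIdx.hs_natId, GIdx.hs_natDouble,
    Hs_one]

/-- the quotient map is a linear equivalence for `m = 1` -/
noncomputable def mkEquiv₁ : MvPolynomial (UGen 1) R ≃ₗ[R] URing R 1 :=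
  LinearEquiv.ofBijective (Ideal.Quotient.mkₐ R (Ideal.span (URel R 1))).toLinearMap (by
    constructor
    · intro p q hpq
      have h1 : Ideal.Quotient.mk (Ideal.span (URel R 1)) p
          = Ideal.Quotient.mk (Ideal.span (URel R 1)) q := hpq
      rw [Ideal.Quotient.eq, span_URel_one, Ideal.mem_bot, sub_eq_zero] at h1
      exact h1
    · intro x
      obtain ⟨p, rfl⟩ := Ideal.Quotient.mk_surjective x
      exact ⟨p, rfl⟩)

/-- the monomial basis for `m = 1` -/
noncomputable def basis₁ : Module.Basis B₁ R (URing R 1) :=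
  ((basisMonomials (UGen 1) R).reindex E₁).map (mkEquiv₁ R)

theorem basis₁_apply (β : B₁) :
    basis₁ R β = Ideal.Quotient.mk (Ideal.span (URel R 1)) (monomial (E₁.symm β) 1) := by
  unfold basis₁
  rw [Module.Basis.map_apply, Module.Basis.reindex_apply, coe_basisMonomials]
  rfl

theorem basis₁_mem (β : B₁) : basis₁ R β ∈ upiece R 1 (G₁.deg β) := by
  rw [basis₁_apply]
  apply GrQuot.mk_mem_quot
  apply isWeightedHomogeneous_monomial
  obtain ⟨n1, n2, n3, n4, n5⟩ := β
  show Finsupp.weight uwt (Finsupp.single .a n1 + (Finsupp.single .c n2 + (Finsupp.single .cb n3 +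
    (Finsupp.single (.ci 0) n4 + Finsupp.single (.cbi 0) n5)))) = n1 + (2 * n2 + (2 * n3 + (n4 + n5)))
  simp only [map_add, Finsupp.weight_single, uwt, smul_eq_mul]
  ring

end base

/-! ### the inductive step -/

section step

variable (m : ℕ)

theorem rel_ugen : UCurveGB.Rel (ugen R m) where
  lin := fun i j h => UTangent.rel_lin m R i j h
  qc := fun i j h => by
    have := UTangent.rel_c m R i j h
    linear_combination this
  qcb := fun i j h => by
    have := UTangent.rel_cb m R i j h
    linear_combination this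
  cub := fun i j k hij hjk hik => by
    have := UCurveIso.rel_cubic R m i j k hij hjk hik
    linear_combination this

/-- the monomial basis of the curve algebra over `O(U_n)` -/
noncomputable def cbasis (hm : 1 ≤ m) :
    Module.Basis (UCurveBasis.Idx m) (URing R m) (UCurveIso.CA R m) :=
  Module.Basis.mk (UCurveBasis.indep_of_rel hm (rel_ugen R m))
    (UCurveBasis.span_of_rel (v := ugen R m) hm).ge

theorem cbasis_apply (hm : 1 ≤ m) (idx : UCurveBasis.Idx m) :
    cbasis R m hm idx = cmon (URing R m) m (ugen R m) idx := by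
  unfold cbasis
  rw [Module.Basis.mk_apply]

/-- the algebra structure of `O(U_{n+1})` over `O(U_n)` -/
@[instance_reducible] noncomputable def algU : Algebra (URing R m) (URing R (m + 1)) := (uincl R m).toRingHom.toAlgebra

attribute [local instance] algU

instance towerU : IsScalarTower R (URing R m) (URing R (m + 1)) :=
  IsScalarTower.of_algebraMap_eq (fun r => ((uincl R m).commutes r).symm)

/-- the isomorphism `O(C_n) ≅ O(U_{n+1})` as an algebra isomorphism over `O(U_n)` -/
noncomputable def fwdA : UCurveIso.CA R m ≃ₐ[URing R m] URing R (m + 1) :=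
  AlgEquiv.ofRingEquiv (f := UCurveIso.equiv R m) (fun r => UCurveIso.fwd_iota R m r)

/-- the basis of `O(U_{n+1})` obtained from a basis of `O(U_n)` -/
noncomputable def stepBasis {B : Type} (hm : 1 ≤ m) (b : Module.Basis B R (URing R m)) :
    Module.Basis (B × UCurveBasis.Idx m) R (URing R (m + 1)) :=
  b.smulTower ((cbasis R m hm).map (fwdA R m).toLinearEquiv)

theorem stepBasis_apply {B : Type} (hm : 1 ≤ m) (b : Module.Basis B R (URing R m)) (β : B)
    (idx : UCurveBasis.Idx m) :
    stepBasis R m hm b (β, idx)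
      = uincl R m (b β) * UCurveIso.fwd R m (cmon (URing R m) m (ugen R m) idx) := by
  unfold stepBasis
  rw [Module.Basis.smulTower_apply, Module.Basis.map_apply, cbasis_apply, Algebra.smul_def]
  rfl

theorem fwdVar_mem (y : CVar m) : UCurveIso.fwdVar R m y ∈ upiece R (m + 1) 1 := by
  cases y with
  | x2 => exact ugen_mem_upiece' R (m + 1) _ 1 rfl
  | x3 =>
    exact Submodule.add_mem _ (Submodule.add_mem _ (ugen_mem_upiece' R (m + 1) _ 1 rfl)
      (ugen_mem_upiece' R (m + 1) _ 1 rfl)) (ugen_mem_upiece' R (m + 1) _ 1 rfl)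
  | xi i => exact ugen_mem_upiece' R (m + 1) _ 1 rfl

theorem fwd_cmon_mem (idx : UCurveBasis.Idx m) :
    UCurveIso.fwd R m (cmon (URing R m) m (ugen R m) idx) ∈ upiece R (m + 1) ((idxG m).deg idx) := by
  rcases idx with _ | k | ⟨y, k⟩
  · rw [idxG_deg_none]
    have e : cmon (URing R m) m (ugen R m) none = 1 := rfl
    rw [e, map_one]
    exact SetLike.one_mem_graded _
  · rw [idxG_deg_inl]
    have e : cmon (URing R m) m (ugen R m) (some (.inl k))
        = UCurveIso.cvar R m .x2 ^ (k + 1) * UCurveIso.cvar R m .x3 := by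
      simp only [cmon, UCurveIso.cvar, map_mul, map_pow]
    rw [e, map_mul, map_pow, UCurveIso.fwd_cvar, UCurveIso.fwd_cvar]
    have h := SetLike.mul_mem_graded (SetLike.pow_mem_graded (k + 1) (fwdVar_mem R m .x2))
      (fwdVar_mem R m .x3)
    have e2 : (k + 1) • 1 + 1 = k + 2 := by simp
    rw [e2] at h
    exact h
  · rw [idxG_deg_inr]
    have e : cmon (URing R m) m (ugen R m) (some (.inr (y, k)))
        = UCurveIso.cvar R m y ^ (k + 1) := by
      simp only [cmon, UCurveIso.cvar, map_pow]
    rw [e, map_pow, UCurveIso.fwd_cvar]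
    have h := SetLike.pow_mem_graded (k + 1) (fwdVar_mem R m y)
    have e2 : (k + 1) • 1 = k + 1 := by simp
    rw [e2] at h
    exact h

end step

theorem exists_hbasis (m : ℕ) (hm : 1 ≤ m) :
    ∃ (B : Type) (G : GIdx B) (b : Module.Basis B R (URing R m)),
      (∀ β, b β ∈ upiece R m (G.deg β)) ∧ G.hs = Hs m := by
  induction m, hm using Nat.le_induction with
  | base => exact ⟨B₁, G₁, basis₁ R, basis₁_mem R, hs_G₁⟩
  | succ m hm ih =>
    obtain ⟨B, G, b, hb, hs⟩ := ih
    refine ⟨B × UCurveBasis.Idx m, G.prod (idxG m), stepBasis R m hm b, ?_, ?_⟩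
    · rintro ⟨β, idx⟩
      rw [stepBasis_apply]
      exact SetLike.mul_mem_graded (uincl_mem_upiece R m _ _ (hb β)) (fwd_cmon_mem R m idx)
    · rw [GIdx.hs_prod, hs, hs_idxG, Hs_succ m hm]

theorem main18249 (m : ℕ) (hm : 2 ≤ m) :
    Module.Free ℤ (URing ℤ m) ∧ DirectSum.IsInternal (upiece ℤ m) ∧
      ∀ d : ℕ, (Module.finrank ℤ (upiece ℤ m d) : ℤ) = PowerSeries.coeff d (uhilb m) := by
  obtain ⟨B, G, b, hb, hs⟩ := exists_hbasis ℤ m (by omega)
  refine ⟨Module.Free.of_basis b, upiece_isInternal ℤ m, ?_⟩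
  intro d
  rw [finrank_piece (upiece ℤ m) (upiece_isInternal ℤ m) b G.deg hb d, G.card_eq,
    ← Hs_eq_uhilb m hm, ← hs, GIdx.coeff_hs]

end Helper91.UHilb
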