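import Mathlib
import Groth.Agent.S18377

set_option autoImplicit false
set_option linter.unusedSectionVars false
open Finset Matrix

namespace Groth.Agent.Lib.Helper91.VerlindeCore

open Groth.Agent.S18377

section
variable {r' : ℕ} (N : ℕ) [NeZero N] (y B : Fin (r' + 1) → ℂ)

/-- the summand -/
noncomputable def Phi (w : Fin (r' + 1) → Fin N) : ℂ :=
  gv y (fun i => (w i : ℕ)) * (starRingEnd ℂ) (gv B (fun i => (w i : ℕ)))

/-- the weighted matrix -/
noncomputable def Ath (θ : ℂ) : Matrix (Fin (r' + 1)) (Fin N) ℂ :=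
  Matrix.of fun j l => (if (l : ℕ) = 0 then θ else 1) * y j ^ (l : ℕ)

noncomputable def Bm : Matrix (Fin N) (Fin (r' + 1)) ℂ :=
  Matrix.of fun l j => (starRingEnd ℂ) (B j) ^ (l : ℕ)

/-- the main sum -/
noncomputable def Tsum : ℂ :=
  ∑ w ∈ (Finset.univ : Finset (Fin (r' + 1) → Fin N)).filter
    (fun w : Fin (r' + 1) → Fin N => StrictMono w ∧ (w 0 : ℕ) = 0), Phi N y B w

/-- the rest -/
noncomputable def Rsum : ℂ :=
  ∑ w ∈ (Finset.univ : Finset (Fin (r' + 1) → Fin N)).filter
    (fun w : Fin (r' + 1) → Fin N => StrictMono w ∧ ¬ (w 0 : ℕ) = 0), Phi N y B w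

theorem det_Ath_submatrix (θ : ℂ) (w : Fin (r' + 1) → Fin N) (hw : StrictMono w) :
    ((Ath N y θ).submatrix id w).det =
      (if (w 0 : ℕ) = 0 then θ else 1) * gv y (fun i => (w i : ℕ)) := by
  have h1 : (Ath N y θ).submatrix id w =
      Matrix.of fun j i => (if (w i : ℕ) = 0 then θ else 1) *
        (Matrix.of fun i j : Fin (r' + 1) => y j ^ (w i : ℕ))ᵀ j i := by
    ext j i
    simp [Ath]
  rw [h1, Matrix.det_mul_row, Matrix.det_transpose, gv]
  congr 1
  rw [Fin.prod_univ_succ]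
  have : ∀ i : Fin r', (if (w i.succ : ℕ) = 0 then θ else 1) = 1 := by
    intro i
    have h : w 0 < w i.succ := hw (Fin.succ_pos i)
    have h' : (w 0 : ℕ) < (w i.succ : ℕ) := h
    rw [if_neg (by omega)]
  simp_rw [this]
  simp

theorem det_Bm_submatrix (w : Fin (r' + 1) → Fin N) :
    ((Bm N B).submatrix w id).det = (starRingEnd ℂ) (gv B (fun i => (w i : ℕ))) := by
  rw [conj_gv]
  rfl

theorem F_eq (θ : ℂ) :
    (Ath N y θ * Bm N B).det = θ * Tsum N y B + Rsum N y B := by
  classical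
  rw [cauchy_binet]
  have h1 : ∀ w ∈ (Finset.univ : Finset (Fin (r' + 1) → Fin N)).filter StrictMono,
      ((Ath N y θ).submatrix id w).det * ((Bm N B).submatrix w id).det =
        (if (w 0 : ℕ) = 0 then θ else 1) * Phi N y B w := by
    intro w hw
    simp only [Finset.mem_filter, Finset.mem_univ, true_and] at hw
    rw [det_Ath_submatrix N y θ w hw, det_Bm_submatrix, Phi]
    ring
  rw [Finset.sum_congr rfl h1, Tsum, Rsum, Finset.mul_sum]
  rw [← Finset.filter_filter, ← Finset.filter_filter, Finset.sum_filter (fun w : Fin (r' + 1) → Fin N => (w 0 : ℕ) = 0),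
    Finset.sum_filter (fun w : Fin (r' + 1) → Fin N => ¬ (w 0 : ℕ) = 0), ← Finset.sum_add_distrib]
  refine Finset.sum_congr rfl fun w _ => ?_
  split_ifs <;> simp

/-- geometric sums -/
noncomputable def Gs (j j' : Fin (r' + 1)) : ℂ :=
  ∑ l ∈ Finset.range N, (y j * (starRingEnd ℂ) (B j')) ^ l

theorem AB_apply (θ : ℂ) (j j' : Fin (r' + 1)) :
    (Ath N y θ * Bm N B) j j' = Gs N y B j j' - (1 - θ) := by
  rw [Matrix.mul_apply]
  simp only [Ath, Bm, Matrix.of_apply]
  have h1 : ∀ l : Fin N, (if (l : ℕ) = 0 then θ else 1) * y j ^ (l : ℕ) *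
      (starRingEnd ℂ) (B j') ^ (l : ℕ) =
      (fun l : ℕ => (if l = 0 then θ else 1) * (y j * (starRingEnd ℂ) (B j')) ^ l) (l : ℕ) := by
    intro l
    simp only [mul_pow]
    ring
  simp_rw [h1]
  rw [Fin.sum_univ_eq_sum_range
    (fun l : ℕ => (if l = 0 then θ else 1) * (y j * (starRingEnd ℂ) (B j')) ^ l) N, Gs]
  have h2 : ∀ l ∈ Finset.range N, (if l = 0 then θ else 1) * (y j * (starRingEnd ℂ) (B j')) ^ l =
      (y j * (starRingEnd ℂ) (B j')) ^ l - (if l = 0 then (1 - θ) else 0) := by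
    intro l _
    split_ifs with h
    · subst h; simp
    · simp
  rw [Finset.sum_congr rfl h2, Finset.sum_sub_distrib, Finset.sum_ite_eq']
  rw [if_pos (Finset.mem_range.mpr (Nat.pos_of_ne_zero (NeZero.ne N)))]

variable (c : ℂ) (hc : ∀ j j', (y j * (starRingEnd ℂ) (B j')) ^ N = c)

include hc in
theorem Gs_relation (j j' : Fin (r' + 1)) :
    y j * Gs N y B j j' * (starRingEnd ℂ) (B j') = Gs N y B j j' - (1 - c) := by
  have h5 : (y j * (starRingEnd ℂ) (B j')) ^ N = c := hc j j'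
  have key : ∀ x : ℂ, x ^ N = c →
      x * (∑ l ∈ Finset.range N, x ^ l) = (∑ l ∈ Finset.range N, x ^ l) - (1 - c) := by
    intro x hx
    rw [Finset.mul_sum]
    have h2 : ∑ l ∈ Finset.range N, x * x ^ l = ∑ l ∈ Finset.range N, x ^ (l + 1) := by
      refine Finset.sum_congr rfl fun l _ => ?_
      rw [pow_succ, mul_comm]
    rw [h2]
    have h3 := Finset.sum_range_succ' (fun l => x ^ l) N
    have h4 := Finset.sum_range_succ (fun l => x ^ l) N
    simp only [pow_zero] at h3
    linear_combination h4 - h3 + hx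
  have := key _ h5
  simp only [Gs]
  linear_combination this

include hc in
theorem F_c_eq_F_one (hprod : (∏ j, y j) * ∏ j, (starRingEnd ℂ) (B j) = 1) :
    (Ath N y c * Bm N B).det = (Ath N y 1 * Bm N B).det := by
  have h : Ath N y c * Bm N B =
      Matrix.diagonal y * (Ath N y 1 * Bm N B) * Matrix.diagonal (fun j => (starRingEnd ℂ) (B j)) := by
    ext j j'
    rw [AB_apply, Matrix.mul_diagonal, Matrix.diagonal_mul, AB_apply, sub_self, sub_zero,
      ← Gs_relation N y B c hc j j']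
  rw [h, Matrix.det_mul, Matrix.det_mul, Matrix.det_diagonal, Matrix.det_diagonal]
  calc (∏ i, y i) * (Ath N y 1 * Bm N B).det * ∏ i, (starRingEnd ℂ) (B i)
      = ((∏ j, y j) * ∏ j, (starRingEnd ℂ) (B j)) * (Ath N y 1 * Bm N B).det := by ring
    _ = _ := by rw [hprod, one_mul]

include hc in
/-- Part I: the sum vanishes if `c ≠ 1`. -/
theorem Tsum_eq_zero_of_ne (hprod : (∏ j, y j) * ∏ j, (starRingEnd ℂ) (B j) = 1) (hc1 : c ≠ 1) :
    Tsum N y B = 0 := by
  have h := F_c_eq_F_one N y B c hc hprod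
  rw [F_eq, F_eq] at h
  have h2 : (c - 1) * Tsum N y B = 0 := by linear_combination h
  rcases mul_eq_zero.mp h2 with h3 | h3
  · exact absurd (sub_eq_zero.mp h3) hc1
  · exact h3

/-- Part II: the sum vanishes if two rows of `Gs` vanish. -/
theorem Tsum_eq_zero_of_rows (j₁ j₂ : Fin (r' + 1)) (hne : j₁ ≠ j₂)
    (h₁ : ∀ j', Gs N y B j₁ j' = 0) (h₂ : ∀ j', Gs N y B j₂ j' = 0) :
    Tsum N y B = 0 := by
  have hF : ∀ θ : ℂ, (Ath N y θ * Bm N B).det = 0 := by
    intro θ
    apply Matrix.det_zero_of_row_eq hne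
    funext j'
    rw [AB_apply, AB_apply, h₁, h₂]
  have e1 := hF 1
  have e0 := hF 0
  rw [F_eq] at e1 e0
  linear_combination e1 - e0

end



/-- matching lemma: if the products agree and at most one index is unmatched, all are matched. -/
theorem all_matched {n : ℕ} (y B : Fin n → ℂ) (hy : Function.Injective y)
    (hB : Function.Injective B) (hB0 : ∀ j, B j ≠ 0) (hprod : ∏ j, y j = ∏ j, B j)
    (hno : ¬ ∃ j₁ j₂ : Fin n, j₁ ≠ j₂ ∧ (∀ j', y j₁ ≠ B j') ∧ (∀ j', y j₂ ≠ B j')) :
    ∀ j, ∃ j', y j = B j' := by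
  classical
  by_contra hcon
  push Not at hcon
  obtain ⟨j₀, hj₀⟩ := hcon
  have hmatched : ∀ j, j ≠ j₀ → ∃ j', y j = B j' := by
    intro j hj
    by_contra h
    push Not at h
    exact hno ⟨j, j₀, hj, h, hj₀⟩
  set Yset := (Finset.univ : Finset (Fin n)).image y with hYset
  set Bset := (Finset.univ : Finset (Fin n)).image B with hBset
  have hcardY : Yset.card = n := by
    rw [hYset, Finset.card_image_of_injective _ hy, Finset.card_univ, Fintype.card_fin]
  have hcardB : Bset.card = n := by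
    rw [hBset, Finset.card_image_of_injective _ hB, Finset.card_univ, Fintype.card_fin]
  have hj₀B : y j₀ ∉ Bset := by
    rw [hBset, Finset.mem_image]
    rintro ⟨j', _, h⟩
    exact hj₀ j' h.symm
  have hYB : Yset \ Bset = {y j₀} := by
    ext p
    simp only [Finset.mem_sdiff, Finset.mem_singleton]
    constructor
    · rintro ⟨hpY, hpB⟩
      rw [hYset, Finset.mem_image] at hpY
      obtain ⟨j, _, rfl⟩ := hpY
      by_cases hj : j = j₀
      · rw [hj]
      · exfalso
        obtain ⟨j', hj'⟩ := hmatched j hj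
        apply hpB
        rw [hBset, Finset.mem_image]
        exact ⟨j', Finset.mem_univ _, hj'.symm⟩
    · rintro rfl
      exact ⟨Finset.mem_image_of_mem _ (Finset.mem_univ _), hj₀B⟩
  have hBYcard : (Bset \ Yset).card = 1 := by
    rw [← Finset.card_sdiff_comm (hcardY.trans hcardB.symm), hYB, Finset.card_singleton]
  obtain ⟨q, hq⟩ := Finset.card_eq_one.mp hBYcard
  have hqB : q ∈ Bset := by
    have : q ∈ Bset \ Yset := by rw [hq]; exact Finset.mem_singleton_self q
    exact (Finset.mem_sdiff.mp this).1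
  have hPY : ∏ p ∈ Yset, p = (∏ p ∈ Yset ∩ Bset, p) * y j₀ := by
    rw [← Finset.prod_inter_mul_prod_sdiff Yset Bset (fun p => p), hYB, Finset.prod_singleton]
  have hPB : ∏ p ∈ Bset, p = (∏ p ∈ Yset ∩ Bset, p) * q := by
    rw [← Finset.prod_inter_mul_prod_sdiff Bset Yset (fun p => p), hq, Finset.prod_singleton,
      Finset.inter_comm]
  have hY' : ∏ p ∈ Yset, p = ∏ j, y j := by
    rw [hYset, Finset.prod_image (fun a _ b _ h => hy h)]
  have hB' : ∏ p ∈ Bset, p = ∏ j, B j := by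
    rw [hBset, Finset.prod_image (fun a _ b _ h => hB h)]
  have hP0 : (∏ p ∈ Yset ∩ Bset, p) ≠ 0 := by
    rw [Finset.prod_ne_zero_iff]
    intro p hp
    have hpB := (Finset.mem_inter.mp hp).2
    rw [hBset, Finset.mem_image] at hpB
    obtain ⟨j, _, rfl⟩ := hpB
    exact hB0 j
  have : y j₀ = q := by
    apply mul_left_cancel₀ hP0
    rw [← hPY, ← hPB, hY', hB', hprod]
  exact hj₀B (this ▸ hqB)



theorem const_of_matched {n N : ℕ} (hN : N ≠ 0) (a b : Fin n → ℕ) (ha : StrictAnti a)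
    (hb : StrictAnti b) (haN : ∀ i, a i < N) (hbN : ∀ i, b i < N) (m : ℤ)
    (hm : (∑ i, (a i : ℤ)) - ∑ i, (b i : ℤ) = m * n)
    (hmatch : ∀ j, ∃ j', (N : ℤ) ∣ (a j : ℤ) - m - (b j' : ℤ)) :
    ∀ i, (a i : ℤ) - (b i : ℤ) = m := by
  classical
  have hNpos : (0 : ℤ) < N := by exact_mod_cast Nat.pos_of_ne_zero hN
  choose σ hσ using hmatch
  have hσinj : Function.Injective σ := by
    intro j₁ j₂ h
    have h1 := hσ j₁
    have h2 := hσ j₂
    rw [h] at h1
    have h3 : (N : ℤ) ∣ (a j₁ : ℤ) - (a j₂ : ℤ) := by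
      have := Int.dvd_sub h1 h2
      have e : (a j₁ : ℤ) - m - (b (σ j₂) : ℤ) - ((a j₂ : ℤ) - m - (b (σ j₂) : ℤ)) =
          (a j₁ : ℤ) - (a j₂ : ℤ) := by ring
      rwa [e] at this
    have h4 : (a j₁ : ℤ) - (a j₂ : ℤ) = 0 := by
      apply Int.eq_zero_of_abs_lt_dvd h3
      have := haN j₁
      have := haN j₂
      rw [abs_lt]
      constructor <;> omega
    have h5 : a j₁ = a j₂ := by omega
    exact ha.injective h5
  have hσbij : Function.Bijective σ := Finite.injective_iff_bijective.mp hσinj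
  choose q hq using hσ
  have hsumb : ∑ j, (b (σ j) : ℤ) = ∑ j, (b j : ℤ) :=
    Equiv.sum_comp (Equiv.ofBijective σ hσbij) (fun j => (b j : ℤ))
  have hsumq : ∑ j, q j = 0 := by
    have h1 : ∑ j, ((a j : ℤ) - m - (b (σ j) : ℤ)) = ∑ j, (N : ℤ) * q j :=
      Finset.sum_congr rfl fun j _ => hq j
    rw [Finset.sum_sub_distrib, Finset.sum_sub_distrib, hsumb, Finset.sum_const, Finset.card_univ,
      Fintype.card_fin, ← Finset.mul_sum, nsmul_eq_mul] at h1
    have h2 : (N : ℤ) * ∑ j, q j = 0 := by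
      rw [← h1]
      linear_combination hm
    rcases mul_eq_zero.mp h2 with h | h
    · exact absurd h (ne_of_gt hNpos)
    · exact h
  have hq0 : ∀ j, q j = 0 := by
    rcases le_or_gt 0 m with hm0 | hm0
    · have hle : ∀ j ∈ (Finset.univ : Finset (Fin n)), q j ≤ 0 := by
        intro j _
        have h1 := hq j
        have := haN j
        by_contra hpos
        push Not at hpos
        have : (N : ℤ) * 1 ≤ (N : ℤ) * q j := by
          apply mul_le_mul_of_nonneg_left _ hNpos.le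
          omega
        omega
      intro j
      exact (Finset.sum_eq_zero_iff_of_nonpos hle).mp hsumq j (Finset.mem_univ j)
    · have hge : ∀ j ∈ (Finset.univ : Finset (Fin n)), 0 ≤ q j := by
        intro j _
        have h1 := hq j
        have := hbN (σ j)
        by_contra hneg
        push Not at hneg
        have : (N : ℤ) * q j ≤ (N : ℤ) * (-1) := by
          apply mul_le_mul_of_nonneg_left _ hNpos.le
          omega
        omega
      intro j
      exact (Finset.sum_eq_zero_iff_of_nonneg hge).mp hsumq j (Finset.mem_univ j)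
  have heq : ∀ j, (a j : ℤ) - m = (b (σ j) : ℤ) := by
    intro j
    have := hq j
    rw [hq0 j, mul_zero] at this
    omega
  have hσmono : StrictMono σ := by
    intro i j hij
    have h1 : a j < a i := ha hij
    have h2 : b (σ j) < b (σ i) := by
      have e1 := heq i
      have e2 := heq j
      omega
    exact hb.lt_iff_gt.mp h2
  have hσid : σ = id := by
    apply (hσmono.range_inj strictMono_id).mp
    rw [hσbij.surjective.range_eq, Set.range_id]
  intro i
  have := heq i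
  rw [hσid] at this
  simp only [id_eq] at this
  omega


/-- the core orthogonality statement -/
theorem core (r' N : ℕ) [NeZero N] (a b : Fin (r' + 1) → ℕ) (ha : StrictAnti a) (hb : StrictAnti b)
    (haN : ∀ i, a i < N) (hbN : ∀ i, b i < N)
    (hne : ¬ ∃ m : ℤ, ∀ i, (a i : ℤ) - (b i : ℤ) = m)
    (t : ℂ) (ht : t = Complex.exp (-(2 * Real.pi * Complex.I *
      (((∑ i, a i : ℕ) : ℂ) - ((∑ i, b i : ℕ) : ℂ)) / (((r' + 1 : ℕ) : ℂ) * (N : ℂ))))) :
    ∑ w ∈ (Finset.univ : Finset (Fin (r' + 1) → Fin N)).filter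
        (fun w : Fin (r' + 1) → Fin N => StrictMono w ∧ (w 0 : ℕ) = 0),
      t ^ (∑ i, (w i : ℕ)) * gv (fun j => S18379.zeta N ^ a j) (fun i => (w i : ℕ)) *
        (starRingEnd ℂ) (gv (fun j => S18379.zeta N ^ b j) (fun i => (w i : ℕ))) = 0 := by
  classical
  set ζ := S18379.zeta N with hζ
  have hζN : ζ ^ N = 1 := S18379.zeta_pow_N N
  have hζ0 : ζ ≠ 0 := S18379.zeta_ne_zero N
  have hζc : (starRingEnd ℂ) ζ = ζ⁻¹ := S18379.conj_zeta N
  have hprim : IsPrimitiveRoot ζ N := S18379.zeta_prim N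
  have hN0 : (N : ℂ) ≠ 0 := Nat.cast_ne_zero.mpr (NeZero.ne N)
  have hr0 : (((r' + 1 : ℕ)) : ℂ) ≠ 0 := Nat.cast_ne_zero.mpr (by omega)
  have ht0 : t ≠ 0 := by rw [ht]; exact Complex.exp_ne_zero _
  set y : Fin (r' + 1) → ℂ := fun j => t * ζ ^ a j with hy
  set B : Fin (r' + 1) → ℂ := fun j => ζ ^ b j with hB
  have hBc : ∀ j, (starRingEnd ℂ) (B j) = (B j)⁻¹ := by
    intro j
    simp only [hB, map_pow, hζc, inv_pow]
  have hB0 : ∀ j, B j ≠ 0 := fun j => pow_ne_zero _ hζ0
  -- step 1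
  have hstep1 : ∀ w : Fin (r' + 1) → Fin N,
      t ^ (∑ i, (w i : ℕ)) * gv (fun j => ζ ^ a j) (fun i => (w i : ℕ)) =
        gv y (fun i => (w i : ℕ)) := by
    intro w
    rw [gv, gv, ← Finset.prod_pow_eq_pow_sum, ← Matrix.det_mul_column]
    congr 1
    ext i j
    simp only [Matrix.of_apply, hy, mul_pow]
  have hsum : ∑ w ∈ (Finset.univ : Finset (Fin (r' + 1) → Fin N)).filter
        (fun w : Fin (r' + 1) → Fin N => StrictMono w ∧ (w 0 : ℕ) = 0),
      t ^ (∑ i, (w i : ℕ)) * gv (fun j => ζ ^ a j) (fun i => (w i : ℕ)) *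
        (starRingEnd ℂ) (gv (fun j => ζ ^ b j) (fun i => (w i : ℕ))) = Tsum N y B := by
    rw [Tsum]
    refine Finset.sum_congr rfl fun w _ => ?_
    rw [hstep1, Phi]
  rw [hsum]
  -- the constant c
  have hc : ∀ j j', (y j * (starRingEnd ℂ) (B j')) ^ N = t ^ N := by
    intro j j'
    simp only [hy, hB, map_pow, hζc, mul_pow]
    rw [← pow_mul, ← pow_mul, mul_comm (a j) N, mul_comm (b j') N, pow_mul, pow_mul, inv_pow, hζN]
    simp
  -- product condition
  have hζexp : ∀ n : ℕ, ζ ^ n = Complex.exp (n * (2 * Real.pi * Complex.I / N)) := by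
    intro n
    rw [Complex.exp_nat_mul]
    rfl
  have hprod : (∏ j, y j) * ∏ j, (starRingEnd ℂ) (B j) = 1 := by
    have h1 : ∏ j, y j = t ^ (r' + 1) * ζ ^ (∑ j, a j) := by
      simp only [hy]
      rw [Finset.prod_mul_distrib, Finset.prod_const, Finset.card_univ, Fintype.card_fin,
        Finset.prod_pow_eq_pow_sum]
    have h2 : ∏ j, (starRingEnd ℂ) (B j) = (ζ⁻¹) ^ (∑ j, b j) := by
      simp only [hB, map_pow, hζc]
      rw [Finset.prod_pow_eq_pow_sum]
    rw [h1, h2, inv_pow, hζexp, hζexp, ← Complex.exp_neg, ht, ← Complex.exp_nat_mul,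
      ← Complex.exp_add, ← Complex.exp_add]
    rw [Complex.exp_eq_one_iff]
    refine ⟨0, ?_⟩
    push_cast
    field_simp
    ring
  by_cases hc1 : t ^ N = 1
  · -- case c = 1
    -- find m
    have htN : t ^ N = Complex.exp (-(2 * Real.pi * Complex.I *
        (((∑ i, a i : ℕ) : ℂ) - ((∑ i, b i : ℕ) : ℂ)) / ((r' + 1 : ℕ) : ℂ))) := by
      rw [ht, ← Complex.exp_nat_mul]
      congr 1
      field_simp
    rw [htN, Complex.exp_eq_one_iff] at hc1
    obtain ⟨n, hn⟩ := hc1
    have hpi : (2 * Real.pi * Complex.I : ℂ) ≠ 0 := by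
      simp [Real.pi_ne_zero]
    have hD : (((∑ i, a i : ℕ) : ℂ) - ((∑ i, b i : ℕ) : ℂ)) = ((-n : ℤ) : ℂ) * ((r' + 1 : ℕ) : ℂ) := by
      have h1 : -(2 * Real.pi * Complex.I *
        (((∑ i, a i : ℕ) : ℂ) - ((∑ i, b i : ℕ) : ℂ)) / ((r' + 1 : ℕ) : ℂ)) =
          (2 * Real.pi * Complex.I) * (-((((∑ i, a i : ℕ) : ℂ) - ((∑ i, b i : ℕ) : ℂ)) / ((r' + 1 : ℕ) : ℂ))) := by
        ring
      rw [h1, mul_comm (n : ℂ)] at hn
      have h2 := mul_left_cancel₀ hpi hn
      rw [Int.cast_neg]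
      field_simp at h2
      linear_combination -h2
    set m : ℤ := -n with hm
    have hDint : (∑ i, (a i : ℤ)) - ∑ i, (b i : ℤ) = m * ((r' + 1 : ℕ) : ℤ) := by
      have : (((∑ i, (a i : ℤ)) - ∑ i, (b i : ℤ) : ℤ) : ℂ) = ((m * ((r' + 1 : ℕ) : ℤ) : ℤ) : ℂ) := by
        push_cast
        push_cast at hD
        rw [hD]
      exact_mod_cast this
    have htm : t = ζ ^ (-m) := by
      rw [ht, hD, hζ, S18379.zeta, ← Complex.exp_int_mul]
      congr 1
      push_cast
      field_simp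
    -- unmatched rows
    have hrows : ∃ j₁ j₂ : Fin (r' + 1), j₁ ≠ j₂ ∧ (∀ j', y j₁ ≠ B j') ∧ (∀ j', y j₂ ≠ B j') := by
      by_contra hno
      have hyinj : Function.Injective y := by
        intro i j hij
        simp only [hy] at hij
        have h1 := mul_left_cancel₀ ht0 hij
        exact ha.injective (hprim.pow_inj (haN i) (haN j) h1)
      have hBinj : Function.Injective B := by
        intro i j hij
        exact hb.injective (hprim.pow_inj (hbN i) (hbN j) hij)
      have hprod' : ∏ j, y j = ∏ j, B j := by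
        have h1 : ∏ j, (starRingEnd ℂ) (B j) = (∏ j, B j)⁻¹ := by
          simp_rw [hBc]
          rw [Finset.prod_inv_distrib]
        rw [h1] at hprod
        have h2 : (∏ j, B j) ≠ 0 := Finset.prod_ne_zero_iff.mpr fun j _ => hB0 j
        field_simp at hprod
        exact hprod
      have hall := all_matched y B hyinj hBinj hB0 hprod' hno
      apply hne
      refine ⟨m, const_of_matched (NeZero.ne N) a b ha hb haN hbN m hDint ?_⟩
      intro j
      obtain ⟨j', hj'⟩ := hall j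
      refine ⟨j', ?_⟩
      rw [← hprim.zpow_eq_one_iff_dvd]
      simp only [hy, hB, htm] at hj'
      have h1 : ζ ^ ((a j : ℤ) - m - (b j' : ℤ)) = ζ ^ (-m) * ζ ^ a j * (ζ ^ b j')⁻¹ := by
        rw [sub_eq_add_neg, sub_eq_add_neg, zpow_add₀ hζ0, zpow_add₀ hζ0, _root_.zpow_neg,
          zpow_natCast, _root_.zpow_neg, _root_.zpow_neg, zpow_natCast]
        ring
      rw [h1, hj', mul_inv_cancel₀ (pow_ne_zero _ hζ0)]
    obtain ⟨j₁, j₂, hj12, h₁, h₂⟩ := hrows
    have hrow0 : ∀ j, (∀ j', y j ≠ B j') → ∀ j', Gs N y B j j' = 0 := by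
      intro j hj j'
      rw [Gs]
      set x := y j * (starRingEnd ℂ) (B j') with hx
      have hxN : x ^ N = 1 := by
        rw [hc j j', htN, Complex.exp_eq_one_iff]
        exact ⟨n, hn⟩
      have hx1 : x ≠ 1 := by
        intro h
        apply hj j'
        rw [hx, hBc] at h
        have := hB0 j'
        field_simp at h
        exact h
      have h := geom_sum_mul x N
      rw [hxN, sub_self] at h
      rcases mul_eq_zero.mp h with h | h
      · exact h
      · exact absurd (sub_eq_zero.mp h) hx1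
    exact Tsum_eq_zero_of_rows N y B j₁ j₂ hj12 (hrow0 j₁ h₁) (hrow0 j₂ h₂)
  · exact Tsum_eq_zero_of_ne N y B (t ^ N) hc hprod hc1

end Groth.Agent.Lib.Helper91.VerlindeCore
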