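import Mathlib
import Groth.Agent.Lib.Helper91.VerlindeCore

set_option autoImplicit false
set_option linter.unusedSectionVars false
open Finset Matrix

namespace Groth.Agent.Lib.Helper91.VerlindeAux

open Groth.Agent.S18377 Groth.Agent.Lib.Helper91.VerlindeCore

section
variable {r : ℕ} (N : ℕ) (z : Fin r → ℂ) (hN : N ≠ 0) (hzN : ∀ j, z j ^ N = 1)

include hN hzN in
/-- conjugate of the staircase determinant. -/
theorem conj_gv_dl (k : ℕ) (hNk : N = r + k) :
    (starRingEnd ℂ) (gv z (dl r)) = eps r * (∏ j, z j) * ((∏ j, z j) ^ k * gv z (dl r)) := by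
  have hZ0 : (∏ j, z j) ≠ 0 := Finset.prod_ne_zero_iff.mpr fun j _ => z_ne_zero N z hN hzN j
  have hdl : ∀ i : Fin r, dl r i ≤ N - 1 := by
    intro i
    have := i.isLt
    simp only [dl]
    omega
  have h2 := gv_compl_rev N z hN hzN (dl r) hdl
  have h3 : (fun i : Fin r => N - 1 - dl r (Fin.rev i)) = fun i => dl r i + k := by
    funext i
    have := i.isLt
    simp only [dl, Fin.val_rev]
    omega
  rw [h3, gv_add] at h2
  set Z := ∏ j, z j
  set d := gv z (dl r)
  have hε := eps_mul_self r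
  rw [h2]
  have : eps r * Z * (Z⁻¹ * (eps r * (starRingEnd ℂ) d)) =
      (eps r * eps r) * (Z * Z⁻¹) * (starRingEnd ℂ) d := by ring
  rw [this, hε, mul_inv_cancel₀ hZ0, one_mul, one_mul]

include hN hzN in
theorem conj_prod_z : (starRingEnd ℂ) (∏ j, z j) = (∏ j, z j)⁻¹ := by
  rw [map_prod, ← Finset.prod_inv_distrib]
  exact Finset.prod_congr rfl fun j _ => conj_z N z hN hzN j

end

/-- symmetry of the generalized Vandermonde determinants at roots of unity. -/
theorem gv_symm {r : ℕ} (ζ : ℂ) (u w : Fin r → ℕ) :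
    gv (fun j => ζ ^ u j) w = gv (fun j => ζ ^ w j) u := by
  rw [gv, gv, ← Matrix.det_transpose]
  congr 1
  ext i j
  simp only [Matrix.transpose_apply, Matrix.of_apply]
  rw [← pow_mul, ← pow_mul, mul_comm]

/-- basic facts about the nodes `z j = exp(2πi v_j/(r+k))`. -/
theorem nodes_facts (r k : ℕ) (hrk : r + k ≠ 0) (v : Fin r → ℕ) (hv : Function.Injective v)
    (hvlt : ∀ i, v i < r + k) (z : Fin r → ℂ)
    (hz : ∀ j, z j = Complex.exp (2 * Real.pi * Complex.I * (v j : ℂ) / ((r : ℂ) + k))) :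
    haveI : NeZero (r + k) := ⟨hrk⟩
    (∀ j, z j = S18379.zeta (r + k) ^ v j) ∧ (∀ j, z j ^ (r + k) = 1) ∧
      gv z (dl r) ≠ 0 ∧
      gv z (dl r) * (starRingEnd ℂ) (gv z (dl r)) =
        ((∏ p ∈ (Finset.univ : Finset (Fin r × Fin r)).filter (fun p => p.1 < p.2),
          ((2 : ℝ) * Real.sin (Real.pi * ((v p.1 : ℝ) - (v p.2 : ℝ)) / ((r : ℝ) + k))) ^ 2 : ℝ) : ℂ) := by
  classical
  haveI : NeZero (r + k) := ⟨hrk⟩
  set N := r + k with hNdef
  have hNC : ((N : ℕ) : ℂ) = (r : ℂ) + k := by rw [hNdef]; push_cast; ring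
  let v' : Fin r → Fin N := fun i => ⟨v i, hvlt i⟩
  have hzv : ∀ j, z j = S18379.zv N (v' j) := by
    intro j
    rw [hz, S18379.zv, S18379.zeta, ← Complex.exp_nat_mul, hNC]
    congr 1
    simp only [v']
    ring
  have hzN : ∀ j, z j ^ N = 1 := by
    intro j
    rw [hzv, S18379.zv, ← pow_mul, mul_comm, pow_mul, S18379.zeta_pow_N, one_pow]
  have hzinj : Function.Injective z := by
    intro i j hij
    rw [hzv, hzv] at hij
    have h1 := S18379.zv_injective N hij
    have h2 : v i = v j := by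
      have := congrArg Fin.val h1
      simpa [v'] using this
    exact hv h2
  set d := gv z (dl r) with hd
  have hdV : d = eps r * S18379.D N v' := by
    have h1 : dl r = fun i : Fin r => (fun i : Fin r => (i : ℕ)) (Fin.rev i) := by
      funext i
      simp only [dl, Fin.val_rev]
      omega
    rw [hd, h1, gv_comp_rev, gv, S18379.D, ← Matrix.det_transpose]
    congr 2
    ext i j
    simp only [Matrix.transpose_apply, Matrix.of_apply, Matrix.vandermonde_apply, hzv]
  have hdd : d * (starRingEnd ℂ) d = ((S18379.F N v' : ℝ) : ℂ) := by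
    rw [hdV, map_mul, conj_eps, S18379.F_eq_normSq_D, ← Complex.mul_conj]
    have := eps_mul_self r
    calc eps r * S18379.D N v' * (eps r * (starRingEnd ℂ) (S18379.D N v'))
        = (eps r * eps r) * (S18379.D N v' * (starRingEnd ℂ) (S18379.D N v')) := by ring
      _ = _ := by rw [this, one_mul]
  have hF0 : S18379.F N v' ≠ 0 := by
    rw [S18379.F_eq_normSq_D, Ne, Complex.normSq_eq_zero, S18379.D,
      Matrix.det_vandermonde_eq_zero_iff]
    rintro ⟨i, j, hij, hne⟩
    rw [← hzv, ← hzv] at hij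
    exact hne (hzinj hij)
  have hd0 : d ≠ 0 := by
    intro h0
    rw [h0, zero_mul] at hdd
    exact hF0 (Complex.ofReal_eq_zero.mp hdd.symm)
  refine ⟨fun j => ?_, hzN, hd0, ?_⟩
  · rw [hzv]; rfl
  · rw [hdd]
    congr 1
    rw [S18379.F]
    refine Finset.prod_congr rfl fun p _ => ?_
    rw [S18379.pd_eq_sin]
    have : ((N : ℕ) : ℝ) = (r : ℝ) + k := by rw [hNdef]; push_cast; ring
    rw [this]

/-- reindexing strictly decreasing tuples ending in `0` by strictly increasing ones starting at `0`. -/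
theorem sum_strictAnti_eq_sum_strictMono (r' N : ℕ) (T : (Fin (r' + 1) → ℕ) → ℂ) :
    ∑ v ∈ (Finset.univ : Finset (Fin (r' + 1) → Fin N)).filter
        (fun v : Fin (r' + 1) → Fin N =>
          StrictAnti v ∧ ∀ i : Fin (r' + 1), (i : ℕ) = r' + 1 - 1 → (v i : ℕ) = 0),
        T (fun j => (v j : ℕ)) =
      ∑ w ∈ (Finset.univ : Finset (Fin (r' + 1) → Fin N)).filter
        (fun w : Fin (r' + 1) → Fin N => StrictMono w ∧ (w 0 : ℕ) = 0),
        T (fun j => (w (Fin.rev j) : ℕ)) := by
  classical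
  refine Finset.sum_bij (fun v _ => v ∘ Fin.rev) ?_ ?_ ?_ ?_
  · intro v hv
    simp only [Finset.mem_filter, Finset.mem_univ, true_and] at hv ⊢
    refine ⟨hv.1.comp Fin.rev_strictAnti, ?_⟩
    simp only [Function.comp_apply, Fin.rev_zero]
    exact hv.2 (Fin.last r') (by simp)
  · intro v _ v' _ h
    funext i
    have := congrFun h (Fin.rev i)
    simpa using this
  · intro w hw
    simp only [Finset.mem_filter, Finset.mem_univ, true_and] at hw
    refine ⟨w ∘ Fin.rev, ?_, ?_⟩
    · simp only [Finset.mem_filter, Finset.mem_univ, true_and]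
      refine ⟨hw.1.comp_strictAnti Fin.rev_strictAnti, ?_⟩
      intro i hi
      have : i = Fin.last r' := Fin.ext (by rw [hi]; simp)
      simp only [Function.comp_apply, this, Fin.rev_last]
      exact hw.2
    · funext i
      simp
  · intro v _
    congr 1
    funext j
    simp

end Groth.Agent.Lib.Helper91.VerlindeAux
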