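import Groth.Agent.Lib.Helper91.WronskiPlucker
import Groth.Agent.Lib.Helper91.AffineFinite

/-!
# Finiteness of the fibres of the Wronski map on pencils (helper91)

Pencils of polynomials of degree `≤ d` with prescribed ramification `∑ (e i - 1) = 2d - 2` at fixed
points have Wronskian `∏ (X - P i)^(e i - 1)` up to a scalar; their Plücker vectors are the zeros of
the Plücker relations and the (inhomogeneous) linear equations `WrLin ω = Π`, an affine algebraic
set with no points at infinity, hence finite.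
-/

set_option autoImplicit false

open Polynomial W4c1limliniiii
open Groth.Agent.Lib.Helper91.WronskiPlucker Helper91.RamPencil

namespace Groth.Agent.Lib.Helper91.WronskiFinite

variable {k : Type*} [Field k]

/-- index type of the equations: Plücker relations and Wronskian coefficients. -/
abbrev Idx (d : ℕ) := (Fin (d + 1) × Fin (d + 1) × Fin (d + 1) × Fin (d + 1)) ⊕ ℕ

/-- the homogeneous parts of the equations. -/
noncomputable def hEq (d : ℕ) : Idx d → MvPolynomial (Fin (d + 1) × Fin (d + 1)) k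
  | Sum.inl q => MvPolynomial.X (q.1, q.2.1) * MvPolynomial.X (q.2.2.1, q.2.2.2) -
      MvPolynomial.X (q.1, q.2.2.1) * MvPolynomial.X (q.2.1, q.2.2.2) +
      MvPolynomial.X (q.1, q.2.2.2) * MvPolynomial.X (q.2.1, q.2.2.1)
  | Sum.inr n => ∑ p : Fin (d + 1) × Fin (d + 1),
      MvPolynomial.C ((T (k := k) (p.1 : ℕ) (p.2 : ℕ)).coeff n) * MvPolynomial.X p

/-- the equations. -/
noncomputable def gEq (d : ℕ) (W : k[X]) : Idx d → MvPolynomial (Fin (d + 1) × Fin (d + 1)) k
  | Sum.inl q => hEq d (Sum.inl q)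
  | Sum.inr n => hEq d (Sum.inr n) - MvPolynomial.C (W.coeff n)

/-- the degrees of the equations. -/
def dgEq (d : ℕ) : Idx d → ℕ
  | Sum.inl _ => 2
  | Sum.inr _ => 1

theorem eval_hEq_inl (d : ℕ) (ω : Fin (d + 1) × Fin (d + 1) → k)
    (q : Fin (d + 1) × Fin (d + 1) × Fin (d + 1) × Fin (d + 1)) :
    MvPolynomial.eval ω (hEq d (Sum.inl q)) =
      ω (q.1, q.2.1) * ω (q.2.2.1, q.2.2.2) - ω (q.1, q.2.2.1) * ω (q.2.1, q.2.2.2) +
        ω (q.1, q.2.2.2) * ω (q.2.1, q.2.2.1) := by
  simp [hEq]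

theorem eval_hEq_inr (d : ℕ) (ω : Fin (d + 1) × Fin (d + 1) → k) (n : ℕ) :
    MvPolynomial.eval ω (hEq d (Sum.inr n)) = (WrLin ω).coeff n := by
  simp only [hEq, map_sum, map_mul, MvPolynomial.eval_C, MvPolynomial.eval_X, WrLin,
    finsetSum_coeff, coeff_smul, smul_eq_mul]
  refine Finset.sum_congr rfl fun p _ => ?_
  ring

theorem hEq_isHomogeneous (d : ℕ) (j : Idx d) :
    (hEq (k := k) d j).IsHomogeneous (dgEq d j) := by
  rcases j with q | n
  · change MvPolynomial.IsHomogeneous _ (1 + 1)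
    exact (((MvPolynomial.isHomogeneous_X _ _).mul (MvPolynomial.isHomogeneous_X _ _)).sub
      ((MvPolynomial.isHomogeneous_X _ _).mul (MvPolynomial.isHomogeneous_X _ _))).add
      ((MvPolynomial.isHomogeneous_X _ _).mul (MvPolynomial.isHomogeneous_X _ _))
  · change MvPolynomial.IsHomogeneous _ 1
    exact MvPolynomial.IsHomogeneous.sum _ _ _ fun p _ => MvPolynomial.isHomogeneous_C_mul_X _ _

theorem gEq_sub_hEq_totalDegree (d : ℕ) (W : k[X]) (j : Idx d) :
    (gEq d W j - hEq d j).totalDegree < dgEq d j := by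
  rcases j with q | n
  · simp [gEq, dgEq]
  · have : gEq d W (Sum.inr n) - hEq d (Sum.inr n) = -MvPolynomial.C (W.coeff n) := by
      simp [gEq]
    rw [this, MvPolynomial.totalDegree_neg, MvPolynomial.totalDegree_C]
    simp [dgEq]

theorem finite_zeros [IsAlgClosed k] (p : ℕ) [CharP k p] (d : ℕ) (hp : p = 0 ∨ d < p)
    (W : k[X]) :
    {ω : Fin (d + 1) × Fin (d + 1) → k | ∀ j, MvPolynomial.eval ω (gEq d W j) = 0}.Finite := by
  apply Groth.Agent.Lib.Helper91.AffineFinite.finite_zeros_of_top_parts (gEq d W) (hEq d) (dgEq d)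
    (hEq_isHomogeneous d) (gEq_sub_hEq_totalDegree d W)
  intro ω hω
  apply eq_zero_of_plucker p hp ω
  · intro i j a b
    have := hω (Sum.inl (i, j, a, b))
    rwa [eval_hEq_inl] at this
  · ext n
    have := hω (Sum.inr n)
    rw [eval_hEq_inr] at this
    rw [this, coeff_zero]

theorem mem_zeros_iff (d : ℕ) (W : k[X]) (ω : Fin (d + 1) × Fin (d + 1) → k) :
    (∀ j, MvPolynomial.eval ω (gEq d W j) = 0) ↔
      (∀ i j a b : Fin (d + 1),
        ω (i, j) * ω (a, b) - ω (i, a) * ω (j, b) + ω (i, b) * ω (j, a) = 0) ∧ WrLin ω = W := by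
  constructor
  · intro h
    refine ⟨fun i j a b => ?_, ?_⟩
    · have := h (Sum.inl (i, j, a, b))
      simpa [gEq, eval_hEq_inl] using this
    · ext n
      have := h (Sum.inr n)
      simp only [gEq, map_sub, eval_hEq_inr, MvPolynomial.eval_C] at this
      exact sub_eq_zero.mp this
  · rintro ⟨h1, h2⟩ (q | n)
    · simp only [gEq, eval_hEq_inl]
      exact h1 _ _ _ _
    · simp only [gEq, map_sub, eval_hEq_inr, MvPolynomial.eval_C, h2, sub_self]

theorem linearIndependent_of_wronskian_ne_zero {F G : k[X]} (hW : wronskian F G ≠ 0) :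
    LinearIndependent k ![F, G] := by
  rw [LinearIndependent.pair_iff]
  intro a b hab
  constructor
  · have h1 : wronskian (a • F + b • G) G = a • wronskian F G := by
      rw [wronskian_add_left, wronskian_smul_left, wronskian_smul_left, wronskian_self_eq_zero,
        smul_zero, add_zero]
    rw [hab, wronskian_zero_left] at h1
    exact (smul_eq_zero.mp h1.symm).resolve_right hW
  · have h1 : wronskian F (a • F + b • G) = b • wronskian F G := by
      rw [wronskian_add_right, wronskian_smul_right, wronskian_smul_right, wronskian_self_eq_zero,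
        smul_zero, zero_add]
    rw [hab, wronskian_zero_right] at h1
    exact (smul_eq_zero.mp h1.symm).resolve_right hW

theorem eq_span_of_wronskian_ne_zero {V : Submodule k k[X]} (hrk : Module.finrank k V = 2)
    {F G : k[X]} (hF : F ∈ V) (hG : G ∈ V) (hW : wronskian F G ≠ 0) :
    V = Submodule.span k {F, G} := by
  haveI : Module.Finite k V := Module.finite_of_finrank_pos (by omega)
  have hli := linearIndependent_of_wronskian_ne_zero hW
  have hle : Submodule.span k {F, G} ≤ V := by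
    rw [Submodule.span_le]
    rintro x (rfl | rfl)
    · exact hF
    · exact hG
  have hrange : Set.range ![F, G] = {F, G} := by
    ext x
    simp only [Set.mem_range, Set.mem_insert_iff, Set.mem_singleton_iff]
    constructor
    · rintro ⟨i, rfl⟩
      fin_cases i
      · left; rfl
      · right; rfl
    · rintro (rfl | rfl)
      · exact ⟨0, rfl⟩
      · exact ⟨1, rfl⟩
  have hfr : Module.finrank k (Submodule.span k ({F, G} : Set k[X])) = 2 := by
    rw [← hrange, finrank_span_eq_card hli]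
    simp
  exact (Submodule.eq_of_le_of_finrank_eq hle (by rw [hfr, hrk])).symm

/-- the expected Wronskian. -/
noncomputable def Pi {n : ℕ} (P : Fin n → k) (e : Fin n → ℕ) : k[X] :=
  ∏ i, (X - C (P i)) ^ (e i - 1)

theorem Pi_monic {n : ℕ} (P : Fin n → k) (e : Fin n → ℕ) : (Pi P e).Monic :=
  monic_prod_of_monic _ _ fun i _ => (monic_X_sub_C (P i)).pow _

theorem natDegree_Pi {n : ℕ} (P : Fin n → k) (e : Fin n → ℕ) :
    (Pi P e).natDegree = ∑ i, (e i - 1) := by
  rw [Pi, natDegree_prod_of_monic _ _ (fun i _ => (monic_X_sub_C (P i)).pow _)]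
  simp only [natDegree_pow, natDegree_X_sub_C, mul_one]

theorem exists_basis_of_mem_ramMaps {p d n : ℕ} {P : Fin n → k} (hP : Function.Injective P)
    {e : Fin n → ℕ} (he : Admissible p d e) {V : Submodule k k[X]} (hV : V ∈ ramMaps d P e) :
    ∃ F G : k[X], F ∈ V ∧ G ∈ V ∧ wronskian F G = Pi P e ∧ V = Submodule.span k {F, G} := by
  obtain ⟨⟨hle, hrk, -, -⟩, ⟨F, hF, G, hG, hW⟩, hram⟩ := hV
  have hspan := eq_span_of_wronskian_ne_zero hrk hF hG hW
  have hFd := natDegree_le_of_mem hle hF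
  have hGd := natDegree_le_of_mem hle hG
  have hd1 : 1 ≤ d := by
    by_contra h
    have hd0 : d = 0 := by omega
    subst hd0
    apply hW
    rw [eq_C_of_natDegree_eq_zero (Nat.le_zero.mp hFd), eq_C_of_natDegree_eq_zero (Nat.le_zero.mp hGd)]
    simp [wronskian]
  have hdvd : ∀ i ∈ (Finset.univ : Finset (Fin n)), (X - C (P i)) ^ (e i - 1) ∣ wronskian F G := by
    intro i _
    obtain ⟨s, hsV, hs0, hsd⟩ := exists_dvd_of_hasRamIdx (hram i)
    rw [hspan] at hsV
    exact pow_pred_dvd_wronskian_of_mem_span hsV hs0 hsd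
  have hcop : ∀ i ∈ (Finset.univ : Finset (Fin n)), ∀ j ∈ (Finset.univ : Finset (Fin n)), i ≠ j →
      IsCoprime ((X - C (P i)) ^ (e i - 1)) ((X - C (P j)) ^ (e j - 1)) := by
    intro i _ j _ hij
    exact (isCoprime_X_sub_C_of_isUnit_sub (sub_ne_zero.mpr (hP.ne hij)).isUnit).pow
  obtain ⟨q, hq⟩ := Finset.prod_dvd_of_coprime hcop hdvd
  change wronskian F G = Pi P e * q at hq
  have hdeg := natDegree_wronskian_le hd1 hFd hGd
  have hsum : ∑ i, (e i - 1) = 2 * d - 2 := by
    have h1 : ∑ i, e i = ∑ i, (e i - 1) + n := by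
      have : ∀ i, e i = (e i - 1) + 1 := fun i => by have := (he.1 i).1; omega
      conv_lhs => rw [Finset.sum_congr rfl (fun i _ => this i)]
      rw [Finset.sum_add_distrib]
      simp
    have h2 := he.2
    omega
  have hq0 : q ≠ 0 := by
    rintro rfl
    rw [mul_zero] at hq
    exact hW hq
  have hqdeg : q.natDegree = 0 := by
    have h1 : (wronskian F G).natDegree = (Pi P e).natDegree + q.natDegree := by
      rw [hq, natDegree_mul (Pi_monic P e).ne_zero hq0]
    rw [natDegree_Pi, hsum] at h1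
    omega
  obtain ⟨c, hc⟩ : ∃ c : k, q = C c := ⟨q.coeff 0, eq_C_of_natDegree_eq_zero hqdeg⟩
  have hc0 : c ≠ 0 := by
    rintro rfl
    rw [hc, C_0] at hq0
    exact hq0 rfl
  have hW' : wronskian (c⁻¹ • F) G = Pi P e := by
    rw [wronskian_smul_left, hq, hc, smul_eq_C_mul, mul_comm (Pi P e), ← mul_assoc, ← C_mul,
      inv_mul_cancel₀ hc0, C_1, one_mul]
  have hF' : c⁻¹ • F ∈ V := V.smul_mem _ hF
  have hW'0 : wronskian (c⁻¹ • F) G ≠ 0 := by
    rw [hW']
    exact (Pi_monic P e).ne_zero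
  exact ⟨c⁻¹ • F, G, hF', hG, hW', eq_span_of_wronskian_ne_zero hrk hF' hG hW'0⟩

/-- coefficient vector of a polynomial. -/
def cf (d : ℕ) (F : k[X]) : Fin (d + 1) → k := fun j => F.coeff j

theorem toPoly_cf {d : ℕ} {F : k[X]} (hF : F.natDegree ≤ d) : toPoly (cf d F) = F :=
  toPoly_coeffs hF

theorem WrLin_zero (d : ℕ) : WrLin (k := k) (d := d) 0 = 0 := by
  simp [WrLin]

/-- if two pencils have the same Plücker vector, one is contained in the other. -/
theorem le_of_plu_eq {d : ℕ} {V V' : Submodule k k[X]} {F G F' G' : k[X]}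
    (hFd : F.natDegree ≤ d) (hGd : G.natDegree ≤ d) (hF'd : F'.natDegree ≤ d)
    (hG'd : G'.natDegree ≤ d) (hV : V = Submodule.span k {F, G}) (hF' : F' ∈ V') (hG' : G' ∈ V')
    (hne : plu (cf d F) (cf d G) ≠ 0)
    (heq : plu (cf d F) (cf d G) = plu (cf d F') (cf d G')) : V ≤ V' := by
  obtain ⟨⟨a, b⟩, hab⟩ := Function.ne_iff.mp hne
  rw [Pi.zero_apply] at hab
  have hrow : ∀ i, row (plu (cf d F) (cf d G)) i ∈ V' := by
    intro i
    rw [heq, row_plu, toPoly_cf hF'd, toPoly_cf hG'd]
    exact V'.sub_mem (V'.smul_mem _ hG') (V'.smul_mem _ hF')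
  have h1 := recover_left (cf d F) (cf d G) a b
  have h2 := recover_right (cf d F) (cf d G) a b
  rw [toPoly_cf hFd] at h1
  rw [toPoly_cf hGd] at h2
  have hFV' : F ∈ V' := by
    have h3 : (plu (cf d F) (cf d G) (a, b)) • F ∈ V' := by
      rw [← h1]
      exact V'.sub_mem (V'.smul_mem _ (hrow a)) (V'.smul_mem _ (hrow b))
    have := V'.smul_mem (plu (cf d F) (cf d G) (a, b))⁻¹ h3
    rwa [smul_smul, inv_mul_cancel₀ hab, one_smul] at this
  have hGV' : G ∈ V' := by
    have h3 : (plu (cf d F) (cf d G) (a, b)) • G ∈ V' := by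
      rw [← h2]
      exact V'.sub_mem (V'.smul_mem _ (hrow a)) (V'.smul_mem _ (hrow b))
    have := V'.smul_mem (plu (cf d F) (cf d G) (a, b))⁻¹ h3
    rwa [smul_smul, inv_mul_cancel₀ hab, one_smul] at this
  rw [hV, Submodule.span_le]
  rintro x (rfl | rfl)
  · exact hFV'
  · exact hGV'

/-- **Finiteness of the set of pencils with fully prescribed ramification.** -/
theorem ramMaps_finite [IsAlgClosed k] (p : ℕ) [CharP k p] (d n : ℕ) (P : Fin n → k)
    (hP : Function.Injective P) (e : Fin n → ℕ) (he : Admissible p d e) (hp : p = 0 ∨ d < p) :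
    (ramMaps d P e).Finite := by
  classical
  have hex := fun (V : Submodule k k[X]) (hV : V ∈ ramMaps d P e) =>
    exists_basis_of_mem_ramMaps hP he hV
  choose F G hF hG hW hspan using hex
  let Ω : Submodule k k[X] → (Fin (d + 1) × Fin (d + 1) → k) := fun V =>
    if hV : V ∈ ramMaps d P e then plu (cf d (F V hV)) (cf d (G V hV)) else 0
  have hΩ : ∀ V (hV : V ∈ ramMaps d P e), Ω V = plu (cf d (F V hV)) (cf d (G V hV)) := by
    intro V hV
    simp only [Ω, dif_pos hV]
  have hdeg : ∀ V (hV : V ∈ ramMaps d P e), (F V hV).natDegree ≤ d ∧ (G V hV).natDegree ≤ d :=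
    fun V hV => ⟨natDegree_le_of_mem hV.1.1 (hF V hV), natDegree_le_of_mem hV.1.1 (hG V hV)⟩
  have hWr : ∀ V (hV : V ∈ ramMaps d P e), WrLin (Ω V) = Pi P e := by
    intro V hV
    rw [hΩ V hV, ← wronskian_toPoly, toPoly_cf (hdeg V hV).1,
      toPoly_cf (hdeg V hV).2, hW V hV]
  have hne : ∀ V (hV : V ∈ ramMaps d P e), Ω V ≠ 0 := by
    intro V hV h0
    have := hWr V hV
    rw [h0, WrLin_zero] at this
    exact (Pi_monic P e).ne_zero this.symm
  refine Set.Finite.of_injOn (f := Ω) ?_ ?_ (finite_zeros p d hp (Pi P e))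
  · intro V hV
    rw [Set.mem_ofPred_eq, mem_zeros_iff]
    refine ⟨?_, hWr V hV⟩
    rw [hΩ V hV]
    intro i j a b
    exact plucker_plu _ _ i j a b
  · intro V hV V' hV' hVV'
    have h1 : plu (cf d (F V hV)) (cf d (G V hV)) = plu (cf d (F V' hV')) (cf d (G V' hV')) := by
      rw [← hΩ V hV, ← hΩ V' hV', hVV']
    apply le_antisymm
    · exact le_of_plu_eq (hdeg V hV).1 (hdeg V hV).2 (hdeg V' hV').1 (hdeg V' hV').2
        (hspan V hV) (hF V' hV') (hG V' hV') (by rw [← hΩ V hV]; exact hne V hV) h1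
    · exact le_of_plu_eq (hdeg V' hV').1 (hdeg V' hV').2 (hdeg V hV).1 (hdeg V hV).2
        (hspan V' hV') (hF V hV) (hG V hV) (by rw [← hΩ V' hV']; exact hne V' hV') h1.symm

end Groth.Agent.Lib.Helper91.WronskiFinite
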