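import Groth.Agent.Lib.Helper91.RamPencilChar

/-!
# Plücker coordinates of a pencil of polynomials and its Wronskian (helper91)

For coefficient vectors `f g : Fin (d+1) → k`, the Wronskian of the polynomials `toPoly f`,
`toPoly g` is a linear function `WrLin` of the Plücker vector `plu f g`.  A vector satisfying the
Plücker relations whose `WrLin` vanishes is zero (in characteristic `0` or `> d`).
-/

set_option autoImplicit false

open Polynomial

namespace Groth.Agent.Lib.Helper91.WronskiPlucker

variable {k : Type*} [Field k] {d : ℕ}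

/-- the polynomial with coefficient vector `v`. -/
noncomputable def toPoly : (Fin (d + 1) → k) →ₗ[k] k[X] :=
  Fintype.linearCombination k (fun j : Fin (d + 1) => (X : k[X]) ^ (j : ℕ))

theorem toPoly_apply (v : Fin (d + 1) → k) : toPoly v = ∑ j, v j • (X : k[X]) ^ (j : ℕ) := by
  rw [toPoly, Fintype.linearCombination_apply]

theorem toPoly_coeffs {F : k[X]} (hF : F.natDegree ≤ d) :
    toPoly (fun j : Fin (d + 1) => F.coeff j) = F := by
  rw [toPoly_apply]
  conv_rhs => rw [F.as_sum_range' (d + 1) (by omega)]
  rw [Fin.sum_univ_eq_sum_range (fun i => F.coeff i • (X : k[X]) ^ i) (d + 1)]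
  refine Finset.sum_congr rfl fun i _ => ?_
  rw [smul_eq_C_mul, C_mul_X_pow_eq_monomial]

theorem coeff_toPoly (v : Fin (d + 1) → k) (j : Fin (d + 1)) : (toPoly v).coeff j = v j := by
  rw [toPoly_apply, finsetSum_coeff]
  simp only [coeff_smul, coeff_X_pow, smul_eq_mul, mul_ite, mul_one, mul_zero]
  rw [Finset.sum_eq_single j]
  · simp
  · intro i _ hij
    rw [if_neg]
    intro h
    exact hij (Fin.ext h.symm)
  · intro h
    exact absurd (Finset.mem_univ j) h

theorem natDegree_toPoly_le (v : Fin (d + 1) → k) : (toPoly v).natDegree ≤ d := by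
  rw [toPoly_apply]
  apply natDegree_sum_le_of_forall_le
  intro j _
  calc (v j • (X : k[X]) ^ (j : ℕ)).natDegree ≤ ((X : k[X]) ^ (j : ℕ)).natDegree :=
        natDegree_smul_le _ _
    _ ≤ d := by
        rw [natDegree_X_pow]
        have := j.2
        omega

theorem toPoly_eq_zero {v : Fin (d + 1) → k} (h : toPoly v = 0) : v = 0 := by
  funext j
  rw [← coeff_toPoly v j, h, coeff_zero, Pi.zero_apply]

/-- the Plücker vector of a pair of coefficient vectors. -/
def plu (f g : Fin (d + 1) → k) : Fin (d + 1) × Fin (d + 1) → k :=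
  fun p => f p.1 * g p.2 - f p.2 * g p.1

/-- `X^i * (X^j)'`. -/
noncomputable def T (i j : ℕ) : k[X] := X ^ i * derivative (X ^ j)

/-- the Wronskian as a linear function of the Plücker vector. -/
noncomputable def WrLin (ω : Fin (d + 1) × Fin (d + 1) → k) : k[X] :=
  ∑ p : Fin (d + 1) × Fin (d + 1), ω p • T (p.1 : ℕ) (p.2 : ℕ)

theorem wronskian_toPoly (f g : Fin (d + 1) → k) :
    wronskian (toPoly f) (toPoly g) = WrLin (plu f g) := by
  have h1 : toPoly f * derivative (toPoly g) =
      ∑ p : Fin (d + 1) × Fin (d + 1), (f p.1 * g p.2) • T (k := k) (p.1 : ℕ) (p.2 : ℕ) := by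
    rw [toPoly_apply, toPoly_apply, derivative_sum, Finset.sum_mul_sum, ← Finset.sum_product']
    refine Finset.sum_congr rfl fun p _ => ?_
    rw [derivative_smul, T, smul_mul_smul_comm]
  have h2 : derivative (toPoly f) * toPoly g =
      ∑ p : Fin (d + 1) × Fin (d + 1), (f p.2 * g p.1) • T (k := k) (p.1 : ℕ) (p.2 : ℕ) := by
    rw [toPoly_apply, toPoly_apply, derivative_sum, Finset.sum_mul_sum, Finset.sum_comm,
      ← Finset.sum_product']
    refine Finset.sum_congr rfl fun p _ => ?_
    rw [derivative_smul, T, smul_mul_smul_comm, mul_comm (X ^ (p.1 : ℕ))]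
  rw [wronskian, h1, h2, WrLin, ← Finset.sum_sub_distrib]
  refine Finset.sum_congr rfl fun p _ => ?_
  rw [plu, sub_smul]

/-- the `i`-th row of a Plücker vector, as a polynomial. -/
noncomputable def row (ω : Fin (d + 1) × Fin (d + 1) → k) (i : Fin (d + 1)) : k[X] :=
  toPoly (fun j => ω (i, j))

theorem row_plu (f g : Fin (d + 1) → k) (i : Fin (d + 1)) :
    row (plu f g) i = f i • toPoly g - g i • toPoly f := by
  rw [row, ← map_smul, ← map_smul, ← map_sub]
  congr 1
  funext j
  simp only [plu, Pi.sub_apply, Pi.smul_apply, smul_eq_mul]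
  ring

theorem recover_left (f g : Fin (d + 1) → k) (a b : Fin (d + 1)) :
    f b • row (plu f g) a - f a • row (plu f g) b = plu f g (a, b) • toPoly f := by
  rw [row_plu, row_plu, plu]
  simp only [smul_sub, smul_smul, sub_smul]
  rw [mul_comm (f b) (f a)]
  abel

theorem recover_right (f g : Fin (d + 1) → k) (a b : Fin (d + 1)) :
    g b • row (plu f g) a - g a • row (plu f g) b = plu f g (a, b) • toPoly g := by
  rw [row_plu, row_plu, plu]
  simp only [smul_sub, smul_smul, sub_smul]
  rw [mul_comm (g b) (g a), mul_comm (g b) (f a), mul_comm (g a) (f b)]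
  abel

theorem plucker_plu (f g : Fin (d + 1) → k) (i j a b : Fin (d + 1)) :
    plu f g (i, j) * plu f g (a, b) - plu f g (i, a) * plu f g (j, b) +
      plu f g (i, b) * plu f g (j, a) = 0 := by
  simp only [plu]
  ring

open Helper91.RamPencil in
/-- polynomials of degree `≤ d` with vanishing Wronskian are linearly dependent
(characteristic `0` or `> d`). -/
theorem exists_dep_of_wronskian_eq_zero (p : ℕ) [CharP k p] (hp : p = 0 ∨ d < p) {F G : k[X]}
    (hF : F.natDegree ≤ d) (hG : G.natDegree ≤ d) (hW : wronskian F G = 0) :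
    ∃ α β : k, (α ≠ 0 ∨ β ≠ 0) ∧ α • F + β • G = 0 := by
  by_cases hF0 : F = 0
  · exact ⟨1, 0, Or.inl one_ne_zero, by rw [hF0]; simp⟩
  by_cases hG0 : G = 0
  · exact ⟨0, 1, Or.inr one_ne_zero, by rw [hG0]; simp⟩
  rcases lt_trichotomy G.natDegree F.natDegree with h | h | h
  · exact absurd hW (wronskian_ne_zero_of_natDegree_lt p hp hF hG0 h)
  · -- equal degrees
    set c := G.leadingCoeff / F.leadingCoeff with hc
    by_cases hG' : G - c • F = 0
    · exact ⟨-c, 1, Or.inr one_ne_zero, by rw [neg_smul, one_smul, neg_add_eq_sub]; exact hG'⟩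
    · exfalso
      have hc0 : c ≠ 0 :=
        div_ne_zero (leadingCoeff_ne_zero.mpr hG0) (leadingCoeff_ne_zero.mpr hF0)
      have hlc : G.leadingCoeff = (c • F).leadingCoeff := by
        rw [smul_eq_C_mul, leadingCoeff_mul, leadingCoeff_C, hc,
          div_mul_cancel₀ _ (leadingCoeff_ne_zero.mpr hF0)]
      have hdeg : G.degree = (c • F).degree := by
        rw [smul_eq_C_mul, degree_C_mul hc0, degree_eq_natDegree hG0, degree_eq_natDegree hF0, h]
      have hlt : (G - c • F).degree < G.degree := degree_sub_lt_left hdeg hG0 hlc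
      have hlt' : (G - c • F).natDegree < F.natDegree := by
        rw [← h]
        exact natDegree_lt_natDegree hG' hlt
      have hW' : wronskian F (G - c • F) = 0 := by
        rw [sub_eq_add_neg, wronskian_add_right, wronskian_neg_right, wronskian_smul_right,
          wronskian_self_eq_zero, hW]
        simp
      exact wronskian_ne_zero_of_natDegree_lt p hp hF hG' hlt' hW'
  · have hW' : wronskian G F = 0 := by rw [← wronskian_neg_eq, hW, neg_zero]
    exact absurd hW' (wronskian_ne_zero_of_natDegree_lt p hp hG hF0 h)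

/-- A vector satisfying the Plücker relations with vanishing Wronskian is zero. -/
theorem eq_zero_of_plucker (p : ℕ) [CharP k p] (hp : p = 0 ∨ d < p)
    (ω : Fin (d + 1) × Fin (d + 1) → k)
    (hpl : ∀ i j a b : Fin (d + 1),
      ω (i, j) * ω (a, b) - ω (i, a) * ω (j, b) + ω (i, b) * ω (j, a) = 0)
    (hW : WrLin ω = 0) : ω = 0 := by
  by_contra hne
  obtain ⟨⟨a, b⟩, hab⟩ := Function.ne_iff.mp hne
  rw [Pi.zero_apply] at hab
  set f : Fin (d + 1) → k := fun i => ω (i, a) / ω (a, b) with hf
  set g : Fin (d + 1) → k := fun j => ω (j, b) with hg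
  have hω : plu f g = ω := by
    funext ⟨i, j⟩
    simp only [plu, hf, hg]
    field_simp
    linear_combination -(hpl i j a b)
  have hW' : wronskian (toPoly f) (toPoly g) = 0 := by rw [wronskian_toPoly, hω, hW]
  obtain ⟨α, β, hαβ, hdep⟩ := exists_dep_of_wronskian_eq_zero p hp (natDegree_toPoly_le f)
    (natDegree_toPoly_le g) hW'
  rw [← map_smul, ← map_smul, ← map_add] at hdep
  have hdep' := toPoly_eq_zero hdep
  have hj : ∀ j, α * f j + β * g j = 0 := fun j => by
    have := congrFun hdep' j
    simpa using this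
  have hplu : plu f g (a, b) = 0 := by
    rcases hαβ with hα | hβ
    · have : α * plu f g (a, b) = 0 := by
        simp only [plu]
        linear_combination g b * hj a - g a * hj b
      exact (mul_eq_zero.mp this).resolve_left hα
    · have : β * plu f g (a, b) = 0 := by
        simp only [plu]
        linear_combination f a * hj b - f b * hj a
      exact (mul_eq_zero.mp this).resolve_left hβ
  rw [hω] at hplu
  exact hab hplu

end Groth.Agent.Lib.Helper91.WronskiPlucker
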